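/-
Automorphisms of alternating groups.
-/
import Mathlib.GroupTheory.SpecificGroups.Alternating
import Mathlib.GroupTheory.SpecificGroups.Alternating.Centralizer
import Mathlib.GroupTheory.Perm.Centralizer
import Mathlib.GroupTheory.GroupAction.ConjAct
import Mathlib.Tactic.Ring

set_option autoImplicit false

namespace CfsgLib.AutAlt

open Equiv Equiv.Perm

variable {α : Type*} [Fintype α] [DecidableEq α]

/-- The cycle `a → b → c → a`. -/
def cyc (a b c : α) : Perm α := swap a b * swap b c

theorem cyc_a {a b c : α} (hab : a ≠ b) (hac : a ≠ c) : cyc a b c a = b := by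
  simp [cyc, swap_apply_of_ne_of_ne hab hac]

theorem cyc_b {a b c : α} (hac : a ≠ c) (hbc : b ≠ c) : cyc a b c b = c := by
  simp [cyc, swap_apply_of_ne_of_ne hac.symm hbc.symm]

theorem cyc_c {a b c : α} : cyc a b c c = a := by simp [cyc]

theorem cyc_fix {a b c x : α} (ha : x ≠ a) (hb : x ≠ b) (hc : x ≠ c) : cyc a b c x = x := by
  simp [cyc, swap_apply_of_ne_of_ne hb hc, swap_apply_of_ne_of_ne ha hb]

theorem isThreeCycle_cyc {a b c : α} (hab : a ≠ b) (hac : a ≠ c) (hbc : b ≠ c) :
    IsThreeCycle (cyc a b c) := by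
  rw [cyc, swap_comm a b]
  exact isThreeCycle_swap_mul_swap_same hab.symm hbc hac

theorem exists_cyc {x : Perm α} (h : IsThreeCycle x) {a : α} (ha : x a ≠ a) :
    a ≠ x a ∧ a ≠ x (x a) ∧ x a ≠ x (x a) ∧ x (x (x a)) = a ∧ x = cyc a (x a) (x (x a)) := by
  have hord : orderOf x = 3 := h.orderOf
  have h3 : x (x (x a)) = a := by
    have e : x ^ 3 = 1 := hord ▸ pow_orderOf_eq_one x
    have := congrArg (fun f : Perm α => f a) e
    simpa [pow_succ, pow_zero] using this
  have hbc : x a ≠ x (x a) := fun e => ha (x.injective e.symm)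
  have hac : a ≠ x (x a) := fun e => ha (by
    have h' := congrArg x e
    rw [h3] at h'
    exact h')
  refine ⟨Ne.symm ha, hac, hbc, h3, ?_⟩
  have hb' : x (x a) ≠ x a := hbc.symm
  have hc' : x (x (x a)) ≠ x (x a) := fun e => hb' (x.injective e)
  have hsupp : x.support = {a, x a, x (x a)} := by
    refine (Finset.eq_of_subset_of_card_le ?_ ?_).symm
    · intro y hy
      simp only [Finset.mem_insert, Finset.mem_singleton] at hy
      rcases hy with rfl | rfl | rfl
      · exact mem_support.mpr ha
      · exact mem_support.mpr hb'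
      · exact mem_support.mpr hc'
    · rw [h.card_support, Finset.card_insert_of_notMem, Finset.card_insert_of_notMem,
        Finset.card_singleton]
      · simp [hbc]
      · simp [Ne.symm ha, hac]
  refine Equiv.ext fun y => ?_
  by_cases hya : y = a
  · rw [hya, cyc_a (Ne.symm ha) hac]
  by_cases hyb : y = x a
  · rw [hyb, cyc_b hac hbc]
  by_cases hyc : y = x (x a)
  · rw [hyc, cyc_c, h3]
  rw [cyc_fix hya hyb hyc]
  exact notMem_support.mp (by rw [hsupp]; simp [hya, hyb, hyc])

theorem moved_of_three {x : Perm α} (h : IsThreeCycle x) {a y : α} (ha : x a ≠ a) (hy : x y ≠ y) :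
    y = a ∨ y = x a ∨ y = x (x a) := by
  obtain ⟨-, -, -, -, he⟩ := exists_cyc h ha
  by_contra hn
  simp only [not_or] at hn
  exact hy (by rw [he]; exact cyc_fix hn.1 hn.2.1 hn.2.2)

theorem conj_cyc (g : Perm α) (a b c : α) : g * cyc a b c * g⁻¹ = cyc (g a) (g b) (g c) := by
  rw [cyc, cyc, Equiv.swap_apply_apply g a b, Equiv.swap_apply_apply g b c]
  group

/-- Two three-cycles whose product is an involution share a directed edge. -/
theorem share_edge {x y : Perm α} (hx : IsThreeCycle x) (hy : IsThreeCycle y)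
    (h2 : x * y * (x * y) = 1) (h1 : x * y ≠ 1) :
    ∃ a, x a ≠ a ∧ y a = x a ∧ y (x a) ≠ x (x a) := by
  obtain ⟨e, he⟩ : ∃ e, y e ≠ e := by
    by_contra hc
    push Not at hc
    exact hy.isCycle.ne_one (Equiv.ext hc)
  obtain ⟨h_ef, h_eg, h_fg, hy3, hyc⟩ := exists_cyc hy he
  set f := y e
  set g := y f
  have happ : ∀ z, x (y (x (y z))) = z := fun z => by
    have := congrArg (fun k : Perm α => k z) h2
    simpa using this
  have hx3 : ∀ z, x (x (x z)) = z := fun z => by
    have e3 : x ^ 3 = 1 := hx.orderOf ▸ pow_orderOf_eq_one x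
    have := congrArg (fun k : Perm α => k z) e3
    simpa [pow_succ, pow_zero] using this
  -- a point moved by `y` only, if there is one
  by_contra hne
  push Not at hne
  have key : ∀ p, x p ≠ p → y p ≠ p → y p = x p → y (x p) = x (x p) := fun p h _ h' => hne p h h'
  by_cases hall : ∀ z, y z ≠ z → x z ≠ z
  · -- same support
    have hxe : x e ≠ e := hall e he
    rcases moved_of_three hx hxe (hall f (fun h => h_ef (y.injective h).symm)) with h | h | h
    · exact h_ef h.symm
    · -- same cycle
      have hg : x f = g := by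
        have := key e hxe he h
        rw [← h] at this
        exact this.symm
      apply hy.isCycle.ne_one
      have hxy : y = x := by
        obtain ⟨-, -, -, -, hxc⟩ := exists_cyc hx hxe
        rw [hyc, hxc, ← h, hg]
      subst hxy
      have e3 : y ^ 3 = 1 := hy.orderOf ▸ pow_orderOf_eq_one y
      calc y = y * y ^ 3 := by rw [e3, mul_one]
        _ = y * y * (y * y) := by rw [pow_succ, pow_succ, pow_one]; simp only [mul_assoc]
        _ = 1 := h2
    · -- inverse cycle
      apply h1
      obtain ⟨hh1, hh2, hh3, -, hxc⟩ := exists_cyc hx hxe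
      have hg : g = x e := by
        rcases moved_of_three hx hxe (hall g (fun h' => h_fg (y.injective h').symm)) with h' | h' | h'
        · exact absurd h'.symm h_eg
        · exact h'
        · exact absurd (h.trans h'.symm) h_fg
      refine Equiv.ext fun z => ?_
      rw [Perm.mul_apply, Perm.one_apply]
      by_cases hz : y z = z
      · rw [hz]
        by_contra hxz
        rcases moved_of_three hx hxe hxz with h' | h' | h'
        · rw [h'] at hz
          exact he hz
        · rw [← hg] at h'
          rw [h'] at hz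
          exact h_eg (hy3.symm.trans hz)
        · rw [← h] at h'
          rw [h'] at hz
          exact h_fg hz.symm
      · rcases moved_of_three hy he hz with h' | h' | h'
        · rw [h', show y e = f from rfl, h, hx3]
        · rw [h', show y f = g from rfl, hg]; exact h.symm
        · rw [h', show y g = e from hy3, ← hg]
  · push Not at hall
    obtain ⟨d, hd, hxd⟩ := hall
    obtain ⟨h_de, h_df, h_ef', hd3, hdc⟩ := exists_cyc hy hd
    set p := y d
    set r := y p
    have hfin := happ r
    rw [show y r = d from hd3, hxd, show y d = p from rfl] at hfin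
    -- now `x p = r`
    have hxp : x p ≠ p := fun h => h_ef' (h.symm.trans hfin)
    have h' := key p hxp (fun h => h_ef' h.symm) hfin.symm
    rw [hfin, show y r = d from hd3] at h'
    exact h_df (x.injective (hxd.trans h'))

theorem cyc_inv {a b c : α} (hab : a ≠ b) (hac : a ≠ c) (hbc : b ≠ c) :
    (cyc a b c)⁻¹ = cyc a c b := by
  refine inv_eq_of_mul_eq_one_right (Equiv.ext fun z => ?_)
  rw [Perm.mul_apply, Perm.one_apply]
  by_cases z1 : z = a
  · rw [z1, cyc_a hac hab, cyc_c]
  by_cases z2 : z = b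
  · rw [z2, cyc_c, cyc_a hab hac]
  by_cases z3 : z = c
  · rw [z3, cyc_b hab hbc.symm, cyc_b hac hbc]
  rw [cyc_fix z1 z3 z2, cyc_fix z1 z2 z3]

theorem closure_base (n : ℕ) (hn : 3 ≤ n) :
    Subgroup.closure {x : Perm (Fin n) | ∃ i : Fin n, 2 ≤ (i : ℕ) ∧
      x = cyc ⟨0, by omega⟩ ⟨1, by omega⟩ i} = alternatingGroup (Fin n) := by
  set o : Fin n := ⟨0, by omega⟩
  set l : Fin n := ⟨1, by omega⟩
  set H := Subgroup.closure {x : Perm (Fin n) | ∃ i : Fin n, 2 ≤ (i : ℕ) ∧ x = cyc o l i}
  have hol : o ≠ l := by simp [o, l, Fin.ext_iff]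
  have hbase : ∀ i, i ≠ o → i ≠ l → cyc o l i ∈ H := fun i h1 h2 => Subgroup.subset_closure ⟨i, by
    have a1 : (i : ℕ) ≠ 0 := fun e => h1 (Fin.ext e)
    have a2 : (i : ℕ) ≠ 1 := fun e => h2 (Fin.ext e)
    omega, rfl⟩
  have hconj : ∀ g a b c, g ∈ H → cyc a b c ∈ H → cyc (g a) (g b) (g c) ∈ H := fun g a b c hg h => by
    rw [← conj_cyc]; exact mul_mem (mul_mem hg h) (inv_mem hg)
  have hrot : ∀ a b c : Fin n, a ≠ b → a ≠ c → b ≠ c → cyc a b c ∈ H → cyc b c a ∈ H := by
    intro a b c hab hac hbc h
    have := hconj _ a b c h h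
    rwa [cyc_a hab hac, cyc_b hac hbc, cyc_c] at this
  have h0 : ∀ i j, i ≠ o → i ≠ l → j ≠ o → j ≠ l → i ≠ j → cyc o i j ∈ H := by
    intro i j hio hil hjo hjl hij
    have hx := hbase j hjo hjl
    have hi := hbase i hio hil
    have h := hconj _ o l i (mul_mem hx hx) hi
    rw [Perm.mul_apply, Perm.mul_apply, Perm.mul_apply, cyc_a hol hjo.symm,
      cyc_b hjo.symm hjl.symm, cyc_c, cyc_fix hio hil hij, cyc_fix hio hil hij] at h
    exact hrot j o i hjo (Ne.symm hij) hio.symm h
  have h1 : ∀ i j, i ≠ o → i ≠ l → j ≠ o → j ≠ l → i ≠ j → cyc l i j ∈ H := by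
    intro i j hio hil hjo hjl hij
    have h := hconj _ o l i (hbase j hjo hjl) (hbase i hio hil)
    rw [cyc_a hol hjo.symm, cyc_b hjo.symm hjl.symm, cyc_fix hio hil hij] at h
    have h' := inv_mem h
    rwa [cyc_inv hjl.symm hil.symm (Ne.symm hij)] at h'
  have hmid : ∀ i j k, i ≠ o → i ≠ l → j ≠ o → j ≠ l → k ≠ o → k ≠ l → i ≠ j → i ≠ k → j ≠ k →
      cyc i j k ∈ H := by
    intro i j k hio hil hjo hjl hko hkl hij hik hjk
    have h := hconj _ l j k (hbase i hio hil) (h1 j k hjo hjl hko hkl hjk)
    rwa [cyc_b hio.symm hil.symm, cyc_fix hjo hjl hij.symm, cyc_fix hko hkl hik.symm] at h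
  have hol' : ∀ b c, b ≠ o → c ≠ o → b ≠ c → cyc o b c ∈ H := by
    intro b c hbo hco hbc
    by_cases hbl : b = l
    · subst hbl; exact hbase c hco hbc.symm
    by_cases hcl : c = l
    · subst hcl
      have h := hbase b hbo hbl
      have h' := inv_mem h
      rwa [cyc_inv hol hbo.symm (Ne.symm hbl)] at h'
    exact h0 b c hbo hbl hco hcl hbc
  have hl' : ∀ b c, b ≠ o → c ≠ o → b ≠ l → c ≠ l → b ≠ c → cyc l b c ∈ H :=
    fun b c hbo hco hbl hcl hbc => h1 b c hbo hbl hco hcl hbc
  refine le_antisymm (Subgroup.closure_le _ |>.mpr ?_) ?_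
  · rintro x ⟨i, hi, rfl⟩
    exact (isThreeCycle_cyc hol (fun e => by rw [← e] at hi; simp [o] at hi)
      (fun e => by rw [← e] at hi; simp [l] at hi)).mem_alternatingGroup
  · rw [← closure_three_cycles_eq_alternating, Subgroup.closure_le]
    intro x hx
    obtain ⟨a, ha⟩ : ∃ a, x a ≠ a := by
      by_contra hc
      push Not at hc
      exact hx.isCycle.ne_one (Equiv.ext hc)
    obtain ⟨hab, hac, hbc, -, he⟩ := exists_cyc hx ha
    rw [SetLike.mem_coe, he]
    generalize x a = b at hab hac hbc ⊢
    generalize x b = c at hac hbc ⊢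
    by_cases hao : a = o
    · subst hao; exact hol' b c hab.symm hac.symm hbc
    by_cases hbo : b = o
    · subst hbo
      exact hrot c a o (Ne.symm hac) hbc.symm hab
        (hrot o c a hbc hab.symm (Ne.symm hac) (hol' c a hbc.symm hao (Ne.symm hac)))
    by_cases hco : c = o
    · subst hco
      exact hrot o a b (Ne.symm hao) (Ne.symm hbo) hab (hol' a b hao hbo hab)
    by_cases hal : a = l
    · subst hal; exact hl' b c hbo hco hab.symm hac.symm hbc
    by_cases hbl : b = l
    · subst hbl
      exact hrot c a l (Ne.symm hac) hbc.symm hab (hrot l c a hbc hab.symm (Ne.symm hac)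
        (hl' c a hco hao hbc.symm hal (Ne.symm hac)))
    by_cases hcl : c = l
    · subst hcl
      exact hrot l a b (Ne.symm hal) (Ne.symm hbl) hab (hl' a b hao hbo hal hbl hab)
    exact hmid a b c hao hal hbo hbl hco hcl hab hac hbc

theorem count_lt (k N : ℕ) (hk : 2 ≤ k) (h : 3 * k ≤ N) (hN : 7 ≤ N) :
    2 * ((N - k * 3).factorial * 3 ^ k * k.factorial) < (N - 3).factorial * 3 := by
  have key : ∀ i, 2 * (3 ^ (i + 3) * (i + 3).factorial) < (3 * i + 6).factorial * 3 := by
    intro i
    induction i with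
    | zero => decide
    | succ i ih =>
      rw [show 3 * (i + 1) + 6 = 3 * i + 6 + 1 + 1 + 1 by omega, show i + 1 + 3 = i + 3 + 1 by omega,
        Nat.factorial_succ (3 * i + 6 + 1 + 1), Nat.factorial_succ (3 * i + 6 + 1),
        Nat.factorial_succ (3 * i + 6), Nat.factorial_succ (i + 3), pow_succ]
      have h1 : 3 * (i + 3 + 1) ≤ (3 * i + 6 + 1 + 1 + 1) * ((3 * i + 6 + 1 + 1) * (3 * i + 6 + 1)) :=
        le_trans (show 3 * (i + 3 + 1) ≤ (3 * i + 6 + 1 + 1 + 1) * 2 by omega)
          (Nat.mul_le_mul_left _ (le_trans (show 2 ≤ 3 * i + 6 + 1 + 1 by omega)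
            (Nat.le_mul_of_pos_right _ (by omega))))
      calc 2 * (3 ^ (i + 3) * 3 * ((i + 3 + 1) * (i + 3).factorial))
          = (3 * (i + 3 + 1)) * (2 * (3 ^ (i + 3) * (i + 3).factorial)) := by ring
        _ < (3 * (i + 3 + 1)) * ((3 * i + 6).factorial * 3) :=
            Nat.mul_lt_mul_of_pos_left ih (by omega)
        _ ≤ _ := le_trans (Nat.mul_le_mul_right _ h1) (le_of_eq (by ring))
  rcases Nat.lt_or_ge k 3 with hk3 | hk3
  · obtain rfl : k = 2 := by omega
    obtain ⟨m, rfl⟩ : ∃ m, N = m + 7 := ⟨N - 7, by omega⟩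
    rw [show m + 7 - 2 * 3 = m + 1 by omega, show m + 7 - 3 = m + 1 + 1 + 1 + 1 by omega,
      Nat.factorial_succ (m + 1 + 1 + 1), Nat.factorial_succ (m + 1 + 1), Nat.factorial_succ (m + 1)]
    have h24 : 24 ≤ (m + 1 + 1 + 1 + 1) * ((m + 1 + 1 + 1) * (m + 1 + 1)) :=
      le_trans (by norm_num) (Nat.mul_le_mul (show 4 ≤ m + 1 + 1 + 1 + 1 by omega)
        (Nat.mul_le_mul (show 3 ≤ m + 1 + 1 + 1 by omega) (show 2 ≤ m + 1 + 1 by omega)))
    have hp := Nat.factorial_pos (m + 1)
    calc 2 * ((m + 1).factorial * 3 ^ 2 * Nat.factorial 2) = (m + 1).factorial * 36 := by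
          rw [show Nat.factorial 2 = 2 from rfl]; ring
      _ < (m + 1).factorial * (24 * 3) := Nat.mul_lt_mul_of_pos_left (by norm_num) hp
      _ ≤ (m + 1).factorial * ((m + 1 + 1 + 1 + 1) * ((m + 1 + 1 + 1) * (m + 1 + 1)) * 3) :=
          Nat.mul_le_mul_left _ (Nat.mul_le_mul_right _ h24)
      _ = _ := by ring
  · obtain ⟨i, rfl⟩ : ∃ i, k = i + 3 := ⟨k - 3, by omega⟩
    have hdvd : (N - (i + 3) * 3).factorial * (3 * i + 6).factorial ≤ (N - 3).factorial := by
      refine Nat.le_of_dvd (Nat.factorial_pos _) ?_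
      have := Nat.factorial_mul_factorial_dvd_factorial_add (N - (i + 3) * 3) (3 * i + 6)
      rwa [show N - (i + 3) * 3 + (3 * i + 6) = N - 3 by omega] at this
    calc 2 * ((N - (i + 3) * 3).factorial * 3 ^ (i + 3) * (i + 3).factorial)
        = (N - (i + 3) * 3).factorial * (2 * (3 ^ (i + 3) * (i + 3).factorial)) := by ring
      _ < (N - (i + 3) * 3).factorial * ((3 * i + 6).factorial * 3) :=
          Nat.mul_lt_mul_of_pos_left (key i) (Nat.factorial_pos _)
      _ = (N - (i + 3) * 3).factorial * (3 * i + 6).factorial * 3 := by ring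
      _ ≤ _ := Nat.mul_le_mul_right _ hdvd

theorem image_isThreeCycle (h4 : 4 ≤ Fintype.card α) (h6 : Fintype.card α ≠ 6)
    (φ : alternatingGroup α ≃* alternatingGroup α) (x : alternatingGroup α)
    (hx : IsThreeCycle (x : Perm α)) : IsThreeCycle (φ x : Perm α) := by
  classical
  set y := φ x
  have hord : orderOf (y : Perm α) = 3 := by
    rw [Subgroup.orderOf_coe, MulEquiv.orderOf_eq, ← Subgroup.orderOf_coe, hx.orderOf]
  have hct : (y : Perm α).cycleType = Multiset.replicate (y : Perm α).cycleType.card 3 := by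
    have : Fact (Nat.Prime 3) := ⟨Nat.prime_three⟩
    exact cycleType_of_pow_prime_eq_one (hord ▸ pow_orderOf_eq_one _)
  set k := (y : Perm α).cycleType.card
  have hk0 : k ≠ 0 := fun h => by
    rw [h, Multiset.replicate_zero, cycleType_eq_zero] at hct
    rw [hct, orderOf_one] at hord
    omega
  by_contra hne
  have hk2 : 2 ≤ k := by
    by_contra h
    have hk1 : k = 1 := by omega
    rw [hk1] at hct
    exact hne (hct.trans (by simp))
  have hsum : 3 * k ≤ Fintype.card α := by
    have h := (y : Perm α).sum_cycleType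
    rw [hct, Multiset.sum_replicate, smul_eq_mul] at h
    have := Finset.card_le_univ (y : Perm α).support
    omega
  -- centralisers
  have hA : ∀ z : alternatingGroup α, Nat.card (Subgroup.centralizer ({z} : Set (alternatingGroup α))) =
      Nat.card ↥(Subgroup.centralizer ({(z : Perm α)} : Set (Perm α)) ⊓ alternatingGroup α) := by
    intro z
    refine Nat.card_congr
      { toFun := fun g => ⟨(g.1 : Perm α), ?_, g.1.2⟩
        invFun := fun g => ⟨⟨g.1, g.2.2⟩, ?_⟩
        left_inv := fun _ => rfl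
        right_inv := fun _ => rfl }
    · exact Subgroup.mem_centralizer_singleton_iff.mpr
        (congrArg Subtype.val (Subgroup.mem_centralizer_singleton_iff.mp g.2))
    · exact Subgroup.mem_centralizer_singleton_iff.mpr
        (Subtype.ext (Subgroup.mem_centralizer_singleton_iff.mp g.2.1))
  have hphi : Nat.card (Subgroup.centralizer ({x} : Set (alternatingGroup α))) =
      Nat.card (Subgroup.centralizer ({y} : Set (alternatingGroup α))) := by
    refine Nat.card_congr (Equiv.subtypeEquiv φ.toEquiv fun g => ?_)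
    rw [Subgroup.mem_centralizer_singleton_iff, Subgroup.mem_centralizer_singleton_iff]
    show _ ↔ φ g * φ x = φ x * φ g
    rw [← map_mul, ← map_mul, φ.injective.eq_iff]
  have hle : ∀ z : Perm α, Nat.card (Subgroup.centralizer ({z} : Set (Perm α))) ≤
      2 * Nat.card ↥(Subgroup.centralizer ({z} : Set (Perm α)) ⊓ alternatingGroup α) ∧
      (∀ w ∈ Subgroup.centralizer ({z} : Set (Perm α)), sign w = -1 →
      Nat.card (Subgroup.centralizer ({z} : Set (Perm α))) =
        2 * Nat.card ↥(Subgroup.centralizer ({z} : Set (Perm α)) ⊓ alternatingGroup α)) := by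
    intro z
    set C := Subgroup.centralizer ({z} : Set (Perm α))
    set f : C →* ℤˣ := sign.comp C.subtype
    have hker : Nat.card f.ker = Nat.card ↥(C ⊓ alternatingGroup α) :=
      Nat.card_congr
        { toFun := fun g => ⟨g.1.1, g.1.2, g.2⟩
          invFun := fun g => ⟨⟨g.1, g.2.1⟩, g.2.2⟩
          left_inv := fun _ => rfl
          right_inv := fun _ => rfl }
    have hC : Nat.card C = f.ker.index * Nat.card ↥(C ⊓ alternatingGroup α) := by
      rw [← hker, Subgroup.index_mul_card]
    rw [hC, Subgroup.index_ker]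
    have h2 : Nat.card ℤˣ = 2 := by simp
    refine ⟨Nat.mul_le_mul_right _ ?_, fun w hw hs => ?_⟩
    · exact h2 ▸ (Subgroup.card_le_card_group _)
    · congr 1
      have : f.range = ⊤ := by
        rw [eq_top_iff]
        intro u _
        rcases Int.units_eq_one_or u with rfl | rfl
        · exact one_mem _
        · exact ⟨⟨w, hw⟩, hs⟩
      rw [this, Subgroup.card_top, h2]
  -- the three-cycle
  obtain ⟨a, ha⟩ : ∃ a, (x : Perm α) a ≠ a := by
    by_contra hc
    push Not at hc
    exact hx.isCycle.ne_one (Equiv.ext hc)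
  have h5 : 6 < Fintype.card α := by omega
  obtain ⟨p, hp, q, hq, hpq⟩ : ∃ p ∈ (x : Perm α).supportᶜ, ∃ q ∈ (x : Perm α).supportᶜ, p ≠ q := by
    refine Finset.one_lt_card.mp ?_
    rw [Finset.card_compl, hx.card_support]
    omega
  rw [Finset.mem_compl, notMem_support] at hp hq
  have hcomm : swap p q ∈ Subgroup.centralizer ({(x : Perm α)} : Set (Perm α)) := by
    rw [Subgroup.mem_centralizer_singleton_iff]
    have := Equiv.swap_apply_apply (x : Perm α) p q
    rw [hp, hq] at this
    calc swap p q * (x : Perm α) = (x : Perm α) * swap p q * (x : Perm α)⁻¹ * x := by rw [← this]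
      _ = (x : Perm α) * swap p q := by rw [inv_mul_cancel_right]
  have hxc := (hle x).2 _ hcomm (sign_swap hpq)
  have hyc : Nat.card (Subgroup.centralizer ({(x : Perm α)} : Set (Perm α))) ≤
      2 * Nat.card (Subgroup.centralizer ({(y : Perm α)} : Set (Perm α))) := by
    rw [hxc, ← hA, hphi, hA]
    exact Nat.mul_le_mul_left _ (Subgroup.card_le_of_le inf_le_left)
  rw [nat_card_centralizer, nat_card_centralizer, hx.cycleType, hct,
    Multiset.sum_replicate, Multiset.prod_replicate, smul_eq_mul] at hyc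
  rw [Multiset.sum_singleton, Multiset.prod_singleton, Multiset.toFinset_singleton,
    Finset.prod_singleton, Multiset.count_singleton_self, Nat.factorial_one, mul_one,
    Multiset.toFinset_replicate, if_neg hk0, Finset.prod_singleton, Multiset.count_replicate_self] at hyc
  exact not_le.mpr (count_lt k (Fintype.card α) hk2 hsum (by omega)) hyc

end CfsgLib.AutAlt
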