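/-
Normal subgroups of Zassenhaus groups, and groups of this kind with a regular normal subgroup.
-/
import Cfsg.Prelude.Def_LieExceptional
import Cfsg.Agent.Lib.Frobenius.Kernel
import Cfsg.Agent.Lib.FrobAction.Dim
import Cfsg.Agent.Lib.RankOne.Structure

set_option autoImplicit false
set_option linter.unusedSectionVars false
set_option linter.style.haveILetI false
set_option linter.unusedVariables false

namespace CfsgLib.ZassenhausNormal

open MulAction Cfsg

universe u v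
variable {G : Type u} [Group G] {Ω : Type v} [MulAction G Ω] [Finite Ω] [FaithfulSMul G Ω]

theorem finite_group (G : Type u) [Group G] (Ω : Type v) [MulAction G Ω] [Finite Ω] [FaithfulSMul G Ω] :
    Finite G :=
  Finite.of_injective (MulAction.toPerm : G → Equiv.Perm Ω) fun g h e =>
    eq_of_smul_eq_smul (α := Ω) fun x => Equiv.congr_fun e x

variable (h2 : IsMultiplyPretransitive G Ω 2)

include h2

theorem two_pt {p q p' q' : Ω} (h : p ≠ q) (h' : p' ≠ q') : ∃ g : G, g • p = p' ∧ g • q = q' :=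
  is_two_pretransitive_iff.mp h2 h h'

variable (h3 : ∀ g : G, ∀ a b c : Ω, a ≠ b → b ≠ c → a ≠ c → g • a = a → g • b = b → g • c = c → g = 1)
  (hfix : ∃ g : G, g ≠ 1 ∧ ∃ a b : Ω, a ≠ b ∧ g • a = a ∧ g • b = b)

include h3 hfix

theorem exists_two_fix {p q : Ω} (hpq : p ≠ q) : ∃ g : G, g ≠ 1 ∧ g • p = p ∧ g • q = q := by
  obtain ⟨g, hg1, a, b, hab, ha, hb⟩ := hfix
  obtain ⟨k, hka, hkb⟩ := two_pt h2 hab hpq
  refine ⟨k * g * k⁻¹, fun e => hg1 (by rwa [mul_inv_eq_one, mul_eq_left] at e), ?_, ?_⟩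
  · rw [← hka]; simp only [mul_smul, inv_smul_smul, ha]
  · rw [← hkb]; simp only [mul_smul, inv_smul_smul, hb]

theorem exists_third (p q : Ω) : ∃ r, r ≠ p ∧ r ≠ q := by
  by_contra hc
  simp only [not_exists, not_and, not_not] at hc
  by_cases hpq : p = q
  · obtain ⟨g, -, a, b, hab, -, -⟩ := hfix
    have key : ∀ r, r = q := fun r => by
      by_cases e : r = p
      · exact e.trans hpq
      · exact hc r e
    exact hab ((key a).trans (key b).symm)
  · obtain ⟨g, hg1, hgp, hgq⟩ := exists_two_fix h2 h3 hfix hpq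
    refine hg1 (eq_of_smul_eq_smul (α := Ω) fun x => ?_)
    by_cases e : x = p
    · rw [e, hgp, one_smul]
    · rw [hc x e, hgq, one_smul]

/-- The kernel of the point stabiliser. -/
theorem exists_Q (a : Ω) : ∃ Q : Subgroup G, Q ≤ stabilizer G a ∧
    (∀ h ∈ stabilizer G a, ∀ x ∈ Q, h * x * h⁻¹ ∈ Q) ∧
    (∀ u ∈ Q, u ≠ 1 → ∀ c : Ω, u • c = c → c = a) ∧
    (∀ b c : Ω, b ≠ a → c ≠ a → ∃ q ∈ Q, q • b = c) ∧ Group.IsNilpotent Q := by
  classical
  haveI := finite_group G Ω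
  obtain ⟨b0, hb0, -⟩ := exists_third h2 h3 hfix a a
  set A := stabilizer G a with hA
  let H : Subgroup A := (stabilizer G b0).subgroupOf A
  have hmemA : ∀ g : A, (g : G) • a = a := fun g => mem_stabilizer_iff.mp g.2
  have hH : IsFrobeniusComplement H := by
    refine ⟨?_, ?_, ?_⟩
    · obtain ⟨g, hg1, hga, hgb⟩ := exists_two_fix h2 h3 hfix hb0.symm
      intro e
      have : (⟨g, hga⟩ : A) ∈ H := Subgroup.mem_subgroupOf.mpr hgb
      rw [e, Subgroup.mem_bot] at this
      exact hg1 (congrArg Subtype.val this)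
    · intro e
      obtain ⟨c, hca, hcb⟩ := exists_third h2 h3 hfix a b0
      obtain ⟨g, hga, hgb⟩ := two_pt h2 hb0.symm hca.symm
      have : (⟨g, hga⟩ : A) ∈ H := by rw [e]; trivial
      have h' : g • b0 = b0 := Subgroup.mem_subgroupOf.mp this
      exact hcb (hgb.symm.trans h')
    · intro g hg
      refine (Subgroup.eq_bot_iff_forall _).mpr fun x hx => ?_
      obtain ⟨hx1, hx2⟩ := Subgroup.mem_inf.mp hx
      have hx1' : (x : G) • b0 = b0 := Subgroup.mem_subgroupOf.mp hx1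
      rw [Subgroup.mem_pointwise_smul_iff_inv_smul_mem, ← map_inv, MulAut.smul_def, MulAut.conj_apply,
        inv_inv] at hx2
      have hx2' : ((g : G)⁻¹ * x * g) • b0 = b0 := Subgroup.mem_subgroupOf.mp hx2
      rw [mul_smul, mul_smul, inv_smul_eq_iff] at hx2'
      refine Subtype.ext (h3 (x : G) a b0 ((g : G) • b0) hb0.symm ?_ ?_ (hmemA x) hx1' hx2')
      · intro e; exact hg (Subgroup.mem_subgroupOf.mpr e.symm)
      · intro e
        exact hb0.symm (smul_left_cancel (g : G) ((hmemA g).trans e))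
  obtain ⟨N, hN, hNn, hNc, hNil⟩ := CfsgLib.Frob.exists_nilpotent_kernel hH
  refine ⟨N.map A.subtype, Subgroup.map_subtype_le N, ?_, ?_, ?_, ?_⟩
  · rintro h hh _ ⟨x, hx, rfl⟩
    exact ⟨⟨h, hh⟩ * x * ⟨h, hh⟩⁻¹, hNn.conj_mem x hx _, rfl⟩
  · rintro _ ⟨u, hu, rfl⟩ hu1 c hc
    by_contra hca
    obtain ⟨g, hga, hgb⟩ := two_pt h2 hb0.symm (Ne.symm hca)
    have hu' : u ∈ frobeniusKernel H := hN ▸ hu
    rcases hu' with hu' | hu'
    · exact hu1 (by rw [hu']; rfl)
    · refine hu' ⟨g, hga⟩ ?_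
      rw [Subgroup.mem_pointwise_smul_iff_inv_smul_mem, ← map_inv, MulAut.smul_def, MulAut.conj_apply,
        inv_inv]
      refine Subgroup.mem_subgroupOf.mpr ?_
      show ((g : G)⁻¹ * u * g) • b0 = b0
      rw [mul_smul, mul_smul, hgb, show (u : G) • c = c from hc, ← hgb, inv_smul_smul]
  · have key : ∀ c, c ≠ a → ∃ q ∈ N.map A.subtype, q • b0 = c := fun c hca => by
      obtain ⟨g, hga, hgb⟩ := two_pt h2 hb0.symm (Ne.symm hca)
      obtain ⟨⟨⟨n, hn⟩, ⟨k, hk⟩⟩, e⟩ := hNc.2 ⟨g, hga⟩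
      refine ⟨n, ⟨n, hn, rfl⟩, ?_⟩
      have e' : (n : G) * k = g := congrArg Subtype.val e
      rw [← hgb, ← e', mul_smul, show (k : G) • b0 = b0 from Subgroup.mem_subgroupOf.mp hk]
    intro b c hb hc
    obtain ⟨q1, hq1, e1⟩ := key b hb
    obtain ⟨q2, hq2, e2⟩ := key c hc
    exact ⟨q2 * q1⁻¹, mul_mem hq2 (inv_mem hq1), by rw [← e1, mul_smul, inv_smul_smul, e2]⟩
  · exact Group.nilpotent_of_mulEquiv (Subgroup.equivMapOfInjective N A.subtype A.subtype_injective)

variable {N : Subgroup G} [hNn : N.Normal] (hN : N ≠ ⊥)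

include hN

theorem normal_trans : IsPretransitive N Ω := by
  obtain ⟨n, hn, hn1⟩ := SetLike.exists_of_lt (bot_lt_iff_ne_bot.mpr hN)
  obtain ⟨p, hp⟩ : ∃ p : Ω, n • p ≠ p := by
    by_contra hc
    simp only [not_exists, not_not] at hc
    exact hn1 (Subgroup.mem_bot.mpr (eq_of_smul_eq_smul (α := Ω) fun x => by rw [hc x, one_smul]))
  refine ⟨fun x y => ?_⟩
  by_cases hxy : x = y
  · exact ⟨1, by rw [one_smul, hxy]⟩
  obtain ⟨g, hg1, hg2⟩ := two_pt h2 (Ne.symm hp) hxy
  exact ⟨⟨g * n * g⁻¹, hNn.conj_mem n hn g⟩, by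
    show (g * n * g⁻¹) • x = y
    rw [← hg1, ← hg2, mul_smul, mul_smul, inv_smul_smul]⟩

omit hN

/-- A regular normal subgroup of a doubly transitive subgroup. -/
theorem regular_conj {M R : Subgroup G} (hM : ∀ {p q r : Ω}, q ≠ p → r ≠ p → ∃ m ∈ M, m • p = p ∧ m • q = r)
    (hRn : ∀ m ∈ M, ∀ x ∈ R, m * x * m⁻¹ ∈ R) (hRt : ∀ p q : Ω, ∃ x ∈ R, x • p = q)
    (hRf : ∀ x ∈ R, ∀ p : Ω, x • p = p → x = 1) :
    (∀ x ∈ R, ∀ y ∈ R, x ≠ 1 → y ≠ 1 → ∃ m ∈ M, m * x * m⁻¹ = y) ∧
      ∀ x ∈ R, ∀ y ∈ R, x * y = y * x := by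
  classical
  haveI := finite_group G Ω
  obtain ⟨g0, -, a, b0, hab, -, -⟩ := hfix
  have hconj : ∀ x ∈ R, ∀ y ∈ R, x ≠ 1 → y ≠ 1 → ∃ m ∈ M, m * x * m⁻¹ = y := by
    intro x hx y hy hx1 hy1
    obtain ⟨m, hm, hma, hmx⟩ := hM (p := a) (q := x • a) (r := y • a) (fun e => hx1 (hRf x hx a e))
      (fun e => hy1 (hRf y hy a e))
    refine ⟨m, hm, ?_⟩
    have h : (y⁻¹ * (m * x * m⁻¹)) • a = a := by
      rw [mul_smul, mul_smul, inv_smul_eq_iff.mpr hma.symm, mul_smul, hmx, inv_smul_smul]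
    exact (inv_mul_eq_one.mp (hRf _ (mul_mem (inv_mem hy) (hRn m hm x hx)) a h)).symm
  refine ⟨hconj, ?_⟩
  obtain ⟨x0, hx0, hx0a⟩ := hRt a b0
  haveI : Nontrivial R := ⟨⟨⟨x0, hx0⟩, 1, fun e => hab (by
    rw [← hx0a, show x0 = 1 from congrArg Subtype.val e, one_smul])⟩⟩
  obtain ⟨q, hq, hqd⟩ := Nat.exists_prime_and_dvd (n := Nat.card R) (Finite.one_lt_card).ne'
  haveI := Fact.mk hq
  obtain ⟨⟨z, hz⟩, hzq⟩ := exists_prime_orderOf_dvd_card' (G := R) q hqd
  have hz1 : z ≠ 1 := fun e => hq.ne_one (by rw [← hzq, ← Subgroup.orderOf_coe]; simp [e])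
  have hp : IsPGroup q R := fun x => by
    by_cases hx1 : (x : G) = 1
    · exact ⟨0, Subtype.ext (by simpa using hx1)⟩
    · obtain ⟨m, -, hm⟩ := hconj z hz x x.2 hz1 hx1
      refine ⟨1, ?_⟩
      rw [pow_one, ← orderOf_dvd_iff_pow_eq_one, ← Subgroup.orderOf_coe, ← hm]
      have e : orderOf (m * z * m⁻¹) = orderOf z := MulEquiv.orderOf_eq (MulAut.conj m) z
      rw [e, ← hzq, ← Subgroup.orderOf_coe]
  obtain ⟨⟨w, hw⟩, hwc, hw1⟩ := SetLike.exists_of_lt (bot_lt_iff_ne_bot.mpr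
    ((Subgroup.nontrivial_iff_ne_bot _).mp hp.center_nontrivial))
  intro x hx y hy
  by_cases hx1 : x = 1
  · simp [hx1]
  have hw1' : w ≠ 1 := fun e => hw1 (Subgroup.mem_bot.mpr (Subtype.ext e))
  obtain ⟨m, hm, hmx⟩ := hconj w hw x hx hw1' hx1
  obtain ⟨y', hy', hyy⟩ : ∃ y' ∈ R, m * y' * m⁻¹ = y := by
    let φ : R → R := fun r => ⟨m * r * m⁻¹, hRn m hm r r.2⟩
    have hφ : Function.Injective φ := fun r s e =>
      Subtype.ext (mul_left_cancel (mul_right_cancel (congrArg Subtype.val e)))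
    obtain ⟨r, hr⟩ := Finite.surjective_of_injective hφ ⟨y, hy⟩
    exact ⟨r, r.2, congrArg Subtype.val hr⟩
  have hcomm : y' * w = w * y' := congrArg Subtype.val (Subgroup.mem_center_iff.mp hwc ⟨y', hy'⟩)
  rw [← hmx, ← hyy, show m * w * m⁻¹ * (m * y' * m⁻¹) = m * (w * y') * m⁻¹ by group, ← hcomm]
  group

/-- A regular abelian subgroup contains its centraliser. -/
theorem regular_cent {M R : Subgroup G} (hM : ∀ {p q r : Ω}, q ≠ p → r ≠ p → ∃ m ∈ M, m • p = p ∧ m • q = r)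
    (hRn : ∀ m ∈ M, ∀ x ∈ R, m * x * m⁻¹ ∈ R) (hRt : ∀ p q : Ω, ∃ x ∈ R, x • p = q)
    (hRf : ∀ x ∈ R, ∀ p : Ω, x • p = p → x = 1) {c : G} (hc : ∀ x ∈ R, c * x = x * c) : c ∈ R := by
  obtain ⟨-, hab⟩ := regular_conj h2 h3 hfix hM hRn hRt hRf
  obtain ⟨g0, -, a, -, -, -, -⟩ := hfix
  obtain ⟨r, hr, hre⟩ := hRt a (c • a)
  have hfixall : ∀ p : Ω, (r⁻¹ * c) • p = p := by
    intro p
    obtain ⟨x, hx, rfl⟩ := hRt a p
    have h : c • x • a = r • x • a := by
      rw [← mul_smul, hc x hx, mul_smul, ← hre, ← mul_smul, ← hab r hr x hx, mul_smul]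
    rw [mul_smul, h, inv_smul_smul]
  have : r⁻¹ * c = 1 := eq_of_smul_eq_smul (α := Ω) fun p => by rw [hfixall p, one_smul]
  rw [inv_mul_eq_one] at this
  exact this ▸ hr

include hN

theorem exists_two_fix_normal (hreg : ∀ R : Subgroup G, R.Normal → IsPretransitive R Ω → ∃ a : Ω, stabilizer R a ≠ ⊥) :
    ∃ d ∈ N, d ≠ 1 ∧ ∃ a b : Ω, a ≠ b ∧ d • a = a ∧ d • b = b := by
  classical
  haveI := finite_group G Ω
  haveI := normal_trans h2 h3 hfix hN
  obtain ⟨a, ha⟩ := hreg N hNn (normal_trans h2 h3 hfix hN)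
  by_contra hcon
  simp only [not_exists, not_and] at hcon
  set H := stabilizer N a
  have hH : IsFrobeniusComplement H := by
    refine ⟨ha, ?_, ?_⟩
    · intro e
      obtain ⟨b, hb, -⟩ := exists_third h2 h3 hfix a a
      obtain ⟨n, hn⟩ := exists_smul_eq N a b
      have : n ∈ H := by rw [e]; trivial
      exact hb (hn.symm.trans this)
    · intro g hg
      refine (Subgroup.eq_bot_iff_forall _).mpr fun x hx => ?_
      obtain ⟨hx1, hx2⟩ := Subgroup.mem_inf.mp hx
      rw [Subgroup.mem_pointwise_smul_iff_inv_smul_mem, ← map_inv, MulAut.smul_def, MulAut.conj_apply,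
        inv_inv] at hx2
      have hx2' : (g⁻¹ * x * g) • a = a := hx2
      rw [mul_smul, mul_smul, inv_smul_eq_iff] at hx2'
      by_contra hx'
      exact hcon x x.2 (fun e => hx' (Subtype.ext e)) a ((g : G) • a) (fun e => hg e.symm) hx1 hx2'
  obtain ⟨R0, hR0, -, hR0c, -⟩ := CfsgLib.Frob.exists_nilpotent_kernel hH
  have hmem : ∀ u : N, u ∈ R0 ↔ u = 1 ∨ ∀ p : Ω, (u : G) • p ≠ p := by
    intro u
    rw [← SetLike.mem_coe, hR0]
    refine or_congr Iff.rfl ⟨fun h p hp => ?_, fun h g hg => ?_⟩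
    · obtain ⟨g, rfl⟩ := exists_smul_eq N a p
      refine h g ?_
      rw [Subgroup.mem_pointwise_smul_iff_inv_smul_mem, ← map_inv, MulAut.smul_def, MulAut.conj_apply, inv_inv]
      show (g⁻¹ * u * g) • a = a
      rw [mul_smul, mul_smul, show u • g • a = g • a from hp, inv_smul_smul]
    · rw [Subgroup.mem_pointwise_smul_iff_inv_smul_mem, ← map_inv, MulAut.smul_def, MulAut.conj_apply,
        inv_inv] at hg
      have hg' : (g⁻¹ * u * g) • a = a := hg
      rw [mul_smul, mul_smul, inv_smul_eq_iff] at hg'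
      exact h (g • a) hg'
  let R := R0.map N.subtype
  have hRn : R.Normal := by
    refine ⟨fun x hx g => ?_⟩
    obtain ⟨u, hu, rfl⟩ := hx
    refine ⟨⟨g * u * g⁻¹, hNn.conj_mem _ u.2 g⟩, ?_, rfl⟩
    refine (hmem _).mpr ?_
    rcases (hmem u).mp hu with rfl | h
    · exact Or.inl (Subtype.ext (by simp))
    · refine Or.inr fun p hp => h (g⁻¹ • p) ?_
      change (g * u * g⁻¹) • p = p at hp
      rw [mul_smul, mul_smul] at hp
      rw [← smul_left_cancel_iff g, hp, smul_inv_smul]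
  have htrans : ∀ p : Ω, ∃ x : R, x • a = p := fun p => by
    obtain ⟨n, rfl⟩ := exists_smul_eq N a p
    obtain ⟨⟨⟨r, hr⟩, ⟨k, hk⟩⟩, e⟩ := hR0c.2 n
    refine ⟨⟨r, r, hr, rfl⟩, ?_⟩
    rw [← show r * k = n from e, mul_smul, show k • a = a from hk]
    rfl
  have hRt : IsPretransitive R Ω := ⟨fun p q => by
    obtain ⟨x, hx⟩ := htrans p
    obtain ⟨y, hy⟩ := htrans q
    exact ⟨y * x⁻¹, by rw [← hx, mul_smul, inv_smul_smul, hy]⟩⟩
  obtain ⟨p, hp⟩ := hreg R hRn hRt
  refine hp ((Subgroup.eq_bot_iff_forall _).mpr fun x hx => ?_)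
  obtain ⟨u, hu, e⟩ := x.2
  rcases (hmem u).mp hu with rfl | h
  · exact Subtype.ext e.symm
  · refine absurd ?_ (h p)
    rw [show (u : G) = x from e]
    exact hx

variable (hreg : ∀ R : Subgroup G, R.Normal → IsPretransitive R Ω → ∃ a : Ω, stabilizer R a ≠ ⊥)

include hreg

theorem kernel_le (a : Ω) {Q : Subgroup G} (hQa : Q ≤ stabilizer G a)
    (hQn : ∀ h ∈ stabilizer G a, ∀ x ∈ Q, h * x * h⁻¹ ∈ Q)
    (hQf : ∀ u ∈ Q, u ≠ 1 → ∀ c : Ω, u • c = c → c = a) : Q ≤ N := by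
  classical
  haveI := finite_group G Ω
  obtain ⟨d, hd, hd1, p, q, hpq, hdp, hdq⟩ := exists_two_fix_normal h2 h3 hfix hN hreg
  obtain ⟨b, hb, -⟩ := exists_third h2 h3 hfix a a
  obtain ⟨g, hgp, hgq⟩ := two_pt h2 hpq hb.symm
  set d' := g * d * g⁻¹ with hd'
  have hd'N : d' ∈ N := hNn.conj_mem d hd g
  have hd'1 : d' ≠ 1 := fun e => hd1 (by rwa [hd', mul_inv_eq_one, mul_eq_left] at e)
  have hd'a : d' • a = a := by rw [← hgp, hd']; simp only [mul_smul, inv_smul_smul, hdp]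
  have hd'b : d' • b = b := by rw [← hgq, hd']; simp only [mul_smul, inv_smul_smul, hdq]
  have hmem : ∀ x : Q, (x : G) * d' * (x : G)⁻¹ * d'⁻¹ ∈ Q := fun x => by
    rw [show (x : G) * d' * (x : G)⁻¹ * d'⁻¹ = x * (d' * (x : G)⁻¹ * d'⁻¹) by group]
    exact mul_mem x.2 (hQn d' hd'a _ (inv_mem x.2))
  let φ : Q → Q := fun x => ⟨(x : G) * d' * (x : G)⁻¹ * d'⁻¹, hmem x⟩
  have hφ : Function.Injective φ := by
    intro x y e
    have e' : (x : G) * d' * (x : G)⁻¹ = y * d' * (y : G)⁻¹ := mul_right_cancel (congrArg Subtype.val e)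
    by_contra hne
    set w := ((y⁻¹ * x : Q) : G) with hw
    have hw1 : w ≠ 1 := fun e => hne (inv_mul_eq_one.mp (Subtype.ext e)).symm
    have hwd : w * d' = d' * w := by
      calc w * d' = (y : G)⁻¹ * (x * d' * (x : G)⁻¹) * x := by rw [hw, Subgroup.coe_mul, Subgroup.coe_inv]; group
        _ = d' * w := by rw [e', hw, Subgroup.coe_mul, Subgroup.coe_inv]; group
    have hwa : w • a = a := mem_stabilizer_iff.mp (hQa (y⁻¹ * x).2)
    have hwb : d' • w • b = w • b := by rw [← mul_smul, ← hwd, mul_smul, hd'b]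
    have hwb1 : w • b ≠ b := fun e => hb (hQf w (y⁻¹ * x).2 hw1 b e)
    exact hd'1 (h3 d' a b (w • b) hb.symm hwb1.symm
      (fun e => hb.symm (smul_left_cancel w (hwa.trans e))) hd'a hd'b hwb)
  intro z hz
  obtain ⟨x, hx⟩ := Finite.surjective_of_injective hφ ⟨z, hz⟩
  rw [← show (x : G) * d' * (x : G)⁻¹ * d'⁻¹ = z from congrArg Subtype.val hx]
  exact mul_mem (hNn.conj_mem d' hd'N x) (inv_mem hd'N)

theorem normal_two_trans {p q r : Ω} (hq : q ≠ p) (hr : r ≠ p) : ∃ m ∈ N, m • p = p ∧ m • q = r := by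
  obtain ⟨Q, hQa, hQn, hQf, hQt, -⟩ := exists_Q h2 h3 hfix p
  obtain ⟨m, hm, e⟩ := hQt q r hq hr
  exact ⟨m, kernel_le h2 h3 hfix hN hreg p hQa hQn hQf hm, mem_stabilizer_iff.mp (hQa hm), e⟩

theorem normal_isZassenhaus : IsZassenhausGroup N Ω := by
  classical
  haveI := finite_group G Ω
  haveI := normal_trans h2 h3 hfix hN
  refine ⟨inferInstance, ?_, ?_, ?_, ?_⟩
  · refine is_two_pretransitive_iff.mpr fun {p q p' q'} hpq hpq' => ?_
    obtain ⟨g, hg⟩ := exists_smul_eq N p p'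
    obtain ⟨m, hm, hm1, hm2⟩ := normal_two_trans h2 h3 hfix hN hreg (p := p') (q := g • q) (r := q')
      (fun e => hpq (smul_left_cancel g (hg.trans e.symm))) hpq'.symm
    refine ⟨⟨m, hm⟩ * g, ?_, ?_⟩
    · rw [mul_smul, hg]; exact hm1
    · rw [mul_smul]; exact hm2
  · intro g a b c hab hbc hac ha hb hc
    exact Subtype.ext (h3 g a b c hab hbc hac ha hb hc)
  · obtain ⟨d, hd, hd1, a, b, hab, ha, hb⟩ := exists_two_fix_normal h2 h3 hfix hN hreg
    exact ⟨⟨d, hd⟩, fun e => hd1 (congrArg Subtype.val e), a, b, hab, ha, hb⟩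
  · intro R0 hR0n hR0t
    by_contra hcon
    simp only [not_exists, not_not] at hcon
    have hM : ∀ {p q r : Ω}, q ≠ p → r ≠ p → ∃ m ∈ N, m • p = p ∧ m • q = r :=
      fun hq hr => normal_two_trans h2 h3 hfix hN hreg hq hr
    set R := R0.map N.subtype with hR
    have hRn : ∀ m ∈ N, ∀ x ∈ R, m * x * m⁻¹ ∈ R := by
      rintro m hm _ ⟨x, hx, rfl⟩
      exact ⟨⟨m, hm⟩ * x * ⟨m, hm⟩⁻¹, hR0n.conj_mem x hx _, rfl⟩
    have hRt : ∀ p q : Ω, ∃ x ∈ R, x • p = q := fun p q => by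
      obtain ⟨x, hx⟩ := exists_smul_eq R0 p q
      exact ⟨_, ⟨x, x.2, rfl⟩, hx⟩
    have hRf : ∀ x ∈ R, ∀ p : Ω, x • p = p → x = 1 := by
      rintro _ ⟨x, hx, rfl⟩ p hp
      have : (⟨x, hx⟩ : R0) ∈ stabilizer R0 p := hp
      rw [hcon p, Subgroup.mem_bot] at this
      rw [show x = 1 from congrArg Subtype.val this, map_one]
    obtain ⟨hconj, -⟩ := regular_conj h2 h3 hfix hM hRn hRt hRf
    have hnorm : R.Normal := by
      refine ⟨fun x hx g => ?_⟩
      by_contra hgx
      have hx1 : x ≠ 1 := fun e => hgx (by rw [e, mul_one, mul_inv_cancel]; exact one_mem _)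
      -- the intersection with the conjugate subgroup is trivial
      have htriv : ∀ z ∈ R, g⁻¹ * z * g ∈ R → z = 1 := by
        intro z hz hzg
        by_contra hz1
        refine hgx ?_
        have hgz1 : g⁻¹ * z * g ≠ 1 := fun e => hz1 (by
          calc z = g * (g⁻¹ * z * g) * g⁻¹ := by group
            _ = 1 := by rw [e, mul_one, mul_inv_cancel])
        obtain ⟨m, hm, e⟩ := hconj _ hzg x hx hgz1 hx1
        rw [← e, show g * (m * (g⁻¹ * z * g) * m⁻¹) * g⁻¹ = (g * m * g⁻¹) * z * (g * m * g⁻¹)⁻¹ by group]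
        exact hRn _ (hNn.conj_mem m hm g) z hz
      refine hgx ?_
      refine regular_cent h2 h3 hfix hM hRn hRt hRf fun y hy => ?_
      set w := g * x * g⁻¹ with hw
      have hwN : w ∈ N := hNn.conj_mem x (by obtain ⟨u, -, rfl⟩ := hx; exact u.2) g
      have hyN : y ∈ N := by obtain ⟨u, -, rfl⟩ := hy; exact u.2
      have h1 : w * y * w⁻¹ * y⁻¹ ∈ R := mul_mem (hRn w hwN y hy) (inv_mem hy)
      have h4 : g⁻¹ * (w * y * w⁻¹ * y⁻¹) * g ∈ R := by
        rw [show g⁻¹ * (w * y * w⁻¹ * y⁻¹) * g =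
          (g⁻¹ * w * g) * ((g⁻¹ * y * g) * (g⁻¹ * w * g)⁻¹ * (g⁻¹ * y * g)⁻¹) by group,
          show g⁻¹ * w * g = x by rw [hw]; group]
        refine mul_mem hx (hRn _ ?_ _ (inv_mem hx))
        have := hNn.conj_mem y hyN g⁻¹
        rwa [inv_inv] at this
      have h5 := htriv _ h1 h4
      rw [mul_inv_eq_one, mul_inv_eq_iff_eq_mul] at h5
      exact h5
    obtain ⟨p, hp⟩ := hreg R hnorm ⟨fun p q => by obtain ⟨x, hx, e⟩ := hRt p q; exact ⟨⟨x, hx⟩, e⟩⟩
    exact hp ((Subgroup.eq_bot_iff_forall _).mpr fun x hx => Subtype.ext (hRf x x.2 p hx))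

omit hN

theorem simple_of_odd (hodd : Odd (Nat.card Ω)) : IsSimpleGroup G := by
  classical
  haveI := finite_group G Ω
  haveI := Fintype.ofFinite Ω
  obtain ⟨g0, hg0, a, b, hab, hg0a, hg0b⟩ := hfix
  have hfix : ∃ g : G, g ≠ 1 ∧ ∃ a b : Ω, a ≠ b ∧ g • a = a ∧ g • b = b := ⟨g0, hg0, a, b, hab, hg0a, hg0b⟩
  obtain ⟨Q, hQa, hQn, hQf, hQt, -⟩ := exists_Q h2 h3 hfix a
  set D := stabilizer G a ⊓ stabilizer G b with hD
  have hQe : Q ≃ {c : Ω // c ≠ a} := Equiv.ofBijective
    (fun x => ⟨(x : G) • b, fun e => hab (smul_left_cancel (x : G) ((mem_stabilizer_iff.mp (hQa x.2)).trans e.symm))⟩)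
    ⟨fun x y e => by
      have e' : (x : G) • b = (y : G) • b := congrArg Subtype.val e
      by_contra hne
      exact hab.symm (hQf _ (y⁻¹ * x).2 (fun e => hne (inv_mul_eq_one.mp (Subtype.ext e)).symm) b
        (by rw [Subgroup.coe_mul, Subgroup.coe_inv, mul_smul, e', inv_smul_smul])),
    fun c => by
      obtain ⟨x, hx, e⟩ := hQt b c hab.symm c.2
      exact ⟨⟨x, hx⟩, Subtype.ext e⟩⟩
  have hQeven : Even (Nat.card Q) := by
    rw [Nat.card_congr hQe, Nat.card_eq_fintype_card, Fintype.card_subtype_compl, Fintype.card_subtype_eq]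
    rw [Nat.card_eq_fintype_card] at hodd
    obtain ⟨k, hk⟩ := hodd
    exact ⟨k, by omega⟩
  have hDodd : Odd (Nat.card D) := by
    rw [← Nat.not_even_iff_odd, even_iff_two_dvd]
    intro h2'
    haveI := Fact.mk Nat.prime_two
    obtain ⟨⟨d, hd⟩, hdo⟩ := exists_prime_orderOf_dvd_card' (G := D) 2 h2'
    obtain ⟨hd2, hd1⟩ := CfsgLib.Involutions.orderOf_eq_two_iff'.mp hdo
    have hd2' : d * d = 1 := congrArg Subtype.val hd2
    have hd1' : d ≠ 1 := fun e => hd1 (Subtype.ext e)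
    obtain ⟨hda, hdb⟩ := Subgroup.mem_inf.mp hd
    rw [mem_stabilizer_iff] at hda hdb
    have hinv : Function.Involutive (fun c : Ω => d • c) := fun c => by simp only [smul_smul, hd2', one_smul]
    have hEv : ¬ 2 ∣ Fintype.card Ω := by
      rw [← Nat.card_eq_fintype_card]
      exact fun h => Nat.not_even_iff_odd.mpr hodd (even_iff_two_dvd.mpr h)
    have hsq : hinv.toPerm ^ 2 ^ 1 = 1 := Equiv.ext fun x => by
      simp only [pow_one, pow_two, Equiv.Perm.mul_apply, Equiv.Perm.one_apply]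
      exact hinv x
    have hmod := Equiv.Perm.card_compl_support_modEq (p := 2) (n := 1) hsq
    have hsupp : hinv.toPerm.supportᶜ = {a, b} := by
      ext c
      simp only [Finset.mem_compl, Equiv.Perm.mem_support, not_not, Finset.mem_insert, Finset.mem_singleton]
      refine ⟨fun hc => ?_, ?_⟩
      · by_contra hne
        rw [not_or] at hne
        exact hd1' (h3 d a b c hab (Ne.symm hne.2) (Ne.symm hne.1) hda hdb hc)
      · rintro (rfl | rfl)
        · exact hda
        · exact hdb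
    rw [hsupp, Finset.card_pair hab] at hmod
    exact hEv ((Nat.modEq_zero_iff_dvd).mp (hmod.symm.trans (Nat.modEq_zero_iff_dvd.mpr dvd_rfl)))
  obtain ⟨g, hga, hgb⟩ := two_pt h2 hab hab.symm
  obtain ⟨k, hk⟩ := hDodd
  have hgg : g * g ∈ D := Subgroup.mem_inf.mpr
    ⟨by rw [mem_stabilizer_iff, mul_smul, hga, hgb], by rw [mem_stabilizer_iff, mul_smul, hgb, hga]⟩
  have hpow : (g * g) ^ Nat.card D = 1 :=
    congrArg Subtype.val (pow_card_eq_one' (G := D) (x := ⟨g * g, hgg⟩))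
  set t := (g * g) ^ k * g with ht
  have htn : t = g ^ Nat.card D := by rw [ht, hk, pow_succ, pow_mul, pow_two]
  obtain ⟨hka, hkb⟩ := Subgroup.mem_inf.mp (pow_mem hgg k)
  have hta : t • a = b := by rw [ht, mul_smul, hga, mem_stabilizer_iff.mp hkb]
  have ht2 : t * t = 1 := by rw [htn, ← pow_add, ← two_mul, pow_mul, pow_two, hpow]
  have hS : IsRankOneSetup G Ω a t Q :=
    { two_transitive := h2
      mul_self := ht2
      ne_one := fun e => hab (by rw [← hta, e, one_smul])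
      not_mem := fun e => hab ((mem_stabilizer_iff.mp e).symm.trans hta)
      le := hQa
      conj_mem := hQn
      inf_eq_bot := by
        refine (Subgroup.eq_bot_iff_forall _).mpr fun x hx => ?_
        obtain ⟨hx1, hx2⟩ := Subgroup.mem_inf.mp hx
        by_contra hne
        rw [hta] at hx2
        exact hab.symm (hQf x hx1 hne b hx2)
      sup_eq := by
        rw [hta]
        refine le_antisymm (sup_le hQa inf_le_left) fun x hx => ?_
        have hxb : x • b ≠ a := fun e => hab (smul_left_cancel x ((mem_stabilizer_iff.mp hx).trans e.symm))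
        obtain ⟨y, hy, e⟩ := hQt b (x • b) hab.symm hxb
        have hd : y⁻¹ * x ∈ stabilizer G a ⊓ stabilizer G b := by
          refine Subgroup.mem_inf.mpr ⟨mul_mem (inv_mem (hQa hy)) hx, ?_⟩
          rw [mem_stabilizer_iff, mul_smul, ← e, inv_smul_smul]
        have := Subgroup.mul_mem_sup hy hd
        rwa [mul_inv_cancel_left] at this
      even_card := hQeven
      odd_card := by rw [hta]; exact ⟨k, hk⟩ }
  haveI : Nontrivial G := ⟨⟨g0, 1, hg0⟩⟩
  refine ⟨fun N hNn => ?_⟩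
  by_contra hne
  rw [not_or] at hne
  have hQN : Q ≤ N := kernel_le h2 h3 hfix hne.1 hreg a hQa hQn hQf
  have hinvN : ∀ u : G, u ≠ 1 → u * u = 1 → u ∈ N := by
    intro u hu1 hu2
    obtain ⟨s, hsa, hs1, hs2⟩ := CfsgLib.RankOne.exists_invol hS
    obtain ⟨h, e⟩ := CfsgLib.RankOne.invol_conj hS hs1 hs2 hu1 hu2
    exact e ▸ hNn.conj_mem s (hQN (CfsgLib.RankOne.invol_mem_Q hS hsa hs2)) h
  have hDN : ∀ d ∈ CfsgLib.RankOne.D a t, d ∈ N := by
    intro d hd
    have hinv : t * d * t = d⁻¹ := by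
      obtain ⟨⟨v, l⟩, ⟨hv, hl, rfl⟩, -⟩ := CfsgLib.RankOne.Inverted.decomp hS.odd_card
        (CfsgLib.RankOne.D_norm hS) hS.mul_self hd
      obtain ⟨hvD, hvt⟩ := Subgroup.mem_inf.mp hv
      have hv1 : v = 1 := by
        obtain ⟨c0, hc0⟩ := CfsgLib.RankOne.exists_fix hS hS.ne_one ht2
        have h := CfsgLib.RankOne.not_fix_of_commute hS hS.ne_one ht2 hc0
          (Subgroup.mem_centralizer_singleton_iff.mp hvt).symm
        obtain ⟨h1, h2'⟩ := (CfsgLib.RankOne.mem_D hS).mp hvD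
        rw [hta] at h2'
        exact h3 v a b c0 hab (fun e => hab (by
            have : t • b = b := by rw [e]; exact hc0
            rw [← hta, smul_smul, ht2, one_smul] at this
            exact this.trans hta))
          (fun e => hab (by
            have : t • a = a := by rw [e]; exact hc0
            exact this.symm.trans hta)) h1 h2' h
      rw [hv1, one_mul, ← hl.2, CfsgLib.RankOne.inv_t hS]
    have hsq : t * d * (t * d) = 1 := by rw [← mul_assoc, hinv, inv_mul_cancel]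
    by_cases he : t * d = 1
    · rw [eq_inv_of_mul_eq_one_right he, CfsgLib.RankOne.inv_t hS]
      exact hinvN t hS.ne_one ht2
    · have := mul_mem (hinvN t hS.ne_one ht2) (hinvN _ he hsq)
      rwa [← mul_assoc, ht2, one_mul] at this
  refine hne.2 (eq_top_iff.mpr fun x _ => ?_)
  have hA : ∀ p : G, p • a = a → p ∈ N := by
    intro p hp
    obtain ⟨y, hy, d, hd, rfl⟩ := CfsgLib.RankOne.exists_decomp hS hp
    exact mul_mem (hQN hy) (hDN d hd)
  by_cases hx : x • a = a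
  · exact hA x hx
  · obtain ⟨p, y, hp, hy, rfl⟩ := CfsgLib.RankOne.exists_form hS hx
    exact mul_mem (mul_mem (hA p hp) (hinvN t hS.ne_one ht2)) (hQN hy)

omit hreg

theorem degree_two_pow {R : Subgroup G} [R.Normal] (hRt : IsPretransitive R Ω)
    (hRs : ∀ a : Ω, stabilizer R a = ⊥) : ∃ p : ℕ, p.Prime ∧ Nat.card Ω = 2 ^ p := by
  classical
  haveI := finite_group G Ω
  haveI := hRt
  have hM : ∀ {p q r : Ω}, q ≠ p → r ≠ p → ∃ m ∈ (⊤ : Subgroup G), m • p = p ∧ m • q = r := fun {p q r} hq hr => by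
    obtain ⟨g, h1, h2'⟩ := two_pt h2 hq.symm hr.symm
    exact ⟨g, trivial, h1, h2'⟩
  have hRn : ∀ m ∈ (⊤ : Subgroup G), ∀ x ∈ R, m * x * m⁻¹ ∈ R :=
    fun m _ x hx => (inferInstance : R.Normal).conj_mem x hx m
  have hRt' : ∀ p q : Ω, ∃ x ∈ R, x • p = q := fun p q => by
    obtain ⟨x, hx⟩ := exists_smul_eq R p q
    exact ⟨x, x.2, hx⟩
  have hRf : ∀ x ∈ R, ∀ p : Ω, x • p = p → x = 1 := fun x hx p hp => by
    have : (⟨x, hx⟩ : R) ∈ stabilizer R p := hp
    rw [hRs p, Subgroup.mem_bot] at this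
    exact congrArg Subtype.val this
  obtain ⟨hconj, habel⟩ := regular_conj h2 h3 hfix hM hRn hRt' hRf
  obtain ⟨g0, hg0, a, b, hab, hga, hgb⟩ := hfix
  have hfix : ∃ g : G, g ≠ 1 ∧ ∃ a b : Ω, a ≠ b ∧ g • a = a ∧ g • b = b := ⟨g0, hg0, a, b, hab, hga, hgb⟩
  -- an element of prime order fixing `a` and `b`
  set D := stabilizer G a ⊓ stabilizer G b
  have hg0D : g0 ∈ D := Subgroup.mem_inf.mpr ⟨hga, hgb⟩
  obtain ⟨r, hr, hrd⟩ := Nat.exists_prime_and_dvd (n := Nat.card D) (by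
    rw [Ne, Subgroup.card_eq_one]
    intro e
    rw [e, Subgroup.mem_bot] at hg0D
    exact hg0 hg0D)
  haveI := Fact.mk hr
  obtain ⟨⟨h, hhD⟩, hho⟩ := exists_prime_orderOf_dvd_card' (G := D) r hrd
  rw [← Subgroup.orderOf_coe] at hho
  change orderOf h = r at hho
  obtain ⟨hha, hhb⟩ := Subgroup.mem_inf.mp hhD
  rw [mem_stabilizer_iff] at hha hhb
  have hh1 : h ≠ 1 := fun e => hr.ne_one (by rw [← hho, e, orderOf_one])
  have hzp : ∀ z ∈ Subgroup.zpowers h, z • a = a ∧ z • b = b := fun z hz => by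
    have hle : Subgroup.zpowers h ≤ D := Subgroup.zpowers_le.mpr hhD
    exact Subgroup.mem_inf.mp (hle hz)
  obtain ⟨n, hn, hnb⟩ := hRt' a b
  have hn1 : n ≠ 1 := fun e => hab (by rw [← hnb, e, one_smul])
  have hcentral : ∀ z ∈ Subgroup.zpowers h, z * n = n * z := by
    intro z hz
    obtain ⟨hza, hzb⟩ := hzp z hz
    have e : (n⁻¹ * (z * n * z⁻¹)) • a = a := by
      rw [mul_smul, mul_smul, inv_smul_eq_iff.mpr hza.symm, mul_smul, hnb, hzb, ← hnb, inv_smul_smul]
    have := inv_mul_eq_one.mp (hRf _ (mul_mem (inv_mem hn) (hRn z trivial n hn)) a e)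
    rw [eq_comm, mul_inv_eq_iff_eq_mul] at this
    exact this
  have hcent : ∀ x ∈ R, h * x = x * h → x = 1 ∨ x = n := by
    intro x hx hc
    have hfx : h • x • a = x • a := by rw [← mul_smul, hc, mul_smul, hha]
    by_contra hne
    rw [not_or] at hne
    refine hh1 (h3 h a b (x • a) hab ?_ ?_ hha hhb hfx)
    · intro e
      refine hne.2 (inv_mul_eq_one.mp (hRf _ (mul_mem (inv_mem hx) hn) a ?_))
      rw [mul_smul, hnb, e, inv_smul_smul]
    · exact fun e => hne.1 (hRf x hx a e.symm)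
  have hexp : ∀ x ∈ R, x * x = 1 := by
    have hn2 : n * n = 1 := by
      have hc : h * n = n * h := hcentral h (Subgroup.mem_zpowers h)
      rcases hcent (n * n) (mul_mem hn hn) (by rw [← mul_assoc, hc, mul_assoc, hc, mul_assoc]) with e | e
      · exact e
      · exact absurd (mul_eq_left.mp e) hn1
    intro x hx
    by_cases hx1 : x = 1
    · rw [hx1, mul_one]
    obtain ⟨m, -, hm⟩ := hconj n hn x hx hn1 hx1
    rw [← hm, show m * n * m⁻¹ * (m * n * m⁻¹) = m * (n * n) * m⁻¹ by group, hn2, mul_one, mul_inv_cancel]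
  obtain ⟨Q, hQa, hQn, hQf, hQt, hQnil⟩ := exists_Q h2 h3 hfix a
  haveI := hQnil
  letI : CommGroup R := { (inferInstance : Group R) with mul_comm := fun x y => Subtype.ext (habel x x.2 y y.2) }
  letI : Module (ZMod 2) (Additive R) := AddCommGroup.zmodModule fun x => by
    apply Additive.toMul.injective
    rw [two_nsmul]
    exact Subtype.ext (hexp _ (Additive.toMul x).2)
  haveI : Module.Finite (ZMod 2) (Additive R) := Module.Finite.of_finite
  let cj : G → (R →* R) := fun g => MonoidHom.mk' (fun x => ⟨g * x * g⁻¹, hRn g trivial x x.2⟩)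
    (fun x y => Subtype.ext (by
      show g * ((x * y : R) : G) * g⁻¹ = g * x * g⁻¹ * (g * y * g⁻¹)
      rw [Subgroup.coe_mul]; group))
  let act : G →* Module.End (ZMod 2) (Additive R) :=
    { toFun := fun g => (MonoidHom.toAdditive (cj g)).toZModLinearMap 2
      map_one' := LinearMap.ext fun x => by
        apply Additive.toMul.injective
        refine Subtype.ext ?_
        show (1 : G) * (Additive.toMul x : R) * (1 : G)⁻¹ = (Additive.toMul x : R)
        group
      map_mul' := fun g g' => LinearMap.ext fun x => by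
        apply Additive.toMul.injective
        refine Subtype.ext ?_
        show g * g' * (Additive.toMul x : R) * (g * g')⁻¹ = g * (g' * (Additive.toMul x : R) * g'⁻¹) * g⁻¹
        group }
  have hactfix : ∀ g (x : Additive R), act g x = x ↔ g * (Additive.toMul x : R) = (Additive.toMul x : R) * g := by
    intro g x
    constructor
    · intro e
      have e' : g * (Additive.toMul x : R) * g⁻¹ = ((Additive.toMul x : R) : G) :=
        congrArg (fun y : Additive R => ((Additive.toMul y : R) : G)) e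
      rwa [mul_inv_eq_iff_eq_mul] at e'
    · intro e
      apply Additive.toMul.injective
      refine Subtype.ext ?_
      show g * (Additive.toMul x : R) * g⁻¹ = (Additive.toMul x : R)
      rw [e, mul_inv_cancel_right]
  let E := Subgroup.zpowers h
  let τ : E →* MulAut Q := MonoidHom.mk'
    (fun z =>
      { toFun := fun x => ⟨z * x * (z : G)⁻¹, hQn _ (mem_stabilizer_iff.mpr (hzp z z.2).1) x x.2⟩
        invFun := fun x => ⟨(z : G)⁻¹ * x * z, by
          have := hQn (z : G)⁻¹ (inv_mem (mem_stabilizer_iff.mpr (hzp z z.2).1)) x x.2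
          rwa [inv_inv] at this⟩
        left_inv := fun x => Subtype.ext (by group)
        right_inv := fun x => Subtype.ext (by group)
        map_mul' := fun x y => Subtype.ext (by simp [mul_assoc]) })
    (fun z z' => MulEquiv.ext fun x => Subtype.ext (by
      show ((z * z' : E) : G) * x * ((z * z' : E) : G)⁻¹ = z * (z' * x * (z' : G)⁻¹) * (z : G)⁻¹
      rw [Subgroup.coe_mul]; group))
  have hfpf : ∀ z : E, z ≠ 1 → ∀ x, τ z x = x → x = 1 := by
    intro z hz x hx
    obtain ⟨hza, hzb⟩ := hzp z z.2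
    have e : (z : G) * x * (z : G)⁻¹ = x := congrArg Subtype.val hx
    rw [mul_inv_eq_iff_eq_mul] at e
    by_contra hx1
    have hx1' : (x : G) ≠ 1 := fun e => hx1 (Subtype.ext e)
    refine hz (Subtype.ext (h3 (z : G) a b ((x : G) • b) hab (fun e' => hab.symm (hQf x x.2 hx1' b e'.symm))
      (fun e' => hab (smul_left_cancel (x : G) ((mem_stabilizer_iff.mp (hQa x.2)).trans e'))) hza hzb
      (by rw [← mul_smul, e, mul_smul, hzb])))
  have hQe : Nat.card Q + 1 = Nat.card Ω := by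
    haveI := Fintype.ofFinite Ω
    have e : Q ≃ {c : Ω // c ≠ a} := Equiv.ofBijective
      (fun x => ⟨(x : G) • b, fun e => hab (smul_left_cancel (x : G) ((mem_stabilizer_iff.mp (hQa x.2)).trans e.symm))⟩)
      ⟨fun x y e => by
        have e' : (x : G) • b = (y : G) • b := congrArg Subtype.val e
        by_contra hne
        exact hab.symm (hQf _ (y⁻¹ * x).2 (fun e => hne (inv_mul_eq_one.mp (Subtype.ext e)).symm) b
          (by rw [Subgroup.coe_mul, Subgroup.coe_inv, mul_smul, e', inv_smul_smul])),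
      fun c => by
        obtain ⟨x, hx, e⟩ := hQt b c hab.symm c.2
        exact ⟨⟨x, hx⟩, Subtype.ext e⟩⟩
    rw [Nat.card_congr e, Nat.card_eq_fintype_card, Nat.card_eq_fintype_card, Fintype.card_subtype_compl,
      Fintype.card_subtype_eq]
    have : 0 < Fintype.card Ω := Fintype.card_pos_iff.mpr ⟨a⟩
    omega
  have hcardR : Nat.card R = Nat.card Ω := Nat.card_congr (Equiv.ofBijective (fun x : R => (x : G) • a)
    ⟨fun x y e => by
      refine Subtype.ext ?_
      have e' : ((y : G)⁻¹ * x) • a = a := by rw [mul_smul, show (x : G) • a = (y : G) • a from e, inv_smul_smul]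
      exact (inv_mul_eq_one.mp (hRf _ (mul_mem (inv_mem y.2) x.2) a e')).symm,
    fun c => by obtain ⟨x, hx, e⟩ := hRt' a c; exact ⟨⟨x, hx⟩, e⟩⟩)
  have hdim := Module.natCard_eq_pow_finrank (K := ZMod 2) (V := Additive R)
  rw [show Nat.card (Additive R) = Nat.card R from Nat.card_congr Additive.toMul, Nat.card_zmod, hcardR] at hdim
  set d := Module.finrank (ZMod 2) (Additive R)
  have hdpos : d ≠ 0 := by
    intro e
    rw [e, pow_zero] at hdim
    exact hab ((Nat.card_eq_one_iff_unique.mp hdim).1.elim a b)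
  have hU : (Nat.card Q : ZMod 2) ≠ 0 := by
    rw [Ne, ZMod.natCast_eq_zero_iff_even]
    intro hev
    have h2' : Even (Nat.card Ω) := by rw [hdim]; exact (Nat.even_pow).mpr ⟨even_two, hdpos⟩
    rw [← hQe, Nat.even_add_one] at h2'
    exact h2' hev
  have key := CfsgLib.FrobAction.fixed_dim (k := ZMod 2) (V := Additive R) τ hfpf hU
    (act.comp Q.subtype) (act.comp E.subtype) fun z x => by
      show act z * act x = act ((τ z x : Q) : G) * act z
      rw [← map_mul, ← map_mul]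
      congr 1
      show (z : G) * x = z * x * (z : G)⁻¹ * z
      group
  have hUbot : CfsgLib.FrobAction.fixedSub (act.comp Q.subtype : Q → Module.End (ZMod 2) (Additive R)) = ⊥ := by
    rw [eq_bot_iff]
    intro v hv
    rw [CfsgLib.FrobAction.mem_fixedSub] at hv
    obtain ⟨x, rfl⟩ : ∃ x : R, Additive.ofMul x = v := ⟨Additive.toMul v, rfl⟩
    rw [Submodule.mem_bot, ofMul_eq_zero]
    refine Subtype.ext ?_
    by_contra hx1
    obtain ⟨c, hca, hcn⟩ := exists_third h2 h3 hfix a ((x : G) • a)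
    have hxa : (x : G) • a ≠ a := fun e => hx1 (hRf x x.2 a e)
    obtain ⟨q, hq, hqe⟩ := hQt ((x : G) • a) c hxa hca
    have hc : q * (x : G) = (x : G) * q := (hactfix q (Additive.ofMul x)).mp (hv ⟨q, hq⟩)
    refine hcn ?_
    rw [← hqe, ← mul_smul, hc, mul_smul, mem_stabilizer_iff.mp (hQa hq)]
  have hEcard : Nat.card E = r := by rw [Nat.card_zpowers, hho]
  have hE1 : Module.finrank (ZMod 2)
      (CfsgLib.FrobAction.fixedSub (act.comp E.subtype : E → Module.End (ZMod 2) (Additive R))) = 1 := by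
    set W := CfsgLib.FrobAction.fixedSub (act.comp E.subtype : E → Module.End (ZMod 2) (Additive R))
    have hWmem : ∀ x : R, Additive.ofMul x ∈ W ↔ (x : G) = 1 ∨ (x : G) = n := by
      intro x
      rw [CfsgLib.FrobAction.mem_fixedSub]
      constructor
      · intro hv
        exact hcent x x.2 ((hactfix h (Additive.ofMul x)).mp (hv ⟨h, Subgroup.mem_zpowers h⟩))
      · rintro hx z
        refine (hactfix (z : G) (Additive.ofMul x)).mpr ?_
        show (z : G) * (x : G) = (x : G) * z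
        rcases hx with e | e <;> rw [e]
        · simp
        · exact hcentral z z.2
    have hcard : Nat.card W = 2 := by
      rw [Nat.card_eq_two_iff]
      refine ⟨⟨Additive.ofMul (1 : R), (hWmem 1).mpr (Or.inl rfl)⟩,
        ⟨Additive.ofMul ⟨n, hn⟩, (hWmem _).mpr (Or.inr rfl)⟩, fun e => hn1 ?_, ?_⟩
      · exact (congrArg (fun y : W => ((Additive.toMul (y : Additive R) : R) : G)) e).symm
      · refine Set.eq_univ_of_forall fun ⟨v, hv⟩ => ?_
        obtain ⟨x, rfl⟩ : ∃ x : R, Additive.ofMul x = v := ⟨Additive.toMul v, rfl⟩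
        rcases (hWmem x).mp hv with e | e
        · exact Or.inl (Subtype.ext (congrArg Additive.ofMul (Subtype.ext e)))
        · exact Or.inr (Subtype.ext (congrArg Additive.ofMul (Subtype.ext e)))
    have hW := Module.natCard_eq_pow_finrank (K := ZMod 2) (V := W)
    rw [hcard, Nat.card_zmod] at hW
    exact (Nat.pow_eq_self_iff (by norm_num : 1 < 2)).mp hW.symm
  rw [hUbot, bot_inf_eq, finrank_bot, hE1, hEcard] at key
  exact ⟨r, hr, by rw [hdim]; congr 1; omega⟩

end CfsgLib.ZassenhausNormal
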