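/-
Zassenhaus groups: basic facts about point stabilisers.
-/
import Cfsg.Prelude.Def_LieExceptional
import Mathlib

namespace CfsgLib.Zassenhaus

open MulAction

variable {G Ω : Type*} [Group G] [MulAction G Ω]

theorem eq_one_of_three (h : Cfsg.IsZassenhausGroup G Ω) {g : G} {a b c : Ω} (hab : a ≠ b) (hbc : b ≠ c)
    (hac : a ≠ c) (ha : g • a = a) (hb : g • b = b) (hc : g • c = c) : g = 1 :=
  h.2.2.1 g a b c hab hbc hac ha hb hc

theorem exists_smul_pair (h : Cfsg.IsZassenhausGroup G Ω) {a b c d : Ω} (hab : a ≠ b) (hcd : c ≠ d) :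
    ∃ g : G, g • a = c ∧ g • b = d :=
  is_two_pretransitive_iff.mp h.2.1 hab hcd

theorem two_point_ne_bot (h : Cfsg.IsZassenhausGroup G Ω) {a b : Ω} (hab : a ≠ b) :
    stabilizer G a ⊓ stabilizer G b ≠ ⊥ := by
  obtain ⟨g, hg1, a', b', hab', ha, hb⟩ := h.2.2.2.1
  obtain ⟨k, hk, hk'⟩ := exists_smul_pair h hab' hab
  intro hbot
  have hmem : k * g * k⁻¹ ∈ stabilizer G a ⊓ stabilizer G b := by
    constructor
    · show _ ∈ stabilizer G _; rw [mem_stabilizer_iff, ← hk, ← mul_smul, inv_mul_cancel_right, mul_smul, ha]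
    · show _ ∈ stabilizer G _; rw [mem_stabilizer_iff, ← hk', ← mul_smul, inv_mul_cancel_right, mul_smul, hb]
  rw [hbot, Subgroup.mem_bot, mul_inv_eq_one] at hmem
  exact hg1 (mul_left_cancel (hmem.trans (mul_one k).symm))

theorem card_ge_three (h : Cfsg.IsZassenhausGroup G Ω) [Fintype Ω] : 3 ≤ Fintype.card Ω := by
  classical
  obtain ⟨g, hg1, a, b, hab, ha, hb⟩ := h.2.2.2.1
  by_contra hlt
  have hall : ∀ c : Ω, c = a ∨ c = b := fun c => by
    by_contra hc
    push Not at hc
    have : ({a, b, c} : Finset Ω).card = 3 := Finset.card_eq_three.mpr ⟨a, b, c, hab, hc.1.symm, hc.2.symm, rfl⟩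
    have := Finset.card_le_univ ({a, b, c} : Finset Ω)
    omega
  have := h.1
  refine hg1 (eq_of_smul_eq_smul (α := Ω) fun c => ?_)
  rcases hall c with rfl | rfl <;> simp [ha, hb]

/-- The normalizer of a two-point stabiliser fixes the pair. -/
theorem pair_of_mem_normalizer (h : Cfsg.IsZassenhausGroup G Ω) {a b : Ω} (hab : a ≠ b) {g : G}
    (hg : ∃ x ∈ stabilizer G a ⊓ stabilizer G b, x ≠ 1 ∧
      g * x * g⁻¹ ∈ stabilizer G a ⊓ stabilizer G b) :
    (g • a = a ∧ g • b = b) ∨ (g • a = b ∧ g • b = a) := by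
  obtain ⟨x, ⟨hxa, hxb⟩, hx1, hya, hyb⟩ := hg
  replace hxa : x • a = a := hxa
  replace hxb : x • b = b := hxb
  replace hya : (g * x * g⁻¹) • a = a := hya
  replace hyb : (g * x * g⁻¹) • b = b := hyb
  set y := g * x * g⁻¹ with hy
  have hy1 : y ≠ 1 := fun e => hx1 (by
    rw [hy, mul_inv_eq_one] at e
    exact mul_left_cancel (e.trans (mul_one g).symm))
  have key : ∀ c : Ω, x • c = c → y • (g • c) = g • c := fun c hc => by
    rw [hy, ← mul_smul, inv_mul_cancel_right, mul_smul, hc]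
  have hcases : ∀ c : Ω, x • c = c → g • c = a ∨ g • c = b := fun c hc => by
    by_contra hne
    push Not at hne
    exact hy1 (eq_one_of_three h hab hne.2.symm hne.1.symm hya hyb (key c hc))
  have hne : g • a ≠ g • b := fun e => hab (MulAction.injective g e)
  rcases hcases a hxa with e1 | e1 <;> rcases hcases b hxb with e2 | e2
  · exact absurd (e1.trans e2.symm) hne
  · exact Or.inl ⟨e1, e2⟩
  · exact Or.inr ⟨e1, e2⟩
  · exact absurd (e1.trans e2.symm) hne

theorem normalizer_two_point_iff (h : Cfsg.IsZassenhausGroup G Ω) [Finite G] {a b : Ω} (hab : a ≠ b) (g : G) :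
    g ∈ Subgroup.normalizer ((stabilizer G a ⊓ stabilizer G b : Subgroup G) : Set G) ↔
      (g • a = a ∧ g • b = b) ∨ (g • a = b ∧ g • b = a) := by
  constructor
  · intro hg
    obtain ⟨x, hx, hx1⟩ := (Subgroup.bot_or_exists_ne_one _).resolve_left (two_point_ne_bot h hab)
    exact pair_of_mem_normalizer h hab ⟨x, hx, hx1, (Subgroup.mem_normalizer_iff.mp hg x).mp hx⟩
  · intro hg
    have hgi : (g⁻¹ • a = a ∧ g⁻¹ • b = b) ∨ (g⁻¹ • a = b ∧ g⁻¹ • b = a) := by
      rcases hg with ⟨ha, hb⟩ | ⟨ha, hb⟩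
      · exact Or.inl ⟨inv_smul_eq_iff.mpr ha.symm, inv_smul_eq_iff.mpr hb.symm⟩
      · exact Or.inr ⟨inv_smul_eq_iff.mpr hb.symm, inv_smul_eq_iff.mpr ha.symm⟩
    have key : ∀ (k : G), ((k • a = a ∧ k • b = b) ∨ (k • a = b ∧ k • b = a)) →
        ∀ x ∈ stabilizer G a ⊓ stabilizer G b, k⁻¹ * x * k ∈ stabilizer G a ⊓ stabilizer G b := by
      rintro k hk x ⟨hxa, hxb⟩
      replace hxa : x • a = a := hxa
      replace hxb : x • b = b := hxb
      rw [Subgroup.mem_inf, mem_stabilizer_iff, mem_stabilizer_iff, mul_smul, mul_smul, mul_smul, mul_smul,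
        inv_smul_eq_iff, inv_smul_eq_iff]
      rcases hk with ⟨ha, hb⟩ | ⟨ha, hb⟩ <;> simp [ha, hb, hxa, hxb]
    rw [Subgroup.mem_normalizer_iff]
    intro x
    constructor
    · intro hx
      have := key g⁻¹ hgi x hx
      rwa [inv_inv] at this
    · intro hx
      have := key g hg _ hx
      simpa [mul_assoc] using this

/-- A subgroup of the stabiliser of a point acting regularly on the other points is normal in it. -/
theorem regular_normal (h : Cfsg.IsZassenhausGroup G Ω) [Finite G] [Fintype Ω] (a : Ω) {H : Subgroup G}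
    (hHa : H ≤ stabilizer G a) (hHcard : Nat.card H + 1 = Fintype.card Ω)
    (hfix : ∀ u ∈ H, u ≠ 1 → ∀ c : Ω, u • c = c → c = a) {x : G} (hx : x ∈ stabilizer G a) :
    (x ∈ H ↔ (x = 1 ∨ ∀ c : Ω, c ≠ a → x • c ≠ c)) := by
  classical
  have := Fintype.ofFinite G
  let A := stabilizer G a
  let Bad := {q : G × Ω // q.1 ∈ A ∧ q.1 ≠ 1 ∧ q.2 ≠ a ∧ q.1 • q.2 = q.2}
  obtain ⟨b, hb⟩ : ∃ b : Ω, b ≠ a := by
    by_contra hcon
    push Not at hcon
    have := card_ge_three h
    have : Fintype.card Ω ≤ 1 := Fintype.card_le_one_iff.mpr fun x y => (hcon x).trans (hcon y).symm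
    omega
  set d := Nat.card ↥(A ⊓ stabilizer G b) with hd
  have hA : Nat.card A = Nat.card {c : Ω // c ≠ a} * d := by
    have e := Subgroup.card_mul_index (stabilizer A b)
    rw [index_stabilizer] at e
    have horb : orbit A b = {c : Ω | c ≠ a} := by
      ext c
      constructor
      · rintro ⟨g, rfl⟩ he
        refine hb (MulAction.injective (g : G) ?_)
        exact he.trans (mem_stabilizer_iff.mp g.2).symm
      · intro hc
        obtain ⟨g, hga, hgb⟩ := exists_smul_pair h (Ne.symm hb) (Ne.symm hc)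
        exact ⟨⟨g, hga⟩, hgb⟩
    rw [horb, ← Nat.card_coe_set_eq] at e
    rw [← e, mul_comm]
    congr 1
    exact Nat.card_congr
      { toFun := fun g => ⟨(g : A), (g : A).2, g.2⟩
        invFun := fun g => ⟨⟨g, g.2.1⟩, g.2.2⟩
        left_inv := fun g => rfl
        right_inv := fun g => rfl }
  have hBad : Nat.card Bad + Nat.card {c : Ω // c ≠ a} = Nat.card A := by
    let F : (c : {c : Ω // c ≠ a}) → Type _ := fun c => ↥(A ⊓ stabilizer G c.1)
    have hd' : ∀ c, Nat.card (F c) = d := by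
      rintro ⟨c, hc⟩
      obtain ⟨g, hga, hgb⟩ := exists_smul_pair h (Ne.symm hb) (Ne.symm hc)
      have e : A ⊓ stabilizer G c = (A ⊓ stabilizer G b).map (MulAut.conj g).toMonoidHom := by
        rw [Subgroup.map_inf _ _ _ (MulAut.conj g).injective, ← stabilizer_smul_eq_stabilizer_map_conj,
          ← stabilizer_smul_eq_stabilizer_map_conj, hga, hgb]
      show Nat.card ↥(A ⊓ stabilizer G c) = d
      rw [e, Subgroup.card_map_of_injective (MulAut.conj g).injective]
    have e : Bad ⊕ {c : Ω // c ≠ a} ≃ (c : {c : Ω // c ≠ a}) × F c :=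
      { toFun := fun s => s.elim (fun q => ⟨⟨q.1.2, q.2.2.2.1⟩, ⟨q.1.1, q.2.1, q.2.2.2.2⟩⟩)
          fun c => ⟨c, 1⟩
        invFun := fun p => if hp : (p.2 : G) = 1 then Sum.inr p.1
          else Sum.inl ⟨((p.2 : G), p.1.1), p.2.2.1, hp, p.1.2, p.2.2.2⟩
        left_inv := fun s => by
          rcases s with q | c
          · simp [q.2.2.1]
          · simp
        right_inv := fun p => by
          obtain ⟨c, y⟩ := p
          by_cases hp : (y : G) = 1
          · obtain rfl : y = 1 := Subtype.ext hp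
            simp
          · simp only [dif_neg hp]
            rfl }
    rw [← Nat.card_sum, Nat.card_congr e, Nat.card_sigma, Finset.sum_congr rfl fun c _ => hd' c,
      Finset.sum_const, Finset.card_univ, ← Nat.card_eq_fintype_card, smul_eq_mul, hA]
  let T := {g : G | g ∈ A ∧ (g = 1 ∨ ∀ c : Ω, c ≠ a → g • c ≠ c)}
  have hsub : (H : Set G) ⊆ T := fun u hu =>
    ⟨hHa hu, (em (u = 1)).imp_right fun hu1 c hc he => hc (hfix u hu hu1 c he)⟩
  have hT : Nat.card T ≤ Nat.card H := by
    have e : Nat.card T + Nat.card Bad = Nat.card A := by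
      let P : A → Prop := fun g => (g : G) = 1 ∨ ∀ c : Ω, c ≠ a → (g : G) • c ≠ c
      have e1 : Nat.card T = Nat.card {g : A // P g} := Nat.card_congr
        { toFun := fun t => ⟨⟨t.1, t.2.1⟩, t.2.2⟩
          invFun := fun g => ⟨g.1.1, g.1.2, g.2⟩
          left_inv := fun t => rfl
          right_inv := fun g => rfl }
      have e2 : Nat.card Bad = Nat.card {g : A // ¬ P g} := by
        refine Nat.card_eq_of_bijective (fun q => ⟨⟨q.1.1, q.2.1⟩, fun h' =>
          h'.elim q.2.2.1 fun hall => hall q.1.2 q.2.2.2.1 q.2.2.2.2⟩) ⟨?_, ?_⟩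
        · rintro ⟨⟨g, c⟩, hg, hg1, hc, hgc⟩ ⟨⟨g', c'⟩, hg', hg1', hc', hgc'⟩ hEq
          simp only [Subtype.mk.injEq] at hEq
          subst hEq
          obtain rfl : c = c' := by
            by_contra hne
            exact hg1 (eq_one_of_three h (a := a) hc.symm hne hc'.symm hg hgc hgc')
          rfl
        · rintro ⟨⟨g, hg⟩, hP⟩
          obtain ⟨hg1, hall⟩ := not_or.mp hP
          push Not at hall
          obtain ⟨c, hc, hgc⟩ := hall
          exact ⟨⟨(g, c), hg, hg1, hc, hgc⟩, rfl⟩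
      rw [e1, e2, ← Nat.card_sum]
      exact Nat.card_congr (Equiv.sumCompl P)
    have hc : Nat.card {c : Ω // c ≠ a} + 1 = Fintype.card Ω := by
      rw [Nat.card_eq_fintype_card, Fintype.card_subtype_compl, Fintype.card_subtype_eq]
      have := card_ge_three h
      omega
    omega
  constructor
  · exact fun hxH => (hsub hxH).2
  · intro hx'
    have heq : (H : Set G) = T := Set.eq_of_subset_of_ncard_le hsub (by
      rw [← Nat.card_coe_set_eq, ← Nat.card_coe_set_eq]; exact hT) T.toFinite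
    have : x ∈ (H : Set G) := heq ▸ (⟨hx, hx'⟩ : x ∈ T)
    exact this

end CfsgLib.Zassenhaus
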