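/-
Simple Zassenhaus groups whose two-point stabilisers have odd order.
-/
import Cfsg.Prelude.Def_LieExceptional
import Cfsg.Agent.Lib.Perm.Zassenhaus
import Cfsg.Agent.Lib.Perm.ZassenhausNormal
import Cfsg.Agent.Lib.Frobenius.Complement
import Cfsg.Agent.Lib.RankOne.Inverted
import Cfsg.Agent.Lib.CharTheory.Induced
import Mathlib

set_option autoImplicit false
set_option linter.unusedSectionVars false
set_option linter.unusedVariables false
set_option linter.style.haveILetI false

namespace CfsgLib.ZassenhausOdd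

open MulAction Cfsg
open scoped Pointwise
open CfsgLib.Zassenhaus

variable {G Ω : Type*} [Group G] [Finite G] [MulAction G Ω] [Fintype Ω]
variable (hZ : Cfsg.IsZassenhausGroup G Ω)

/-- The stabiliser of two points. -/
abbrev D (a b : Ω) : Subgroup G := stabilizer G a ⊓ stabilizer G b

theorem mem_D {a b : Ω} {g : G} : g ∈ D a b ↔ g • a = a ∧ g • b = b := by
  simp [D, Subgroup.mem_inf, mem_stabilizer_iff]

include hZ

theorem card_D_eq {a b c d : Ω} (hab : a ≠ b) (hcd : c ≠ d) :
    Nat.card (D (G := G) a b) = Nat.card (D (G := G) c d) := by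
  obtain ⟨g, hga, hgb⟩ := exists_smul_pair hZ hab hcd
  have e : D (G := G) c d = (D a b).map (MulAut.conj g).toMonoidHom := by
    rw [D, D, Subgroup.map_inf _ _ _ (MulAut.conj g).injective, ← stabilizer_smul_eq_stabilizer_map_conj,
      ← stabilizer_smul_eq_stabilizer_map_conj, hga, hgb]
  rw [e, Subgroup.card_map_of_injective (MulAut.conj g).injective]

theorem card_group {a b : Ω} (hab : a ≠ b) :
    Nat.card G = (Fintype.card Ω * (Fintype.card Ω - 1)) * Nat.card (D (G := G) a b) := by
  classical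
  have e := Subgroup.card_mul_index (stabilizer G (a, b))
  rw [index_stabilizer] at e
  have hs : stabilizer G (a, b) = D a b := by
    ext g; simp [mem_D, Prod.ext_iff]
  have ho : orbit G (a, b) = ((Finset.univ : Finset Ω).offDiag : Set (Ω × Ω)) := by
    ext ⟨c, d⟩
    simp only [Finset.coe_offDiag, Set.mem_offDiag, Finset.coe_univ, Set.mem_univ, true_and]
    constructor
    · rintro ⟨g, hg⟩ rfl
      simp only [Prod.smul_mk, Prod.mk.injEq] at hg
      exact hab (MulAction.injective g (hg.1.trans hg.2.symm))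
    · intro hcd
      obtain ⟨g, hga, hgb⟩ := exists_smul_pair hZ hab hcd
      exact ⟨g, Prod.ext hga hgb⟩
  rw [hs, ho, Set.ncard_coe_finset, Finset.offDiag_card, Finset.card_univ] at e
  rw [← e, mul_comm, Nat.mul_sub, mul_one]

/-- Non-trivial elements fix at most two points. -/
theorem eq_of_two_fix {g : G} (hg : g ≠ 1) {a b c : Ω} (hab : a ≠ b) (ha : g • a = a) (hb : g • b = b)
    (hc : g • c = c) : c = a ∨ c = b := by
  by_contra hne
  push Not at hne
  exact hg (eq_one_of_three hZ hab (Ne.symm hne.2) (Ne.symm hne.1) ha hb hc)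

variable (hodd : ∀ c d : Ω, c ≠ d → Odd (Nat.card (D (G := G) c d)))

include hodd

theorem no_two_fix {z : G} (hz : orderOf z = 2) {c d : Ω} (hc : z • c = c) (hd : z • d = d) : c = d := by
  by_contra hne
  have h1 := (D (G := G) c d).orderOf_dvd_natCard (mem_D.mpr ⟨hc, hd⟩)
  rw [hz] at h1
  exact (hodd c d hne).not_two_dvd_nat h1

theorem orderOf_of_swap {a b : Ω} (hab : a ≠ b) {w : G} (hww : w * w = 1) (hwa : w • a = b) : orderOf w = 2 :=
  orderOf_eq_prime (by rw [pow_two]; exact hww) fun e => hab (by rw [← hwa, e, one_smul])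

theorem exists_swap {a b : Ω} (hab : a ≠ b) : ∃ w : G, w * w = 1 ∧ w • a = b ∧ w • b = a := by
  obtain ⟨s, hsa, hsb⟩ := exists_smul_pair hZ hab (Ne.symm hab)
  have hs2 : s * s ∈ D a b := mem_D.mpr ⟨by rw [mul_smul, hsa, hsb], by rw [mul_smul, hsb, hsa]⟩
  obtain ⟨m, hm⟩ := hodd a b hab
  have h1 : (s * s) ^ Nat.card (D (G := G) a b) = 1 :=
    orderOf_dvd_iff_pow_eq_one.mp ((D (G := G) a b).orderOf_dvd_natCard hs2)
  have e : s ^ Nat.card (D (G := G) a b) = s * (s * s) ^ m := by
    rw [hm, pow_succ', ← pow_two, ← pow_mul]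
  have hfix := mem_D.mp (pow_mem hs2 m)
  refine ⟨s ^ Nat.card (D (G := G) a b), ?_, ?_, ?_⟩
  · rw [← (Commute.refl s).mul_pow, h1]
  · rw [e, mul_smul, hfix.1, hsa]
  · rw [e, mul_smul, hfix.2, hsb]

omit hodd in
theorem conj_swap_D {a b : Ω} {w : G} (hww : w * w = 1) (hwa : w • a = b) (hwb : w • b = a) :
    ∀ x ∈ D (G := G) a b, w * x * w⁻¹ ∈ D (G := G) a b := by
  intro x hx
  obtain ⟨ha, hb⟩ := mem_D.mp hx
  rw [mem_D, inv_eq_of_mul_eq_one_right hww, mul_smul, mul_smul, mul_smul, mul_smul, hwa, hwb, ha, hb, hwa, hwb]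
  exact ⟨rfl, rfl⟩

theorem sylow_cyclic {a b : Ω} (hab : a ≠ b) {r : ℕ} [Fact r.Prime] (P : Sylow r (D (G := G) a b)) :
    IsCyclic P := by
  haveI := hZ.1
  obtain ⟨Q, hQa, hQn, hQfix, hQtrans, hQnil⟩ :=
    CfsgLib.ZassenhausNormal.exists_Q hZ.2.1 hZ.2.2.1 hZ.2.2.2.1 a
  set V := (Subgroup.center Q).map Q.subtype with hV
  haveI : IsMulCommutative V := inferInstance
  have hVne : V ≠ ⊥ := by
    rw [hV, Ne, Subgroup.map_eq_bot_iff_of_injective _ Q.subtype_injective]
    obtain ⟨c, hca, -⟩ : ∃ c, c ≠ a ∧ True := ⟨b, Ne.symm hab, trivial⟩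
    obtain ⟨d, hd⟩ := CfsgLib.ZassenhausNormal.exists_third hZ.2.1 hZ.2.2.1 hZ.2.2.2.1 a c
    obtain ⟨q, hq, hqc⟩ := hQtrans c d hca hd.1
    haveI : Nontrivial Q := ⟨⟨⟨q, hq⟩, 1, fun e => hd.2 (by
      have e' : q = 1 := congrArg Subtype.val e
      rw [← hqc, e', one_smul])⟩⟩
    haveI := hQnil
    exact Group.IsNilpotent.center_ne_bot Q
  have hAV : D (G := G) a b ≤ Subgroup.normalizer (V : Set G) := by
    intro g hg
    rw [Subgroup.mem_normalizer_iff]
    have key : ∀ k ∈ D (G := G) a b, ∀ x ∈ V, k * x * k⁻¹ ∈ V := by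
      rintro k hk _ ⟨⟨z, hzQ⟩, hz, rfl⟩
      refine ⟨⟨k * z * k⁻¹, hQn k (mem_D.mp hk).1 z hzQ⟩, Subgroup.mem_center_iff.mpr fun y => Subtype.ext ?_, rfl⟩
      have hy' : k⁻¹ * y * k ∈ Q := by
        simpa using hQn k⁻¹ (inv_mem (s := stabilizer G a) (mem_D.mp hk).1) y y.2
      have h := congrArg Subtype.val (Subgroup.mem_center_iff.mp hz ⟨_, hy'⟩)
      simp only [Subgroup.coe_mul] at h
      show (y : G) * (k * z * k⁻¹) = k * z * k⁻¹ * y
      calc (y : G) * (k * z * k⁻¹) = k * ((k⁻¹ * y * k) * z) * k⁻¹ := by group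
        _ = k * (z * (k⁻¹ * y * k)) * k⁻¹ := by rw [h]
        _ = _ := by group
    intro x
    refine ⟨key g hg x, fun h => ?_⟩
    have := key g⁻¹ (inv_mem hg) _ h
    simpa [mul_assoc] using this
  have hfpf : ∀ x ∈ D (G := G) a b, x ≠ 1 → V ⊓ Subgroup.centralizer {x} = ⊥ := by
    intro x hx hx1
    refine (Subgroup.eq_bot_iff_forall _).mpr fun v hv => ?_
    obtain ⟨hvV, hvc⟩ := Subgroup.mem_inf.mp hv
    have hvQ : v ∈ Q := Subgroup.map_subtype_le _ hvV
    by_contra hv1
    obtain ⟨hxa, hxb⟩ := mem_D.mp hx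
    have hfixb : x • (v • b) = v • b := by
      rw [← mul_smul, ← Subgroup.mem_centralizer_singleton_iff.mp hvc, mul_smul, hxb]
    rcases eq_of_two_fix hZ hx1 hab hxa hxb hfixb with e | e
    · exact hab (MulAction.injective v ((mem_stabilizer_iff.mp (hQa hvQ)).trans e.symm))
    · exact hab (hQfix v hvQ hv1 b e).symm
  rcases CfsgLib.Frob.sylow_cyclic_or_quaternion hVne hAV hfpf P with h | ⟨n, ⟨e⟩⟩
  · exact h
  · exfalso
    have h1 : Nat.card (P : Subgroup (D (G := G) a b)) = 4 * 2 ^ n := by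
      rw [Nat.card_congr e.toEquiv, Nat.card_eq_fintype_card, QuaternionGroup.card]
    have h2 : 4 * 2 ^ n ∣ Nat.card (D (G := G) a b) := h1 ▸ Subgroup.card_subgroup_dvd_card _
    exact (hodd a b hab).not_two_dvd_nat ((Dvd.intro (2 * 2 ^ n) (by ring)).trans h2)

/-- The involution interchanging two points centralises no non-trivial element fixing both. -/
theorem centralizer_swap_eq_bot' {a b : Ω} (hab : a ≠ b) {w : G} (hww : w * w = 1) (hwa : w • a = b)
    (hwb : w • b = a)
    (hno : ∀ q : ℕ, q.Prime → q ∣ Nat.card (D (G := G) a b) →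
      ¬ ∃ N : Subgroup G, N.Normal ∧ N.index = q ^ (Nat.card G).factorization q) :
    D (G := G) a b ⊓ Subgroup.centralizer {w} = ⊥ := by
  classical
  set X := D (G := G) a b with hX
  set C0 := X ⊓ Subgroup.centralizer {w} with hC0
  by_contra hne
  have hc1 : Nat.card C0 ≠ 1 := fun e => hne (Subgroup.card_eq_one.mp e)
  set r := (Nat.card C0).minFac with hr
  haveI hrp : Fact r.Prime := ⟨Nat.minFac_prime hc1⟩
  have hXodd : Odd (Nat.card X) := hodd a b hab
  have hw2 : orderOf w = 2 := orderOf_of_swap hZ hodd hab hww hwa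
  have hr2 : r ≠ 2 := fun e => hXodd.not_two_dvd_nat
    (e ▸ (Nat.minFac_dvd _).trans (Subgroup.card_dvd_of_le inf_le_left))
  obtain ⟨⟨d, hdC⟩, hdo⟩ := exists_prime_orderOf_dvd_card' (G := C0) r (Nat.minFac_dvd _)
  rw [Subgroup.orderOf_mk] at hdo
  obtain ⟨hdX, hdw⟩ := Subgroup.mem_inf.mp hdC
  have hd1 : d ≠ 1 := fun e => hrp.out.ne_one (by rw [← hdo, e, orderOf_one])
  have hwd : w * d * w⁻¹ = d := by
    rw [← Subgroup.mem_centralizer_singleton_iff.mp hdw, mul_inv_cancel_right]
  -- a `w`-invariant Sylow subgroup of `X` containing `d`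
  let conjw : MulAut X :=
    { toFun := fun x => ⟨w * x * w⁻¹, conj_swap_D hZ hww hwa hwb x x.2⟩
      invFun := fun x => ⟨w * x * w⁻¹, conj_swap_D hZ hww hwa hwb x x.2⟩
      left_inv := fun x => Subtype.ext (by
        show w * (w * x * w⁻¹) * w⁻¹ = x
        rw [show w * (w * (x : G) * w⁻¹) * w⁻¹ = (w * w) * x * (w * w)⁻¹ by group, hww]; group)
      right_inv := fun x => Subtype.ext (by
        show w * (w * x * w⁻¹) * w⁻¹ = x
        rw [show w * (w * (x : G) * w⁻¹) * w⁻¹ = (w * w) * x * (w * w)⁻¹ by group, hww]; group)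
      map_mul' := fun x y => Subtype.ext (by
        show w * (x * y : G) * w⁻¹ = w * x * w⁻¹ * (w * y * w⁻¹)
        group) }
  set dX : X := ⟨d, hdX⟩ with hdXdef
  let T := {P : Sylow r X // dX ∈ (P : Subgroup X)}
  have hdpow : dX ^ r = 1 := Subtype.ext (by simp [hdXdef, ← hdo, pow_orderOf_eq_one])
  have hTne : Nonempty T := by
    obtain ⟨P, hP⟩ := (IsPGroup.of_card (n := 1) (G := Subgroup.zpowers dX) (by
      rw [Nat.card_zpowers, pow_one, ← Subgroup.orderOf_coe, hdXdef, hdo])).exists_le_sylow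
    exact ⟨⟨P, hP (Subgroup.mem_zpowers dX)⟩⟩
  -- their number is odd
  have hcycX : ∀ P : Sylow r X, IsCyclic P := fun P => sylow_cyclic hZ hodd hab P
  have hTle : ∀ P : T, (P.1 : Subgroup X) ≤ Subgroup.centralizer {dX} := fun P x hx => by
    haveI := hcycX P.1
    rw [Subgroup.mem_centralizer_singleton_iff]
    exact congrArg Subtype.val (IsCyclic.commGroup.mul_comm (⟨x, hx⟩ : P.1) ⟨dX, P.2⟩)
  have hTodd : Odd (Nat.card T) := by
    set Z := Subgroup.centralizer ({dX} : Set X) with hZdef
    have hdZ : dX ∈ Z := Subgroup.mem_centralizer_singleton_iff.mpr rfl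
    have hmemR : ∀ R : Sylow r Z, (⟨dX, hdZ⟩ : Z) ∈ (R : Subgroup Z) := by
      intro R
      have hR : IsPGroup r ↥((R : Subgroup Z) ⊔ Subgroup.zpowers ⟨dX, hdZ⟩) := by
        haveI : (Subgroup.zpowers (⟨dX, hdZ⟩ : Z)).Normal := ⟨fun n hn g => by
          obtain ⟨i, rfl⟩ := hn
          refine ⟨i, ?_⟩
          have hcm : Commute (⟨dX, hdZ⟩ : Z) g := Subtype.ext
            (Subgroup.mem_centralizer_singleton_iff.mp g.2).symm
          show _ ^ i = _
          rw [← (hcm.zpow_left i).eq, mul_inv_cancel_right]⟩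
        exact IsPGroup.to_sup_of_normal_right R.isPGroup' (IsPGroup.of_card (n := 1) (by
          rw [Nat.card_zpowers, pow_one, Subgroup.orderOf_mk]
          exact (Subgroup.orderOf_mk d hdX).trans hdo))
      exact (R.is_maximal' hR le_sup_left) ▸ Subgroup.mem_sup_right (Subgroup.mem_zpowers _)
    have hbij : Nat.card T = Nat.card (Sylow r Z) := by
      refine Nat.card_congr (Equiv.ofBijective (fun P : T => P.1.subtype (hTle P)) ⟨?_, ?_⟩)
      · intro P P' e
        exact Subtype.ext (Sylow.subtype_injective e)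
      · intro R
        obtain ⟨P, hP⟩ := R.exists_comap_subtype_eq
        have hdP : dX ∈ (P : Subgroup X) := by
          have := hmemR R
          rw [← hP] at this
          exact this
        exact ⟨⟨P, hdP⟩, Sylow.ext hP⟩
    rw [hbij]
    refine Odd.of_dvd_nat ?_ ((Classical.arbitrary (Sylow r Z)).card_dvd_index.trans (Subgroup.index_dvd_card _))
    exact hXodd.of_dvd_nat (Subgroup.card_subgroup_dvd_card Z)
  let f : T → T := fun P => ⟨conjw • P.1, by
    have h1 : conjw dX = dX := Subtype.ext hwd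
    show dX ∈ conjw • (P.1 : Subgroup X)
    exact Eq.subst (motive := fun z => z ∈ conjw • (P.1 : Subgroup X)) h1
      (Subgroup.smul_mem_pointwise_smul dX conjw _ P.2)⟩
  have hf : Function.Involutive f := fun P => Subtype.ext (by
    show conjw • conjw • P.1 = P.1
    rw [← mul_smul, show conjw * conjw = 1 from MulEquiv.ext fun x => conjw.left_inv x, one_smul])
  obtain ⟨⟨P, hdP⟩, hPfix⟩ : ∃ P : T, f P = P := by
    by_contra hno
    push Not at hno
    letI : Fintype T := Fintype.ofFinite _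
    haveI : IsEmpty ↑(Function.fixedPoints f) := ⟨fun P => hno P.1 P.2⟩
    have h1 := Equiv.Perm.card_fixedPoints_modEq (α := T) (f := f) (p := 2) (n := 1) (by
      funext P; show f (f P) = P; exact hf P)
    rw [Fintype.card_eq_zero (α := Function.fixedPoints _), Nat.modEq_zero_iff_dvd,
      ← Nat.card_eq_fintype_card] at h1
    exact hTodd.not_two_dvd_nat h1
  have hPw : ∀ x ∈ (P : Subgroup X), conjw x ∈ (P : Subgroup X) := fun x hx => by
    have h1 : conjw • P = P := congrArg Subtype.val hPfix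
    have := Subgroup.smul_mem_pointwise_smul x conjw (P : Subgroup X) hx
    rwa [show conjw • (P : Subgroup X) = P from congrArg Sylow.toSubgroup h1] at this
  set PG := (P : Subgroup X).map X.subtype with hPG
  have hPGX : PG ≤ X := Subgroup.map_subtype_le _
  have hdPG : d ∈ PG := ⟨dX, hdP, rfl⟩
  have hPGw : ∀ x ∈ PG, w * x * w⁻¹ ∈ PG := by
    rintro _ ⟨x, hx, rfl⟩
    exact ⟨conjw x, hPw x hx, rfl⟩
  have hPGr : IsPGroup r PG := P.isPGroup'.map _
  haveI hPGc : IsCyclic PG := by
    haveI := hcycX P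
    exact isCyclic_of_surjective _ ((P : Subgroup X).equivMapOfInjective X.subtype X.subtype_injective).surjective
  -- `w` centralises it
  have hPGodd : Odd (Nat.card PG) := hXodd.of_dvd_nat (Subgroup.card_dvd_of_le hPGX)
  have hcentw : ∀ x ∈ PG, w * x * w⁻¹ = x := by
    intro x hx
    obtain ⟨⟨c, i⟩, ⟨hc, hi, rfl⟩, -⟩ :=
      CfsgLib.RankOne.Inverted.decomp hPGodd hPGw hww hx
    have hi1 : i = 1 := by
      by_contra hi0
      obtain ⟨k, hk⟩ := IsPGroup.iff_orderOf.mp hPGr ⟨i, hi.1⟩
      rw [Subgroup.orderOf_mk] at hk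
      have hk0 : k ≠ 0 := fun e => hi0 (by rwa [e, pow_zero, orderOf_eq_one_iff] at hk)
      set j := i ^ r ^ (k - 1) with hj
      have hjo : orderOf j = r := by
        rw [hj, orderOf_pow' _ (pow_ne_zero _ hrp.out.ne_zero), hk,
          Nat.gcd_eq_right (pow_dvd_pow r (by omega)), Nat.pow_div (by omega) hrp.out.pos,
          show k - (k - 1) = 1 by omega, pow_one]
      have hjm : j ∈ PG := pow_mem hi.1 _
      have hd' : d ∈ Subgroup.zpowers j := by
        have h1 : (⟨d, hdPG⟩ : PG) ∈ Subgroup.zpowers (⟨j, hjm⟩ : PG) := by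
          letI : Fintype PG := Fintype.ofFinite _
          have hle : (Finset.univ.filter fun x : PG => x ∈ Subgroup.zpowers (⟨j, hjm⟩ : PG)) ⊆
              Finset.univ.filter fun x : PG => x ^ r = 1 := by
            intro x hx
            obtain ⟨m, rfl⟩ := (Finset.mem_filter.mp hx).2
            refine Finset.mem_filter.mpr ⟨Finset.mem_univ _, ?_⟩
            show ((⟨j, hjm⟩ : PG) ^ m) ^ r = 1
            rw [← zpow_natCast, zpow_comm, zpow_natCast, show (⟨j, hjm⟩ : PG) ^ r = 1 from
              Subtype.ext (by simp [← hjo, pow_orderOf_eq_one]), one_zpow]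
          have hc : (Finset.univ.filter fun x : PG => x ^ r = 1).card ≤
              (Finset.univ.filter fun x : PG => x ∈ Subgroup.zpowers (⟨j, hjm⟩ : PG)).card := by
            refine (IsCyclic.card_pow_eq_one_le hrp.out.pos).trans (le_of_eq ?_)
            rw [← Fintype.card_subtype, ← Nat.card_eq_fintype_card]
            show r = Nat.card (Subgroup.zpowers (⟨j, hjm⟩ : PG))
            rw [Nat.card_zpowers, Subgroup.orderOf_mk, hjo]
          have hm : (⟨d, hdPG⟩ : PG) ∈ Finset.univ.filter fun x : PG => x ^ r = 1 :=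
            Finset.mem_filter.mpr ⟨Finset.mem_univ _, Subtype.ext (by simp [← hdo, pow_orderOf_eq_one])⟩
          rw [← Finset.eq_of_subset_of_card_le hle hc] at hm
          exact (Finset.mem_filter.mp hm).2
        obtain ⟨m, hm⟩ := h1
        exact ⟨m, congrArg Subtype.val hm⟩
      obtain ⟨m, hm⟩ := hd'
      have hinv : w * d * w⁻¹ = d⁻¹ := by
        rw [← hm, ← conj_zpow, hj, ← conj_pow, hi.2, inv_pow, inv_zpow]
      rw [hwd] at hinv
      exact hd1 (CfsgLib.RankOne.Inverted.eq_one_of_sq hXodd hdX (mul_eq_one_iff_eq_inv.mpr hinv))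
    subst hi1
    rw [mul_one, ← Subgroup.mem_centralizer_singleton_iff.mp (Subgroup.mem_inf.mp hc).2, mul_inv_cancel_right]
  have hPGcomm : ∀ x ∈ PG, ∀ y ∈ PG, x * y = y * x := fun x hx y hy =>
    congrArg Subtype.val (IsCyclic.commGroup.mul_comm (⟨x, hx⟩ : PG) ⟨y, hy⟩)
  -- the normalizer is contained in the set stabiliser of the pair
  have hdpair : ∀ g ∈ Subgroup.normalizer (PG : Set G), g ∈ X ∨ g * w ∈ X := by
    intro g hg
    rcases pair_of_mem_normalizer hZ hab ⟨d, hdX, hd1, hPGX ((Subgroup.mem_normalizer_iff.mp hg d).mp hdPG)⟩ with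
      ⟨ha, hb⟩ | ⟨ha, hb⟩
    · exact Or.inl (mem_D.mpr ⟨ha, hb⟩)
    · exact Or.inr (mem_D.mpr ⟨by rw [mul_smul, hwa, hb], by rw [mul_smul, hwb, ha]⟩)
  -- it is a Sylow subgroup of `G`
  have hmaxX : ∀ R : Subgroup X, IsPGroup r R → (P : Subgroup X) ≤ R → R = P := fun R h1 h2 => P.is_maximal' h1 h2
  have hnoLarger : ∀ x ∈ X, x ∈ Subgroup.normalizer (PG : Set G) → (∃ k, x ^ r ^ k = 1) → x ∈ PG := by
    intro x hxX hxN ⟨k, hk⟩
    set xX : X := ⟨x, hxX⟩ with hxXdef
    have hxN' : xX ∈ Subgroup.normalizer ((P : Subgroup X) : Set X) := by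
      rw [Subgroup.mem_normalizer_iff]
      intro y
      have h := Subgroup.mem_normalizer_iff.mp hxN (y : G)
      rw [hPG] at h
      have h' : ∀ z : X, ((z : G) ∈ (P : Subgroup X).map X.subtype ↔ z ∈ (P : Subgroup X)) := fun z =>
        Subgroup.mem_map_iff_mem X.subtype_injective
      rw [← h' y, ← h' (xX * y * xX⁻¹)]
      exact h
    have hp' : IsPGroup r ↥(Subgroup.zpowers xX) := by
      intro y
      refine ⟨k, ?_⟩
      obtain ⟨i, hi⟩ := y.2
      apply Subtype.ext
      apply Subtype.ext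
      show ((y : X) : G) ^ r ^ k = 1
      rw [← hi]
      show (x ^ i) ^ r ^ k = 1
      rw [← zpow_natCast, zpow_comm, zpow_natCast, hk, one_zpow]
    have h1 : IsPGroup r ↥((P : Subgroup X) ⊔ Subgroup.zpowers xX) :=
      IsPGroup.to_sup_of_normal_left' P.isPGroup' hp' (Subgroup.zpowers_le.mpr hxN')
    have h2 := hmaxX _ h1 le_sup_left
    exact ⟨xX, h2 ▸ Subgroup.mem_sup_right (Subgroup.mem_zpowers _), rfl⟩
  obtain ⟨S, hS⟩ := hPGr.exists_le_sylow
  have hSP : (S : Subgroup G) = PG := by
    by_contra hne'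
    have hlt : PG < S := lt_of_le_of_ne hS (Ne.symm hne')
    have hnil : Group.IsNilpotent (S : Subgroup G) := S.isPGroup'.isNilpotent
    have hnc : NormalizerCondition (S : Subgroup G) := Group.normalizerCondition_of_isNilpotent
    have hlt' : PG.subgroupOf S < ⊤ := lt_top_iff_ne_top.mpr fun e =>
      hlt.not_ge (Subgroup.subgroupOf_eq_top.mp e)
    obtain ⟨g, hgN, hgP⟩ := SetLike.exists_of_lt (hnc _ hlt')
    have hgN' : (g : G) ∈ Subgroup.normalizer (PG : Set G) := by
      rw [Subgroup.mem_normalizer_iff]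
      intro y
      constructor
      · intro hy
        have := (Subgroup.mem_normalizer_iff.mp hgN ⟨y, hS hy⟩).mp (Subgroup.mem_subgroupOf.mpr hy)
        exact Subgroup.mem_subgroupOf.mp this
      · intro hy
        have hyS : y ∈ (S : Subgroup G) := by
          have := (S : Subgroup G).mul_mem ((S : Subgroup G).mul_mem (inv_mem g.2) (hS hy)) g.2
          simpa [mul_assoc] using this
        exact Subgroup.mem_subgroupOf.mp
          ((Subgroup.mem_normalizer_iff.mp hgN ⟨y, hyS⟩).mpr (Subgroup.mem_subgroupOf.mpr hy))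
    obtain ⟨k, hk⟩ := S.isPGroup' g
    have hk' : (g : G) ^ r ^ k = 1 := congrArg Subtype.val hk
    rcases hdpair _ hgN' with h | h
    · exact hgP (Subgroup.mem_subgroupOf.mpr (hnoLarger _ h hgN' ⟨k, hk'⟩))
    · have hsw : (g : G) • a = b := by
        obtain ⟨-, e⟩ := mem_D.mp h
        rwa [mul_smul, hwb] at e
      have hsw' : (g : G) • b = a := by
        obtain ⟨e, -⟩ := mem_D.mp h
        rwa [mul_smul, hwa] at e
      have hpow : ∀ m : ℕ, Odd m → (g : G) ^ m • a = b := by
        rintro m ⟨j, rfl⟩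
        rw [pow_succ', mul_smul]
        suffices e : (g : G) ^ (2 * j) • a = a by rw [e, hsw]
        induction j with
        | zero => simp
        | succ j ih => rw [show 2 * (j + 1) = 2 * j + 2 by ring, pow_add, pow_two, mul_smul, mul_smul, hsw, hsw', ih]
      have := hpow (r ^ k) ((hrp.out.odd_of_ne_two hr2).pow)
      rw [hk', one_smul] at this
      exact hab this
  -- transfer
  have hN : Subgroup.normalizer ((S : Subgroup G) : Set G) ≤ Subgroup.centralizer ((S : Subgroup G) : Set G) := by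
    rw [hSP]
    intro g hg
    have key : ∀ x ∈ X, x ∈ Subgroup.normalizer (PG : Set G) → x ∈ Subgroup.centralizer (PG : Set G) := by
      intro x hxX hxN
      set Y := X ⊓ Subgroup.normalizer (PG : Set G) with hY
      have hYodd : Odd (Nat.card Y) := hXodd.of_dvd_nat (Subgroup.card_dvd_of_le inf_le_left)
      have hwN : w ∈ Subgroup.normalizer (PG : Set G) := by
        rw [Subgroup.mem_normalizer_iff]
        intro y
        refine ⟨hPGw y, fun hy => ?_⟩
        have := hPGw _ hy
        simpa [inv_eq_of_mul_eq_one_right hww, ← mul_assoc, hww, mul_assoc _ w w] using this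
      have hnormY : ∀ x ∈ Y, w * x * w⁻¹ ∈ Y := fun x hx =>
        Subgroup.mem_inf.mpr ⟨conj_swap_D hZ hww hwa hwb x (Subgroup.mem_inf.mp hx).1,
          mul_mem (mul_mem hwN (Subgroup.mem_inf.mp hx).2) (inv_mem hwN)⟩
      obtain ⟨⟨c, i⟩, ⟨hc, hi, rfl⟩, -⟩ :=
        CfsgLib.RankOne.Inverted.decomp hYodd hnormY hww (Subgroup.mem_inf.mpr ⟨hxX, hxN⟩)
      obtain ⟨hcY, hcw⟩ := Subgroup.mem_inf.mp hc
      obtain ⟨hcX, hcN⟩ := Subgroup.mem_inf.mp hcY
      obtain ⟨hiX, hiN⟩ := Subgroup.mem_inf.mp hi.1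
      refine mul_mem ?_ ?_
      · -- the part centralised by `w` acts by automorphisms of order prime to `r (r - 1)`
        set σ : MulAut PG := PG.normalizerMonoidHom ⟨c, hcN⟩ with hσ
        have h1 : orderOf σ ∣ Nat.card C0 := by
          refine dvd_trans ?_ (C0.orderOf_dvd_natCard (Subgroup.mem_inf.mpr ⟨hcX, hcw⟩))
          rw [← Subgroup.orderOf_mk c hcN]
          exact orderOf_map_dvd _ _
        have h2 : orderOf σ ∣ Nat.totient (Nat.card PG) := by
          rw [← IsCyclic.card_mulAut]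
          exact orderOf_dvd_natCard σ
        obtain ⟨k, hk⟩ := hPGr.exists_card_eq
        have hk0 : 0 < k := Nat.pos_of_ne_zero fun e => by
          rw [e, pow_zero, Subgroup.card_eq_one] at hk
          exact hd1 (Subgroup.mem_bot.mp (hk ▸ hdPG))
        rw [hk, Nat.totient_prime_pow hrp.out hk0] at h2
        have h3 : (orderOf σ).Coprime (r - 1) := by
          refine Nat.coprime_of_dvd' fun q hq hqσ hqr => ?_
          exfalso
          have h4 : r ≤ q := Nat.minFac_le_of_dvd hq.two_le (hqσ.trans h1)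
          have h6 := hrp.out.two_le
          have h5 := Nat.le_of_dvd (by omega) hqr
          omega
        have h6 : orderOf σ ∣ r ^ (k - 1) := h3.dvd_of_dvd_mul_right h2
        obtain ⟨j, -, hj⟩ := (Nat.dvd_prime_pow hrp.out).mp h6
        obtain ⟨e, m, hm, hcm⟩ := Nat.exists_eq_pow_mul_and_not_dvd (orderOf_pos c).ne' r hrp.out.ne_one
        have hcpow : c ^ m ∈ PG := hnoLarger _ (pow_mem hcX m) (pow_mem hcN m)
          ⟨e, by rw [← pow_mul, mul_comm, ← hcm, pow_orderOf_eq_one]⟩
        have h7 : σ ^ m = 1 := by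
          rw [hσ, ← map_pow]
          apply MulEquiv.ext
          intro y
          apply Subtype.ext
          show c ^ m * (y : G) * (c ^ m)⁻¹ = y
          rw [hPGcomm _ hcpow _ y.2, mul_inv_cancel_right]
        have h8 : σ = 1 := orderOf_eq_one_iff.mp (Nat.eq_one_of_dvd_coprimes
          ((Nat.Coprime.pow_left j (hrp.out.coprime_iff_not_dvd.mpr hm))) (hj ▸ dvd_rfl)
          (orderOf_dvd_of_pow_eq_one h7))
        rw [Subgroup.mem_centralizer_iff]
        intro y hy
        have := congrArg (fun τ : MulAut PG => ((τ ⟨y, hy⟩ : PG) : G)) h8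
        simp only [hσ] at this
        have e2 : c * y * c⁻¹ = y := this
        rw [mul_inv_eq_iff_eq_mul] at e2
        exact e2.symm
      · -- an inverted element acts as its inverse
        rw [Subgroup.mem_centralizer_iff]
        intro y hy
        have hz : i * y * i⁻¹ ∈ PG := (Subgroup.mem_normalizer_iff.mp hiN y).mp hy
        have e1 : i * y * i⁻¹ = i⁻¹ * y * i := by
          have := hcentw _ hz
          rw [show w * (i * y * i⁻¹) * w⁻¹ = (w * i * w⁻¹) * (w * y * w⁻¹) * (w * i * w⁻¹)⁻¹ by group,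
            hi.2, hcentw y hy, inv_inv] at this
          exact this.symm
        have e2 : Commute (i ^ 2) y := by
          show i ^ 2 * y = y * i ^ 2
          calc i ^ 2 * y = i * (i * y * i⁻¹) * i := by rw [pow_two]; group
            _ = y * i ^ 2 := by rw [e1, pow_two]; group
        obtain ⟨j, hj⟩ := hXodd.of_dvd_nat (X.orderOf_dvd_natCard hiX)
        have hi2 : i = (i ^ 2) ^ (j + 1) := by
          rw [← pow_mul, show 2 * (j + 1) = orderOf i + 1 by rw [hj]; ring, pow_succ, pow_orderOf_eq_one, one_mul]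
        have := (e2.pow_left (j + 1)).eq
        rw [← hi2] at this
        exact this.symm
    rcases hdpair g hg with h | h
    · exact key g h hg
    · have hwc : w ∈ Subgroup.centralizer (PG : Set G) := by
        rw [Subgroup.mem_centralizer_iff]
        intro y hy
        have := hcentw y hy
        rw [mul_inv_eq_iff_eq_mul] at this
        exact this.symm
      have hwN : w ∈ Subgroup.normalizer (PG : Set G) := Subgroup.centralizer_le_normalizer _ hwc
      have := mul_mem (key (g * w) h (mul_mem hg hwN)) (inv_mem hwc)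
      simpa using this
  have hcompl := MonoidHom.ker_transferSylow_isComplement' S hN
  refine hno r hrp.out ((Nat.minFac_dvd _).trans (Subgroup.card_dvd_of_le inf_le_left))
    ⟨(MonoidHom.transferSylow S hN).ker, inferInstance, ?_⟩
  rw [hcompl.symm.index_eq_card, S.card_eq_multiplicity]

/-- An involution interchanging two points inverts their stabiliser, given the absence of normal complements. -/
theorem swap_inverts' {a b : Ω} (hab : a ≠ b) {w : G} (hww : w * w = 1) (hwa : w • a = b)
    (hwb : w • b = a)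
    (hno : ∀ q : ℕ, q.Prime → q ∣ Nat.card (D (G := G) a b) →
      ¬ ∃ N : Subgroup G, N.Normal ∧ N.index = q ^ (Nat.card G).factorization q) :
    ∀ x ∈ D (G := G) a b, w * x * w⁻¹ = x⁻¹ := by
  intro x hx
  obtain ⟨⟨c, i⟩, ⟨hc, hi, rfl⟩, -⟩ :=
    CfsgLib.RankOne.Inverted.decomp (hodd a b hab) (conj_swap_D hZ hww hwa hwb) hww hx
  rw [centralizer_swap_eq_bot' hZ hodd hab hww hwa hwb hno, Subgroup.mem_bot] at hc
  subst hc
  rw [one_mul]
  exact hi.2

variable [IsSimpleGroup G]

/-- The involution interchanging two points centralises no non-trivial element fixing both. -/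
theorem centralizer_swap_eq_bot {a b : Ω} (hab : a ≠ b) {w : G} (hww : w * w = 1) (hwa : w • a = b)
    (hwb : w • b = a) : D (G := G) a b ⊓ Subgroup.centralizer {w} = ⊥ :=
  centralizer_swap_eq_bot' hZ hodd hab hww hwa hwb fun q hq hqX ⟨N, hN, hidx⟩ => by
    haveI : Fact q.Prime := ⟨hq⟩
    rcases IsSimpleGroup.eq_bot_or_eq_top_of_normal N hN with rfl | rfl
    · rw [Subgroup.index_bot] at hidx
      have hw2 : orderOf w = 2 := orderOf_of_swap hZ hodd hab hww hwa
      have h2 : 2 ∣ q ^ (Nat.card G).factorization q := hidx ▸ hw2 ▸ orderOf_dvd_natCard w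
      have := (Nat.prime_dvd_prime_iff_eq Nat.prime_two hq).mp (Nat.prime_two.dvd_of_dvd_pow h2)
      exact (hodd a b hab).not_two_dvd_nat (this ▸ hqX)
    · rw [Subgroup.index_top] at hidx
      have h1 : q ∣ Nat.card G := hqX.trans (Subgroup.card_subgroup_dvd_card _)
      have := Nat.pow_eq_one.mp hidx.symm
      have h2 := hq.factorization_pos_of_dvd Nat.card_pos.ne' h1
      rcases this with e | e
      · exact hq.ne_one e
      · omega

/-- An involution interchanging two points inverts their stabiliser. -/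
theorem swap_inverts {a b : Ω} (hab : a ≠ b) {w : G} (hww : w * w = 1) (hwa : w • a = b)
    (hwb : w • b = a) : ∀ x ∈ D (G := G) a b, w * x * w⁻¹ = x⁻¹ := by
  intro x hx
  obtain ⟨⟨c, i⟩, ⟨hc, hi, rfl⟩, -⟩ :=
    CfsgLib.RankOne.Inverted.decomp (hodd a b hab) (conj_swap_D hZ hww hwa hwb) hww hx
  rw [centralizer_swap_eq_bot hZ hodd hab hww hwa hwb, Subgroup.mem_bot] at hc
  subst hc
  rw [one_mul]
  exact hi.2

theorem D_comm {a b : Ω} (hab : a ≠ b) : ∀ x ∈ D (G := G) a b, ∀ y ∈ D (G := G) a b, x * y = y * x := by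
  intro x hx y hy
  obtain ⟨w, hww, hwa, hwb⟩ := exists_swap hZ hodd hab
  have h := swap_inverts hZ hodd hab hww hwa hwb
  have := h _ (mul_mem hx hy)
  rw [show w * (x * y) * w⁻¹ = w * x * w⁻¹ * (w * y * w⁻¹) by group, h x hx, h y hy, mul_inv_rev] at this
  calc x * y = (y⁻¹ * x⁻¹)⁻¹ := by group
    _ = (x⁻¹ * y⁻¹)⁻¹ := by rw [this]
    _ = y * x := by group

/-- The involutions interchanging two given points correspond to their stabiliser. -/
theorem card_swap_invol {c d : Ω} (hcd : c ≠ d) :
    Nat.card {z : G // orderOf z = 2 ∧ z • c = d} = Nat.card (D (G := G) c d) := by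
  obtain ⟨w, hww, hwc, hwd⟩ := exists_swap hZ hodd hcd
  have hinv := swap_inverts hZ hodd hcd hww hwc hwd
  refine (Nat.card_congr (Equiv.ofBijective
    (fun x : D (G := G) c d => (⟨w * x, ?_, ?_⟩ : {z : G // orderOf z = 2 ∧ z • c = d})) ⟨?_, ?_⟩)).symm
  · refine orderOf_eq_prime ?_ fun e => hcd ?_
    · rw [pow_two, show w * (x : G) * (w * x) = (w * x * w⁻¹) * (w * w) * x by group, hinv x x.2, hww]
      group
    · have h1 : (w * (x : G)) • c = d := by rw [mul_smul, (mem_D.mp x.2).1, hwc]
      rw [← h1, e, one_smul]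
  · rw [mul_smul, (mem_D.mp x.2).1, hwc]
  · intro x y e
    exact Subtype.ext (mul_left_cancel (congrArg Subtype.val e))
  · rintro ⟨z, hz, hzc⟩
    have hzz : z * z = 1 := by rw [← pow_two, ← hz, pow_orderOf_eq_one]
    have hzd : z • d = c := by rw [← hzc, ← mul_smul, hzz, one_smul]
    refine ⟨⟨w * z, mem_D.mpr ⟨by rw [mul_smul, hzc, hwd], by rw [mul_smul, hzd, hwc]⟩⟩, Subtype.ext ?_⟩
    show w * (w * z) = z
    rw [← mul_assoc, hww, one_mul]

omit [IsSimpleGroup G]

variable {h e : ℕ} (hn : Fintype.card Ω = h + 1)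
  (he : ∀ c d : Ω, c ≠ d → Nat.card (D (G := G) c d) = e)

section Count

variable [DecidableEq Ω]

/-- The points fixed by an element. -/
noncomputable abbrev fixSet (g : G) : Finset Ω := Finset.univ.filter fun c => g • c = c

omit hZ hodd in
theorem mem_fixSet {g : G} {c : Ω} : c ∈ fixSet g ↔ g • c = c := by simp [fixSet]

omit hodd in
theorem card_fixSet_le {g : G} (hg : g ≠ 1) : (fixSet (Ω := Ω) g).card ≤ 2 := by
  classical
  by_contra hc
  obtain ⟨a, b, c, ha, hb, hc', hab, hac, hbc⟩ := Finset.two_lt_card_iff.mp (not_le.mp hc)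
  exact hg (eq_one_of_three hZ hab hbc hac (mem_fixSet.mp ha) (mem_fixSet.mp hb) (mem_fixSet.mp hc'))

include hn he

omit hodd in
theorem card_G (hab : ∃ a b : Ω, a ≠ b) : Nat.card G = (h + 1) * h * e := by
  obtain ⟨a, b, hab⟩ := hab
  rw [card_group hZ hab, hn, he a b hab, Nat.add_sub_cancel]

omit hn he hodd in
theorem exists_pair : ∃ a b : Ω, a ≠ b := by
  obtain ⟨g, -, a, b, hab, -⟩ := hZ.2.2.2.1
  exact ⟨a, b, hab⟩

omit hodd in
/-- Twice the number of fixed-point-free elements. -/
theorem two_mul_card_free [Fintype G] [DecidableEq G] :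
    2 * ((Finset.univ : Finset G).filter fun g => fixSet (Ω := Ω) g = ∅).card + h ^ 2 =
      (h + 1) * h * e + h := by
  classical
  have hG : Fintype.card G = (h + 1) * h * e := by
    rw [← Nat.card_eq_fintype_card]; exact card_G hZ hn he (exists_pair hZ)
  have h1 : ∑ g : G, (fixSet (Ω := Ω) g).card = (h + 1) * h * e := by
    obtain ⟨a, b, hab⟩ := exists_pair hZ
    have hstab : ∀ c : Ω, (Finset.univ.filter fun g : G => g • c = c).card = h * e := by
      intro c
      haveI := hZ.2.1
      haveI : IsPretransitive G Ω := isPretransitive_of_is_two_pretransitive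
      have e1 := Subgroup.card_mul_index (stabilizer G c)
      rw [index_stabilizer_of_transitive G c, Nat.card_eq_fintype_card (α := Ω), hn, card_G hZ hn he ⟨a, b, hab⟩] at e1
      rw [← Fintype.card_subtype, ← Nat.card_eq_fintype_card]
      refine Nat.eq_of_mul_eq_mul_right (Nat.succ_pos h) ?_
      calc Nat.card {g : G // g • c = c} * (h + 1) = Nat.card (stabilizer G c) * (h + 1) := rfl
        _ = _ := by rw [e1, Nat.succ_eq_add_one]; ring
    have := Finset.sum_card_bipartiteAbove_eq_sum_card_bipartiteBelow (s := (Finset.univ : Finset G))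
      (t := (Finset.univ : Finset Ω)) (fun g c => g • c = c)
    simp only [Finset.bipartiteAbove, Finset.bipartiteBelow] at this
    rw [this, Finset.sum_congr rfl fun c _ => hstab c, Finset.sum_const, Finset.card_univ, hn, smul_eq_mul]
    ring
  have h2 : ∑ g : G, (fixSet (Ω := Ω) g).offDiag.card = (h + 1) * h * e := by
    have := Finset.sum_card_bipartiteAbove_eq_sum_card_bipartiteBelow (s := (Finset.univ : Finset G))
      (t := (Finset.univ : Finset Ω).offDiag) (fun g q => g • q.1 = q.1 ∧ g • q.2 = q.2)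
    simp only [Finset.bipartiteAbove, Finset.bipartiteBelow] at this
    have e1 : ∀ g : G, (fixSet (Ω := Ω) g).offDiag =
        (Finset.univ : Finset Ω).offDiag.filter fun q => g • q.1 = q.1 ∧ g • q.2 = q.2 := fun g => by
      ext q; simp [fixSet, and_assoc, and_left_comm, and_comm]
    rw [Finset.sum_congr rfl fun g _ => congrArg Finset.card (e1 g), this]
    have e2 : ∀ q ∈ (Finset.univ : Finset Ω).offDiag,
        (Finset.univ.filter fun g : G => g • q.1 = q.1 ∧ g • q.2 = q.2).card = e := fun q hq => by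
      rw [← he q.1 q.2 (Finset.mem_offDiag.mp hq).2.2, ← Fintype.card_subtype, ← Nat.card_eq_fintype_card]
      exact Nat.card_congr (Equiv.subtypeEquivRight fun g => mem_D.symm)
    rw [Finset.sum_congr rfl e2, Finset.sum_const, Finset.offDiag_card, Finset.card_univ, hn, smul_eq_mul,
      show (h + 1) * (h + 1) - (h + 1) = (h + 1) * h by rw [Nat.mul_succ, Nat.add_sub_cancel]]
  have key : ∀ g ∈ (Finset.univ : Finset G).erase 1,
      2 * (if fixSet (Ω := Ω) g = ∅ then 1 else 0) + 2 * (fixSet (Ω := Ω) g).card =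
        2 + (fixSet (Ω := Ω) g).offDiag.card := by
    intro g hg
    have := card_fixSet_le (Ω := Ω) hZ (Finset.ne_of_mem_erase hg)
    rw [Finset.offDiag_card]
    by_cases h0 : fixSet (Ω := Ω) g = ∅
    · rw [if_pos h0, h0]; simp
    · rw [if_neg h0]
      have hpos := Finset.card_pos.mpr (Finset.nonempty_iff_ne_empty.mpr h0)
      interval_cases (fixSet (Ω := Ω) g).card <;> rfl
  have hone : fixSet (Ω := Ω) (1 : G) = Finset.univ := by ext c; simp [fixSet]
  have s1 := Finset.add_sum_erase Finset.univ (fun g : G => (fixSet (Ω := Ω) g).card) (Finset.mem_univ (1 : G))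
  have s2 := Finset.add_sum_erase Finset.univ (fun g : G => (fixSet (Ω := Ω) g).offDiag.card) (Finset.mem_univ (1 : G))
  have s3 := Finset.add_sum_erase Finset.univ (fun g : G => if fixSet (Ω := Ω) g = ∅ then 1 else 0) (Finset.mem_univ (1 : G))
  have s4 := Finset.sum_congr rfl key
  rw [Finset.sum_add_distrib, Finset.sum_add_distrib, ← Finset.mul_sum, ← Finset.mul_sum, Finset.sum_const,
    Finset.card_erase_of_mem (Finset.mem_univ _), Finset.card_univ, hG, smul_eq_mul] at s4
  rw [hone, Finset.card_univ, hn, h1] at s1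
  rw [hone, Finset.offDiag_card, Finset.card_univ, hn, h2, Nat.mul_succ, Nat.add_sub_cancel] at s2
  rw [hone, if_neg (Finset.card_pos.mp (by rw [Finset.card_univ, hn]; omega) : (Finset.univ : Finset Ω).Nonempty).ne_empty,
    zero_add] at s3
  rw [Finset.card_filter, ← s3]
  set M := (h + 1) * h * e
  have hMpos : 1 ≤ M := hG ▸ Fintype.card_pos
  have hsq : (h + 1) * h = h ^ 2 + h := by ring
  omega

/-- The involutions. -/
noncomputable abbrev invs (G : Type*) [Group G] [Fintype G] [DecidableEq G] : Finset G :=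
  Finset.univ.filter fun z => orderOf z = 2

theorem card_fixSet_invol {z : G} (hz : orderOf z = 2) : (fixSet (Ω := Ω) z).card = (h + 1) % 2 := by
  classical
  have hle : (fixSet (Ω := Ω) z).card ≤ 1 := Finset.card_le_one.mpr fun c hc d hd =>
    no_two_fix hZ hodd hz (mem_fixSet.mp hc) (mem_fixSet.mp hd)
  have hzz : ∀ c : Ω, z • z • c = c := fun c => by
    rw [← mul_smul, show z * z = 1 by rw [← pow_two, ← hz, pow_orderOf_eq_one], one_smul]
  have hm := Equiv.Perm.card_fixedPoints_modEq (α := Ω) (f := fun c => z • c) (p := 2) (n := 1)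
    (by funext c; exact hzz c)
  rw [hn] at hm
  have : Fintype.card ↑(Function.fixedPoints fun c : Ω => z • c) = (fixSet (Ω := Ω) z).card := by
    rw [← Nat.card_eq_fintype_card, ← Fintype.card_subtype, ← Nat.card_eq_fintype_card]
    rfl
  rw [this, Nat.ModEq] at hm
  omega

variable [IsSimpleGroup G]

theorem card_swaps [Fintype G] [DecidableEq G] {c d : Ω} (hcd : c ≠ d) :
    ((invs G).filter fun z => z • c = d).card = e := by
  rw [← he c d hcd, ← card_swap_invol hZ hodd hcd, Nat.card_eq_fintype_card, Fintype.card_subtype, Finset.filter_filter]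

theorem card_moving [Fintype G] [DecidableEq G] (c : Ω) :
    ((invs G).filter fun z => z • c ≠ c).card = h * e := by
  rw [Finset.card_eq_sum_card_fiberwise (f := fun z => z • c) (t := Finset.univ.erase c) (fun z hz =>
    Finset.mem_erase.mpr ⟨(Finset.mem_filter.mp hz).2, Finset.mem_univ _⟩)]
  have e1 : ∀ d ∈ Finset.univ.erase c, (((invs G).filter fun z => z • c ≠ c).filter fun z => z • c = d).card = e := by
    intro d hd
    rw [← card_swaps hZ hodd hn he (Ne.symm (Finset.ne_of_mem_erase hd)), Finset.filter_filter]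
    refine congrArg Finset.card (Finset.filter_congr fun z _ => ⟨fun h => h.2, fun h => ⟨?_, h⟩⟩)
    rw [h]; exact Finset.ne_of_mem_erase hd
  rw [Finset.sum_congr rfl e1, Finset.sum_const, Finset.card_erase_of_mem (Finset.mem_univ _), Finset.card_univ,
    hn, Nat.add_sub_cancel, smul_eq_mul]

theorem card_invs [Fintype G] [DecidableEq G] :
    (invs G).card = if Even h then e * (h + 1) else e * h := by
  classical
  obtain ⟨a, b, hab⟩ := exists_pair hZ
  have h1 : ∑ z ∈ invs G, (Finset.univ.filter fun c : Ω => z • c ≠ c).card = (h + 1) * (h * e) := by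
    have := Finset.sum_card_bipartiteAbove_eq_sum_card_bipartiteBelow (s := invs G)
      (t := (Finset.univ : Finset Ω)) (fun z c => z • c ≠ c)
    simp only [Finset.bipartiteAbove, Finset.bipartiteBelow] at this
    rw [this, Finset.sum_congr rfl fun c _ => card_moving hZ hodd hn he c, Finset.sum_const, Finset.card_univ,
      hn, smul_eq_mul]
  have h2 : ∀ z ∈ invs G, (Finset.univ.filter fun c : Ω => z • c ≠ c).card = h + 1 - (h + 1) % 2 := by
    intro z hz
    have e1 := Finset.card_filter_add_card_filter_not (s := (Finset.univ : Finset Ω)) (fun c => z • c = c)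
    rw [Finset.card_univ, hn] at e1
    have e2 := card_fixSet_invol hZ hodd hn he (Finset.mem_filter.mp hz).2
    simp only [fixSet, ne_eq] at e1 e2 ⊢
    omega
  rw [Finset.sum_congr rfl h2, Finset.sum_const, smul_eq_mul] at h1
  have hh : 1 < h + 1 := hn ▸ Fintype.one_lt_card_iff.mpr ⟨a, b, hab⟩
  rcases Nat.even_or_odd h with hev | hod
  · rw [if_pos hev]
    obtain ⟨m, hm⟩ := hev
    rw [show (h + 1) % 2 = 1 by omega, Nat.add_sub_cancel] at h1
    exact Nat.eq_of_mul_eq_mul_right (show 0 < h by omega) (h1.trans (by ring))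
  · rw [if_neg (Nat.not_even_iff_odd.mpr hod)]
    obtain ⟨m, hm⟩ := hod
    rw [show (h + 1) % 2 = 0 by omega, Nat.sub_zero] at h1
    exact Nat.eq_of_mul_eq_mul_right (show 0 < h + 1 by omega) (h1.trans (by ring))

omit hn he in
theorem centralizer_inf_stab {z : G} (hz : orderOf z = 2) {d : Ω} (hd : z • d ≠ d) {g : G}
    (hg : g ∈ Subgroup.centralizer ({z} : Set G)) (hgd : g • d = d) : g = 1 := by
  have hzz : z * z = 1 := by rw [← pow_two, ← hz, pow_orderOf_eq_one]
  have hgz : g • z • d = z • d := by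
    rw [← mul_smul, Subgroup.mem_centralizer_singleton_iff.mp hg, mul_smul, hgd]
  have h1 : g ∈ D d (z • d) ⊓ Subgroup.centralizer ({z} : Set G) := ⟨mem_D.mpr ⟨hgd, hgz⟩, hg⟩
  rw [centralizer_swap_eq_bot hZ hodd (Ne.symm hd) hzz rfl (by rw [← mul_smul, hzz, one_smul])] at h1
  exact h1

theorem card_centralizer_le {z : G} (hz : orderOf z = 2) :
    Nat.card (Subgroup.centralizer ({z} : Set G)) ≤ if Even h then h else h + 1 := by
  classical
  set M := Finset.univ.filter fun c : Ω => z • c ≠ c with hM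
  have hMc : M.card + (h + 1) % 2 = h + 1 := by
    have e1 := Finset.card_filter_add_card_filter_not (s := (Finset.univ : Finset Ω)) (fun c => z • c = c)
    rw [Finset.card_univ, hn] at e1
    have e2 := card_fixSet_invol hZ hodd hn he hz
    simp only [fixSet] at e2
    simp only [hM, ne_eq]
    omega
  obtain ⟨a, b, hab⟩ := exists_pair hZ
  have hh : 1 < h + 1 := hn ▸ Fintype.one_lt_card_iff.mpr ⟨a, b, hab⟩
  obtain ⟨d, hd⟩ := Finset.card_pos.mp (show 0 < M.card by omega)
  have hd' : z • d ≠ d := (Finset.mem_filter.mp hd).2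
  have hle : Nat.card (Subgroup.centralizer ({z} : Set G)) ≤ M.card := by
    rw [← Nat.card_eq_finsetCard]
    refine Nat.card_le_card_of_injective (fun g => ⟨(g : G) • d, Finset.mem_filter.mpr ⟨Finset.mem_univ _, ?_⟩⟩)
      fun g g' hgg => ?_
    · intro hfix
      apply hd'
      refine MulAction.injective (g : G) ?_
      show (g : G) • z • d = (g : G) • d
      rw [← mul_smul, Subgroup.mem_centralizer_singleton_iff.mp g.2, mul_smul, hfix]
    · have h1 : (g' : G)⁻¹ * g = 1 := centralizer_inf_stab hZ hodd hz hd' (mul_mem (inv_mem g'.2) g.2)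
        (by rw [mul_smul, show (g : G) • d = (g' : G) • d from congrArg Subtype.val hgg, inv_smul_smul])
      exact Subtype.ext (inv_mul_eq_one.mp h1).symm
  rcases Nat.even_or_odd h with hev | hod
  · rw [if_pos hev]; obtain ⟨m, hm⟩ := hev; omega
  · rw [if_neg (Nat.not_even_iff_odd.mpr hod)]; obtain ⟨m, hm⟩ := hod; omega

/-- There is one class of involutions. -/
theorem invol_class [Fintype G] [DecidableEq G] {z : G} (hz : orderOf z = 2) :
    (∀ x : G, orderOf x = 2 → IsConj z x) ∧
      (Even h → Nat.card (Subgroup.centralizer ({z} : Set G)) = h) := by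
  classical
  set K := Finset.univ.filter fun x : G => IsConj z x with hK
  have hKsub : K ⊆ invs G := fun x hx => by
    obtain ⟨c, rfl⟩ := isConj_iff.mp (Finset.mem_filter.mp hx).2
    refine Finset.mem_filter.mpr ⟨Finset.mem_univ _, ?_⟩
    rw [← MulAut.conj_apply, MulEquiv.orderOf_eq, hz]
  have hKC : K.card * Nat.card (Subgroup.centralizer ({z} : Set G)) = (h + 1) * h * e := by
    rw [← card_G hZ hn he (exists_pair hZ), ← CfsgLib.CharTheory.card_isConj_mul_card_centralizer z]
    congr 1
    rw [Nat.card_eq_fintype_card, Fintype.card_subtype]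
  have hle := card_centralizer_le hZ hodd hn he hz
  have hT := card_invs (G := G) hZ hodd hn he
  obtain ⟨a, b, hab⟩ := exists_pair hZ
  have hh : 1 < h + 1 := hn ▸ Fintype.one_lt_card_iff.mpr ⟨a, b, hab⟩
  have hTK : (invs G).card ≤ K.card := by
    rcases Nat.even_or_odd h with hev | hod
    · rw [if_pos hev] at hle hT
      refine Nat.le_of_mul_le_mul_right ?_ (show 0 < h by omega)
      calc (invs G).card * h = (h + 1) * h * e := by rw [hT]; ring
        _ = _ := hKC.symm
        _ ≤ _ := Nat.mul_le_mul_left _ hle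
    · rw [if_neg (Nat.not_even_iff_odd.mpr hod)] at hle hT
      refine Nat.le_of_mul_le_mul_right ?_ (show 0 < h + 1 by omega)
      calc (invs G).card * (h + 1) = (h + 1) * h * e := by rw [hT]; ring
        _ = _ := hKC.symm
        _ ≤ _ := Nat.mul_le_mul_left _ hle
  have heq := Finset.eq_of_subset_of_card_le hKsub hTK
  refine ⟨fun x hx => ?_, fun hev => ?_⟩
  · have : x ∈ K := heq ▸ Finset.mem_filter.mpr ⟨Finset.mem_univ _, hx⟩
    exact (Finset.mem_filter.mp this).2
  · rw [heq, hT, if_pos hev] at hKC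
    have hpos : 0 < e * (h + 1) := by
      refine Nat.mul_pos ?_ (by omega)
      rw [← he a b hab]
      exact Nat.card_pos
    exact Nat.eq_of_mul_eq_mul_left hpos (hKC.trans (by ring))

/-- An element of the regular subgroup inverted by an involution is an involution. -/
theorem strongly_real_kernel (a : Ω) {H : Subgroup G} (hHa : H ≤ stabilizer G a)
    (hHcard : Nat.card H + 1 = Fintype.card Ω) (hHfix : ∀ u ∈ H, u ≠ 1 → ∀ c : Ω, u • c = c → c = a)
    {u : G} (hu : u ∈ H) (hu1 : u ≠ 1) {x y : G} (hx : orderOf x = 2) (hy : orderOf y = 2) (hxy : x * y = u) :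
    orderOf u = 2 := by
  classical
  letI := Fintype.ofFinite G
  have hua : u • a = a := mem_stabilizer_iff.mp (hHa hu)
  have hxx : x * x = 1 := by rw [← pow_two, ← hx, pow_orderOf_eq_one]
  have hyy : y * y = 1 := by rw [← pow_two, ← hy, pow_orderOf_eq_one]
  have hinv : x * u * x = u⁻¹ := by
    rw [← hxy, mul_inv_rev, inv_eq_of_mul_eq_one_right hxx, inv_eq_of_mul_eq_one_right hyy, ← mul_assoc, hxx, one_mul]
  have hxa : x • a = a := by
    refine hHfix u⁻¹ (inv_mem hu) (inv_ne_one.mpr hu1) _ ?_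
    rw [← hinv, mul_smul, mul_smul, ← mul_smul x x, hxx, one_smul, hua]
  have hev : Even h := by
    have h1 := card_fixSet_invol hZ hodd hn he hx
    have h2 : 0 < (fixSet (Ω := Ω) x).card := Finset.card_pos.mpr ⟨a, mem_fixSet.mpr hxa⟩
    rw [Nat.even_iff]
    omega
  have hsub : (Subgroup.centralizer ({x} : Set G) : Set G) ⊆ H := by
    intro g hg
    have hga : g • a = a := by
      refine no_two_fix hZ hodd hx ?_ hxa
      rw [← mul_smul, ← Subgroup.mem_centralizer_singleton_iff.mp hg, mul_smul, hxa]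
    refine (regular_normal hZ a hHa hHcard hHfix (mem_stabilizer_iff.mpr hga)).mpr ?_
    by_cases hg1 : g = 1
    · exact Or.inl hg1
    refine Or.inr fun c hc hgc => hg1 ?_
    exact centralizer_inf_stab hZ hodd hx (fun e1 => hc (no_two_fix hZ hodd hx e1 hxa)) hg hgc
  have hEq : (Subgroup.centralizer ({x} : Set G) : Set G) = H := by
    refine Set.eq_of_subset_of_ncard_le hsub ?_ (Set.toFinite _)
    rw [← Nat.card_coe_set_eq, ← Nat.card_coe_set_eq]
    show Nat.card H ≤ Nat.card (Subgroup.centralizer ({x} : Set G))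
    rw [(invol_class hZ hodd hn he hx).2 hev]
    omega
  have hux : u * x = x * u := Subgroup.mem_centralizer_singleton_iff.mp (hEq.symm ▸ hu : u ∈ (Subgroup.centralizer ({x} : Set G) : Set G))
  have h2 : u * u = 1 := by
    rw [mul_eq_one_iff_eq_inv, ← hinv, ← hux, mul_assoc, hxx, mul_one]
  exact orderOf_eq_prime (by rw [pow_two]; exact h2) hu1

/-- Lower bound for the number of classes of fixed-point-free elements. -/
theorem free_classes [Fintype G] [DecidableEq G] [Fintype (ConjClasses G)] [DecidableEq (ConjClasses G)]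
    (hlt : e + 1 < h + 1) :
    e + 1 ≤ 2 * (((Finset.univ : Finset G).filter fun g => fixSet (Ω := Ω) g = ∅).image ConjClasses.mk).card := by
  classical
  set F := (Finset.univ : Finset G).filter fun g => fixSet (Ω := Ω) g = ∅ with hF
  set T := (invs G).card with hT'
  set P := (invs G ×ˢ invs G).filter fun q => fixSet (Ω := Ω) (q.2 * q.1) = ∅ with hP
  set Qs := (invs G).offDiag.filter fun q => ∃ c : Ω, q.1 • c = q.2 • c with hQ
  have hzz : ∀ z ∈ invs G, z * z = 1 := fun z hz => by
    rw [← pow_two, ← (Finset.mem_filter.mp hz).2, pow_orderOf_eq_one]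
  have hfix_iff : ∀ x y : G, y ∈ invs G → ∀ c : Ω, (c ∈ fixSet (y * x) ↔ x • c = y • c) := by
    intro x y hy c
    rw [mem_fixSet, mul_smul]
    constructor
    · intro h1
      rw [← h1, ← mul_smul y y, hzz y hy, one_smul, ← mul_smul, mul_smul, h1]
    · intro h1
      rw [h1, ← mul_smul, hzz y hy, one_smul]
  -- the splitting of pairs
  have hsplit : P.card + Qs.card + T = T * T := by
    have e1 : P = (invs G).offDiag.filter fun q => ¬ ∃ c : Ω, q.1 • c = q.2 • c := by
      ext ⟨x, y⟩
      simp only [hP, Finset.mem_filter, Finset.mem_product, Finset.mem_offDiag]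
      constructor
      · rintro ⟨⟨hx, hy⟩, h0⟩
        have hno : ∀ c : Ω, x • c ≠ y • c := fun c e1 => Finset.notMem_empty c (h0 ▸ (hfix_iff x y (Finset.mem_filter.mpr hy) c).mpr e1)
        refine ⟨⟨hx, hy, fun hxy => ?_⟩, fun ⟨c, hc⟩ => hno c hc⟩
        obtain ⟨a, -⟩ := exists_pair hZ
        exact hno a (by rw [hxy])
      · rintro ⟨⟨hx, hy, -⟩, h0⟩
        exact ⟨⟨hx, hy⟩, Finset.eq_empty_of_forall_notMem fun c hc => h0 ⟨c, (hfix_iff x y (Finset.mem_filter.mpr hy) c).mp hc⟩⟩
    rw [e1, hQ, add_comm ((Finset.filter _ _).card), Finset.card_filter_add_card_filter_not, Finset.offDiag_card,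
      Nat.sub_add_cancel (Nat.le_mul_self T)]
  -- the pairs agreeing somewhere
  have hper : ∀ q ∈ Qs, ((Finset.univ.filter fun c : Ω => q.1 • c = q.2 • c ∧ q.1 • c ≠ c).card) +
      2 * ((Finset.univ.filter fun c : Ω => q.1 • c = q.2 • c ∧ q.1 • c = c).card) = 2 := by
    rintro ⟨x, y⟩ hq
    obtain ⟨hxy, c, hc⟩ := Finset.mem_filter.mp hq
    obtain ⟨hx, hy, hne⟩ := Finset.mem_offDiag.mp hxy
    have hg1 : y * x ≠ 1 := fun e1 => hne (by
      calc x = (y * y) * x := by rw [hzz y hy, one_mul]
        _ = y * (y * x) := mul_assoc _ _ _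
        _ = y := by rw [e1, mul_one])
    have hle := card_fixSet_le (Ω := Ω) hZ hg1
    have hx2 := (Finset.mem_filter.mp hx).2
    have hmove : ∀ d : Ω, x • d = y • d → x • (x • d) = y • (x • d) := fun d hd => by
      rw [← mul_smul, hzz x hx, one_smul, hd, ← mul_smul, hzz y hy, one_smul]
    have hsum : (Finset.univ.filter fun d : Ω => x • d = y • d ∧ x • d ≠ d).card +
        (Finset.univ.filter fun d : Ω => x • d = y • d ∧ x • d = d).card = (fixSet (Ω := Ω) (y * x)).card := by
      rw [← Finset.filter_filter, ← Finset.filter_filter, add_comm, Finset.card_filter_add_card_filter_not]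
      refine congrArg Finset.card (Finset.ext fun d => ?_)
      rw [hfix_iff x y hy d]
      simp
    have hfix1 : (Finset.univ.filter fun d : Ω => x • d = y • d ∧ x • d = d).card ≤ 1 :=
      Finset.card_le_one.mpr fun d hd d' hd' => no_two_fix hZ hodd hx2 (Finset.mem_filter.mp hd).2.2 (Finset.mem_filter.mp hd').2.2
    show (Finset.univ.filter fun d : Ω => x • d = y • d ∧ x • d ≠ d).card +
      2 * (Finset.univ.filter fun d : Ω => x • d = y • d ∧ x • d = d).card = 2
    rcases Nat.le_one_iff_eq_zero_or_eq_one.mp hfix1 with h0 | h1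
    · have hcm : x • c ≠ c := fun e1 => by
        have := Finset.card_eq_zero.mp h0
        exact Finset.notMem_empty c (this ▸ Finset.mem_filter.mpr ⟨Finset.mem_univ _, hc, e1⟩)
      have : 1 < (fixSet (Ω := Ω) (y * x)).card := Finset.one_lt_card.mpr ⟨_, (hfix_iff x y hy _).mpr (hmove c hc), c, (hfix_iff x y hy _).mpr hc, hcm⟩
      omega
    · suffices hz : (Finset.univ.filter fun d : Ω => x • d = y • d ∧ x • d ≠ d).card = 0 by omega
      obtain ⟨d₀, hd₀⟩ := Finset.card_pos.mp (show 0 < (Finset.univ.filter fun d : Ω => x • d = y • d ∧ x • d = d).card by omega)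
      obtain ⟨-, hd₀1, hd₀2⟩ := Finset.mem_filter.mp hd₀
      refine Finset.card_eq_zero.mpr (Finset.eq_empty_of_forall_notMem fun d hd => ?_)
      obtain ⟨-, hd1, hd2⟩ := Finset.mem_filter.mp hd
      have hdd : d ≠ d₀ := fun e1 => hd2 (e1 ▸ hd₀2)
      rcases eq_of_two_fix hZ hg1 hdd (mem_fixSet.mp ((hfix_iff x y hy d).mpr hd1))
        (mem_fixSet.mp ((hfix_iff x y hy d₀).mpr hd₀1)) (mem_fixSet.mp ((hfix_iff x y hy _).mpr (hmove d hd1))) with e1 | e1
      · exact hd2 e1
      · exact hdd (MulAction.injective x (e1.trans hd₀2.symm))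
  have hQcount : 2 * Qs.card = (h + 1) * (h * (e * e - e)) + 2 * ((h + 1) * ((T - h * e) * (T - h * e) - (T - h * e))) := by
    have s0 : ∑ q ∈ Qs, 2 = 2 * Qs.card := by rw [Finset.sum_const, smul_eq_mul, mul_comm]
    rw [← s0, ← Finset.sum_congr rfl hper, Finset.sum_add_distrib, ← Finset.mul_sum]
    have swap : ∀ (R : G × G → Ω → Prop) [∀ q, DecidablePred (R q)], (∀ q c, R q c → q.1 • c = q.2 • c) →
        ∑ q ∈ Qs, (Finset.univ.filter (R q)).card = ∑ c : Ω, ((invs G).offDiag.filter fun q => R q c).card := by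
      intro R _ hR
      have := Finset.sum_card_bipartiteAbove_eq_sum_card_bipartiteBelow (s := Qs) (t := (Finset.univ : Finset Ω)) R
      simp only [Finset.bipartiteAbove, Finset.bipartiteBelow] at this
      rw [this]
      refine Finset.sum_congr rfl fun c _ => congrArg Finset.card (Finset.ext fun q => ?_)
      simp only [hQ, Finset.mem_filter]
      exact ⟨fun h => ⟨h.1.1, h.2⟩, fun h => ⟨⟨h.1, c, hR q c h.2⟩, h.2⟩⟩
    rw [swap (fun q c => q.1 • c = q.2 • c ∧ q.1 • c ≠ c) (fun q c h => h.1),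
      swap (fun q c => q.1 • c = q.2 • c ∧ q.1 • c = c) (fun q c h => h.1)]
    congr 1
    · rw [Finset.sum_congr rfl (g := fun _ => h * (e * e - e)) fun c _ => ?_, Finset.sum_const, Finset.card_univ, hn, smul_eq_mul]
      rw [Finset.card_eq_sum_card_fiberwise (f := fun q => q.1 • c) (t := Finset.univ.erase c) (fun q hq =>
        Finset.mem_erase.mpr ⟨(Finset.mem_filter.mp hq).2.2, Finset.mem_univ _⟩),
        Finset.sum_congr rfl (g := fun _ => e * e - e) fun d hd => ?_, Finset.sum_const,
        Finset.card_erase_of_mem (Finset.mem_univ _), Finset.card_univ, hn, Nat.add_sub_cancel, smul_eq_mul]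
      have hdc := Finset.ne_of_mem_erase hd
      rw [← card_swaps hZ hodd hn he (Ne.symm hdc), ← Finset.offDiag_card]
      refine congrArg Finset.card (Finset.ext fun q => ?_)
      simp only [Finset.mem_filter, Finset.mem_offDiag]
      constructor
      · rintro ⟨⟨⟨hx, hy, hne⟩, h1, h2⟩, h3⟩
        exact ⟨⟨hx, h3⟩, ⟨hy, h1 ▸ h3⟩, hne⟩
      · rintro ⟨⟨hx, h1⟩, ⟨hy, h2⟩, hne⟩
        exact ⟨⟨⟨hx, hy, hne⟩, h1.trans h2.symm, fun e1 => hdc (h1.symm.trans e1)⟩, h1⟩
    · congr 1
      rw [Finset.sum_congr rfl (g := fun _ => (T - h * e) * (T - h * e) - (T - h * e)) fun c _ => ?_,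
        Finset.sum_const, Finset.card_univ, hn, smul_eq_mul]
      have e2 : ((invs G).filter fun z => z • c = c).card = T - h * e := by
        have := Finset.card_filter_add_card_filter_not (s := invs G) (fun z => z • c = c)
        have e3 := card_moving hZ hodd hn he c (G := G)
        simp only [ne_eq] at e3
        rw [← hT'] at this
        omega
      rw [← e2, ← Finset.offDiag_card]
      refine congrArg Finset.card (Finset.ext fun q => ?_)
      simp only [Finset.mem_filter, Finset.mem_offDiag]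
      constructor
      · rintro ⟨⟨hx, hy, hne⟩, h1, h2⟩
        exact ⟨⟨hx, h2⟩, ⟨hy, h1 ▸ h2⟩, hne⟩
      · rintro ⟨⟨hx, h1⟩, ⟨hy, h2⟩, hne⟩
        exact ⟨⟨hx, hy, hne⟩, h1.trans h2.symm, h1⟩
  -- the upper bound
  have hup : P.card ≤ (F.image ConjClasses.mk).card * ((h + 1) * h * e) := by
    have h1 : P.card ≤ ∑ g ∈ F, Nat.card (Subgroup.centralizer ({g} : Set G)) := by
      rw [Finset.card_eq_sum_card_fiberwise (f := fun q : G × G => q.2 * q.1) (t := F) (fun q hq =>
        Finset.mem_filter.mpr ⟨Finset.mem_univ _, (Finset.mem_filter.mp hq).2⟩)]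
      refine Finset.sum_le_sum fun g hg => ?_
      rcases (P.filter fun q => q.2 * q.1 = g).eq_empty_or_nonempty with h0 | ⟨q₀, hq₀⟩
      · rw [h0]; exact Nat.zero_le _
      have hinvert : ∀ q ∈ P.filter (fun q => q.2 * q.1 = g), q.1 * q.1 = 1 ∧ q.1 * g * q.1 = g⁻¹ := by
        intro q hq
        obtain ⟨hqP, rfl⟩ := Finset.mem_filter.mp hq
        obtain ⟨hx, hy⟩ := Finset.mem_product.mp (Finset.mem_filter.mp hqP).1
        refine ⟨hzz _ hx, ?_⟩
        rw [mul_inv_rev, inv_eq_of_mul_eq_one_right (hzz _ hx), inv_eq_of_mul_eq_one_right (hzz _ hy),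
          ← mul_assoc, mul_assoc _ q.1 q.1, hzz _ hx, mul_one]
      rw [← Nat.card_eq_finsetCard]
      refine Nat.card_le_card_of_injective (fun q => ⟨q.1.1 * q₀.1, ?_⟩) fun q q' hqq => ?_
      · rw [Subgroup.mem_centralizer_singleton_iff]
        obtain ⟨hx, hxg⟩ := hinvert q.1 q.2
        obtain ⟨hx0, hxg0⟩ := hinvert q₀ hq₀
        have hi : q.1.1⁻¹ = q.1.1 := inv_eq_of_mul_eq_one_right hx
        have hi0 : q₀.1⁻¹ = q₀.1 := inv_eq_of_mul_eq_one_right hx0
        have a1 : q₀.1 * g = g⁻¹ * q₀.1 := by rw [← hxg0, mul_assoc (q₀.1 * g), hx0, mul_one]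
        have a2 : q.1.1 * g⁻¹ = g * q.1.1 := by
          rw [← hxg, ← mul_assoc, ← mul_assoc, hx, one_mul]
        rw [mul_assoc, a1, ← mul_assoc, a2, mul_assoc]
      · have e1 : q.1.1 = q'.1.1 := mul_right_cancel (congrArg Subtype.val hqq)
        have e2 : q.1.2 = q'.1.2 := mul_right_cancel
          (((Finset.mem_filter.mp q.2).2.trans (Finset.mem_filter.mp q'.2).2.symm).trans (by rw [e1]))
        exact Subtype.ext (Prod.ext e1 e2)
    refine h1.trans ?_
    rw [← Finset.sum_fiberwise_of_maps_to (g := ConjClasses.mk) (t := F.image ConjClasses.mk)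
      (fun g hg => Finset.mem_image_of_mem _ hg)]
    refine (Finset.sum_le_card_nsmul _ _ ((h + 1) * h * e) fun C hC => ?_).trans (by rw [smul_eq_mul])
    obtain ⟨g₀, hg₀, rfl⟩ := Finset.mem_image.mp hC
    have hCsub : F.filter (fun g => ConjClasses.mk g = ConjClasses.mk g₀) ⊆ Finset.univ.filter fun x => IsConj g₀ x :=
      fun g hg => Finset.mem_filter.mpr ⟨Finset.mem_univ _, (ConjClasses.mk_eq_mk_iff_isConj.mp (Finset.mem_filter.mp hg).2).symm⟩
    calc ∑ g ∈ F.filter (fun g => ConjClasses.mk g = ConjClasses.mk g₀), Nat.card (Subgroup.centralizer ({g} : Set G))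
        ≤ ∑ g ∈ Finset.univ.filter (fun x => IsConj g₀ x), Nat.card (Subgroup.centralizer ({g} : Set G)) :=
          Finset.sum_le_sum_of_subset hCsub
      _ = ∑ g ∈ Finset.univ.filter (fun x => IsConj g₀ x), Nat.card (Subgroup.centralizer ({g₀} : Set G)) := by
          refine Finset.sum_congr rfl fun g hg => ?_
          obtain ⟨c, rfl⟩ := isConj_iff.mp (Finset.mem_filter.mp hg).2
          have h2 := CfsgLib.CharTheory.card_isConj_mul_card_centralizer g₀
          have h3 := CfsgLib.CharTheory.card_isConj_mul_card_centralizer (c * g₀ * c⁻¹)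
          have e3 : Nat.card {x : G // IsConj (c * g₀ * c⁻¹) x} = Nat.card {x : G // IsConj g₀ x} :=
            Nat.card_congr (Equiv.subtypeEquivRight fun x =>
              ⟨fun h => (isConj_iff.mpr ⟨c, rfl⟩).trans h, fun h => (isConj_iff.mpr ⟨c, rfl⟩).symm.trans h⟩)
          rw [e3] at h3
          haveI : Nonempty {x : G // IsConj g₀ x} := ⟨⟨g₀, IsConj.refl _⟩⟩
          exact Nat.eq_of_mul_eq_mul_left Nat.card_pos (h3.trans h2.symm)
      _ = (h + 1) * h * e := by
          rw [Finset.sum_const, smul_eq_mul, ← card_G hZ hn he (exists_pair hZ),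
            ← CfsgLib.CharTheory.card_isConj_mul_card_centralizer g₀, Nat.card_eq_fintype_card (α := {x : G // IsConj g₀ x}),
            Fintype.card_subtype]
  -- arithmetic
  set f0 := (F.image ConjClasses.mk).card
  have hTv := card_invs (G := G) hZ hodd hn he
  rw [← hT'] at hTv
  obtain ⟨a, b, hab⟩ := exists_pair hZ
  obtain ⟨k, hk⟩ := he a b hab ▸ hodd a b hab
  have hh1 : 1 < h + 1 := hn ▸ Fintype.one_lt_card_iff.mpr ⟨a, b, hab⟩
  by_contra hcon
  have hf : f0 ≤ k := by omega
  have hee : e * e - e = (2 * k + 1) * (2 * k) := by rw [← hk]; exact Nat.sub_eq_of_eq_add (by rw [hk]; ring)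
  rw [hee, hk] at hQcount
  rw [hk] at hup hTv hlt
  have hP1 : P.card ≤ k * ((h + 1) * h * (2 * k + 1)) := hup.trans (Nat.mul_le_mul_right _ hf)
  rcases Nat.even_or_odd h with hev | hod
  · rw [if_pos hev] at hTv
    have hm : T - h * (2 * k + 1) = 2 * k + 1 := by
      rw [hTv]; exact Nat.sub_eq_of_eq_add (by ring)
    have hmm : (2 * k + 1) * (2 * k + 1) - (2 * k + 1) = (2 * k + 1) * (2 * k) := Nat.sub_eq_of_eq_add (by ring)
    rw [hm, hmm] at hQcount
    rw [hTv] at hsplit
    have hpos : 0 < (h + 1) * h * (2 * k + 1) := Nat.mul_pos (Nat.mul_pos (by omega) (by omega)) (by omega)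
    nlinarith [hQcount, hsplit, hP1, hpos]
  · rw [if_neg (Nat.not_even_iff_odd.mpr hod)] at hTv
    have hm : T - h * (2 * k + 1) = 0 := by rw [hTv, mul_comm h, Nat.sub_self]
    rw [hm] at hQcount
    simp only [Nat.mul_zero, Nat.zero_sub, Nat.add_zero] at hQcount
    rw [hTv] at hsplit
    have h6 : (2 * k + 1) * h * ((2 * k + 1) * h) ≤ (2 * k + 1) * h * (2 * k * (h + 1) + 1) := by
      nlinarith [hQcount, hsplit, hP1]
    have h7 := Nat.le_of_mul_le_mul_left h6 (Nat.mul_pos (by omega) (by omega))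
    nlinarith [h7, hlt]

end Count

end CfsgLib.ZassenhausOdd
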