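import Cfsg.Prelude.Def_LieExceptional
import Cfsg.Agent.S0738
import Cfsg.Agent.S0740
import Cfsg.Agent.Lib.Perm.ZassenhausOdd
import Cfsg.Agent.Lib.Perm.ZassenhausNormal
import Cfsg.Agent.Lib.Dickson.Basic
import Cfsg.Agent.Lib.SLCard
import Mathlib

/-!
Zassenhaus groups of degree `2 d + 2` with two-point stabiliser of odd order `d` inverted by swaps.
-/

set_option autoImplicit false
set_option linter.style.haveILetI false

namespace CfsgLib.ZassenhausHalfOdd

open MulAction

theorem mv_ne {K : Type} [Field K] (g : Matrix.SpecialLinearGroup (Fin 2) K) {v : Fin 2 → K} (hv : v ≠ 0) :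
    Matrix.mulVec (g : Matrix (Fin 2) (Fin 2) K) v ≠ 0 := fun e => hv (by
  have h := congrArg (fun u => Matrix.mulVec ((g⁻¹ : Matrix.SpecialLinearGroup (Fin 2) K) : Matrix (Fin 2) (Fin 2) K) u) e
  rw [Matrix.mulVec_mulVec, ← Matrix.SpecialLinearGroup.coe_mul, inv_mul_cancel, Matrix.SpecialLinearGroup.coe_one,
    Matrix.one_mulVec, Matrix.mulVec_zero] at h
  exact h)

theorem pj_congr {K : Type} [Field K] {v w : Fin 2 → K} (hv : v ≠ 0) (hw : w ≠ 0) (e : v = w) :
    Projectivization.mk K v hv = Projectivization.mk K w hw := by subst e; rfl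

open MulAction in
/-- Projective transformations realised in `G`. -/
def realised {G Ω : Type*} [Group G] [MulAction G Ω] {K : Type} [Field K]
    (Φ : Projectivization K (Fin 2 → K) → Ω) : Subgroup (Matrix.SpecialLinearGroup (Fin 2) K) where
  carrier := {g | ∃ h : G, ∀ (v : Fin 2 → K) (hv : v ≠ 0), h • Φ (Projectivization.mk K v hv) =
    Φ (Projectivization.mk K (Matrix.mulVec (g : Matrix (Fin 2) (Fin 2) K) v) (mv_ne g hv))}
  one_mem' := ⟨1, fun v hv => by
    rw [one_smul]
    exact congrArg Φ (pj_congr _ _ (by rw [Matrix.SpecialLinearGroup.coe_one, Matrix.one_mulVec]))⟩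
  mul_mem' := by
    rintro g g' ⟨h, hh⟩ ⟨h', hh'⟩
    refine ⟨h * h', fun v hv => ?_⟩
    rw [mul_smul, hh' v hv, hh]
    exact congrArg Φ (pj_congr _ _ (by rw [Matrix.mulVec_mulVec, Matrix.SpecialLinearGroup.coe_mul]))
  inv_mem' := by
    rintro g ⟨h, hh⟩
    refine ⟨h⁻¹, fun v hv => ?_⟩
    rw [inv_smul_eq_iff, hh]
    exact congrArg Φ (pj_congr _ _ (by rw [Matrix.mulVec_mulVec, ← Matrix.SpecialLinearGroup.coe_mul, mul_inv_cancel,
      Matrix.SpecialLinearGroup.coe_one, Matrix.one_mulVec]))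

set_option maxHeartbeats 2000000 in
theorem psl {G Ω : Type*} [Group G] [Finite G] [MulAction G Ω] [Fintype Ω] (hZ : Cfsg.IsZassenhausGroup G Ω)
    {a b : Ω} (hab : a ≠ b) (hodd : Odd (Nat.card ↥(stabilizer G a ⊓ stabilizer G b)))
    (hn2 : Fintype.card Ω = 2 * Nat.card ↥(stabilizer G a ⊓ stabilizer G b) + 2)
    (hinv : ∀ s : G, s • a = b → s • b = a → ∀ h ∈ stabilizer G a ⊓ stabilizer G b, s * h * s⁻¹ = h⁻¹) :
    ∃ (p f : ℕ) (K : Type) (_ : Field K) (_ : Fintype K), p.Prime ∧ p ≠ 2 ∧ Fintype.card K = p ^ f ∧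
      Fintype.card Ω = p ^ f + 1 ∧ Nonempty (G ≃* Matrix.ProjectiveSpecialLinearGroup (Fin 2) K) := by
  classical
  have hZ' := hZ
  obtain ⟨hfaith, h2, h3, hfixe, -⟩ := hZ'
  haveI := hfaith
  haveI := h2
  set d := Nat.card ↥(stabilizer G a ⊓ stabilizer G b) with hdd
  have hge := CfsgLib.Zassenhaus.card_ge_three hZ
  obtain ⟨F, hFa, hFn, hFfix, hFtrans, -⟩ := CfsgLib.ZassenhausNormal.exists_Q (G := G) h2 h3 hfixe a
  have hFreg : ∀ y z : Ω, y ≠ a → z ≠ a → ∃! u : F, (u : G) • y = z := by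
    intro y z hy hz
    obtain ⟨q, hq, hqe⟩ := hFtrans y z hy hz
    refine ⟨⟨q, hq⟩, hqe, fun v hv => Subtype.ext ?_⟩
    by_contra hne
    refine hy (hFfix (q⁻¹ * v) (mul_mem (inv_mem hq) v.2) (fun e => hne (inv_mul_eq_one.mp e).symm) y ?_)
    rw [mul_smul, hv, inv_smul_eq_iff, hqe]
  have hFn' : (F.subgroupOf (stabilizer G a)).Normal := ⟨fun x hx h => hFn h h.2 x hx⟩
  obtain ⟨hFab, p, f, hp, hFp, hcardΩ⟩ := Cfsg.Agent.S0738.result hZ hab (by omega) F hFa hFn' hFreg
  haveI := Fact.mk hp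
  set q := p ^ f with hqdef
  have hf0 : f ≠ 0 := fun e => by rw [hqdef, e, pow_zero] at hcardΩ; omega
  have hp2 : p ≠ 2 := fun e => by
    obtain ⟨r, hr⟩ : 2 ∣ q := e ▸ dvd_pow_self p hf0
    omega
  have hqd : q = 2 * d + 1 := by omega
  -- every involution has two fixed points; swaps are involutions
  have hcardD : ∀ u v : Ω, u ≠ v → Nat.card ↥(stabilizer G u ⊓ stabilizer G v) = d := fun u v huv =>
    (CfsgLib.ZassenhausOdd.card_D_eq hZ huv hab)
  have hmulF : ∀ x ∈ F, ∀ y ∈ F, x * y = y * x := fun x hx y hy => congrArg Subtype.val (hFab.is_comm.comm ⟨x, hx⟩ ⟨y, hy⟩)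
  have hcentF : ∀ k : G, k • a = a → k • b = b → (∀ u ∈ F, k * u = u * k) → k = 1 := by
    intro k hka hkb hk
    refine FaithfulSMul.eq_of_smul_eq_smul (α := Ω) fun c => ?_
    rw [one_smul]
    by_cases hc : c = a
    · rw [hc, hka]
    · obtain ⟨⟨u, hu⟩, hub, -⟩ := hFreg b c hab.symm hc
      rw [← hub, ← mul_smul, hk u hu, mul_smul, hkb]
  have hodd' : ∀ c e : Ω, c ≠ e → Odd (Nat.card (CfsgLib.ZassenhausOdd.D (G := G) c e)) := fun c e hce => by
    rw [CfsgLib.ZassenhausOdd.D, hcardD c e hce]; exact hodd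
  have hswap_sq : ∀ g : G, g • a = b → g • b = a → g * g = 1 := by
    intro g h1 h2'
    have hm : g * g ∈ stabilizer G a ⊓ stabilizer G b :=
      ⟨show (g * g) • a = a by rw [mul_smul, h1, h2'], show (g * g) • b = b by rw [mul_smul, h2', h1]⟩
    have e := hinv g h1 h2' _ hm
    rw [show g * (g * g) * g⁻¹ = g * g by group] at e
    by_contra hne
    have h6 : orderOf (g * g) = 2 := orderOf_eq_prime (by rw [sq]; nth_rw 2 [e]; exact mul_inv_cancel _) hne
    have h7 := (stabilizer G a ⊓ stabilizer G b).orderOf_dvd_natCard hm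
    rw [h6, ← hdd] at h7
    exact hodd.not_two_dvd_nat h7
  -- the linear structure
  letI : CommGroup F := { (inferInstance : Group F) with mul_comm := fun x y => Subtype.ext (hmulF _ x.2 _ y.2) }
  have hVp : ∀ x : Additive F, p • x = 0 := fun x =>
    congrArg Additive.ofMul (Subtype.ext (hFp _ (Additive.toMul x).2) : (Additive.toMul x) ^ p = 1)
  obtain ⟨modV⟩ : Nonempty (Module (ZMod p) (Additive F)) := ⟨AddCommGroup.zmodModule hVp⟩
  letI := modV
  set Dg := stabilizer G a ⊓ stabilizer G b with hDg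
  let act : Dg → (Additive F) →+ (Additive F) := fun h =>
    { toFun := fun v => Additive.ofMul (⟨h * (Additive.toMul v : F) * (h : G)⁻¹, hFn h h.2.1 _ (Additive.toMul v).2⟩ : F)
      map_zero' := congrArg Additive.ofMul (Subtype.ext (by simp))
      map_add' := fun x y => congrArg Additive.ofMul (Subtype.ext (by
        show (h : G) * (((Additive.toMul x : F) * (Additive.toMul y : F) : F) : G) * (h : G)⁻¹ =
          (h : G) * (Additive.toMul x : F) * (h : G)⁻¹ * ((h : G) * (Additive.toMul y : F) * (h : G)⁻¹)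
        rw [Subgroup.coe_mul]; group)) }
  let ψ0 : Dg → Module.End (ZMod p) (Additive F) := fun h => (act h).toZModLinearMap p
  have hψ1 : ψ0 1 = 1 := by
    refine LinearMap.ext fun v => ?_
    rw [Module.End.one_apply]
    refine congrArg Additive.ofMul (Subtype.ext ?_ : (⟨_, _⟩ : F) = Additive.toMul v)
    simp
  have hψm : ∀ h k : Dg, ψ0 (h * k) = ψ0 h * ψ0 k := fun h k => by
    refine LinearMap.ext fun v => congrArg Additive.ofMul (Subtype.ext ?_)
    show ((h * k : Dg) : G) * (Additive.toMul v : F) * ((h * k : Dg) : G)⁻¹ =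
      (h : G) * ((k : G) * (Additive.toMul v : F) * (k : G)⁻¹) * (h : G)⁻¹
    simp; group
  let ψ : Dg →* Module.End (ZMod p) (Additive F) := { toFun := ψ0, map_one' := hψ1, map_mul' := hψm }
  have hψ : ∀ (h : Dg) (v : (Additive F)), ((Additive.toMul (ψ h v) : F) : G) = h * (Additive.toMul v : F) * (h : G)⁻¹ := fun h v => rfl
  have hψfree : ∀ (h : Dg) (v : (Additive F)), v ≠ 0 → ψ h v = v → h = 1 := by
    intro h v hv he
    have e := congrArg (fun x : (Additive F) => ((Additive.toMul x : F) : G)) he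
    simp only [hψ] at e
    have hw : ((Additive.toMul v : F) : G) ≠ 1 := fun e1 => hv (congrArg Additive.ofMul (Subtype.ext e1 : Additive.toMul v = 1))
    set w := ((Additive.toMul v : F) : G) with hwdef
    have hwF : w ∈ F := (Additive.toMul v).2
    have hwb : w • b ≠ b := fun e => hab.symm (hFfix w hwF hw b e)
    have hwa : w • b ≠ a := fun e => hab.symm (MulAction.injective w (e.trans (hFa hwF).symm))
    refine Subtype.ext (h3 h a b (w • b) hab hwb.symm hwa.symm h.2.1 h.2.2 ?_)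
    rw [← mul_smul, mul_inv_eq_iff_eq_mul.mp e, mul_smul, show (h : G) • b = b from h.2.2]
  obtain ⟨s₀, ⟨hs₀, hs₀a, hs₀b⟩⟩ := (Cfsg.Agent.S0740.result hZ hab).1
  have hs₀inv : ∀ h : Dg, s₀ * h * s₀⁻¹ = (h : G)⁻¹ := by
    intro h
    have hss : s₀ * s₀ = 1 := by rw [← sq, ← hs₀, pow_orderOf_eq_one]
    have := hswap_sq (s₀ * h) (by rw [mul_smul, show (h : G) • a = a from h.2.1, hs₀a])
      (by rw [mul_smul, show (h : G) • b = b from h.2.2, hs₀b])
    calc s₀ * h * s₀⁻¹ = (s₀ * h * (s₀ * h)) * (h : G)⁻¹ * (s₀ * s₀)⁻¹ := by group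
      _ = _ := by rw [this, hss]; group
  have hDcomm : ∀ h k : Dg, h * k = k * h := fun h k => by
    have e := hs₀inv (h * k)
    rw [Subgroup.coe_mul, show s₀ * ((h : G) * k) * s₀⁻¹ = s₀ * h * s₀⁻¹ * (s₀ * k * s₀⁻¹) by group, hs₀inv, hs₀inv] at e
    have e2 := congrArg (·⁻¹) e
    simp only [mul_inv_rev, inv_inv] at e2
    exact Subtype.ext e2.symm
  haveI : Finite (Additive F) := Finite.of_equiv F Additive.ofMul
  have hcardV : Nat.card (Additive F) = q := by
    have hb' : Function.Bijective (fun u : F => (⟨(u : G) • b, fun e => hab.symm (MulAction.injective (u : G) (e.trans (hFa u.2).symm))⟩ : {c : Ω // c ≠ a})) := by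
      refine ⟨fun u v e => ?_, fun ⟨c, hc⟩ => ?_⟩
      · obtain ⟨w, -, hw⟩ := hFreg b ((u : G) • b) hab.symm (fun e' => hab.symm (MulAction.injective (u : G) (e'.trans (hFa u.2).symm)))
        exact (hw u rfl).trans (hw v (congrArg Subtype.val e).symm).symm
      · obtain ⟨u, hu, -⟩ := hFreg b c hab.symm hc
        exact ⟨u, Subtype.ext hu⟩
    rw [← Nat.card_congr (Additive.ofMul : F ≃ Additive F), Nat.card_congr (Equiv.ofBijective _ hb'), Nat.card_eq_fintype_card,
      Fintype.card_subtype_compl, Fintype.card_subtype_eq]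
    omega
  have hDge : ∀ W : Submodule (ZMod p) (Additive F), (∀ h, ∀ v ∈ W, ψ h v ∈ W) → W = ⊥ ∨ W = ⊤ := by
    intro W hW
    by_contra hh
    push_neg at hh
    obtain ⟨v, hv, hv0⟩ := Submodule.exists_mem_ne_zero_of_ne_bot hh.1
    haveI := Fintype.ofFinite W
    have h1 : Nat.card Dg ≤ Nat.card {w : W // w ≠ 0} :=
      Nat.card_le_card_of_injective (fun h => ⟨⟨ψ h v, hW h v hv⟩, fun e => by
        have e1 : ψ h v = 0 := congrArg Subtype.val e
        have e2 : ψ (h⁻¹ * h) v = 0 := by rw [map_mul, Module.End.mul_apply, e1, map_zero]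
        rw [inv_mul_cancel, map_one, Module.End.one_apply] at e2
        exact hv0 e2⟩) (fun h k e => by
        have e1 : ψ h v = ψ k v := congrArg (fun w : {w : W // w ≠ 0} => ((w.1 : W) : (Additive F))) e
        refine (inv_mul_eq_one.mp (hψfree (k⁻¹ * h) v hv0 ?_)).symm
        rw [map_mul, Module.End.mul_apply, e1, ← Module.End.mul_apply, ← map_mul, inv_mul_cancel, map_one, Module.End.one_apply])
    rw [Nat.card_eq_fintype_card (α := {w : W // w ≠ 0}), Fintype.card_subtype_compl, Fintype.card_subtype_eq,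
      ← Nat.card_eq_fintype_card, Module.natCard_eq_pow_finrank (K := ZMod p) (V := W), Nat.card_zmod] at h1
    have h2 := Submodule.finrank_lt hh.2
    have h3' : p ^ (Module.finrank (ZMod p) W + 1) ≤ q := by
      rw [← hcardV, Module.natCard_eq_pow_finrank (K := ZMod p) (V := Additive F), Nat.card_zmod]
      exact Nat.pow_le_pow_right hp.pos h2
    rw [pow_succ] at h3'
    have h4 : 3 ≤ p := by have := hp.two_le; omega
    have h5 : p ^ Module.finrank (ZMod p) W * 3 ≤ q := (Nat.mul_le_mul_left _ h4).trans h3'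
    rw [← hdd] at h1
    have h6 : 0 < d := Nat.card_pos
    omega
  -- the field
  let S := Algebra.adjoin (ZMod p) (Set.range ψ)
  letI : CommRing S := Algebra.adjoinCommRingOfComm (ZMod p) (by
    rintro _ ⟨h, rfl⟩ _ ⟨k, rfl⟩; rw [← map_mul, hDcomm, map_mul])
  let ψS : Dg →* S := ψ.codRestrict S fun h => Algebra.subset_adjoin ⟨h, rfl⟩
  obtain ⟨c0, hc0⟩ : ∃ c0 : (Additive F), c0 ≠ 0 := by
    haveI : Nontrivial (Additive F) := Finite.one_lt_card_iff_nontrivial.mp (by rw [hcardV]; omega)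
    exact exists_ne 0
  have hinjS : ∀ r : S, r ≠ 0 → Function.Injective (r : Module.End (ZMod p) (Additive F)) := fun r hr => by
    rcases hDge (LinearMap.ker (r : Module.End (ZMod p) (Additive F))) (fun h x hx => by
      rw [LinearMap.mem_ker] at hx ⊢
      have := LinearMap.congr_fun (congrArg Subtype.val (mul_comm r (ψS h))) x
      simp only [Subalgebra.coe_mul, Module.End.mul_apply, hx, map_zero] at this
      exact this) with e | e
    · exact LinearMap.ker_eq_bot.1 e
    · exact absurd (Subtype.ext (LinearMap.ker_eq_top.1 e)) hr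
  let ev : S →ₗ[ZMod p] (Additive F) := (LinearMap.applyₗ c0).comp S.val.toLinearMap
  have hev : Function.Bijective ev := by
    refine ⟨(injective_iff_map_eq_zero ev).2 fun r hr => ?_, LinearMap.range_eq_top.1 ?_⟩
    · by_contra h0
      exact hc0 (hinjS r h0 (hr.trans (map_zero _).symm))
    · rcases hDge (LinearMap.range ev) (fun h x hx => by
        obtain ⟨r, rfl⟩ := hx
        exact ⟨ψS h * r, rfl⟩) with e | e
      · exfalso
        have hm : c0 ∈ LinearMap.range ev := ⟨1, rfl⟩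
        rw [e, Submodule.mem_bot] at hm
        exact hc0 hm
      · exact e
  haveI : Finite S := Finite.of_injective ev hev.1
  haveI : Fintype S := Fintype.ofFinite S
  haveI : Nontrivial S := ⟨⟨1, 0, fun e => hc0 (LinearMap.congr_fun (congrArg Subtype.val e) c0)⟩⟩
  haveI : NoZeroDivisors S := ⟨fun {r t} h => by
    by_contra hh
    push_neg at hh
    exact hc0 (hinjS t hh.2 ((hinjS r hh.1 ((LinearMap.congr_fun (congrArg Subtype.val h) c0).trans (map_zero _).symm)).trans (map_zero _).symm))⟩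
  haveI : IsDomain S := NoZeroDivisors.to_isDomain S
  letI : Field S := (Finite.isField_of_domain S).toField
  obtain ⟨K, _, _, _, hcardK⟩ : ∃ (K : Type) (_ : Field K) (_ : Fintype K) (_ : CharP K p), Fintype.card K = q :=
    ⟨GaloisField p f, inferInstance, Fintype.ofFinite _, inferInstance, by
      rw [@Fintype.card_eq_nat_card, GaloisField.card p f hf0]⟩
  have hcardS : Fintype.card S = q := by rw [← Nat.card_eq_fintype_card, Nat.card_congr (Equiv.ofBijective ev hev), hcardV]
  let κ : S ≃+* K := FiniteField.ringEquivOfCardEq (hcardS.trans hcardK.symm)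
  let τ0 : (Additive F) ≃+ K := (LinearEquiv.ofBijective ev hev).symm.toAddEquiv.trans κ.toAddEquiv
  let ε : Dg →* K := κ.toRingHom.toMonoidHom.comp ψS
  have hτ0 : ∀ (h : Dg) (v : (Additive F)), τ0 (ψ h v) = ε h * τ0 v := by
    intro h v
    obtain ⟨r, rfl⟩ := hev.2 v
    have e : ψ h (ev r) = ev (ψS h * r) := rfl
    rw [e]
    show κ ((LinearEquiv.ofBijective ev hev).symm (ev (ψS h * r))) = κ (ψS h) * κ ((LinearEquiv.ofBijective ev hev).symm (ev r))
    rw [show ev (ψS h * r) = LinearEquiv.ofBijective ev hev (ψS h * r) from rfl,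
      show ev r = LinearEquiv.ofBijective ev hev r from rfl, LinearEquiv.symm_apply_apply, LinearEquiv.symm_apply_apply, map_mul]
  -- the swap and the normalisation
  have hss : s₀ * s₀ = 1 := by rw [← sq, ← hs₀, pow_orderOf_eq_one]
  obtain ⟨ur, hur, hurb0⟩ : ∃ u, u ∈ F ∧ u ≠ 1 := by
    obtain ⟨c, hca, hcb⟩ := CfsgLib.ZassenhausNormal.exists_third h2 h3 hfixe a b
    obtain ⟨⟨u, hu⟩, hub, -⟩ := hFreg b c hab.symm hca
    exact ⟨u, hu, fun e => hcb (by rw [← hub]; show u • b = b; rw [e, one_smul])⟩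
  set c1 := τ0 (Additive.ofMul ⟨ur, hur⟩) with hc1
  have hc1' : c1 ≠ 0 := by
    intro e
    have e0 : (Additive.ofMul (⟨ur, hur⟩ : F) : (Additive F)) = 0 := τ0.injective (e.trans (map_zero τ0).symm)
    have e1 : ur = 1 := congrArg Subtype.val (congrArg Additive.toMul e0 : (⟨ur, hur⟩ : F) = 1)
    exact hurb0 e1
  let τ : F → K := fun u => τ0 (Additive.ofMul u) * c1⁻¹
  have hτadd : ∀ u v : F, τ (u * v) = τ u + τ v := fun u v => by
    show τ0 (Additive.ofMul (u * v)) * c1⁻¹ = _
    rw [ofMul_mul, map_add, add_mul]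
  have hτbij : Function.Bijective τ := ((mul_left_injective₀ (inv_ne_zero hc1')).bijective_of_finite).comp
    (τ0.bijective.comp Additive.ofMul.bijective)
  choose t ht using hτbij.2
  have hτinj : ∀ u v : F, τ u = τ v → u = v := fun u v e => hτbij.1 e
  have ht_add : ∀ x y : K, t (x + y) = t x * t y := fun x y => hτinj _ _ (by rw [hτadd, ht, ht, ht])
  have ht0 : t 0 = 1 := hτinj _ _ (by
    rw [ht]; show (0 : K) = τ0 (Additive.ofMul (1 : F)) * c1⁻¹
    rw [ofMul_one, map_zero, zero_mul])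
  have ht1 : t 1 = ⟨ur, hur⟩ := hτinj _ _ (by
    rw [ht]; show (1 : K) = τ0 _ * c1⁻¹
    rw [← hc1, mul_inv_cancel₀ hc1'])
  have htconj : ∀ (h : Dg) (x : K), (h : G) * (t x : G) * (h : G)⁻¹ = (t (ε h * x) : G) := by
    intro h x
    have e : τ (⟨_, hFn h h.2.1 _ (t x).2⟩ : F) = ε h * x := by
      show τ0 (ψ h (Additive.ofMul (t x))) * c1⁻¹ = _
      rw [hτ0, mul_assoc]
      congr 1
      exact ht x
    exact congrArg Subtype.val (hτinj _ _ (e.trans (ht _).symm))
  let P : K → Ω := fun x => (t x : G) • b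
  have hP0 : P 0 = b := by show (t 0 : G) • b = b; rw [ht0, Subgroup.coe_one, one_smul]
  have hPa : ∀ x, P x ≠ a := fun x e => hab.symm (MulAction.injective (t x : G) (e.trans (hFa (t x).2).symm))
  have hPinj : Function.Injective P := fun x y e => by
    obtain ⟨w, -, hw⟩ := hFreg b (P x) hab.symm (hPa x)
    rw [← ht x, ← ht y, (hw (t x) rfl).trans (hw (t y) e.symm).symm]
  have hPsurj : ∀ c, c ≠ a → ∃ x, P x = c := fun c hc => by
    obtain ⟨u, hu, -⟩ := hFreg b c hab.symm hc
    exact ⟨τ u, by show (t (τ u) : G) • b = c; rw [hτinj (t (τ u)) u (ht _)]; exact hu⟩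
  have hPt : ∀ x y, (t y : G) • P x = P (y + x) := fun x y => by
    show (t y : G) • (t x : G) • b = (t (y + x) : G) • b
    rw [ht_add, Subgroup.coe_mul, mul_smul]
  have hPh : ∀ (h : Dg) x, (h : G) • P x = P (ε h * x) := fun h x => by
    show (h : G) • (t x : G) • b = (t (ε h * x) : G) • b
    rw [← htconj h x, mul_smul, mul_smul, show (h : G)⁻¹ • b = b from inv_smul_eq_iff.mpr (h.2.2).symm]
  have hεinj : Function.Injective ε := fun h k e => by
    have e1 : ψS h = ψS k := κ.injective e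
    have e2 : ψ h c0 = ψ k c0 := LinearMap.congr_fun (congrArg Subtype.val e1) c0
    refine (inv_mul_eq_one.mp (hψfree (k⁻¹ * h) c0 hc0 ?_)).symm
    rw [map_mul, Module.End.mul_apply, e2, ← Module.End.mul_apply, ← map_mul, inv_mul_cancel, map_one, Module.End.one_apply]
  have hεne : ∀ h : Dg, ε h ≠ 0 := fun h e => by
    have := map_mul ε h⁻¹ h
    rw [inv_mul_cancel, map_one, e, mul_zero] at this
    exact one_ne_zero this
  have hchar : ringChar K ≠ 2 := by rw [ringChar.eq K p]; exact hp2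
  have hsq : ∀ x : K, x ≠ 0 → IsSquare x → ∃ h : Dg, ε h = x := by
    intro x hx hxs
    haveI := Fintype.ofFinite Dg
    have hsub : Finset.univ.image ε ⊆ Finset.univ.filter (fun y : K => y ≠ 0 ∧ IsSquare y) := fun y hy => by
      obtain ⟨h, -, rfl⟩ := Finset.mem_image.mp hy
      refine Finset.mem_filter.mpr ⟨Finset.mem_univ _, hεne h, (FiniteField.isSquare_iff hchar (hεne h)).mpr ?_⟩
      rw [← map_pow, show Fintype.card K / 2 = Nat.card Dg by rw [← hdd]; omega, pow_card_eq_one', map_one]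
    have hroots : (Finset.univ.filter (fun y : K => y ≠ 0 ∧ IsSquare y)).card ≤ d := by
      have hs : Finset.univ.filter (fun y : K => y ≠ 0 ∧ IsSquare y) ⊆ (Polynomial.nthRoots d (1 : K)).toFinset := fun y hy => by
        simp only [Finset.mem_filter, Finset.mem_univ, true_and] at hy
        rw [Multiset.mem_toFinset, Polynomial.mem_nthRoots (show 0 < d from Nat.card_pos)]
        have := (FiniteField.isSquare_iff hchar hy.1).mp hy.2
        rwa [show Fintype.card K / 2 = d by omega] at this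
      exact (Finset.card_le_card hs).trans ((Multiset.toFinset_card_le _).trans (Polynomial.card_nthRoots d 1))
    have heq := Finset.eq_of_subset_of_card_le hsub (by
      rw [Finset.card_image_of_injective _ hεinj, Finset.card_univ, ← Nat.card_eq_fintype_card, ← hdd]; exact hroots)
    have : x ∈ Finset.univ.image ε := by rw [heq]; simp [hx, hxs]
    obtain ⟨h, -, rfl⟩ := Finset.mem_image.mp this
    exact ⟨h, rfl⟩
  have hεsq : ∀ h : Dg, IsSquare (ε h) := fun h => (FiniteField.isSquare_iff hchar (hεne h)).mpr (by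
    rw [← map_pow, show Fintype.card K / 2 = Nat.card Dg by rw [← hdd]; omega, pow_card_eq_one', map_one])
  have hm1 : ¬ IsSquare (-1 : K) := by
    intro e
    rw [FiniteField.isSquare_iff hchar (neg_ne_zero.mpr one_ne_zero), show Fintype.card K / 2 = d by omega,
      hodd.neg_one_pow] at e
    exact (Ring.neg_one_ne_one_of_char_ne_two hchar) e
  have hns : ∀ x : K, x ≠ 0 → ¬ IsSquare x → IsSquare (-x) := fun x hx hxs => by
    rw [FiniteField.isSquare_iff hchar (neg_ne_zero.mpr hx), neg_pow,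
      (FiniteField.pow_dichotomy hchar hx).resolve_left (fun e => hxs ((FiniteField.isSquare_iff hchar hx).mpr e)),
      show Fintype.card K / 2 = d by omega, hodd.neg_one_pow]
    norm_num
  have hσ0 : ∀ x : K, x ≠ 0 → ∃ y, y ≠ 0 ∧ s₀ • P x = P y := fun x hx => by
    obtain ⟨y, hy⟩ := hPsurj (s₀ • P x) (fun e => hx (hPinj (by
      rw [hP0]; exact MulAction.injective s₀ (e.trans hs₀b.symm))))
    exact ⟨y, fun e => hPa x (MulAction.injective s₀ (by show s₀ • P x = s₀ • a; rw [← hy, e, hP0, hs₀a])), hy.symm⟩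
  choose! σ hσne hσ using hσ0
  have hσε : ∀ (h : Dg) x, x ≠ 0 → σ (ε h * x) = (ε h)⁻¹ * σ x := by
    intro h x hx
    apply hPinj
    have hinv : ε h⁻¹ = (ε h)⁻¹ := eq_inv_of_mul_eq_one_left (by rw [← map_mul, inv_mul_cancel, map_one])
    rw [← hσ _ (mul_ne_zero (hεne h) hx), ← hPh, ← mul_smul, show s₀ * (h : G) = (h : G)⁻¹ * s₀ by
      rw [← hs₀inv h]; group, mul_smul, hσ x hx, ← Subgroup.coe_inv, hPh, hinv]
  have hσσ : ∀ x, x ≠ 0 → σ (σ x) = x := fun x hx => hPinj (by
    rw [← hσ _ (hσne x hx), ← hσ x hx, ← mul_smul, hss, one_smul])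
  -- the swap is free of fixed points
  have hfree : ∀ (h : Dg) (c : Ω), ((h : G) * s₀) • c ≠ c := by
    intro h c hc
    have hsa' : ((h : G) * s₀) • a = b := by rw [mul_smul, hs₀a]; exact h.2.2
    have hsb' : ((h : G) * s₀) • b = a := by rw [mul_smul, hs₀b]; exact h.2.1
    have ho := CfsgLib.ZassenhausOdd.orderOf_of_swap hZ hodd' hab (hswap_sq _ hsa' hsb') hsa'
    have h0 := CfsgLib.ZassenhausOdd.card_fixSet_invol (h := 2 * d + 1) (e := d) hZ hodd' (by omega) hcardD ho
    rw [show (2 * d + 1 + 1) % 2 = 0 by omega, Finset.card_eq_zero] at h0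
    exact Finset.eq_empty_iff_forall_notMem.mp h0 c (CfsgLib.ZassenhausOdd.mem_fixSet.mpr hc)
  have hσ1ns : ¬ IsSquare (σ 1) := fun e => by
    obtain ⟨h, hh⟩ := hsq (σ 1) (hσne 1 one_ne_zero) e
    refine hfree h⁻¹ (P 1) ?_
    rw [mul_smul, hσ 1 one_ne_zero, Subgroup.coe_inv, inv_smul_eq_iff, hPh, hh, mul_one]
  obtain ⟨h₁, hh₁⟩ := hsq (-(σ 1)⁻¹) (neg_ne_zero.mpr (inv_ne_zero (hσne 1 one_ne_zero))) (by
    rw [← inv_neg]
    exact (hns _ (hσne 1 one_ne_zero) hσ1ns).inv)
  set s₁ := (h₁ : G) * s₀ with hs₁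
  have hs₁σ : ∀ x, x ≠ 0 → s₁ • P x = P (-x⁻¹) := by
    intro x hx
    rw [hs₁, mul_smul, hσ x hx, hPh]
    congr 1
    have hσ1' := hσne 1 one_ne_zero
    by_cases e : IsSquare x
    · obtain ⟨h, rfl⟩ := hsq x hx e
      have := hσε h 1 one_ne_zero
      rw [mul_one] at this
      rw [this, hh₁]; field_simp
    · obtain ⟨h, hh⟩ := hsq (x * (σ 1)⁻¹) (mul_ne_zero hx (inv_ne_zero hσ1')) (by
        rw [show x * (σ 1)⁻¹ = -x * (-(σ 1)⁻¹) by ring]
        exact (hns x hx e).mul (hh₁ ▸ hεsq h₁))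
      have := hσε h (σ 1) hσ1'
      rw [hσσ 1 one_ne_zero, hh, show x * (σ 1)⁻¹ * σ 1 = x by field_simp] at this
      rw [this, hh₁]; field_simp
  have hsP0 : s₁ • P 0 = a := by rw [hs₁, mul_smul, hP0, hs₀b]; exact h₁.2.1
  have hsa : s₁ • a = P 0 := by rw [hs₁, mul_smul, hs₀a, hP0]; exact h₁.2.2
  -- the isomorphism
  let Φ : Projectivization K (Fin 2 → K) → Ω := Projectivization.lift
    (fun v : {v : Fin 2 → K // v ≠ 0} => if v.1 1 = 0 then a else P (v.1 0 / v.1 1))
    (by
      intro v w c hvw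
      have e0 : v.1 0 = c * w.1 0 := by rw [hvw]; rfl
      have e1 : v.1 1 = c * w.1 1 := by rw [hvw]; rfl
      have hc : c ≠ 0 := fun e => v.2 (by rw [hvw, e, zero_smul])
      simp only [e0, e1, mul_eq_zero, hc, false_or, mul_div_mul_left _ _ hc])
  have hΦ : ∀ (v : Fin 2 → K) (hv : v ≠ 0), Φ (Projectivization.mk K v hv) = if v 1 = 0 then a else P (v 0 / v 1) := fun v hv => rfl
  have hup : ∀ x : K, (⟨!![1, x; 0, 1], by simp [Matrix.det_fin_two]⟩ : Matrix.SpecialLinearGroup (Fin 2) K) ∈ realised (G := G) Φ := by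
    intro x
    refine ⟨t x, fun v hv => ?_⟩
    rw [hΦ, hΦ]
    simp only [Matrix.mulVec, dotProduct, Fin.sum_univ_two, Matrix.of_apply, Matrix.cons_val', Matrix.cons_val_zero,
      Matrix.cons_val_one, Matrix.cons_val_fin_one, one_mul, zero_mul, zero_add]
    by_cases h0 : v 1 = 0
    · rw [if_pos h0, if_pos h0]; exact hFa (t x).2
    · rw [if_neg h0, if_neg h0, hPt]; congr 1; field_simp; ring
  have hw : (⟨!![0, -1; 1, 0], by simp [Matrix.det_fin_two]⟩ : Matrix.SpecialLinearGroup (Fin 2) K) ∈ realised (G := G) Φ := by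
    refine ⟨s₁, fun v hv => ?_⟩
    rw [hΦ, hΦ]
    simp only [Matrix.mulVec, dotProduct, Fin.sum_univ_two, Matrix.of_apply, Matrix.cons_val', Matrix.cons_val_zero,
      Matrix.cons_val_one, Matrix.cons_val_fin_one, one_mul, zero_mul, zero_add, add_zero, neg_one_mul]
    by_cases h1 : v 1 = 0
    · have h0 : v 0 ≠ 0 := fun e => hv (by funext i; fin_cases i <;> assumption)
      rw [if_pos h1, if_neg h0, hsa, h1, neg_zero, zero_div]
    · rw [if_neg h1]
      by_cases h0 : v 0 = 0
      · rw [if_pos h0, h0, zero_div, hsP0]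
      · rw [if_neg h0, hs₁σ _ (div_ne_zero h0 h1)]; congr 1; field_simp
  have htop : realised (G := G) Φ = ⊤ := by
    rw [eq_top_iff]
    intro g _
    have hlo : ∀ y : K, (CfsgLib.Dickson.lo y) ∈ realised (G := G) Φ := fun y => by
      have eW : ∀ W : Matrix.SpecialLinearGroup (Fin 2) K, W.1 = !![0, -1; 1, 0] →
          W * CfsgLib.Dickson.up (-y) * W⁻¹ = CfsgLib.Dickson.lo y := fun W e => by
        obtain ⟨i0, i1, i2, i3⟩ := CfsgLib.Dickson.inv_entries W
        apply CfsgLib.Dickson.ext_entries <;> simp [CfsgLib.Dickson.mul_entry, i0, i1, i2, i3, e]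
      rw [← eW ⟨!![0, -1; 1, 0], by simp [Matrix.det_fin_two]⟩ rfl]
      exact mul_mem (mul_mem hw (hup (-y))) (inv_mem hw)
    have hupd : ∀ y : K, (CfsgLib.Dickson.up y) ∈ realised (G := G) Φ := hup
    have key : ∀ g : Matrix.SpecialLinearGroup (Fin 2) K, g.1 1 0 ≠ 0 → g ∈ realised (G := G) Φ := by
      intro g hc
      have hd := CfsgLib.Dickson.det_eq g
      have : g = CfsgLib.Dickson.up ((g.1 0 0 - 1) / g.1 1 0) * CfsgLib.Dickson.lo (g.1 1 0) * CfsgLib.Dickson.up ((g.1 1 1 - 1) / g.1 1 0) := by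
        apply CfsgLib.Dickson.ext_entries <;> simp [CfsgLib.Dickson.mul_entry] <;> field_simp
        · ring
        · linear_combination -hd
        · ring
      rw [this]
      exact mul_mem (mul_mem (hupd _) (hlo _)) (hupd _)
    by_cases hc : g.1 1 0 = 0
    · have h11 : g.1 1 1 ≠ 0 := fun e => by
        have := CfsgLib.Dickson.det_eq g; rw [hc, e] at this; simp at this
      have h1 := key (g * CfsgLib.Dickson.lo 1) (by simp [CfsgLib.Dickson.mul_entry, hc, h11])
      simpa using mul_mem h1 (inv_mem (hlo 1))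
    · exact key g hc
  have hΦsurj : Function.Surjective Φ := fun o => by
    by_cases ho : o = a
    · exact ⟨Projectivization.mk K ![1, 0] (by simp), by rw [hΦ]; simp [ho]⟩
    · obtain ⟨x, hx⟩ := hPsurj o ho
      exact ⟨Projectivization.mk K ![x, 1] (by simp), by rw [hΦ]; simp [hx]⟩
  choose φ0 hφ0 using fun g : Matrix.SpecialLinearGroup (Fin 2) K => (htop.ge (Subgroup.mem_top g) :
    g ∈ realised (G := G) Φ)
  have hext : ∀ h k : G, (∀ (v : Fin 2 → K) (hv : v ≠ 0), h • Φ (Projectivization.mk K v hv) = k • Φ (Projectivization.mk K v hv)) → h = k := fun h k e =>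
    FaithfulSMul.eq_of_smul_eq_smul (α := Ω) fun o => by
      obtain ⟨pt, rfl⟩ := hΦsurj o
      rw [← Projectivization.mk_rep pt]; exact e _ _
  let φ : Matrix.SpecialLinearGroup (Fin 2) K →* G := MonoidHom.mk' φ0 fun g g' => hext _ _ fun v hv => by
    rw [hφ0, mul_smul, hφ0 g', hφ0 g]
    exact congrArg Φ (pj_congr _ _ (by rw [Matrix.mulVec_mulVec, Matrix.SpecialLinearGroup.coe_mul]))
  have hker : φ.ker ≤ Subgroup.center (Matrix.SpecialLinearGroup (Fin 2) K) := fun g hg => by
    have hfix : ∀ (v : Fin 2 → K) (hv : v ≠ 0) hgv, Φ (Projectivization.mk K (Matrix.mulVec g.1 v) hgv) = Φ (Projectivization.mk K v hv) := fun v hv hgv => by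
      rw [← hφ0 g v hv, show φ0 g = 1 from hg, one_smul]
    have hmul : ∀ v : Fin 2 → K, v ≠ 0 → Matrix.mulVec g.1 v ≠ 0 := fun v hv => mv_ne g hv
    have e0 := hfix ![1, 0] (by simp) (hmul _ (by simp))
    have e1 := hfix ![0, 1] (by simp) (hmul _ (by simp))
    have e2 := hfix ![1, 1] (by simp) (hmul _ (by simp))
    rw [hΦ, hΦ] at e0 e1 e2
    simp only [Matrix.mulVec, dotProduct, Fin.sum_univ_two, Matrix.cons_val_zero, Matrix.cons_val_one,
      Matrix.cons_val_fin_one, mul_one, mul_zero, add_zero, zero_add, if_true, one_ne_zero, if_false, zero_div, div_one] at e0 e1 e2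
    have h10 : g.1 1 0 = 0 := by
      by_contra h; rw [if_neg h] at e0; exact hPa _ e0
    have h11 : g.1 1 1 ≠ 0 := fun e => by
      have := CfsgLib.Dickson.det_eq g; rw [h10, e] at this; simp at this
    rw [if_neg h11] at e1
    have h01 : g.1 0 1 = 0 := (div_eq_zero_iff.mp (hPinj e1)).resolve_right h11
    rw [h10, zero_add, if_neg h11, h01, add_zero] at e2
    have h00 : g.1 0 0 = g.1 1 1 := (div_eq_one_iff_eq h11).mp (hPinj e2)
    rw [Subgroup.mem_center_iff]
    intro k
    apply CfsgLib.Dickson.ext_entries <;> simp [CfsgLib.Dickson.mul_entry, h10, h01, h00] <;> ring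
  have hcen : Subgroup.center (Matrix.SpecialLinearGroup (Fin 2) K) ≤ φ.ker := fun g hg => by
    rw [MonoidHom.mem_ker]
    refine hext _ _ fun v hv => ?_
    show φ0 g • _ = _
    rw [hφ0, one_smul]
    congr 1
    rw [Projectivization.mk_eq_mk_iff']
    refine ⟨g.1 0 0, ?_⟩
    have hu := Subgroup.mem_center_iff.mp hg (CfsgLib.Dickson.up 1)
    have hl := Subgroup.mem_center_iff.mp hg (CfsgLib.Dickson.lo 1)
    have u00 := congrArg (fun m : Matrix.SpecialLinearGroup (Fin 2) K => m.1 0 0) hu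
    have u01 := congrArg (fun m : Matrix.SpecialLinearGroup (Fin 2) K => m.1 0 1) hu
    have l00 := congrArg (fun m : Matrix.SpecialLinearGroup (Fin 2) K => m.1 0 0) hl
    simp [CfsgLib.Dickson.mul_entry] at u00 u01 l00
    have h11 : g.1 1 1 = g.1 0 0 := by linear_combination u01
    funext i
    fin_cases i <;> simp [Matrix.mulVec, dotProduct, Fin.sum_univ_two, u00, l00, h11]
  have hG : Nat.card G = (q + 1) * q * d := by
    rw [CfsgLib.ZassenhausOdd.card_group hZ hab, hcardΩ, Nat.add_sub_cancel]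
  have hPSL : Nat.card (Matrix.ProjectiveSpecialLinearGroup (Fin 2) K) = (q + 1) * q * d := by
    have h1 := CfsgLib.SLCard.gcd_mul_card_PSL (F := K) (n := 2) (by norm_num)
    rw [CfsgLib.SLCard.card_SL_two, hcardK, show q - 1 = 2 * d by omega, Nat.gcd_mul_right_right] at h1
    have h2' : q * (q ^ 2 - 1) = 2 * ((q + 1) * q * d) := by
      rw [show q ^ 2 - 1 = (q + 1) * (q - 1) by rw [← Nat.sq_sub_sq, one_pow], show q - 1 = 2 * d by omega]; ring
    omega
  let φb : Matrix.ProjectiveSpecialLinearGroup (Fin 2) K →* G := QuotientGroup.lift _ φ hcen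
  have hφbinj : Function.Injective φb := (injective_iff_map_eq_one φb).mpr fun x hx => by
    obtain ⟨g, rfl⟩ := QuotientGroup.mk_surjective x
    exact (QuotientGroup.eq_one_iff g).mpr (hker hx)
  have hbij : Function.Bijective φb := hφbinj.bijective_of_nat_card_le (by rw [hG, hPSL])
  exact ⟨p, f, K, inferInstance, inferInstance, hp, hp2, hcardK, hcardΩ, ⟨(MulEquiv.ofBijective φb hbij).symm⟩⟩

end CfsgLib.ZassenhausHalfOdd
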