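import Cfsg.Prelude.Def_LieExceptional
import Cfsg.Agent.S0739
import Cfsg.Agent.S0741
import Cfsg.Agent.S0742
import Cfsg.Agent.S0885
import Cfsg.Agent.Lib.Perm.ZassenhausHalfOdd
import Mathlib

/-!
Zassenhaus groups with abelian kernel.
-/

set_option autoImplicit false
set_option linter.style.haveILetI false
set_option linter.unusedVariables false

namespace CfsgLib.ZassenhausAbelian

/-- A Zassenhaus group with abelian kernel is sharply three-transitive or of half that order. -/
theorem cases {G Ω : Type*} [Group G] [Finite G] [MulAction G Ω] [Fintype Ω] (hZ : Cfsg.IsZassenhausGroup G Ω)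
    (x : Ω) (F : Subgroup G) (hFle : F ≤ MulAction.stabilizer G x)
    (hFn : (F.subgroupOf (MulAction.stabilizer G x)).Normal) (hFab : IsMulCommutative F)
    (hreg : ∀ y z : Ω, y ≠ x → z ≠ x → ∃! u : F, (u : G) • y = z) :
    (∃ y : Ω, x ≠ y ∧ Nat.card ↥(MulAction.stabilizer G x ⊓ MulAction.stabilizer G y) = Fintype.card Ω - 2 ∧
      (MulAction.IsMultiplyPretransitive G Ω 3 ∧ ∀ t : Fin 3 ↪ Ω, MulAction.stabilizer G t = ⊥)) ∨
    ∃ y : Ω, x ≠ y ∧ 2 * Nat.card ↥(MulAction.stabilizer G x ⊓ MulAction.stabilizer G y) = Fintype.card Ω - 2 ∧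
      ∃ (p f : ℕ) (K : Type) (_ : Field K) (_ : Fintype K), p.Prime ∧ p ≠ 2 ∧ Fintype.card K = p ^ f ∧
        Fintype.card Ω = p ^ f + 1 ∧ Nonempty (G ≃* Matrix.ProjectiveSpecialLinearGroup (Fin 2) K) := by
  classical
  open MulAction in
  obtain ⟨hfaith, h2, h3, hfixe, hregN⟩ := id hZ
  haveI := hfaith
  haveI := h2
  obtain ⟨y, hyx, -⟩ := CfsgLib.ZassenhausNormal.exists_third h2 h3 hfixe x x
  have hxy : x ≠ y := hyx.symm
  set d := Nat.card ↥(MulAction.stabilizer G x ⊓ MulAction.stabilizer G y) with hdd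
  have hFfix : ∀ u ∈ F, u ≠ 1 → ∀ c : Ω, u • c = c → c = x := by
    intro u hu hu1 c hc
    by_contra hcx
    obtain ⟨w, -, hw⟩ := hreg c c hcx hcx
    exact hu1 (congrArg Subtype.val ((hw ⟨u, hu⟩ hc).trans (hw 1 (one_smul _ _)).symm))
  have hFcard : Nat.card F + 1 = Fintype.card Ω := by
    have hb : Function.Bijective (fun u : F => (⟨(u : G) • y, fun e => hyx (MulAction.injective (u : G)
        (e.trans (hFle u.2).symm))⟩ : {c : Ω // c ≠ x})) := by
      refine ⟨fun u v e => ?_, fun ⟨c, hc⟩ => ?_⟩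
      · obtain ⟨w, -, hw⟩ := hreg y ((u : G) • y) hyx (fun e' => hyx (MulAction.injective (u : G) (e'.trans (hFle u.2).symm)))
        exact (hw u rfl).trans (hw v (congrArg Subtype.val e).symm).symm
      · obtain ⟨u, hu, -⟩ := hreg y c hyx hc
        exact ⟨u, Subtype.ext hu⟩
    rw [Nat.card_congr (Equiv.ofBijective _ hb), Nat.card_eq_fintype_card, Fintype.card_subtype_compl, Fintype.card_subtype_eq]
    have := Fintype.card_pos_iff.mpr ⟨x⟩
    omega
  have hge := CfsgLib.Zassenhaus.card_ge_three hZ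
  have hdvd : d ∣ Fintype.card Ω - 2 := by
    let Dg := MulAction.stabilizer G x ⊓ MulAction.stabilizer G y
    let C := {c : Ω // c ≠ x ∧ c ≠ y}
    letI : MulAction Dg C :=
      { smul := fun g c => ⟨(g : G) • c.1,
          fun e => c.2.1 (MulAction.injective (g : G) (e.trans (g.2.1).symm)),
          fun e => c.2.2 (MulAction.injective (g : G) (e.trans (g.2.2).symm))⟩
        one_smul := fun c => Subtype.ext (one_smul G c.1)
        mul_smul := fun g g' c => Subtype.ext (mul_smul (g : G) (g' : G) c.1) }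
    have hfree : ∀ c : C, MulAction.stabilizer Dg c = ⊥ := fun c => (Subgroup.eq_bot_iff_forall _).mpr fun g hg =>
      Subtype.ext (h3 g x y c.1 hxy (Ne.symm c.2.2) (Ne.symm c.2.1) g.2.1 g.2.2 (congrArg Subtype.val hg))
    have e := Nat.card_congr (MulAction.selfEquivOrbitsQuotientProd hfree)
    rw [Nat.card_prod] at e
    have hC : Nat.card C = Fintype.card Ω - 2 := by
      rw [Nat.card_eq_fintype_card, Fintype.card_subtype, show (Finset.univ.filter fun c : Ω => c ≠ x ∧ c ≠ y) = {x, y}ᶜ by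
        ext c; simp, Finset.card_compl, Finset.card_pair hxy]
    rw [← hC, e]
    exact dvd_mul_left _ _
  have hmulF : ∀ u ∈ F, ∀ v ∈ F, u * v = v * u := fun u hu v hv => congrArg Subtype.val (hFab.is_comm.comm ⟨u, hu⟩ ⟨v, hv⟩)
  have hcase : d = Fintype.card Ω - 2 ∨ 2 * d = Fintype.card Ω - 2 := by
    have hlow : Fintype.card Ω - 2 ≤ 2 * d := by
      rcases Nat.even_or_odd d with hev | hod
      · exact Cfsg.Agent.S0741.result hZ hxy hev
      · rcases Cfsg.Agent.S0885.result hZ hxy (Fintype.card Ω - 1) d (by omega) rfl hod F hFle hFcard hFfix with h | ⟨-, ⟨u, v, huv⟩, -⟩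
        · omega
        · exact absurd (Subtype.ext (hmulF _ u.2 _ v.2)) huv
    have hd0 : 0 < d := Nat.card_pos
    obtain ⟨k, hk⟩ := hdvd
    have : k ≤ 2 := Nat.le_of_mul_le_mul_left (by omega) hd0
    interval_cases k <;> omega
  rcases hcase with hfull | hhalf
  · left
    refine ⟨y, hxy, hfull, ?_⟩
    have hthird : ∀ a b c c' : Ω, a ≠ b → c ≠ a → c ≠ b → c' ≠ a → c' ≠ b → ∃ g : G, g • a = a ∧ g • b = b ∧ g • c = c' := by
      intro a b c c' hab hca hcb hc'a hc'b
      let f : ↥(MulAction.stabilizer G a ⊓ MulAction.stabilizer G b) → {o : Ω // o ≠ a ∧ o ≠ b} := fun g =>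
        ⟨(g : G) • c, fun e => hca (MulAction.injective (g : G) (e.trans (g.2.1).symm)),
          fun e => hcb (MulAction.injective (g : G) (e.trans (g.2.2).symm))⟩
      have hf : Function.Injective f := fun g g' e => by
        have e' : (g : G) • c = (g' : G) • c := congrArg Subtype.val e
        have h1 : (g' : G)⁻¹ * g = 1 := h3 _ a b c hab hcb.symm hca.symm
          (by rw [mul_smul, show (g : G) • a = a from g.2.1, inv_smul_eq_iff]; exact (g'.2.1).symm)
          (by rw [mul_smul, show (g : G) • b = b from g.2.2, inv_smul_eq_iff]; exact (g'.2.2).symm)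
          (by rw [mul_smul, e', inv_smul_smul])
        exact Subtype.ext (inv_mul_eq_one.mp h1).symm
      obtain ⟨g, hg⟩ := (hf.bijective_of_nat_card_le (by
        rw [CfsgLib.ZassenhausOdd.card_D_eq hZ hab hxy, ← hdd, hfull, Nat.card_eq_fintype_card, Fintype.card_subtype,
          show (Finset.univ.filter fun o : Ω => o ≠ a ∧ o ≠ b) = {a, b}ᶜ by ext o; simp, Finset.card_compl,
          Finset.card_pair hab])).2 ⟨c', hc'a, hc'b⟩
      exact ⟨g, g.2.1, g.2.2, congrArg Subtype.val hg⟩
    refine ⟨⟨fun s t => ?_⟩, fun t => ?_⟩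
    · obtain ⟨g, hg0, hg1⟩ := CfsgLib.Zassenhaus.exists_smul_pair hZ (s.injective.ne (show (0 : Fin 3) ≠ 1 by decide))
        (t.injective.ne (show (0 : Fin 3) ≠ 1 by decide))
      obtain ⟨k, hk0, hk1, hk2⟩ := hthird (t 0) (t 1) (g • s 2) (t 2) (t.injective.ne (by decide))
        (fun e => (show (2 : Fin 3) ≠ 0 by decide) (s.injective (MulAction.injective g (e.trans hg0.symm))))
        (fun e => (show (2 : Fin 3) ≠ 1 by decide) (s.injective (MulAction.injective g (e.trans hg1.symm))))
        (t.injective.ne (by decide)) (t.injective.ne (by decide))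
      refine ⟨k * g, ?_⟩
      ext i
      show (k * g) • s i = t i
      fin_cases i
      · show (k * g) • s 0 = t 0
        rw [mul_smul, hg0, hk0]
      · show (k * g) • s 1 = t 1
        rw [mul_smul, hg1, hk1]
      · show (k * g) • s 2 = t 2
        rw [mul_smul, hk2]
    · rw [Subgroup.eq_bot_iff_forall]
      intro g hg
      exact h3 g (t 0) (t 1) (t 2) (t.injective.ne (by decide)) (t.injective.ne (by decide)) (t.injective.ne (by decide))
        (DFunLike.congr_fun hg 0) (DFunLike.congr_fun hg 1) (DFunLike.congr_fun hg 2)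
  · right
    refine ⟨y, hxy, by omega, ?_⟩
    have hn2 : Fintype.card Ω = 2 * d + 2 := by omega
    rcases Nat.even_or_odd d with hev | hod
    · exact Cfsg.Agent.S0742.result hZ hxy hev (by omega)
    · refine CfsgLib.ZassenhausHalfOdd.psl hZ hxy hod hn2 (Cfsg.Agent.S0739.result hZ hxy hod ?_).2.2
      rintro q hq hqd ⟨N, hN, hidx⟩
      haveI := hN
      haveI : Fact q.Prime := ⟨hq⟩
      have hqG : q ∣ Nat.card G := hqd.trans (Subgroup.card_subgroup_dvd_card _)
      have hNne : N ≠ ⊥ := by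
        rintro rfl
        rw [Subgroup.index_bot] at hidx
        have h2G : 2 ∣ Nat.card G := by
          rw [CfsgLib.ZassenhausOdd.card_group hZ hxy, hn2]
          exact dvd_mul_of_dvd_left (dvd_mul_of_dvd_left ⟨d + 1, by ring⟩ _) _
        rw [hidx] at h2G
        have := (Nat.prime_dvd_prime_iff_eq Nat.prime_two hq).mp (Nat.prime_two.dvd_of_dvd_pow h2G)
        exact hod.not_two_dvd_nat (this ▸ hqd)
      have hFn : ∀ h ∈ MulAction.stabilizer G x, ∀ u ∈ F, h * u * h⁻¹ ∈ F := fun h hh u hu =>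
        hFn.conj_mem ⟨u, hFle hu⟩ hu ⟨h, hh⟩
      have hFN : F ≤ N := CfsgLib.ZassenhausNormal.kernel_le h2 h3 hfixe hNne hregN x hFle hFn hFfix
      have hZN := CfsgLib.ZassenhausNormal.normal_isZassenhaus h2 h3 hfixe hNne hregN
      have eN : Nat.card G = Nat.card N * N.index := (Subgroup.card_mul_index N).symm
      have hG' := CfsgLib.ZassenhausOdd.card_group hZ hxy
      have hN' := CfsgLib.ZassenhausOdd.card_group hZN hxy
      set d' := Nat.card ↥(MulAction.stabilizer N x ⊓ MulAction.stabilizer N y) with hd'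
      have hdd' : d = d' * N.index := by
        rw [hG', hN'] at eN
        refine Nat.eq_of_mul_eq_mul_left ?_ (eN.trans (mul_assoc _ _ _))
        exact Nat.mul_pos (by omega) (by omega)
      have hi : q ≤ N.index := hidx ▸ Nat.le_self_pow (hq.factorization_pos_of_dvd Nat.card_pos.ne' hqG).ne' q
      have hd'pos : 0 < d' := Nat.card_pos
      have hlt : d' * 2 ≤ d := hdd' ▸ Nat.mul_le_mul_left _ (hq.two_le.trans hi)
      have hd'odd : Odd d' := (Nat.odd_mul.mp (hdd' ▸ hod)).1
      have hFN' : Nat.card (F.subgroupOf N) + 1 = Fintype.card Ω := by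
        rw [Nat.card_congr (Subgroup.subgroupOfEquivOfLe hFN).toEquiv]; exact hFcard
      rcases Cfsg.Agent.S0885.result hZN hxy (Fintype.card Ω - 1) d' (by omega) rfl hd'odd (F.subgroupOf N)
          (fun u hu => hFle hu) hFN' (fun u hu hu1 c hc => hFfix u hu (fun e => hu1 (Subtype.ext e)) c hc) with h | ⟨-, ⟨u, v, huv⟩, -⟩
      · omega
      · exact huv (Subtype.ext (Subtype.ext (hmulF _ u.2 _ v.2)))

end CfsgLib.ZassenhausAbelian
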