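import Mathlib.GroupTheory.Perm.ViaEmbedding
import Mathlib.GroupTheory.Perm.Sign
import Mathlib.GroupTheory.SpecificGroups.Alternating
import Mathlib.GroupTheory.Sylow
import Mathlib.Data.Nat.Choose.Factorization
import Mathlib.Data.ZMod.Basic
import Mathlib.Algebra.BigOperators.Group.Finset.Basic

/-!
When is a Sylow subgroup of an alternating group abelian?
-/

set_option autoImplicit false
set_option linter.unusedSectionVars false

namespace CfsgLib.AbelianSylowAlt

open Equiv Equiv.Perm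

variable (p : ℕ)

/-- The wreath product `C_p ≀ C_p` on `p ^ 2` points. -/
def wreath : Subgroup (Perm (ZMod p × ZMod p)) where
  carrier := {g | ∃ (a : ZMod p) (f : ZMod p → ZMod p), ∀ x, g x = (x.1 + a, x.2 + f x.1)}
  one_mem' := ⟨0, 0, fun x => by simp⟩
  mul_mem' := by
    rintro g h ⟨a, f, hg⟩ ⟨b, e, hh⟩
    refine ⟨b + a, fun z => e z + f (z + b), fun x => ?_⟩
    rw [Perm.mul_apply, hh, hg]
    simp [add_assoc]
  inv_mem' := by
    rintro g ⟨a, f, hg⟩
    refine ⟨-a, fun z => -f (z - a), fun x => g.injective ?_⟩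
    rw [show g (g⁻¹ x) = x from g.apply_symm_apply x, hg]
    simp [sub_eq_add_neg]

theorem wreath_isPGroup [Fact p.Prime] : IsPGroup p ↥(wreath p) := by
  rintro ⟨g, a, f, hg⟩
  have h1 : ∀ (k : ℕ) (x : ZMod p × ZMod p), ∃ c, (g ^ k) x = (x.1 + k • a, c) := by
    intro k
    induction k with
    | zero => intro x; exact ⟨x.2, by simp⟩
    | succ k ih =>
      intro x
      obtain ⟨c, hc⟩ := ih x
      rw [pow_succ', Perm.mul_apply, hc, hg]
      exact ⟨_, Prod.ext (by rw [succ_nsmul, add_assoc]) rfl⟩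
  obtain ⟨F, hF⟩ : ∃ F : ZMod p → ZMod p, ∀ x, (g ^ p) x = (x.1, x.2 + F x.1) := by
    obtain ⟨b, F, hF⟩ : g ^ p ∈ wreath p := pow_mem (show g ∈ wreath p from ⟨a, f, hg⟩) p
    refine ⟨F, fun x => ?_⟩
    obtain ⟨c, hc⟩ := h1 p x
    rw [hF, Prod.mk.injEq] at hc
    rw [hF, hc.1, nsmul_eq_mul, ZMod.natCast_self, zero_mul, add_zero]
  have h2 : ∀ (k : ℕ) (x : ZMod p × ZMod p), ((g ^ p) ^ k) x = (x.1, x.2 + k • F x.1) := by
    intro k
    induction k with
    | zero => intro x; simp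
    | succ k ih => intro x; rw [pow_succ', Perm.mul_apply, ih, hF, succ_nsmul, add_assoc]
  refine ⟨2, Subtype.ext (Equiv.ext fun x => ?_)⟩
  show (g ^ p ^ 2) x = x
  rw [pow_two p, pow_mul, h2, nsmul_eq_mul, ZMod.natCast_self, zero_mul, add_zero]

theorem wreath_not_comm [Fact p.Prime] : ∃ g ∈ wreath p, ∃ h ∈ wreath p, g * h ≠ h * g := by
  let g : Perm (ZMod p × ZMod p) := (Equiv.addRight (1 : ZMod p)).prodCongr (Equiv.refl _)
  let h : Perm (ZMod p × ZMod p) :=
    { toFun := fun x => (x.1, x.2 + if x.1 = 0 then 1 else 0)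
      invFun := fun x => (x.1, x.2 - if x.1 = 0 then 1 else 0)
      left_inv := fun x => by simp
      right_inv := fun x => by simp }
  refine ⟨g, ⟨1, 0, fun x => Prod.ext rfl (add_zero _).symm⟩, h,
    ⟨0, fun z => if z = 0 then 1 else 0, fun x => Prod.ext (add_zero _).symm rfl⟩, fun e => ?_⟩
  have := congrArg (fun q : Perm (ZMod p × ZMod p) => (q (0, 0)).2) e
  simp [g, h] at this

variable {n : ℕ}

theorem sign_viaEmbedding {α β : Type*} [Fintype α] [DecidableEq α] [Fintype β] [DecidableEq β] (ι : α ↪ β)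
    (σ : Perm α) : sign (viaEmbeddingHom ι σ) = sign σ := by
  classical
  rw [viaEmbeddingHom_apply]
  unfold Perm.viaEmbedding
  convert sign_extendDomain σ (Equiv.ofInjective ι.1 ι.2)

theorem sign_eq_one_of_odd [Fact p.Prime] (hp : p ≠ 2) {α : Type*} [Fintype α] [DecidableEq α] {σ : Perm α}
    {k : ℕ} (h : σ ^ p ^ k = 1) : sign σ = 1 := by
  have h1 := congrArg (sign : Perm α →* ℤˣ) h
  rw [map_pow, map_one] at h1
  rcases Int.units_eq_one_or (sign σ) with h' | h'
  · exact h'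
  · rw [h', Odd.neg_one_pow ((Nat.Prime.odd_of_ne_two Fact.out hp).pow)] at h1
    exact absurd h1 (by decide)

/-- A non-abelian `p`-subgroup of `A_n` for `p ^ 2 ≤ n`, `6 ≤ n`. -/
theorem exists_not_comm [Fact p.Prime] (hn : 6 ≤ n) (hle : p ^ 2 ≤ n) :
    ∃ Q : Subgroup (alternatingGroup (Fin n)), IsPGroup p ↥Q ∧ ∃ g ∈ Q, ∃ h ∈ Q, g * h ≠ h * g := by
  classical
  haveI : NeZero p := ⟨(Fact.out : p.Prime).ne_zero⟩
  obtain ⟨g, hg, h, hh, hgh⟩ := wreath_not_comm p
  obtain ⟨φ, hφ, hsgn⟩ : ∃ φ : Perm (ZMod p × ZMod p) →* Perm (Fin n), Function.Injective φ ∧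
      ∀ x ∈ wreath p, sign (φ x) = 1 := by
    by_cases hp : p = 2
    · subst hp
      obtain ⟨ι⟩ : Nonempty ((ZMod 2 × ZMod 2) ⊕ Fin 2 ↪ Fin n) :=
        Function.Embedding.nonempty_of_card_le (by simpa using hn)
      let e : Perm (Fin 2) ≃* ℤˣ := MulEquiv.ofBijective (sign : Perm (Fin 2) →* ℤˣ)
        ⟨by decide, sign_surjective (Fin 2)⟩
      refine ⟨(viaEmbeddingHom ι).comp ((sumCongrHom _ _).comp
        ((MonoidHom.id _).prod (e.symm.toMonoidHom.comp sign))), ?_, fun x _ => ?_⟩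
      · refine (viaEmbeddingHom_injective ι).comp ?_
        intro x y hxy
        have := sumCongrHom_injective hxy
        exact congrArg Prod.fst this
      · show sign (viaEmbeddingHom ι (Perm.sumCongr x (e.symm (sign x)))) = 1
        rw [sign_viaEmbedding, sign_sumCongr, show sign (e.symm (sign x)) = sign x from e.apply_symm_apply _,
          Int.units_mul_self]
    · obtain ⟨ι⟩ : Nonempty (ZMod p × ZMod p ↪ Fin n) :=
        Function.Embedding.nonempty_of_card_le (by simpa [pow_two] using hle)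
      refine ⟨viaEmbeddingHom ι, viaEmbeddingHom_injective ι, fun x hx => ?_⟩
      obtain ⟨k, hk⟩ := wreath_isPGroup p ⟨x, hx⟩
      rw [sign_viaEmbedding]
      exact sign_eq_one_of_odd p hp (congrArg Subtype.val hk)
  let ψ : ↥(wreath p) →* alternatingGroup (Fin n) :=
    (φ.comp (wreath p).subtype).codRestrict _ fun x => mem_alternatingGroup.mpr (hsgn x x.2)
  refine ⟨ψ.range, (wreath_isPGroup p).of_surjective ψ.rangeRestrict ψ.rangeRestrict_surjective,
    ψ ⟨g, hg⟩, ⟨_, rfl⟩, ψ ⟨h, hh⟩, ⟨_, rfl⟩, fun e => hgh (hφ ?_)⟩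
  rw [map_mul, map_mul]
  exact congrArg Subtype.val e

/-- An abelian Sylow `p`-subgroup of `S_n` for `n < p ^ 2`. -/
theorem exists_sylow_comm [Fact p.Prime] (hlt : n < p ^ 2) :
    ∃ T : Sylow p (Perm (Fin n)), IsMulCommutative T := by
  classical
  have hp : p.Prime := Fact.out
  haveI : NeZero p := ⟨hp.ne_zero⟩
  set m := n / p with hm
  obtain ⟨ι⟩ : Nonempty (Fin m × ZMod p ↪ Fin n) :=
    Function.Embedding.nonempty_of_card_le (by simpa using Nat.div_mul_le_self n p)
  let ρ : (Fin m → Multiplicative (ZMod p)) →* Perm (Fin m × ZMod p) :=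
    { toFun := fun f => Equiv.prodShear (Equiv.refl _) fun i => Equiv.addRight (Multiplicative.toAdd (f i))
      map_one' := Equiv.ext fun x => by simp [Equiv.prodShear]
      map_mul' := fun f e => Equiv.ext fun x => Prod.ext rfl
        (by simp [Equiv.prodShear, add_assoc, add_comm (Multiplicative.toAdd (e x.1))]) }
  have hρ : Function.Injective ρ := fun f e h => funext fun i => by
    have := congrArg (fun q : Perm (Fin m × ZMod p) => (q (i, 0)).2) h
    simpa [ρ, Equiv.prodShear] using this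
  let φ := (viaEmbeddingHom ι).comp ρ
  have hφ : Function.Injective φ := (viaEmbeddingHom_injective ι).comp hρ
  refine ⟨Sylow.ofCard φ.range ?_, ⟨⟨?_⟩⟩⟩
  · rw [← Nat.card_congr (MonoidHom.ofInjective hφ).toEquiv, Nat.card_perm, Nat.card_fin,
      Nat.factorization_factorial hp (b := 2) (Nat.log_lt_of_lt_pow' two_ne_zero hlt)]
    simp [← hm, Nat.card_fun, show Finset.Ico 1 2 = {1} from rfl]
  · rintro ⟨_, f, rfl⟩ ⟨_, e, rfl⟩
    exact Subtype.ext (by simp only [Subgroup.coe_mul]; rw [← map_mul, ← map_mul, mul_comm])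

theorem isMulCommutative_sylow_iff [Fact p.Prime] (hn : 6 ≤ n) (S : Sylow p (alternatingGroup (Fin n))) :
    IsMulCommutative S ↔ n < p ^ 2 := by
  classical
  constructor
  · intro hS
    by_contra hlt
    obtain ⟨Q, hQ, g, hg, h, hh, hne⟩ := exists_not_comm p hn (not_lt.mp hlt)
    obtain ⟨R, hR⟩ := hQ.exists_le_sylow
    refine hne ?_
    let e := R.equiv S
    have h1 : e ⟨g, hR hg⟩ * e ⟨h, hR hh⟩ = e ⟨h, hR hh⟩ * e ⟨g, hR hg⟩ := hS.1.comm _ _
    rw [← map_mul, ← map_mul] at h1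
    exact congrArg Subtype.val (e.injective h1)
  · intro hlt
    obtain ⟨T, hT⟩ := exists_sylow_comm p hlt
    obtain ⟨R, hR⟩ := (S.2.map (alternatingGroup (Fin n)).subtype).exists_le_sylow
    refine ⟨⟨fun x y => ?_⟩⟩
    let e := R.equiv T
    have h1 : e ⟨_, hR ⟨_, x.2, rfl⟩⟩ * e ⟨_, hR ⟨_, y.2, rfl⟩⟩ = e ⟨_, hR ⟨_, y.2, rfl⟩⟩ * e ⟨_, hR ⟨_, x.2, rfl⟩⟩ :=
      hT.1.comm _ _
    rw [← map_mul, ← map_mul] at h1
    have h2 := congrArg Subtype.val (e.injective h1)
    exact Subtype.ext (Subtype.ext h2)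

end CfsgLib.AbelianSylowAlt
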