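/-
Multiple transitivity from transitivity of pointwise stabilisers.
-/
import Mathlib

set_option autoImplicit false

namespace CfsgLib.PermFixing

universe u v
variable {G : Type u} [Group G] {α : Type v} [MulAction G α]

/-- `G` is `j + 1`-fold transitive "at level `j`". -/
def FixTrans (G : Type u) [Group G] (α : Type v) [MulAction G α] (j : ℕ) : Prop :=
  ∀ r : Finset α, r.card = j → ∀ x y : α, x ∉ r → y ∉ r →
    ∃ g : G, (∀ z ∈ r, g • z = z) ∧ g • x = y

theorem fixTrans_of_le [Fintype α] {j k : ℕ} (hjk : j ≤ k) (hk : k + 2 ≤ Fintype.card α)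
    (h : FixTrans G α k) : FixTrans G α j := by
  classical
  intro r hr x y hx hy
  obtain ⟨r', hrr', hr'sub, hr'⟩ := Finset.exists_subsuperset_card_eq
    (s := r) (t := (Finset.univ.erase x).erase y) (n := k)
    (fun z hz => by simp [show z ≠ x from fun e => hx (e ▸ hz), show z ≠ y from fun e => hy (e ▸ hz)])
    (hr ▸ hjk) (by
      have h1 := Finset.card_erase_add_one (Finset.mem_univ x)
      have h2 : ((Finset.univ.erase x).erase y).card + 1 ≥ (Finset.univ.erase x).card := by
        by_cases hy' : y ∈ Finset.univ.erase x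
        · exact (Finset.card_erase_add_one hy').ge
        · rw [Finset.erase_eq_of_notMem hy']; omega
      rw [Finset.card_univ] at h1
      omega)
  obtain ⟨g, hg, hgx⟩ := h r' hr' x y
    (fun hz => by simpa using hr'sub hz) (fun hz => by simpa using hr'sub hz)
  exact ⟨g, fun z hz => hg z (hrr' hz), hgx⟩

/-- Transitivity of all the pointwise stabilisers gives multiple transitivity. -/
theorem isMultiplyPretransitive_of_fixTrans {k : ℕ} (h : ∀ j < k, FixTrans G α j) :
    MulAction.IsMultiplyPretransitive G α k := by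
  classical
  rw [MulAction.isMultiplyPretransitive_iff]
  intro x y
  suffices key : ∀ i ≤ k, ∃ g : G, ∀ a : Fin k, (a : ℕ) < i → g • x a = y a by
    obtain ⟨g, hg⟩ := key k le_rfl
    exact ⟨g, Function.Embedding.ext fun a => hg a a.2⟩
  intro i
  induction i with
  | zero => exact fun _ => ⟨1, fun a ha => absurd ha (Nat.not_lt_zero _)⟩
  | succ i ih =>
    intro hik
    obtain ⟨g, hg⟩ := ih (by omega)
    set a₀ : Fin k := ⟨i, hik⟩
    set r : Finset α := (Finset.Iio a₀).image y with hr
    have hrc : r.card = i := by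
      rw [hr, Finset.card_image_of_injective _ y.injective, Fin.card_Iio]
    obtain ⟨h', hfix, hmove⟩ := h i hik r hrc (g • x a₀) (y a₀)
      (by
        rw [hr, Finset.mem_image]
        rintro ⟨a, ha, e⟩
        rw [Finset.mem_Iio] at ha
        rw [← hg a ha] at e
        exact ha.ne (x.injective (smul_left_cancel g e)))
      (by
        rw [hr, Finset.mem_image]
        rintro ⟨a, ha, e⟩
        exact (Finset.mem_Iio.mp ha).ne (y.injective e))
    refine ⟨h' * g, fun a ha => ?_⟩
    rw [mul_smul]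
    rcases Nat.lt_or_ge (a : ℕ) i with hlt | hge
    · rw [hg a hlt]
      exact hfix _ (Finset.mem_image_of_mem _ (Finset.mem_Iio.mpr hlt))
    · rw [show a = a₀ from Fin.ext (by omega : (a : ℕ) = i)]
      exact hmove

/-- A Gleason-type criterion: if for every point `x` some subgroup fixes `x` and has all other
orbits of size divisible by `d > 1`, the action is transitive. -/
theorem gleason [Finite α] {S : Set α} (hS : ∀ g : G, ∀ a ∈ S, g • a ∈ S) {d : ℕ} (hd : d ≠ 1)
    (h : ∀ x ∈ S, ∃ P : Subgroup G, (∀ p ∈ P, p • x = x) ∧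
      ∀ T : Set α, T ⊆ S → x ∉ T → (∀ p ∈ P, ∀ t ∈ T, p • t ∈ T) → d ∣ T.ncard)
    {x y : α} (hx : x ∈ S) (hy : y ∈ S) : ∃ g : G, g • x = y := by
  by_contra hno
  set O := MulAction.orbit G x with hO
  have hOS : O ⊆ S := by
    rintro _ ⟨g, rfl⟩; exact hS g x hx
  have hOinv : ∀ g : G, ∀ t ∈ O, g • t ∈ O := by
    rintro g _ ⟨h, rfl⟩; exact ⟨g * h, mul_smul g h x⟩
  obtain ⟨Py, -, hPy⟩ := h y hy
  have h1 : d ∣ O.ncard := hPy O hOS (fun ⟨g, hg⟩ => hno ⟨g, hg⟩) (fun p _ => hOinv p)
  obtain ⟨Px, hPx1, hPx⟩ := h x hx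
  have hx' : x ∈ O := MulAction.mem_orbit_self x
  have h2 : d ∣ (O \ {x}).ncard := hPx _ (Set.diff_subset.trans hOS) (by simp) (by
    rintro p hp t ⟨ht, htx⟩
    refine ⟨hOinv p t ht, fun e => htx ?_⟩
    rw [Set.mem_singleton_iff] at e ⊢
    exact smul_left_cancel p (e.trans (hPx1 p hp).symm))
  rw [← Set.ncard_diff_singleton_add_one hx' (Set.toFinite O)] at h1
  exact hd (Nat.dvd_one.mp ((Nat.dvd_add_right h2).mp h1))

/-- Invariant sets are unions of orbits. -/
theorem dvd_ncard_of_orbits [Finite α] (P : Subgroup G) {d : ℕ} (T : Set α)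
    (hT : ∀ p ∈ P, ∀ t ∈ T, p • t ∈ T) (hd : ∀ t ∈ T, d ∣ (MulAction.orbit P t).ncard) : d ∣ T.ncard := by
  induction hn : T.ncard using Nat.strong_induction_on generalizing T with
  | h n ih =>
    subst hn
    rcases T.eq_empty_or_nonempty with rfl | ⟨t, ht⟩
    · simp
    set O := MulAction.orbit P t with hO
    have hOT : O ⊆ T := by rintro _ ⟨p, rfl⟩; exact hT p p.2 t ht
    have hlt : (T \ O).ncard < T.ncard := Set.ncard_lt_ncard
      ⟨Set.diff_subset, fun hsub => (hsub ht).2 (MulAction.mem_orbit_self t)⟩ (Set.toFinite T)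
    have h1 := ih _ hlt (T \ O) (by
      rintro p hp z ⟨hz, hzO⟩
      refine ⟨hT p hp z hz, fun hpz => hzO ?_⟩
      obtain ⟨q, hq⟩ := hpz
      refine ⟨⟨p, hp⟩⁻¹ * q, ?_⟩
      show (⟨p, hp⟩⁻¹ * q : P) • t = z
      rw [mul_smul, show q • t = (⟨p, hp⟩ : P) • z from hq, inv_smul_smul]) (fun z hz => hd z hz.1) rfl
    rw [← Set.ncard_diff_add_ncard_of_subset hOT (Set.toFinite T)]
    exact dvd_add h1 (hd t ht)

end CfsgLib.PermFixing
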