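/-
Regular normal subgroups of multiply transitive groups.
-/
import Mathlib

set_option autoImplicit false

namespace CfsgLib.PermRegular

open scoped Pointwise

universe u v
variable {G : Type u} [Group G] {X : Type v} [MulAction G X]

/-- Blocks of a pointwise stabiliser acting primitively on the complement. -/
theorem block_trivial {n : ℕ} (h : MulAction.IsMultiplyPreprimitive G X n) {s : Set X} (hs : s.encard + 1 = n)
    (B : Set X) (hBs : ∀ b ∈ B, b ∉ s)
    (hB : ∀ g : G, (∀ z ∈ s, g • z = z) → ∀ b ∈ B, g • b ∈ B → ∀ c ∈ B, g • c ∈ B) :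
    B.Subsingleton ∨ ∀ x, x ∉ s → x ∈ B := by
  haveI := h
  haveI := MulAction.IsMultiplyPreprimitive.isPreprimitive_ofFixingSubgroup G n hs
  let B' : Set (SubMulAction.ofFixingSubgroup G s) := {z | (z : X) ∈ B}
  have hfix : ∀ g : fixingSubgroup G s, ∀ z ∈ s, (g : G) • z = z := fun g => (mem_fixingSubgroup_iff G).mp g.2
  have hblock : MulAction.IsBlock (fixingSubgroup G s) B' := by
    rw [MulAction.isBlock_iff_smul_eq_or_disjoint]
    intro g
    by_cases hd : Disjoint (g • B') B'
    · exact Or.inr hd
    left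
    obtain ⟨z, ⟨w, hw, rfl⟩, hz⟩ := Set.not_disjoint_iff.mp hd
    have h1 : ∀ c ∈ B, (g : G) • c ∈ B := hB g (hfix g) _ hw hz
    have h2 : ∀ c ∈ B, (g : G)⁻¹ • c ∈ B := hB _ (fun y hy => inv_smul_eq_iff.mpr (hfix g y hy).symm)
      _ hz (by show (g : G)⁻¹ • ((g : G) • (w : X)) ∈ B; rw [inv_smul_smul]; exact hw)
    ext y
    constructor
    · rintro ⟨c, hc, rfl⟩; exact h1 _ hc
    · intro hy
      exact ⟨g⁻¹ • y, h2 _ hy, smul_inv_smul g y⟩
  rcases MulAction.IsPreprimitive.isTrivialBlock_of_isBlock hblock with hs' | hu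
  · left
    intro a ha b hb
    have := hs' (show (⟨a, hBs a ha⟩ : SubMulAction.ofFixingSubgroup G s) ∈ B' from ha)
      (show (⟨b, hBs b hb⟩ : SubMulAction.ofFixingSubgroup G s) ∈ B' from hb)
    exact congrArg Subtype.val this
  · right
    intro x hx
    have : (⟨x, hx⟩ : SubMulAction.ofFixingSubgroup G s) ∈ B' := hu ▸ Set.mem_univ _
    exact this

variable (N : Subgroup G)

theorem smul_injective (hreg : ∀ x : X, MulAction.stabilizer N x = ⊥) (x : X) :
    Function.Injective (fun n : N => n • x) := by
  intro a b e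
  have h1 : b⁻¹ * a ∈ MulAction.stabilizer N x := by
    rw [MulAction.mem_stabilizer_iff, mul_smul]
    exact inv_smul_eq_iff.mpr e
  rw [hreg x, Subgroup.mem_bot, inv_mul_eq_one] at h1
  exact h1.symm

variable [N.Normal]

theorem smul_eq_conj {g : G} {x : X} (hg : g • x = x) {n m : G} (hn : n ∈ N) (hm : m ∈ N)
    (hreg : ∀ x : X, MulAction.stabilizer N x = ⊥) (h : g • n • x = m • x) : g * n * g⁻¹ = m := by
  have h1 : (⟨g * n * g⁻¹, (inferInstance : N.Normal).conj_mem n hn g⟩ : N) • x = (⟨m, hm⟩ : N) • x := by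
    show (g * n * g⁻¹) • x = m • x
    rw [mul_smul, mul_smul, inv_smul_eq_iff.mpr hg.symm, h]
  exact congrArg Subtype.val (smul_injective N hreg x h1)

variable [Fintype X]

theorem two_primitive (hX : 2 ≤ Fintype.card X) (h2 : MulAction.IsMultiplyPreprimitive G X 2)
    (htrans : MulAction.IsPretransitive N X) (hreg : ∀ x : X, MulAction.stabilizer N x = ⊥) :
    Fintype.card X = 3 ∨ (IsMulCommutative N ∧ (∀ n ∈ N, n ^ 2 = 1) ∧ ∃ m : ℕ, Fintype.card X = 2 ^ m) := by
  classical
  obtain ⟨x⟩ : Nonempty X := Fintype.card_pos_iff.mp (by omega)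
  have hbij : Function.Bijective (fun n : N => n • x) :=
    ⟨smul_injective N hreg x, fun y => MulAction.exists_smul_eq N x y⟩
  haveI : Finite N := Finite.of_injective _ hbij.1
  have hcard : Nat.card N = Fintype.card X := by
    rw [Nat.card_eq_of_bijective _ hbij, Nat.card_eq_fintype_card]
  have h2t := MulAction.isMultiplyPretransitive_iff.mp h2.isMultiplyPretransitive
  have htr : ∀ n m : N, n ≠ 1 → m ≠ 1 → ∃ g : G, g * n * g⁻¹ = m := by
    intro n m hn hm
    have hnx : ∀ k : N, k ≠ 1 → x ≠ k • x := fun k hk e => hk (hbij.1 (by simpa using e.symm))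
    obtain ⟨g, hg⟩ := h2t ⟨![x, n • x], fun i j e => by
      fin_cases i <;> fin_cases j <;> simp_all [hnx n hn, (hnx n hn).symm]⟩
      ⟨![x, m • x], fun i j e => by fin_cases i <;> fin_cases j <;> simp_all [hnx m hm, (hnx m hm).symm]⟩
    have e0 : g • x = x := DFunLike.congr_fun hg 0
    have e1 : g • (n : G) • x = (m : G) • x := DFunLike.congr_fun hg 1
    exact ⟨g, smul_eq_conj N e0 n.2 m.2 hreg e1⟩
  by_cases h3 : Fintype.card X = 3
  · exact Or.inl h3
  right
  -- every element is an involution
  have hinv : ∀ n : N, n ≠ 1 → n * n = 1 := by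
    intro n hn
    by_contra hne
    have hne' : n ≠ n⁻¹ := fun e => hne (by nth_rewrite 2 [e]; rw [mul_inv_cancel])
    have hs : ({x} : Set X).encard + 1 = 2 := by rw [Set.encard_singleton]; rfl
    rcases block_trivial h2 hs {n • x, n⁻¹ • x} (fun b hb => by
      rcases hb with rfl | rfl
      · exact fun e => hn (hbij.1 (by simpa using e))
      · exact fun e => hn (inv_eq_one.mp (hbij.1 (by simpa using e))))
      (fun g hg b hb hgb c hc => by
        have hgx : g • x = x := hg x rfl
        have key : ∀ k l : N, g • k • x = l • x → g • k⁻¹ • x = l⁻¹ • x := fun k l e => by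
          have h1 := smul_eq_conj N hgx k.2 l.2 hreg e
          have h2 : g • ((k⁻¹ : N) : G) • x = ((l⁻¹ : N) : G) • x := by
            rw [Subgroup.coe_inv, Subgroup.coe_inv, ← h1, ← mul_smul,
              show (g * (k : G) * g⁻¹)⁻¹ = g * (k : G)⁻¹ * g⁻¹ by group, mul_smul (g * (k : G)⁻¹) g⁻¹,
              inv_smul_eq_iff.mpr hgx.symm]
          exact h2
        rcases hb with rfl | rfl <;> rcases hgb with e | e <;> rcases hc with rfl | rfl
        · exact Or.inl e
        · exact Or.inr (key n n e)
        · exact Or.inr e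
        · exact Or.inl (by simpa using key n n⁻¹ e)
        · exact Or.inr (by simpa using key n⁻¹ n e)
        · exact Or.inl e
        · exact Or.inl (by simpa using key n⁻¹ n⁻¹ e)
        · exact Or.inr e) with h | h
    · exact hne' (hbij.1 (h (Set.mem_insert _ _) (Set.mem_insert_of_mem _ rfl)))
    · apply h3
      have huniv : (Finset.univ : Finset X) = {x, n • x, n⁻¹ • x} := by
        refine (Finset.eq_univ_of_forall fun y => ?_).symm
        by_cases hy : y = x
        · simp [hy]
        · rcases h y (by simpa using hy) with rfl | rfl <;> simp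
      rw [← Finset.card_univ, huniv, Finset.card_insert_of_notMem, Finset.card_pair]
      · exact fun e => hne' (hbij.1 e)
      · simp only [Finset.mem_insert, Finset.mem_singleton, not_or]
        exact ⟨fun e => hn (hbij.1 (by simpa using e.symm)),
          fun e => hn (inv_eq_one.mp (hbij.1 (by simpa using e.symm)))⟩
  have hsq : ∀ n : N, n * n = 1 := fun n => by
    by_cases hn : n = 1
    · rw [hn, mul_one]
    · exact hinv n hn
  refine ⟨⟨⟨fun a b => ?_⟩⟩, fun n hn => ?_, ?_⟩
  · have := hsq (a * b)
    calc a * b = (a * b)⁻¹ := (inv_eq_of_mul_eq_one_right this).symm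
      _ = b⁻¹ * a⁻¹ := mul_inv_rev a b
      _ = b * a := by rw [inv_eq_of_mul_eq_one_right (hsq a), inv_eq_of_mul_eq_one_right (hsq b)]
  · rw [sq]; exact congrArg Subtype.val (hsq ⟨n, hn⟩)
  · have : Fact (Nat.Prime 2) := ⟨Nat.prime_two⟩
    obtain ⟨m, hm⟩ := (IsPGroup.exists_card_eq (p := 2) (G := N) fun n => ⟨1, by rw [pow_one, sq]; exact hsq n⟩)
    exact ⟨m, by rw [← hcard, hm]⟩

theorem three_primitive (hX : 3 ≤ Fintype.card X) (h2' : MulAction.IsMultiplyPreprimitive G X 2)
    (h3 : MulAction.IsMultiplyPreprimitive G X 3)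
    (htrans : MulAction.IsPretransitive N X) (hreg : ∀ x : X, MulAction.stabilizer N x = ⊥) :
    Fintype.card X = 3 ∨ Fintype.card X = 4 := by
  classical
  rcases two_primitive N (by omega) h2' htrans hreg with h | ⟨hcomm, hexp, -⟩
  · exact Or.inl h
  right
  obtain ⟨x⟩ : Nonempty X := Fintype.card_pos_iff.mp (by omega)
  have hinj := smul_injective N hreg x
  have hsq : ∀ n : N, n * n = 1 := fun n => Subtype.ext (by rw [Subgroup.coe_mul, ← sq]; exact hexp n n.2)
  obtain ⟨y, hy⟩ := Fintype.exists_ne_of_one_lt_card (by omega : 1 < Fintype.card X) x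
  obtain ⟨a, rfl⟩ := MulAction.exists_smul_eq N x y
  obtain ⟨z, hz⟩ : ∃ z : X, z ∉ ({x, a • x} : Finset X) := by
    obtain ⟨z, -, hz⟩ := Finset.exists_mem_notMem_of_card_lt_card (s := ({x, a • x} : Finset X)) (t := Finset.univ) (by
      rw [Finset.card_univ]; exact lt_of_le_of_lt Finset.card_le_two (by omega))
    exact ⟨z, hz⟩
  obtain ⟨b, rfl⟩ := MulAction.exists_smul_eq N x z
  simp only [Finset.mem_insert, Finset.mem_singleton, not_or] at hz
  have hb1 : b ≠ 1 := fun e => hz.1 (by rw [e, one_smul])
  have hba : b ≠ a := fun e => hz.2 (by rw [e])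
  have hab1 : a * b ≠ 1 := fun e => hba (mul_left_cancel (e.trans (hsq a).symm))
  have haba : a * b ≠ a := fun e => hb1 (mul_eq_left.mp e)
  have habb : a * b ≠ b := fun e => hy (by rw [mul_eq_right.mp e, one_smul])
  rcases block_trivial h3 (s := {x, a • x}) (by
      rw [Set.encard_pair (Ne.symm hy)]; rfl) {b • x, (a * b) • x} (fun c hc => by
      rcases hc with rfl | rfl
      · simp only [Set.mem_insert_iff, Set.mem_singleton_iff, not_or]
        exact ⟨hz.1, hz.2⟩
      · simp only [Set.mem_insert_iff, Set.mem_singleton_iff, not_or]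
        exact ⟨fun e => hab1 (hinj (by simpa using e)), fun e => haba (hinj e)⟩)
    (fun g hg c hc hgc d hd => by
      have hgx : g • x = x := hg x (Set.mem_insert _ _)
      have hga : g • (a : G) • x = (a : G) • x := hg _ (Set.mem_insert_of_mem _ rfl)
      have ca := smul_eq_conj N hgx a.2 a.2 hreg hga
      have key : ∀ k l : N, g • k • x = l • x → g • (a * k) • x = (a * l) • x := fun k l e => by
        have h1 := smul_eq_conj N hgx k.2 l.2 hreg e
        have h2 : g • ((a * k : N) : G) • x = ((a * l : N) : G) • x := by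
          rw [Subgroup.coe_mul, Subgroup.coe_mul, ← mul_smul]
          conv_rhs => rw [← ca, ← h1]
          rw [show g * (a : G) * g⁻¹ * (g * (k : G) * g⁻¹) = g * ((a : G) * (k : G)) * g⁻¹ by group,
            mul_smul (g * ((a : G) * (k : G))) g⁻¹, inv_smul_eq_iff.mpr hgx.symm]
        exact h2
      have haab : a * (a * b) = b := by rw [← mul_assoc, hsq, one_mul]
      rcases hc with rfl | rfl <;> rcases hgc with e | e <;> rcases hd with rfl | rfl
      · exact Or.inl e
      · exact Or.inr (key b b e)
      · exact Or.inr e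
      · have := key b (a * b) e; rw [haab] at this; exact Or.inl this
      · have := key (a * b) b e; rw [haab] at this; exact Or.inr this
      · exact Or.inl e
      · have := key (a * b) (a * b) e; rw [haab] at this; exact Or.inl this
      · exact Or.inr e) with h | h
  · exact absurd (hinj (h (Set.mem_insert _ _) (Set.mem_insert_of_mem _ rfl))) (Ne.symm habb)
  · have huniv : (Finset.univ : Finset X) = {x, a • x, b • x, (a * b) • x} := by
      refine (Finset.eq_univ_of_forall fun y => ?_).symm
      by_cases hy1 : y = x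
      · simp [hy1]
      by_cases hy2 : y = a • x
      · simp [hy2]
      rcases h y (by simp [hy1, hy2]) with rfl | rfl <;> simp
    rw [← Finset.card_univ, huniv, Finset.card_insert_of_notMem, Finset.card_insert_of_notMem, Finset.card_pair]
    · exact fun e => habb (hinj e).symm
    · simp only [Finset.mem_insert, Finset.mem_singleton, not_or]
      exact ⟨Ne.symm hz.2, fun e => haba (hinj e).symm⟩
    · simp only [Finset.mem_insert, Finset.mem_singleton, not_or]
      exact ⟨Ne.symm hy, Ne.symm hz.1, fun e => hab1 (hinj (by simpa using e.symm))⟩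

end CfsgLib.PermRegular
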