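/-
Normal subgroups of multiply primitive groups (Jordan, Wielandt).
-/
import Mathlib
import Cfsg.Agent.Lib.Perm.Regular

set_option autoImplicit false

namespace CfsgLib.PermNormal

open MulAction

universe u v

section
variable {G : Type u} [Group G] {X : Type v} [MulAction G X]

theorem pretransitive_of_normal [FaithfulSMul G X] (hG : IsPreprimitive G X) (H : Subgroup G) [H.Normal]
    (hH : H ≠ ⊥) : IsPretransitive H X := by
  haveI := hG
  refine IsQuasiPreprimitive.isPretransitive_of_normal (G := G) fun h => hH ?_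
  rw [Subgroup.eq_bot_iff_forall]
  intro n hn
  refine eq_of_smul_eq_smul (α := X) fun x => ?_
  rw [one_smul]
  exact (h.symm ▸ Set.mem_univ x : x ∈ fixedPoints H X) ⟨n, hn⟩

/-- A sharply 2-transitive group of degree at least 4 has no point stabiliser of exponent 2. -/
theorem sharp_not_exponent_two [FaithfulSMul G X] [Fintype X] (hn : 4 ≤ Fintype.card X)
    (h2 : IsMultiplyPretransitive G X 2) (a₀ : X)
    (hsq : ∀ g : G, g • a₀ = a₀ → g ^ 2 = 1)
    (hsharp : ∀ g : G, g • a₀ = a₀ → ∀ b, b ≠ a₀ → g • b = b → g = 1) : False := by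
  classical
  have h2' : ∀ {a b c d : X}, a ≠ b → c ≠ d → ∃ g : G, g • a = c ∧ g • b = d := is_two_pretransitive_iff.mp h2
  obtain ⟨b₀, hb₀⟩ := Fintype.exists_ne_of_one_lt_card (by omega : 1 < Fintype.card X) a₀
  -- transport both hypotheses to every point
  have hsq' : ∀ (a : X) (g : G), g • a = a → g ^ 2 = 1 := by
    intro a g hg
    obtain ⟨b, hb⟩ := Fintype.exists_ne_of_one_lt_card (by omega : 1 < Fintype.card X) a
    obtain ⟨k, hk, -⟩ := h2' hb₀.symm hb.symm
    have := hsq (k⁻¹ * g * k) (by rw [mul_smul, mul_smul, hk, hg, ← hk, inv_smul_smul])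
    rw [show k⁻¹ * g * k = k⁻¹ * g * k⁻¹⁻¹ by rw [inv_inv], conj_pow] at this
    exact conj_eq_one_iff.mp this
  have hsharp' : ∀ (a b : X) (g : G), a ≠ b → g • a = a → g • b = b → g = 1 := by
    intro a b g hab ha hb
    obtain ⟨k, hk, -⟩ := h2' hb₀.symm hab
    have := hsharp (k⁻¹ * g * k) (by rw [mul_smul, mul_smul, hk, ha, ← hk, inv_smul_smul]) (k⁻¹ • b)
      (fun e => hab (by rw [← hk, ← e, smul_inv_smul])) (by rw [mul_smul, mul_smul, smul_inv_smul, hb])
    rw [show k⁻¹ * g * k = k⁻¹ * g * k⁻¹⁻¹ by rw [inv_inv]] at this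
    exact conj_eq_one_iff.mp this
  -- the unique element swapping two points fixes all other points
  obtain ⟨h, hh1, hh2⟩ := h2' hb₀.symm hb₀
  have hfix : ∀ c, c ≠ a₀ → c ≠ b₀ → h • c = c := by
    intro c hca hcb
    obtain ⟨u, hu1, hu2⟩ := h2' (a := c) (b := a₀) (c := c) (d := b₀) hca hcb
    have hu3 : u • b₀ = a₀ := by
      rw [← hu2, ← mul_smul, ← pow_two, hsq' c u hu1, one_smul]
    have : h⁻¹ * u = 1 := hsharp' a₀ b₀ _ hb₀.symm
      (by rw [mul_smul, hu2, inv_smul_eq_iff, hh1]) (by rw [mul_smul, hu3, inv_smul_eq_iff, hh2])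
    rw [inv_mul_eq_one.mp this]; exact hu1
  obtain ⟨c, -, hc⟩ : ∃ c ∈ (Finset.univ : Finset X), c ∉ ({a₀, b₀} : Finset X) :=
    Finset.exists_mem_notMem_of_card_lt_card (by rw [Finset.card_univ]; exact lt_of_le_of_lt Finset.card_le_two (by omega))
  simp only [Finset.mem_insert, Finset.mem_singleton, not_or] at hc
  obtain ⟨d, -, hd⟩ : ∃ d ∈ (Finset.univ : Finset X), d ∉ ({a₀, b₀, c} : Finset X) :=
    Finset.exists_mem_notMem_of_card_lt_card (by rw [Finset.card_univ]; exact lt_of_le_of_lt Finset.card_le_three (by omega))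
  simp only [Finset.mem_insert, Finset.mem_singleton, not_or] at hd
  have h1 := hsharp' c d h (Ne.symm hd.2.2) (hfix c hc.1 hc.2) (hfix d hd.1 hd.2.1)
  rw [h1, one_smul] at hh1
  exact hb₀ hh1.symm

end

/-- A nonregular normal subgroup of a `k`-primitive group of degree at least `k + 2` is `k`-transitive. -/
theorem normal_multiply_transitive {G : Type u} [Group G] {X : Type v} [MulAction G X] [FaithfulSMul G X]
    [Fintype X] (k : ℕ) (hk : 1 ≤ k) (hn : k + 2 ≤ Fintype.card X) (hG : IsMultiplyPreprimitive G X k)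
    (H : Subgroup G) [H.Normal] (hnr : ∃ a : X, stabilizer H a ≠ ⊥) : IsMultiplyPretransitive H X k := by
  induction k, hk using Nat.le_induction generalizing G X with
  | base =>
    rw [is_one_pretransitive_iff]
    refine pretransitive_of_normal ((is_one_preprimitive_iff G X).mp hG) H fun e => ?_
    obtain ⟨a, ha⟩ := hnr
    refine ha ((Subgroup.eq_bot_iff_forall _).mpr fun x _ => Subtype.ext ?_)
    exact Subgroup.mem_bot.mp (show (x : G) ∈ (⊥ : Subgroup G) from e ▸ x.2)
  | succ k hk ih =>
    classical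
    obtain ⟨a, ha⟩ := hnr
    have h1 : IsPreprimitive G X := (is_one_preprimitive_iff G X).mp
      (isMultiplyPreprimitive_of_le G X hG (by omega) (by rw [ENat.card_eq_coe_fintype_card]; exact_mod_cast (by omega : k + 1 ≤ Fintype.card X)))
    haveI := h1.toIsPretransitive
    haveI := hG
    have hGa : IsMultiplyPreprimitive (stabilizer G a) (SubMulAction.ofStabilizer G a) k :=
      isMultiplyPreprimitive_ofStabilizer G X
    haveI : Fintype (SubMulAction.ofStabilizer G a) := Fintype.ofFinite _
    have hY : Fintype.card (SubMulAction.ofStabilizer G a) + 1 = Fintype.card X := by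
      rw [← Nat.card_eq_fintype_card, ← Nat.card_eq_fintype_card, SubMulAction.nat_card_ofStabilizer_eq G a]
      have : 0 < Nat.card X := by rw [Nat.card_eq_fintype_card]; omega
      omega
    haveI : FaithfulSMul (stabilizer G a) (SubMulAction.ofStabilizer G a) := ⟨fun {g g'} h => by
      refine Subtype.ext (eq_of_smul_eq_smul (α := X) fun x => ?_)
      by_cases hx : x = a
      · rw [hx]; exact g.2.trans g'.2.symm
      · exact congrArg Subtype.val (h ⟨x, hx⟩)⟩
    set H' := H.subgroupOf (stabilizer G a) with hH'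
    have hH'0 : H' ≠ ⊥ := by
      intro e
      refine ha ((Subgroup.eq_bot_iff_forall _).mpr fun x hx => Subtype.ext ?_)
      have : (⟨(x : G), hx⟩ : stabilizer G a) ∈ H' := x.2
      rw [e, Subgroup.mem_bot] at this
      exact congrArg (fun z : stabilizer G a => (z : G)) this
    haveI : IsPretransitive H X := pretransitive_of_normal h1 H fun e => ha ((Subgroup.eq_bot_iff_forall _).mpr fun x _ =>
      Subtype.ext (Subgroup.mem_bot.mp (show (x : G) ∈ (⊥ : Subgroup G) from e ▸ x.2)))
    -- transfer transitivity from `H'` to the stabiliser in `H`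
    suffices hk' : IsMultiplyPretransitive H' (SubMulAction.ofStabilizer G a) k by
      rw [SubMulAction.ofStabilizer.isMultiplyPretransitive (a := a), isMultiplyPretransitive_iff]
      intro x y
      let e : SubMulAction.ofStabilizer H a ↪ SubMulAction.ofStabilizer G a :=
        ⟨fun z => ⟨z.1, z.2⟩, fun z w h => Subtype.ext (congrArg Subtype.val h)⟩
      obtain ⟨g, hg⟩ := (isMultiplyPretransitive_iff.mp hk') (x.trans e) (y.trans e)
      refine ⟨⟨⟨((g : stabilizer G a) : G), g.2⟩, (g : stabilizer G a).2⟩, Function.Embedding.ext fun i => Subtype.ext ?_⟩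
      exact congrArg (fun f : Fin k ↪ SubMulAction.ofStabilizer G a => ((f i : SubMulAction.ofStabilizer G a) : X)) hg
    have hGa1 : IsPreprimitive (stabilizer G a) (SubMulAction.ofStabilizer G a) :=
      (is_one_preprimitive_iff _ _).mp (isMultiplyPreprimitive_of_le _ _ hGa (by omega)
        (by rw [ENat.card_eq_coe_fintype_card]; exact_mod_cast (by omega : k ≤ Fintype.card (SubMulAction.ofStabilizer G a))))
    have htr' := pretransitive_of_normal hGa1 H' hH'0
    rcases Nat.lt_or_ge k 2 with hk1 | hk2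
    · obtain rfl : k = 1 := by omega
      rw [is_one_pretransitive_iff]; exact htr'
    refine ih (by omega) hGa H' ?_
    by_contra hreg
    push Not at hreg
    have hGa2 := isMultiplyPreprimitive_of_le _ _ hGa hk2
      (by rw [ENat.card_eq_coe_fintype_card]; exact_mod_cast (by omega : k ≤ Fintype.card (SubMulAction.ofStabilizer G a)))
    rcases PermRegular.two_primitive H' (by omega) hGa2 htr' hreg with h3 | ⟨-, hsq, -⟩
    · omega
    rcases Nat.lt_or_ge k 3 with hk3 | hk3
    · obtain rfl : k = 2 := by omega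
      haveI : FaithfulSMul H X := ⟨fun {g g'} h => Subtype.ext (eq_of_smul_eq_smul (α := X) h)⟩
      have h2H : IsMultiplyPretransitive H X 2 := by
        rw [SubMulAction.ofStabilizer.isMultiplyPretransitive (a := a), is_one_pretransitive_iff]
        refine ⟨fun x y => ?_⟩
        obtain ⟨g, hg⟩ := htr'.exists_smul_eq ⟨x.1, x.2⟩ ⟨y.1, y.2⟩
        exact ⟨⟨⟨((g : stabilizer G a) : G), g.2⟩, (g : stabilizer G a).2⟩,
          Subtype.ext (congrArg (fun z : SubMulAction.ofStabilizer G a => (z : X)) hg)⟩
      refine sharp_not_exponent_two (G := H) (by omega) h2H a (fun g hg => Subtype.ext ?_) (fun g hg b hb hgb => Subtype.ext ?_)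
      · have := hsq ⟨(g : G), hg⟩ g.2
        simpa using congrArg Subtype.val this
      · have : (⟨⟨(g : G), hg⟩, g.2⟩ : H') ∈ stabilizer H' (⟨b, hb⟩ : SubMulAction.ofStabilizer G a) := Subtype.ext hgb
        rw [hreg, Subgroup.mem_bot] at this
        exact congrArg (fun z : H' => ((z : stabilizer G a) : G)) this
    · have hGa3 := isMultiplyPreprimitive_of_le _ _ hGa hk3
        (by rw [ENat.card_eq_coe_fintype_card]; exact_mod_cast (by omega : k ≤ Fintype.card (SubMulAction.ofStabilizer G a)))
      rcases PermRegular.three_primitive H' (by omega) hGa2 hGa3 htr' hreg with h | h <;> omega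

/-- Jordan: a normal subgroup of a `k`-transitive group is `(k-1)`-transitive or the exception for `k = 3`. -/
theorem jordan_normal {G : Type u} [Group G] {X : Type v} [MulAction G X] [FaithfulSMul G X] [Fintype X] {k : ℕ}
    (hk : 1 < k) (hdeg : k < Fintype.card X) (hG : IsMultiplyPretransitive G X k) (N : Subgroup G) [N.Normal]
    (hN : N ≠ ⊥) : IsMultiplyPretransitive N X (k - 1) ∨ (k = 3 ∧ IsMulCommutative N ∧ ∀ n ∈ N, n ^ 2 = 1) := by
  classical
  obtain ⟨j, rfl⟩ : ∃ j, k = j + 1 := ⟨k - 1, by omega⟩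
  haveI := hG
  have hP : IsMultiplyPreprimitive G X j :=
    isMultiplyPreprimitive_of_isMultiplyPretransitive_succ G X (by rw [ENat.card_eq_coe_fintype_card]; exact_mod_cast hdeg.le)
  have hle : ∀ i ≤ j, IsMultiplyPreprimitive G X i := fun i hi =>
    isMultiplyPreprimitive_of_le G X hP hi (by rw [ENat.card_eq_coe_fintype_card]; exact_mod_cast (by omega : j ≤ Fintype.card X))
  have htr := pretransitive_of_normal ((is_one_preprimitive_iff G X).mp (hle 1 (by omega))) N hN
  rw [Nat.add_sub_cancel]
  rcases Nat.lt_or_ge j 2 with hj | hj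
  · left
    obtain rfl : j = 1 := by omega
    rw [is_one_pretransitive_iff]; exact htr
  by_cases hnr : ∃ a : X, stabilizer N a ≠ ⊥
  · exact Or.inl (normal_multiply_transitive j (by omega) (by omega) hP N hnr)
  push Not at hnr
  rcases PermRegular.two_primitive N (by omega) (hle 2 hj) htr hnr with h | ⟨hc, hsq, -⟩
  · omega
  rcases Nat.lt_or_ge j 3 with hj3 | hj3
  · exact Or.inr ⟨by omega, hc, hsq⟩
  · rcases PermRegular.three_primitive N (by omega) (hle 2 hj) (hle 3 hj3) htr hnr with h | h <;> omega

end CfsgLib.PermNormal
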