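/-
Sharply two-transitive groups.
-/
import Mathlib
import Cfsg.Prelude.Def_Perm

set_option autoImplicit false

namespace CfsgLib.SharplyTwo

universe u
variable {α : Type u} [Fintype α] [DecidableEq α] (G : Subgroup (Equiv.Perm α))

section
variable [MulAction.IsMultiplyPretransitive G α 2] (hsharp : ∀ x : Fin 2 ↪ α, MulAction.stabilizer G x = ⊥)

include hsharp

omit [MulAction.IsMultiplyPretransitive G α 2] [Fintype α] [DecidableEq α] in
theorem eq_one_of_fix {g : G} {a b : α} (hab : a ≠ b) (ha : g • a = a) (hb : g • b = b) : g = 1 := by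
  have h : g ∈ MulAction.stabilizer G (⟨![a, b], fun i j e => by
      fin_cases i <;> fin_cases j <;> simp_all [hab, hab.symm]⟩ : Fin 2 ↪ α) := by
    rw [MulAction.mem_stabilizer_iff]
    exact Function.Embedding.ext fun i => by
      show g • ![a, b] i = ![a, b] i
      fin_cases i <;> simp [ha, hb]
  rwa [hsharp, Subgroup.mem_bot] at h

omit [Fintype α] [DecidableEq α] hsharp in
theorem exists_move {a b c d : α} (hab : a ≠ b) (hcd : c ≠ d) : ∃ g : G, g • a = c ∧ g • b = d := by
  obtain ⟨g, hg⟩ := MulAction.exists_smul_eq G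
    (⟨![a, b], fun i j e => by fin_cases i <;> fin_cases j <;> simp_all [hab, hab.symm]⟩ : Fin 2 ↪ α)
    ⟨![c, d], fun i j e => by fin_cases i <;> fin_cases j <;> simp_all [hcd, hcd.symm]⟩
  exact ⟨g, DFunLike.congr_fun hg 0, DFunLike.congr_fun hg 1⟩

theorem regular_normal (h2 : 2 ≤ Fintype.card α) :
    ∃ p j : ℕ, p.Prime ∧ 1 ≤ j ∧ Fintype.card α = p ^ j ∧ ∀ (_hp : Fact p.Prime) (P : Sylow p G),
      (P : Subgroup G).Normal ∧ IsMulCommutative (P : Subgroup G) ∧
      (∀ x ∈ (P : Subgroup G), x ^ p = 1) ∧ MulAction.IsPretransitive (P : Subgroup G) α ∧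
      (∀ a : α, MulAction.stabilizer (P : Subgroup G) a = ⊥) ∧
      ∀ g : G, g ∈ (P : Subgroup G) ↔ g = 1 ∨ ∀ a : α, g • a ≠ a := by
  classical
  haveI : Fintype G := Fintype.ofFinite G
  have htr : MulAction.IsPretransitive G α := ⟨fun x y => by
    by_cases hxy : x = y
    · exact ⟨1, by rw [one_smul, hxy]⟩
    · obtain ⟨g, hg, -⟩ := exists_move G hxy (Ne.symm hxy)
      exact ⟨g, hg⟩⟩
  obtain ⟨a, b, hab⟩ := Fintype.one_lt_card_iff.mp (show 1 < Fintype.card α by omega)
  set H := MulAction.stabilizer G a with hH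
  -- the stabiliser is regular on the other points
  have hHcard : Nat.card H + 1 = Fintype.card α := by
    have hbij : Function.Bijective (fun h : H => (⟨(h : G) • b, fun e => hab (smul_left_cancel (h : G) (h.2.trans e.symm))⟩ : {x // x ≠ a})) := by
      constructor
      · intro u v e
        have e' : (u : G) • b = (v : G) • b := congrArg Subtype.val e
        have h1 : ((v : G)⁻¹ * u) = 1 := eq_one_of_fix G hsharp hab
          (by rw [mul_smul, u.2, inv_smul_eq_iff]; exact v.2.symm) (by rw [mul_smul, e', inv_smul_smul])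
        exact Subtype.ext (inv_mul_eq_one.mp h1).symm
      · rintro ⟨x, hx⟩
        obtain ⟨g, hga, hgb⟩ := exists_move G hab (Ne.symm hx)
        exact ⟨⟨g, hga⟩, Subtype.ext hgb⟩
    rw [Nat.card_eq_of_bijective _ hbij, Nat.card_eq_fintype_card, Fintype.card_subtype_compl, Fintype.card_subtype_eq]
    omega
  have hGcard : Nat.card G = Fintype.card α * Nat.card H := by
    rw [← H.card_mul_index, hH, MulAction.index_stabilizer_of_transitive G a, Nat.card_eq_fintype_card (α := α), mul_comm]
  set n := Fintype.card α with hn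
  -- elements with a fixed point, apart from one
  set F := Finset.univ.filter (fun g : G => ∀ x : α, g • x ≠ x) with hF
  have hFcard : F.card + 1 = n := by
    set S := Finset.univ.filter (fun g : G => g ≠ 1 ∧ ∃ x : α, g • x = x) with hS
    have hSc : S.card = n * (Nat.card H - 1) := by
      have e : S = Finset.univ.biUnion (fun x : α => Finset.univ.filter (fun g : G => g ≠ 1 ∧ g • x = x)) := by
        ext g; simp [hS]
      rw [e, Finset.card_biUnion]
      · have hc : ∀ x : α, (Finset.univ.filter (fun g : G => g ≠ 1 ∧ g • x = x)).card = Nat.card H - 1 := by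
          intro x
          have h1 : Finset.univ.filter (fun g : G => g ≠ 1 ∧ g • x = x) =
              (Finset.univ.filter (fun g : G => g • x = x)).erase 1 := by ext g; simp
          rw [h1, Finset.card_erase_of_mem (by simp)]
          congr 1
          rw [← Fintype.card_subtype, ← Nat.card_eq_fintype_card]
          obtain ⟨c, rfl⟩ := htr.exists_smul_eq a x
          exact (Nat.card_congr (MulAction.stabilizerEquivStabilizer (G := G) (show c • a = c • a from rfl)).toEquiv).symm
        rw [Finset.sum_congr rfl fun x _ => hc x, Finset.sum_const, Finset.card_univ, smul_eq_mul]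
      · intro x _ y _ hxy
        refine Finset.disjoint_left.mpr fun g hgx hgy => ?_
        simp only [Finset.mem_filter] at hgx hgy
        exact hgx.2.1 (eq_one_of_fix G hsharp hxy hgx.2.2 hgy.2.2)
    have hsplit : (Finset.univ : Finset G) = insert 1 (S ∪ F) := by
      refine (Finset.eq_univ_of_forall fun g => ?_).symm
      simp only [hS, hF, Finset.mem_insert, Finset.mem_union, Finset.mem_filter, Finset.mem_univ, true_and]
      by_cases hg : g = 1
      · exact Or.inl hg
      right
      by_cases hx : ∃ x : α, g • x = x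
      · exact Or.inl ⟨hg, hx⟩
      · push Not at hx; exact Or.inr hx
    have h1 := congrArg Finset.card hsplit
    rw [Finset.card_univ, Finset.card_insert_of_notMem, Finset.card_union_of_disjoint, hSc,
      ← Nat.card_eq_fintype_card, hGcard] at h1
    · have h3 : n * (Nat.card H - 1) + n = n * Nat.card H := by
        rw [← Nat.mul_succ]; congr 1
        have : 0 < Nat.card H := Nat.card_pos
        omega
      omega
    · refine Finset.disjoint_left.mpr fun g hgS hgF => ?_
      simp only [hS, hF, Finset.mem_filter] at hgS hgF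
      obtain ⟨x, hx⟩ := hgS.2.2
      exact hgF.2 x hx
    · simp only [hS, hF, Finset.mem_union, Finset.mem_filter, Finset.mem_univ, true_and, not_or]
      exact ⟨fun h => h.1 rfl, fun h => h a (one_smul _ a)⟩
  obtain ⟨p, hp, hpn⟩ := Nat.exists_prime_and_dvd (n := n) (by omega)
  have := Fact.mk hp
  have hfree : ∀ q : ℕ, q.Prime → q ∣ n → ∀ x : G, x ≠ 1 → (∃ k, x ^ q ^ k = 1) → x ∈ F := by
    intro q hq hqn x hx ⟨k, hk⟩
    rw [hF, Finset.mem_filter]
    refine ⟨Finset.mem_univ _, fun y hy => hx ?_⟩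
    have hy' : x ∈ MulAction.stabilizer G y := hy
    have h1 : orderOf x ∣ Nat.card H := by
      have h2 := (MulAction.stabilizer G y).orderOf_dvd_natCard hy'
      obtain ⟨c, rfl⟩ := htr.exists_smul_eq a y
      rwa [← Nat.card_congr (MulAction.stabilizerEquivStabilizer (G := G) (show c • a = c • a from rfl)).toEquiv] at h2
    have hcop : (q ^ k).Coprime (Nat.card H) := by
      refine Nat.Coprime.pow_left k (hq.coprime_iff_not_dvd.mpr fun hd => ?_)
      exact hq.not_dvd_one ((Nat.dvd_add_right hd).mp (hHcard ▸ hqn))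
    exact orderOf_eq_one_iff.mp (Nat.eq_one_of_dvd_coprimes hcop (orderOf_dvd_of_pow_eq_one hk) h1)
  obtain ⟨x₀, hx₀⟩ := exists_prime_orderOf_dvd_card' (G := G) p (hGcard ▸ dvd_mul_of_dvd_left hpn _)
  have hx₀1 : x₀ ≠ 1 := fun e => hp.ne_one (by rw [← hx₀, e, orderOf_one])
  have hx₀F : x₀ ∈ F := hfree p hp hpn x₀ hx₀1 ⟨1, by rw [pow_one, ← hx₀, pow_orderOf_eq_one]⟩
  have hconj : ∀ g ∈ F, ∃ c : G, c * x₀ * c⁻¹ = g := by
    have hsub : Finset.univ.image (fun h : H => (h : G) * x₀ * (h : G)⁻¹) = F := by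
      refine Finset.eq_of_subset_of_card_le (fun g hg => ?_) ?_
      · obtain ⟨h, -, rfl⟩ := Finset.mem_image.mp hg
        rw [hF, Finset.mem_filter]
        refine ⟨Finset.mem_univ _, fun y hy => (Finset.mem_filter.mp hx₀F).2 ((h : G)⁻¹ • y) ?_⟩
        rw [mul_smul, mul_smul] at hy
        rwa [eq_inv_smul_iff]
      · rw [Finset.card_image_of_injective _ ?_, Finset.card_univ, ← Nat.card_eq_fintype_card]
        · omega
        · intro u v e
          have hc : ((v : G)⁻¹ * u) * x₀ = x₀ * ((v : G)⁻¹ * u) := by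
            calc (v : G)⁻¹ * u * x₀ = (v : G)⁻¹ * ((u : G) * x₀ * (u : G)⁻¹) * u := by group
              _ = (v : G)⁻¹ * ((v : G) * x₀ * (v : G)⁻¹) * u := by rw [show (u : G) * x₀ * (u : G)⁻¹ = _ from e]
              _ = x₀ * ((v : G)⁻¹ * u) := by group
          have hfa : ((v : G)⁻¹ * u) • a = a := (H.mul_mem (H.inv_mem v.2) u.2 : _)
          have h1 := eq_one_of_fix G hsharp (g := (v : G)⁻¹ * u) (a := a) (b := x₀ • a)
            (Ne.symm ((Finset.mem_filter.mp hx₀F).2 a)) hfa (by
              conv_lhs => rw [← mul_smul, hc, mul_smul, hfa])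
          exact Subtype.ext (inv_mul_eq_one.mp h1).symm
    intro g hg
    rw [← hsub, Finset.mem_image] at hg
    obtain ⟨h, -, e⟩ := hg
    exact ⟨h, e⟩
  have hFord : ∀ g ∈ F, orderOf g = p := fun g hg => by
    obtain ⟨c, rfl⟩ := hconj g hg
    rw [← hx₀]
    exact MulEquiv.orderOf_eq (MulAut.conj c) x₀
  have huniq : ∀ q : ℕ, q.Prime → q ∣ n → q = p := by
    intro q hq hqn
    have := Fact.mk hq
    obtain ⟨y, hy⟩ := exists_prime_orderOf_dvd_card' (G := G) q (hGcard ▸ dvd_mul_of_dvd_left hqn _)
    have hyF := hfree q hq hqn y (fun e => hq.ne_one (by rw [← hy, e, orderOf_one]))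
      ⟨1, by rw [pow_one, ← hy, pow_orderOf_eq_one]⟩
    rw [← hy, hFord y hyF]
  have hn2 : n = p ^ n.primeFactorsList.length :=
    Nat.eq_prime_pow_of_unique_prime_dvd (by omega) fun {q} hq hd => huniq q hq hd
  set j := n.primeFactorsList.length with hj
  have hj1 : 1 ≤ j := by
    by_contra h0
    rw [show j = 0 by omega, pow_zero] at hn2
    omega
  refine ⟨p, j, hp, hj1, hn2, fun _ P => ?_⟩
  have hPcard : Nat.card P = n := by
    rw [P.card_eq_multiplicity, hGcard, Nat.factorization_mul (by omega) Nat.card_pos.ne', Finsupp.add_apply,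
      Nat.factorization_eq_zero_of_not_dvd (n := Nat.card H) (fun hd => hp.not_dvd_one ((Nat.dvd_add_right hd).mp (hHcard ▸ hpn))),
      add_zero]
    conv_lhs => rw [hn2, hp.factorization_pow, Finsupp.single_eq_same]
    exact hn2.symm
  have hPfin : Finset.univ.filter (fun g : G => g ∈ (P : Subgroup G)) = insert 1 F := by
    refine Finset.eq_of_subset_of_card_le (fun g hg => ?_) ?_
    · rw [Finset.mem_insert]
      by_cases hg1 : g = 1
      · exact Or.inl hg1
      · obtain ⟨k, hk⟩ := P.2 ⟨g, (Finset.mem_filter.mp hg).2⟩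
        exact Or.inr (hfree p hp hpn g hg1 ⟨k, by simpa using congrArg Subtype.val hk⟩)
    · rw [← Fintype.card_subtype, ← Nat.card_eq_fintype_card, hPcard]
      exact (Finset.card_insert_le _ _).trans hFcard.le
  have hmem : ∀ g : G, g ∈ (P : Subgroup G) ↔ g = 1 ∨ ∀ x : α, g • x ≠ x := fun g => by
    have := Finset.ext_iff.mp hPfin g
    simpa [hF] using this
  have hreg : ∀ x : α, MulAction.stabilizer (P : Subgroup G) x = ⊥ := fun x => by
    rw [Subgroup.eq_bot_iff_forall]
    intro g hg
    rcases (hmem g).mp g.2 with h | h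
    · exact Subtype.ext h
    · exact absurd hg (h x)
  have hnorm : (P : Subgroup G).Normal := ⟨fun g hg c => by
    rcases (hmem g).mp hg with rfl | h
    · simp
    · refine (hmem _).mpr (Or.inr fun x hx => h (c⁻¹ • x) ?_)
      rw [mul_smul, mul_smul] at hx
      rwa [eq_inv_smul_iff]⟩
  refine ⟨hnorm, ⟨⟨fun u v => ?_⟩⟩, fun g hg => ?_, ⟨fun x y => ?_⟩, hreg, hmem⟩
  · haveI : Nontrivial (P : Subgroup G) := Finite.one_lt_card_iff_nontrivial.mp (by rw [hPcard]; omega)
    haveI := P.2.center_nontrivial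
    obtain ⟨⟨z, hz⟩, hz1⟩ := exists_ne (1 : Subgroup.center (P : Subgroup G))
    have hzF : (z : G) ∈ F := by
      rcases (hmem z).mp z.2 with e | e
      · exact absurd (Subtype.ext (Subtype.ext e)) hz1
      · simp [hF, e]
    rcases (hmem v).mp v.2 with e | e
    · rw [show v = 1 from Subtype.ext e, mul_one, one_mul]
    obtain ⟨c₁, hc₁⟩ := hconj (v : G) (by simp [hF, e])
    obtain ⟨c₂, hc₂⟩ := hconj (z : G) hzF
    set c := c₁ * c₂⁻¹ with hc
    have hv : (v : G) = c * (z : G) * c⁻¹ := by rw [← hc₁, hc, ← hc₂]; group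
    have h1 := congrArg Subtype.val (Subgroup.mem_center_iff.mp hz ⟨c⁻¹ * u * c, by simpa using hnorm.conj_mem _ u.2 c⁻¹⟩)
    refine Subtype.ext ?_
    show (u : G) * v = v * u
    rw [hv]
    calc (u : G) * (c * (z : G) * c⁻¹) = c * ((c⁻¹ * u * c) * z) * c⁻¹ := by group
      _ = c * ((z : G) * (c⁻¹ * u * c)) * c⁻¹ := by
        rw [show (c⁻¹ * u * c) * (z : G) = (z : G) * (c⁻¹ * u * c) from h1]
      _ = c * (z : G) * c⁻¹ * u := by group
  · rcases (hmem g).mp hg with rfl | h
    · exact one_pow p
    · rw [← hFord g (by simp [hF, h]), pow_orderOf_eq_one]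
  · have hbij : Function.Bijective (fun g : (P : Subgroup G) => g • x) := by
      refine (Nat.bijective_iff_injective_and_card _).mpr ⟨fun u v e => ?_, by rw [hPcard, Nat.card_eq_fintype_card]⟩
      have h1 : v⁻¹ * u ∈ MulAction.stabilizer (P : Subgroup G) x := by
        rw [MulAction.mem_stabilizer_iff, mul_smul]
        exact inv_smul_eq_iff.mpr e
      rw [hreg x, Subgroup.mem_bot, inv_mul_eq_one] at h1
      exact h1.symm
    exact hbij.2 y

theorem exists_nearField (h2 : 2 ≤ Fintype.card α) :
    ∃ _ : Cfsg.NearField α, ∀ σ : Equiv.Perm α, σ ∈ G ↔ ∃ a b : α, a ≠ 0 ∧ ∀ x : α, σ x = x * a + b := by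
  classical
  obtain ⟨p, j, hp, -, -, hP⟩ := regular_normal G hsharp h2
  obtain ⟨P⟩ : Nonempty (Sylow p G) := inferInstance
  obtain ⟨hn, hc, -, htrans, hreg, -⟩ := hP ⟨hp⟩ P
  obtain ⟨o, e, hoe⟩ := Fintype.one_lt_card_iff.mp (show 1 < Fintype.card α by omega)
  have hbij : Function.Bijective (fun g : (P : Subgroup G) => g • o) := by
    refine ⟨fun u v h => ?_, fun y => htrans.exists_smul_eq o y⟩
    have h1 : v⁻¹ * u ∈ MulAction.stabilizer (P : Subgroup G) o := by
      rw [MulAction.mem_stabilizer_iff, mul_smul]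
      exact inv_smul_eq_iff.mpr h
    rw [hreg o, Subgroup.mem_bot, inv_mul_eq_one] at h1
    exact h1.symm
  let t : α ≃ (P : Subgroup G) := (Equiv.ofBijective _ hbij).symm
  have ht : ∀ x, t x • o = x := fun x => (Equiv.ofBijective _ hbij).apply_symm_apply x
  have hcm : ∀ u v : (P : Subgroup G), u * v = v * u := hc.is_comm.comm
  have hstab : ∀ x : α, x ≠ o → ∃ h : G, h • o = o ∧ h • e = x := fun x hx =>
    exists_move G hoe (Ne.symm hx)
  choose m hm1 hm2 using hstab
  have huniq : ∀ (h : G) (x : α) (hx : x ≠ o), h • o = o → h • e = x → h = m x hx := by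
    intro h x hx h1 h2
    have := eq_one_of_fix G hsharp (g := (m x hx)⁻¹ * h) hoe
      (by rw [mul_smul, h1, inv_smul_eq_iff, hm1]) (by rw [mul_smul, h2, inv_smul_eq_iff, hm2])
    exact (inv_mul_eq_one.mp this).symm
  let M : α → α → α := fun x y => if hy : y = o then o else m y hy • x
  let A : α → α → α := fun x y => (t x * t y) • o
  have htadd : ∀ x y, t (A x y) = t x * t y := fun x y => hbij.1 (ht _)
  have hto : t o = 1 := hbij.1 ((ht o).trans (one_smul _ o).symm)
  have hM0 : ∀ x, M x o = o := fun x => dif_pos rfl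
  have hMy : ∀ x y (hy : y ≠ o), M x y = m y hy • x := fun x y hy => dif_neg hy
  have hne : ∀ y (hy : y ≠ o) z (hz : z ≠ o), M y z ≠ o := by
    intro y hy z hz h
    rw [hMy y z hz] at h
    exact hy (smul_left_cancel (m z hz) (h.trans (hm1 z hz).symm))
  letI nf : Cfsg.NearField α :=
    { add := A
      add_assoc := fun x y z => by
        show A (A x y) z = A x (A y z)
        show (t (A x y) * t z) • o = (t x * t (A y z)) • o
        rw [htadd, htadd, mul_assoc]
      zero := o
      zero_add := fun x => by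
        show (t o * t x) • o = x
        rw [hto, one_mul, ht]
      add_zero := fun x => by
        show (t x * t o) • o = x
        rw [hto, mul_one, ht]
      nsmul := @nsmulRec α ⟨o⟩ ⟨A⟩
      zsmul := @zsmulRec α ⟨o⟩ ⟨A⟩ ⟨fun x => (t x)⁻¹ • o⟩ (@nsmulRec α ⟨o⟩ ⟨A⟩)
      neg := fun x => (t x)⁻¹ • o
      neg_add_cancel := fun x => by
        show (t ((t x)⁻¹ • o) * t x) • o = o
        rw [show t ((t x)⁻¹ • o) = (t x)⁻¹ from hbij.1 (ht _), inv_mul_cancel, one_smul]
      mul := M
      one := e
      one_mul := fun x => by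
        show M e x = x
        by_cases hx : x = o
        · rw [hx, hM0]
        · rw [hMy e x hx, hm2]
      mul_one := fun x => by
        show M x e = x
        rw [hMy x e (Ne.symm hoe), ← huniq 1 e (Ne.symm hoe) (one_smul _ _) (one_smul _ _), one_smul]
      mul_assoc := fun x y z => by
        show M (M x y) z = M x (M y z)
        by_cases hz : z = o
        · rw [hz, hM0, hM0, hM0]
        by_cases hy : y = o
        · rw [hy, hM0, hMy o z hz, hm1, hM0]
        rw [hMy x y hy, hMy (m y hy • x) z hz, hMy x _ (hne y hy z hz), ← mul_smul]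
        congr 1
        refine huniq _ _ (hne y hy z hz) ?_ ?_
        · rw [mul_smul, hm1, hm1]
        · rw [mul_smul, hm2, hMy y z hz]
      right_distrib := fun x y z => by
        show M (A x y) z = A (M x z) (M y z)
        by_cases hz : z = o
        · rw [hz, hM0, hM0, hM0]
          show o = (t o * t o) • o
          rw [hto, one_mul, one_smul]
        rw [hMy _ z hz, hMy _ z hz, hMy _ z hz]
        have key : ∀ w : α, t (m z hz • w) = ⟨m z hz * (t w : G) * (m z hz)⁻¹, hn.conj_mem _ (t w).2 _⟩ := by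
          intro w
          refine hbij.1 ?_
          show t (m z hz • w) • o = (m z hz * (t w : G) * (m z hz)⁻¹) • o
          rw [ht, mul_smul, mul_smul, inv_smul_eq_iff.mpr (hm1 z hz).symm]
          exact congrArg _ (ht w).symm
        show m z hz • (t x * t y) • o = (t (m z hz • x) * t (m z hz • y)) • o
        rw [key, key]
        show m z hz • ((t x : G) * (t y : G)) • o =
          (m z hz * (t x : G) * (m z hz)⁻¹ * (m z hz * (t y : G) * (m z hz)⁻¹)) • o
        rw [show m z hz * (t x : G) * (m z hz)⁻¹ * (m z hz * (t y : G) * (m z hz)⁻¹) =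
          m z hz * ((t x : G) * (t y : G)) * (m z hz)⁻¹ by group,
          mul_smul (m z hz * ((t x : G) * (t y : G))), inv_smul_eq_iff.mpr (hm1 z hz).symm]
        simp only [mul_smul]
      mul_zero := hM0
      zero_ne_one := hoe
      exists_inv := fun a ha => by
        have hx : (m a ha)⁻¹ • e ≠ o := fun h => hoe (by
          rw [inv_smul_eq_iff, hm1] at h; exact h.symm)
        refine ⟨(m a ha)⁻¹ • e, ?_, ?_⟩
        · show M a _ = e
          rw [hMy a _ hx, ← huniq (m a ha)⁻¹ _ hx (inv_smul_eq_iff.mpr (hm1 a ha).symm) rfl,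
            inv_smul_eq_iff, hm2]
        · show M _ a = e
          rw [hMy _ a ha, smul_inv_smul] }
  refine ⟨nf, fun σ => ⟨fun hσ => ?_, ?_⟩⟩
  · set g : G := ⟨σ, hσ⟩
    set b := g • o with hb
    set h := ((t b : G))⁻¹ * g with hh
    have hho : h • o = o := by
      rw [hh, mul_smul, ← hb, inv_smul_eq_iff]
      exact (ht b).symm
    have hhe : h • e ≠ o := fun h' => hoe (smul_left_cancel h (hho.trans h'.symm))
    refine ⟨h • e, b, hhe, fun x => ?_⟩
    show g • x = A (M x (h • e)) b
    rw [hMy x _ hhe, ← huniq h _ hhe hho rfl]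
    show g • x = (t (h • x) * t b) • o
    rw [hcm, mul_smul, ht]
    show g • x = (t b : G) • h • x
    rw [hh, mul_smul, smul_inv_smul]
  · rintro ⟨a, b, ha, hσ⟩
    have e' : σ = (((t b : G) * m a ha : G) : Equiv.Perm α) := Equiv.ext fun x => by
      rw [hσ x]
      show A (M x a) b = ((t b : G) * m a ha) • x
      rw [hMy x a ha]
      show (t (m a ha • x) * t b) • o = _
      rw [hcm, mul_smul, ht]
      show (t b : G) • m a ha • x = _
      exact (mul_smul _ _ _).symm
    rw [e']
    exact SetLike.coe_mem _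

end

end CfsgLib.SharplyTwo
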