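/-
Transitive permutation groups of prime degree: Muller's polynomial proof of Burnside's theorem.
-/
import Mathlib

set_option autoImplicit false

namespace CfsgLib.PrimeDegree

open Polynomial Finset

variable {p : ℕ} [Fact p.Prime]

/-- A polynomial of degree below `p` vanishing everywhere on `ZMod p` is zero. -/
theorem eq_zero_of_eval_eq_zero {R : Polynomial (ZMod p)} (hd : R.natDegree < p) (h : ∀ x, R.eval x = 0) :
    R = 0 :=
  Polynomial.eq_zero_of_natDegree_lt_card_of_eval_eq_zero R Function.injective_id (fun x => h x)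
    (by rw [ZMod.card]; exact hd)

/-- Some power sum of a nonempty set of nonzero residues, of exponent at most its size, is nonzero. -/
theorem exists_power_sum_ne_zero {D : Finset (ZMod p)} (hD : D.Nonempty) (h0 : (0 : ZMod p) ∉ D) (hcard : D.card < p) :
    ∃ k, 1 ≤ k ∧ k ≤ D.card ∧ ∑ d ∈ D, d ^ k ≠ 0 := by
  by_contra hcon
  push Not at hcon
  set P : Polynomial (ZMod p) := ∏ d ∈ D, (X - C d) with hP
  have hdeg : P.natDegree = D.card := by
    rw [hP, Polynomial.natDegree_prod _ _ fun d _ => X_sub_C_ne_zero d]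
    simp
  have h1 : ∑ d ∈ D, P.eval d = 0 := Finset.sum_eq_zero fun d hd => by
    rw [hP, Polynomial.eval_prod]
    exact Finset.prod_eq_zero hd (by simp)
  have h2 : ∀ d ∈ D, P.eval d = ∑ j ∈ range (D.card + 1), P.coeff j * d ^ j := fun d _ => by
    rw [Polynomial.eval_eq_sum_range, hdeg]
  rw [Finset.sum_congr rfl h2, Finset.sum_comm, Finset.sum_eq_single 0 (fun j hj hj0 => by
    rw [← Finset.mul_sum, hcon j (Nat.one_le_iff_ne_zero.mpr hj0) (by simpa using hj), mul_zero]) (by simp)] at h1
  simp only [pow_zero, mul_one, Finset.sum_const, nsmul_eq_mul] at h1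
  rcases mul_eq_zero.mp h1 with h | h
  · rw [ZMod.natCast_eq_zero_iff] at h
    exact absurd (Nat.le_of_dvd (Finset.card_pos.mpr hD) h) (by omega)
  · rw [Polynomial.coeff_zero_eq_eval_zero, hP, Polynomial.eval_prod, Finset.prod_eq_zero_iff] at h
    obtain ⟨d, hd, e⟩ := h
    simp at e
    exact h0 (e ▸ hd)

/-- A map respecting translates of a small nonempty set of nonzero residues is affine. -/
theorem affine_of_preserves {g : ZMod p → ZMod p} (hg : Function.Injective g) {D : Finset (ZMod p)}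
    (hD : D.Nonempty) (h0 : (0 : ZMod p) ∉ D) (hsmall : 2 * D.card < p)
    (hpres : ∀ x, D.image (fun d => g (x + d) - g x) = D) : ∃ a b, ∀ x, g x = a * x + b := by
  classical
  obtain ⟨k₀, hk₀⟩ : ∃ k, 1 ≤ k ∧ k ≤ D.card ∧ ∑ d ∈ D, d ^ k ≠ 0 :=
    exists_power_sum_ne_zero hD h0 (by omega)
  have hex : ∃ k, 1 ≤ k ∧ ∑ d ∈ D, d ^ k ≠ 0 := ⟨k₀, hk₀.1, hk₀.2.2⟩
  set k := Nat.find hex with hk
  obtain ⟨hk1, hks⟩ := Nat.find_spec hex
  have hkD : k ≤ D.card := (Nat.find_min' hex ⟨hk₀.1, hk₀.2.2⟩).trans hk₀.2.1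
  have hlow : ∀ i, 1 ≤ i → i < k → ∑ d ∈ D, d ^ i = 0 := fun i h1 h2 => by
    by_contra h; exact Nat.find_min hex h2 ⟨h1, h⟩
  -- differences have the power sums of `D`
  have hdiff : ∀ x i, ∑ d ∈ D, (g (x + d) - g x) ^ i = ∑ d ∈ D, d ^ i := fun x i => by
    conv_rhs => rw [← hpres x]
    rw [Finset.sum_image]
    intro a _ b _ e
    exact add_left_cancel (hg (sub_left_inj.mp e))
  -- so sums of powers differ from the constant ones by constants
  have hpow : ∀ x m, m ≤ k → ∑ d ∈ D, g (x + d) ^ m = D.card * g x ^ m + if m = k then ∑ d ∈ D, d ^ k else 0 := by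
    intro x m hm
    have h1 : ∀ d, g (x + d) ^ m = ∑ i ∈ range (m + 1), (g (x + d) - g x) ^ i * g x ^ (m - i) * (m.choose i : ZMod p) := fun d => by
      rw [← add_pow, sub_add_cancel]
    rw [Finset.sum_congr rfl fun d _ => h1 d, Finset.sum_comm, Finset.sum_range_succ']
    simp only [pow_zero, one_mul, Nat.choose_zero_right, Nat.cast_one, mul_one, Nat.sub_zero, Finset.sum_const, nsmul_eq_mul]
    rw [add_comm]
    congr 1
    simp only [← Finset.sum_mul, hdiff]
    by_cases hmk : m = k
    · rw [if_pos hmk, Finset.sum_eq_single (k - 1) (fun i hi hne => by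
        simp only [Finset.mem_range] at hi
        rw [hlow (i + 1) (by omega) (by omega), zero_mul, zero_mul]) (by simp; omega)]
      rw [show k - 1 + 1 = k by omega, hmk, Nat.sub_self, pow_zero, Nat.choose_self, Nat.cast_one, mul_one, mul_one]
    · rw [if_neg hmk, Finset.sum_eq_zero fun i hi => by
        simp only [Finset.mem_range] at hi
        rw [hlow (i + 1) (by omega) (by omega), zero_mul, zero_mul]]
  -- the interpolating polynomial
  set P := Lagrange.interpolate (univ : Finset (ZMod p)) id g with hPdef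
  have hPev : ∀ x, P.eval x = g x := fun x =>
    Lagrange.eval_interpolate_at_node g Function.injective_id.injOn (mem_univ x)
  set n := P.natDegree with hn
  have hnp : n < p := by
    rcases eq_or_ne P 0 with h | h
    · rw [hn, h, natDegree_zero]; exact (Fact.out : p.Prime).pos
    · have := Lagrange.degree_interpolate_lt g (Function.injective_id.injOn (s := ((univ : Finset (ZMod p)) : Set (ZMod p))))
      rw [← hPdef, Polynomial.degree_eq_natDegree h, Finset.card_univ, ZMod.card] at this
      exact_mod_cast this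
  suffices hn1 : n ≤ 1 by
    obtain ⟨a, b, hab⟩ := Polynomial.exists_eq_X_add_C_of_natDegree_le_one hn1
    exact ⟨a, b, fun x => by rw [← hPev, hab]; simp⟩
  by_contra hn1
  obtain ⟨m, hmk, hmN1, hmN2⟩ : ∃ m, m ≤ k ∧ k < m * n ∧ m * n < p := by
    rcases Nat.lt_or_ge k n with h | h
    · exact ⟨1, hk1, by omega, by omega⟩
    · refine ⟨k / n + 1, ?_, ?_, ?_⟩
      · have : k / n ≤ k / 2 := Nat.div_le_div_left (by omega) (by omega)
        omega
      · rw [add_mul, one_mul]
        have := Nat.div_add_mod' k n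
        have := Nat.mod_lt k (show n > 0 by omega)
        omega
      · rw [add_mul, one_mul]
        have := Nat.div_mul_le_self k n
        omega
  set N := m * n with hN
  set Q := P ^ m with hQ
  have hQd : Q.natDegree = N := by rw [hQ, natDegree_pow]
  set c : ZMod p := if m = k then ∑ d ∈ D, d ^ k else 0
  set R := ∑ d ∈ D, taylor d Q - (Polynomial.C (D.card : ZMod p) * Q + Polynomial.C c) with hR
  have hR0 : R = 0 := by
    refine eq_zero_of_eval_eq_zero ?_ fun x => ?_
    · refine lt_of_le_of_lt (natDegree_sub_le_of_le (natDegree_sum_le_of_forall_le _ _ (n := N) fun d _ => ?_) (n := N) ?_) (by simpa using hmN2)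
      · rw [natDegree_taylor, hQd]
      · exact natDegree_add_le_of_degree_le ((natDegree_C_mul_le _ _).trans hQd.le) (by rw [natDegree_C]; exact Nat.zero_le _)
    · rw [hR, eval_sub, eval_finsetSum, eval_add, eval_mul, eval_C, eval_C]
      simp only [taylor_eval, hQ, eval_pow, hPev]
      rw [hpow x m hmk, sub_self]
  have hcoef : ∀ d, (taylor d Q).coeff (N - k) = ∑ l ∈ range (k + 1), Q.coeff (N - k + l) * d ^ l * ((N - k + l).choose (N - k) : ZMod p) := by
    intro d
    have hh : (hasseDeriv (N - k) Q).natDegree < k + 1 := by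
      refine Nat.lt_succ_of_le ((natDegree_hasseDeriv_le Q (N - k)).trans ?_)
      rw [hQd]; omega
    rw [taylor_coeff, eval_eq_sum_range' hh]
    refine Finset.sum_congr rfl fun l _ => ?_
    rw [hasseDeriv_coeff, add_comm l]
    ring
  have h1 : R.coeff (N - k) = 0 := by rw [hR0, coeff_zero]
  rw [hR, coeff_sub, coeff_add, coeff_C_mul, coeff_C, if_neg (by omega), add_zero, finsetSum_coeff,
    Finset.sum_congr rfl fun d _ => hcoef d, Finset.sum_comm] at h1
  simp only [← Finset.sum_mul, ← Finset.mul_sum] at h1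
  rw [Finset.sum_range_succ, Finset.sum_eq_single 0 (fun l hl hl0 => by
      rw [hlow l (by omega) (by simpa using hl), mul_zero, zero_mul]) (by simp; omega)] at h1
  simp only [pow_zero, Finset.sum_const, nsmul_eq_mul, mul_one, add_zero, Nat.choose_self, Nat.cast_one,
    show N - k + k = N by omega] at h1
  rw [mul_comm (Q.coeff (N - k)), add_sub_cancel_left] at h1
  refine mul_ne_zero (mul_ne_zero ?_ hks) ?_ h1
  · rw [← hQd]; exact leadingCoeff_ne_zero.mpr (pow_ne_zero _ fun h => by rw [hn, h, natDegree_zero] at hn1; omega)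
  · rw [Ne, ZMod.natCast_eq_zero_iff]
    intro hdvd
    have hNk : N.choose (N - k) ∣ N.factorial := Dvd.intro _ (by rw [← mul_assoc]; exact Nat.choose_mul_factorial_mul_factorial (by omega))
    exact absurd ((Nat.Prime.dvd_factorial (Fact.out : p.Prime)).mp (hdvd.trans hNk)) (by omega)

/-- Burnside: a transitive group of prime degree that is not 2-transitive acts by affine maps in suitable
coordinates. -/
theorem affine_coordinates {G : Type*} [Group G] {α : Type*} [MulAction G α] [MulAction.IsPretransitive G α]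
    [Finite G] (hα : Nat.card α = p) (h2 : ¬ MulAction.IsMultiplyPretransitive G α 2) :
    ∃ e : ZMod p ≃ α, ∀ g : G, ∃ a b : ZMod p, ∀ x, g • e x = e (a * x + b) := by
  classical
  have hp : p.Prime := Fact.out
  haveI : Finite α := Nat.finite_of_card_ne_zero (by rw [hα]; exact hp.ne_zero)
  obtain ⟨a₀⟩ : Nonempty α := (Nat.card_pos_iff.mp (hα ▸ hp.pos)).1
  -- an element of order `p` moving the points in a single cycle
  have hdG : p ∣ Nat.card G := by
    rw [← hα, ← MulAction.index_stabilizer_of_transitive G a₀]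
    exact Subgroup.index_dvd_card _
  obtain ⟨P⟩ : Nonempty (Sylow p G) := inferInstance
  obtain ⟨σ, hσP, hσa⟩ : ∃ σ ∈ (P : Subgroup G), σ • a₀ ≠ a₀ := by
    by_contra hcon
    push Not at hcon
    have hle : (P : Subgroup G) ≤ MulAction.stabilizer G a₀ := fun x hx => hcon x hx
    refine P.not_dvd_index ((dvd_of_eq ?_).trans (Subgroup.index_dvd_of_le hle))
    rw [MulAction.index_stabilizer_of_transitive G a₀, hα]
  have hσp : IsPGroup p (Subgroup.zpowers σ) := P.2.to_le (Subgroup.zpowers_le.mpr hσP)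
  have horb : MulAction.orbit (Subgroup.zpowers σ) a₀ = Set.univ := by
    obtain ⟨j, hj⟩ := hσp.card_orbit a₀
    refine Set.eq_univ_of_forall fun y => ?_
    have hle : Nat.card (MulAction.orbit (Subgroup.zpowers σ) a₀) ≤ p := hα ▸ Nat.card_le_card_of_injective _ Subtype.val_injective
    have h1 : 1 < Nat.card (MulAction.orbit (Subgroup.zpowers σ) a₀) := by
      refine Finite.one_lt_card_iff_nontrivial.mpr ⟨⟨a₀, MulAction.mem_orbit_self a₀⟩, ⟨σ • a₀, ⟨⟨σ, Subgroup.mem_zpowers σ⟩, rfl⟩⟩, fun e => hσa (congrArg Subtype.val e).symm⟩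
    have heq : Nat.card (MulAction.orbit (Subgroup.zpowers σ) a₀) = p := by
      rcases Nat.lt_or_ge j 1 with h | h
      · rw [hj, Nat.lt_one_iff.mp h, pow_zero] at h1; omega
      · exact le_antisymm hle (hj ▸ Nat.le_self_pow (by omega) p)
    have := Set.eq_univ_of_forall (fun y => ((Nat.bijective_iff_injective_and_card (Subtype.val : MulAction.orbit (Subgroup.zpowers σ) a₀ → α)).mpr ⟨Subtype.val_injective, heq.trans hα.symm⟩).2 y) (s := Set.range (Subtype.val : MulAction.orbit (Subgroup.zpowers σ) a₀ → α))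
    rw [Subtype.range_val] at this
    rw [this]; trivial
  -- the coordinates
  have hper : Function.minimalPeriod (σ • ·) a₀ = p := by
    haveI := Fintype.ofFinite (MulAction.orbit (Subgroup.zpowers σ) a₀)
    rw [MulAction.minimalPeriod_eq_card, ← Nat.card_eq_fintype_card, horb, Nat.card_congr (Equiv.Set.univ α), hα]
  let f : ZMod p → α := fun x => σ ^ (x.val : ℤ) • a₀
  have hfz : ∀ z : ℤ, f z = σ ^ z • a₀ := fun z => by
    show σ ^ (((z : ZMod p).val : ℕ) : ℤ) • a₀ = _
    rw [ZMod.val_intCast, ← hper, MulAction.zpow_smul_mod_minimalPeriod]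
  have hfsurj : Function.Surjective f := fun y => by
    obtain ⟨⟨_, z, rfl⟩, hz⟩ := horb.symm ▸ Set.mem_univ y
    exact ⟨z, (hfz z).trans hz⟩
  have hfbij : Function.Bijective f := (Nat.bijective_iff_surjective_and_card f).mpr ⟨hfsurj, by rw [Nat.card_zmod, hα]⟩
  refine ⟨Equiv.ofBijective f hfbij, fun g => ?_⟩
  set e := Equiv.ofBijective f hfbij with he
  have hadd : ∀ x y : ZMod p, σ ^ (x.val : ℤ) • e y = e (x + y) := fun x y => by
    show σ ^ (x.val : ℤ) • f y = f (x + y)
    have : x + y = ((x.val + y.val : ℤ) : ZMod p) := by simp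
    rw [this, hfz, zpow_add, mul_smul]
  have he0 : e 0 = a₀ := by show σ ^ ((0 : ZMod p).val : ℤ) • a₀ = a₀; simp
  -- an orbit of the stabiliser, not everything
  obtain ⟨u, v, hu, hv, huv⟩ : ∃ u v : ZMod p, u ≠ 0 ∧ v ≠ 0 ∧ ∀ h : G, ¬ (h • e 0 = e 0 ∧ h • e u = e v) := by
    by_contra hcon
    push Not at hcon
    refine h2 (MulAction.is_two_pretransitive_iff.mpr ?_)
    intro a b c d hab hcd
    obtain ⟨x, rfl⟩ := e.surjective a; obtain ⟨y, rfl⟩ := e.surjective b
    obtain ⟨z, rfl⟩ := e.surjective c; obtain ⟨w, rfl⟩ := e.surjective d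
    obtain ⟨h, hh1, hh2⟩ := hcon (y - x) (w - z) (sub_ne_zero.mpr fun e' => hab (by rw [e'])) (sub_ne_zero.mpr fun e' => hcd (by rw [e']))
    refine ⟨σ ^ (z.val : ℤ) * h * σ ^ ((-x).val : ℤ), ?_, ?_⟩
    · rw [mul_smul, mul_smul, hadd, neg_add_cancel, hh1, hadd, add_zero]
    · rw [mul_smul, mul_smul, hadd, neg_add_eq_sub, hh2, hadd, add_sub_cancel]
  let Rel : ZMod p → ZMod p → Prop := fun x y => ∃ h : G, h • e 0 = e x ∧ h • e u = e y
  let D₀ : Finset (ZMod p) := univ.filter fun d => d ≠ 0 ∧ Rel 0 d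
  have hrel : ∀ x y, Rel x y ↔ y - x ∈ D₀ := fun x y => by
    simp only [D₀, Finset.mem_filter, Finset.mem_univ, true_and]
    constructor
    · rintro ⟨h, h1, h2'⟩
      refine ⟨sub_ne_zero.mpr fun e' => hu ?_, σ ^ ((-x).val : ℤ) * h, ?_, ?_⟩
      · exact e.injective (smul_left_cancel h (by rw [h1, h2', e']))
      · rw [mul_smul, h1, hadd, neg_add_cancel]
      · rw [mul_smul, h2', hadd, neg_add_eq_sub]
    · rintro ⟨-, h, h1, h2'⟩
      exact ⟨σ ^ (x.val : ℤ) * h, by rw [mul_smul, h1, hadd, add_zero], by rw [mul_smul, h2', hadd, add_sub_cancel]⟩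
  -- the map induced by `g`
  let φ : ZMod p → ZMod p := fun x => e.symm (g • e x)
  have hφ : ∀ x, e (φ x) = g • e x := fun x => e.apply_symm_apply _
  have hφi : Function.Injective φ := fun x y h => e.injective (smul_left_cancel g (e.symm.injective h))
  have hinv : ∀ x d, d ∈ D₀ ↔ φ (x + d) - φ x ∈ D₀ := fun x d => by
    rw [← hrel, show d ∈ D₀ ↔ Rel x (x + d) by rw [hrel, add_sub_cancel_left]]
    constructor
    · rintro ⟨h, h1, h2'⟩
      exact ⟨g * h, by rw [mul_smul, h1, hφ], by rw [mul_smul, h2', hφ]⟩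
    · rintro ⟨h, h1, h2'⟩
      exact ⟨g⁻¹ * h, by rw [mul_smul, h1, hφ, inv_smul_smul], by rw [mul_smul, h2', hφ, inv_smul_smul]⟩
  -- either the orbit or its complement is small
  let D₁ : Finset (ZMod p) := (univ.erase 0) \ D₀
  have hinv1 : ∀ x d, d ∈ D₁ ↔ φ (x + d) - φ x ∈ D₁ := fun x d => by
    simp only [D₁, Finset.mem_sdiff, Finset.mem_erase, Finset.mem_univ, and_true, ← hinv x d, ne_eq, sub_eq_zero, hφi.eq_iff, add_eq_left]
  have hsub : D₀ ⊆ univ.erase 0 := fun d hd => by simp only [D₀, Finset.mem_filter] at hd; simp [hd.2.1]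
  have hcard : D₀.card + D₁.card = p - 1 := by
    rw [add_comm, Finset.card_sdiff_add_card_eq_card hsub, Finset.card_erase_of_mem (mem_univ _), Finset.card_univ, ZMod.card]
  have hu0 : u ∈ D₀ := by simp only [D₀, Finset.mem_filter, Finset.mem_univ, true_and]; exact ⟨hu, 1, one_smul _ _, one_smul _ _⟩
  have hv1 : v ∈ D₁ := by
    simp only [D₁, D₀, Finset.mem_sdiff, Finset.mem_erase, Finset.mem_univ, and_true, Finset.mem_filter, true_and, not_and]
    exact ⟨hv, fun _ ⟨h, h1, h2'⟩ => huv h ⟨h1, h2'⟩⟩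
  have hfin : ∀ D : Finset (ZMod p), D.Nonempty → (0 : ZMod p) ∉ D → 2 * D.card < p → (∀ x d, d ∈ D ↔ φ (x + d) - φ x ∈ D) →
      ∃ a b, ∀ x, g • e x = e (a * x + b) := by
    intro D hD h0 hs hi
    obtain ⟨a, b, hab⟩ := affine_of_preserves hφi hD h0 hs fun x => by
      refine Finset.eq_of_subset_of_card_le (fun y hy => ?_) ?_
      · obtain ⟨d, hd, rfl⟩ := Finset.mem_image.mp hy
        exact (hi x d).mp hd
      · rw [Finset.card_image_of_injective]
        exact fun d d' h => add_left_cancel (hφi (sub_left_inj.mp h))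
    exact ⟨a, b, fun x => by rw [← hφ, hab]⟩
  have := hp.two_le
  rcases Nat.lt_or_ge (2 * D₀.card) p with h | h
  · exact hfin D₀ ⟨u, hu0⟩ (fun h0 => by simp [D₀] at h0) h hinv
  · exact hfin D₁ ⟨v, hv1⟩ (fun h0 => by simp [D₁] at h0) (by omega) hinv1

/-- A group acting faithfully by affine maps of `ZMod p` is soluble. -/
theorem isSolvable_of_affine {G : Type*} [Group G] {α : Type*} [MulAction G α] [FaithfulSMul G α] (e : ZMod p ≃ α)
    (h : ∀ g : G, ∃ a b : ZMod p, ∀ x, g • e x = e (a * x + b)) : Group.IsSolvable G := by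
  choose a b hab using h
  have hone : ∀ g x, g • e x = e x → a g * x + b g = x := fun g x hx => e.injective ((hab g x).symm.trans hx)
  have hmul : ∀ g h, a (g * h) = a g * a h ∧ b (g * h) = a g * b h + b g := fun g h => by
    have key : ∀ x, a (g * h) * x + b (g * h) = a g * (a h * x + b h) + b g := fun x =>
      e.injective (by rw [← hab, mul_smul, hab, hab])
    have h0 := key 0
    have h1 := key 1
    simp only [mul_zero, zero_add, mul_one] at h0 h1
    exact ⟨by linear_combination h1 - h0, h0⟩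
  have h1 : a 1 = 1 ∧ b 1 = 0 := by
    have k0 := hone 1 0 (one_smul _ _)
    have k1 := hone 1 1 (one_smul _ _)
    simp only [mul_zero, zero_add, mul_one] at k0 k1
    exact ⟨by linear_combination k1 - k0, k0⟩
  let χ : G →* ZMod p := { toFun := a, map_one' := h1.1, map_mul' := fun g h => (hmul g h).1 }
  let ψ : G →* (ZMod p)ˣ := χ.toHomUnits
  haveI hker : Group.IsSolvable ψ.ker := Group.isSolvable_of_comm fun u v => by
    have ha : ∀ w : ψ.ker, a w = 1 := fun w => congrArg Units.val (MonoidHom.mem_ker.mp w.2)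
    refine Subtype.ext (eq_of_smul_eq_smul (α := α) fun y => ?_)
    obtain ⟨x, rfl⟩ := e.surjective y
    rw [hab, hab]
    congr 1
    simp only [Subgroup.coe_mul, (hmul _ _).1, (hmul _ _).2, ha]
    ring
  exact Group.isSolvable_of_ker_le_range ψ.ker.subtype ψ (by simp)

end CfsgLib.PrimeDegree
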