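/-
Sharply three-transitive permutation groups of finite even degree.
-/
import Mathlib
import Cfsg.Agent.Lib.Perm.SharplyTwo
import Cfsg.Agent.Lib.Frobenius.Complement

set_option autoImplicit false

namespace CfsgLib.SharpThree

open MulAction Subgroup

universe u
variable {α : Type u} [Fintype α] [DecidableEq α] {G : Subgroup (Equiv.Perm α)}

section
variable (hsharp : ∀ x : Fin 3 ↪ α, stabilizer G x = ⊥)

omit [Fintype α] [DecidableEq α] in
include hsharp in
theorem eq_one_of_three {g : G} {a b c : α} (hab : a ≠ b) (hac : a ≠ c) (hbc : b ≠ c) (ha : g • a = a)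
    (hb : g • b = b) (hc : g • c = c) : g = 1 := by
  have h : g ∈ stabilizer G (⟨![a, b, c], fun i j e => by
      fin_cases i <;> fin_cases j <;> simp_all [hab, hab.symm, hac, hac.symm, hbc, hbc.symm]⟩ : Fin 3 ↪ α) := by
    rw [mem_stabilizer_iff]
    exact Function.Embedding.ext fun i => by
      show g • ![a, b, c] i = ![a, b, c] i
      fin_cases i <;> simp [ha, hb, hc]
  rwa [hsharp, Subgroup.mem_bot] at h

variable (h3 : IsMultiplyPretransitive G α 3)

omit [Fintype α] [DecidableEq α] in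
include h3 in
theorem exists_move {a b c a' b' c' : α} (hab : a ≠ b) (hac : a ≠ c) (hbc : b ≠ c)
    (hab' : a' ≠ b') (hac' : a' ≠ c') (hbc' : b' ≠ c') : ∃ g : G, g • a = a' ∧ g • b = b' ∧ g • c = c' := by
  haveI := h3
  obtain ⟨g, hg⟩ := exists_smul_eq G
    (⟨![a, b, c], fun i j e => by
      fin_cases i <;> fin_cases j <;> simp_all [hab, hab.symm, hac, hac.symm, hbc, hbc.symm]⟩ : Fin 3 ↪ α)
    ⟨![a', b', c'], fun i j e => by
      fin_cases i <;> fin_cases j <;> simp_all [hab', hab'.symm, hac', hac'.symm, hbc', hbc'.symm]⟩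
  exact ⟨g, DFunLike.congr_fun hg 0, DFunLike.congr_fun hg 1, DFunLike.congr_fun hg 2⟩

include hsharp h3

/-- The translations: an abelian normal subgroup of the stabiliser of `a`, regular off `a`. -/
theorem exists_translations (hn : 4 ≤ Fintype.card α) (a : α) :
    ∃ K : Subgroup G, (∀ k ∈ K, k • a = a) ∧ (∀ x ∈ K, ∀ y ∈ K, x * y = y * x) ∧
      (∀ g : G, g • a = a → ∀ k ∈ K, g * k * g⁻¹ ∈ K) ∧
      (∀ x y : α, x ≠ a → y ≠ a → ∃ k ∈ K, k • x = y) ∧
      ∀ k ∈ K, ∀ x : α, x ≠ a → k • x = x → k = 1 := by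
  classical
  let φ : stabilizer G a →* Equiv.Perm {x : α // x ≠ a} := MonoidHom.mk'
    (fun g => ((g : G) : Equiv.Perm α).subtypePerm (fun x => by
      have hg : ((g : G) : Equiv.Perm α) a = a := g.2
      constructor
      · exact fun h e => h (by rw [e, hg])
      · exact fun h e => h (((g : G) : Equiv.Perm α).injective (e.trans hg.symm))))
    (fun g g' => Equiv.ext fun x => Subtype.ext rfl)
  have hval : ∀ (g : stabilizer G a) (x : {x : α // x ≠ a}), ((φ g x : {x : α // x ≠ a}) : α) = (g : G) • (x : α) :=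
    fun g x => rfl
  set H := φ.range with hH
  haveI h2 : IsMultiplyPretransitive H {x : α // x ≠ a} 2 := by
    rw [is_two_pretransitive_iff]
    rintro ⟨x, hx⟩ ⟨y, hy⟩ ⟨z, hz⟩ ⟨w, hw⟩ hxy hzw
    obtain ⟨g, hga, hgx, hgy⟩ := exists_move h3 (Ne.symm hx) (Ne.symm hy) (fun e => hxy (Subtype.ext e))
      (Ne.symm hz) (Ne.symm hw) (fun e => hzw (Subtype.ext e))
    exact ⟨⟨φ ⟨g, hga⟩, ⟨g, hga⟩, rfl⟩, Subtype.ext ((hval _ _).trans hgx), Subtype.ext ((hval _ _).trans hgy)⟩
  have hsh : ∀ x : Fin 2 ↪ {x : α // x ≠ a}, stabilizer H x = ⊥ := fun x => by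
    rw [Subgroup.eq_bot_iff_forall]
    rintro ⟨_, g, rfl⟩ hg
    rw [mem_stabilizer_iff] at hg
    have e : ∀ i, (g : G) • ((x i : {x : α // x ≠ a}) : α) = x i := fun i =>
      (hval g (x i)).symm.trans (congrArg Subtype.val (DFunLike.congr_fun hg i))
    have h1 : (g : G) = 1 := eq_one_of_three hsharp (a := a) (x 0).2.symm (x 1).2.symm
      (fun e => by exact absurd (x.injective (Subtype.ext e)) (by decide)) g.2 (e 0) (e 1)
    apply Subtype.ext
    show φ g = 1
    rw [show g = 1 from Subtype.ext h1, map_one]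
  have hcard : 2 ≤ Fintype.card {x : α // x ≠ a} := by
    rw [Fintype.card_subtype_compl, Fintype.card_subtype_eq]; omega
  obtain ⟨p, j, hp, -, -, hP⟩ := CfsgLib.SharplyTwo.regular_normal H hsh hcard
  have := Fact.mk hp
  obtain ⟨P⟩ : Nonempty (Sylow p H) := inferInstance
  obtain ⟨hPn, hPc, -, hPt, hPs, -⟩ := hP this P
  set K₀ := (P : Subgroup H).comap φ.rangeRestrict with hK₀
  have hinj : Function.Injective φ := by
    rw [← MonoidHom.ker_eq_bot_iff, Subgroup.eq_bot_iff_forall]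
    intro g hg
    obtain ⟨x, y, hxy⟩ := Fintype.one_lt_card_iff.mp (show 1 < Fintype.card {x : α // x ≠ a} by omega)
    refine Subtype.ext (eq_one_of_three hsharp (a := a) x.2.symm y.2.symm (fun e => hxy (Subtype.ext e)) g.2 ?_ ?_) <;>
      rw [← hval, MonoidHom.mem_ker.mp hg] <;> rfl
  refine ⟨K₀.map (stabilizer G a).subtype, ?_, ?_, ?_, ?_, ?_⟩
  · rintro _ ⟨k, -, rfl⟩; exact k.2
  · rintro _ ⟨x, hx, rfl⟩ _ ⟨y, hy, rfl⟩
    rw [← map_mul, ← map_mul]
    refine congrArg _ (hinj ?_)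
    rw [map_mul, map_mul]
    exact congrArg Subtype.val (congrArg Subtype.val (hPc.is_comm.comm ⟨_, hx⟩ ⟨_, hy⟩))
  · rintro g hg _ ⟨k, hk, rfl⟩
    exact ⟨⟨g, hg⟩ * k * ⟨g, hg⟩⁻¹, by
      show φ.rangeRestrict _ ∈ (P : Subgroup H)
      rw [map_mul, map_mul, map_inv]
      exact hPn.conj_mem _ hk _, rfl⟩
  · intro x y hx hy
    obtain ⟨⟨⟨_, g, rfl⟩, hgP⟩, hg⟩ := hPt.exists_smul_eq (⟨x, hx⟩ : {x : α // x ≠ a}) ⟨y, hy⟩
    exact ⟨g, ⟨g, hgP, rfl⟩, (hval g ⟨x, hx⟩).symm.trans (congrArg Subtype.val hg)⟩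
  · rintro _ ⟨k, hk, rfl⟩ x hx e
    have h1 : (⟨φ.rangeRestrict k, hk⟩ : (P : Subgroup H)) ∈ stabilizer (P : Subgroup H) (⟨x, hx⟩ : {x : α // x ≠ a}) :=
      Subtype.ext ((hval k ⟨x, hx⟩).trans e)
    rw [hPs, Subgroup.mem_bot] at h1
    have h2 : φ k = 1 := congrArg Subtype.val (congrArg Subtype.val h1)
    rw [show k = 1 from hinj (h2.trans (map_one φ).symm), map_one]

/-- The two-point stabiliser of a sharply three-transitive group of even degree has at most one
subgroup of order three, and an element swapping the two points and fixing a third inverts it. -/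
theorem order_three (heven : Even (Fintype.card α)) (hn : 4 ≤ Fintype.card α) {a b c : α} (hab : a ≠ b)
    (hac : a ≠ c) (hbc : b ≠ c) {s : G} (hsa : s • a = b) (hsb : s • b = a) (hsc : s • c = c)
    {ω : G} (hωa : ω • a = a) (hωb : ω • b = b) (hω : orderOf ω = 3) : s * ω * s⁻¹ = ω⁻¹ := by
  classical
  obtain ⟨K, hKa, hKc, hKn, hKt, hKf⟩ := exists_translations hsharp h3 hn a
  set D := stabilizer G a ⊓ stabilizer G b with hD
  have hmem : ∀ d : G, d ∈ D ↔ d • a = a ∧ d • b = b := fun d => by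
    rw [hD, Subgroup.mem_inf, mem_stabilizer_iff, mem_stabilizer_iff]
  have hreg : ∀ d ∈ D, ∀ e ∈ D, d • c = e • c → d = e := fun d hd e he h => by
    have := (hmem _).mp (D.mul_mem (D.inv_mem he) hd)
    exact (inv_mul_eq_one.mp (eq_one_of_three hsharp hab hac hbc this.1 this.2
      (by rw [mul_smul, h, inv_smul_smul]))).symm
  have cs : ∀ d k : G, d • b = b → (d * k * d⁻¹) • b = d • (k • b) := fun d k hd => by
    rw [mul_smul, mul_smul, inv_smul_eq_iff.mpr hd.symm]
  -- the involution of `D`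
  have hDc : Nat.card D + 2 = Fintype.card α := by
    have hbij : Function.Bijective (fun d : D => (⟨(d : G) • c, fun e => by
        obtain ⟨h1, h2⟩ := (hmem _).mp d.2
        rcases Finset.mem_insert.mp e with e | e
        · exact hac (smul_left_cancel (d : G) (h1.trans e.symm))
        · rw [Finset.mem_singleton] at e
          exact hbc (smul_left_cancel (d : G) (h2.trans e.symm))⟩ : {x : α // x ∉ ({a, b} : Finset α)})) := by
      refine ⟨fun d e h => Subtype.ext (hreg _ d.2 _ e.2 (congrArg Subtype.val h)), fun ⟨x, hx⟩ => ?_⟩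
      simp only [Finset.mem_insert, Finset.mem_singleton, not_or] at hx
      obtain ⟨g, h1, h2, h3⟩ := exists_move h3 hab hac hbc hab (Ne.symm hx.1) (Ne.symm hx.2)
      exact ⟨⟨g, (hmem g).mpr ⟨h1, h2⟩⟩, Subtype.ext h3⟩
    rw [Nat.card_eq_of_bijective _ hbij, Nat.card_eq_fintype_card, Fintype.card_subtype_compl, Fintype.card_coe,
      Finset.card_pair hab]
    omega
  haveI : Fact (Nat.Prime 2) := ⟨Nat.prime_two⟩
  obtain ⟨⟨z, hzD⟩, hz⟩ := exists_prime_orderOf_dvd_card' (G := D) 2 (by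
    obtain ⟨m, hm⟩ := heven
    exact ⟨m - 1, by omega⟩)
  rw [Subgroup.orderOf_mk] at hz
  have hinv : ∀ y ∈ D, orderOf y = 2 → ∀ k ∈ K, y * k * y⁻¹ = k⁻¹ := by
    intro y hy hyo k hk
    obtain ⟨hya, hyb⟩ := (hmem y).mp hy
    have hy' := hKn y hya k hk
    have hyy : y * y = 1 := by rw [← pow_two, ← hyo, pow_orderOf_eq_one]
    have hu : y * (k * (y * k * y⁻¹)) * y⁻¹ = k * (y * k * y⁻¹) := by
      rw [hKc k hk _ hy']
      calc y * (y * k * y⁻¹ * k) * y⁻¹ = (y * y) * k * (y⁻¹ * (k * y⁻¹)) := by group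
        _ = k * (y * (k * y⁻¹)) := by rw [hyy, one_mul, inv_eq_of_mul_eq_one_right hyy]
        _ = k * (y * k * y⁻¹) := by group
      exact (hKc k hk _ hy')
    have h1 : y • ((k * (y * k * y⁻¹)) • b) = (k * (y * k * y⁻¹)) • b := by
      conv_rhs => rw [← hu]
      exact (cs y _ hyb).symm
    set u := k * (y * k * y⁻¹) with hu'
    have huK : u ∈ K := K.mul_mem hk hy'
    have hua : u • a = a := hKa u huK
    by_cases hub : u • b = b
    · exact eq_inv_of_mul_eq_one_right (hKf u huK b hab.symm hub)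
    · exfalso
      have : y = 1 := eq_one_of_three hsharp hab (fun e => hab (smul_left_cancel u (hua.trans e))) (Ne.symm hub) hya hyb h1
      rw [this, orderOf_one] at hyo
      omega
  have huniq : ∀ y ∈ D, orderOf y = 2 → y = z := by
    intro y hy hyo
    have hyzD : y * z⁻¹ ∈ D := D.mul_mem hy (D.inv_mem hzD)
    obtain ⟨k, hk, hkc⟩ := hKt b c hab.symm hac.symm
    obtain ⟨h1, h2⟩ := (hmem _).mp hyzD
    have hcom : (y * z⁻¹) * k * (y * z⁻¹)⁻¹ = k := by
      have e2 : z⁻¹ * k * z = k⁻¹ := by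
        have := hinv z⁻¹ (D.inv_mem hzD) (by rw [orderOf_inv, hz]) k hk
        rwa [inv_inv] at this
      calc y * z⁻¹ * k * (y * z⁻¹)⁻¹ = y * (z⁻¹ * k * z) * y⁻¹ := by group
        _ = k := by rw [e2, hinv y hy hyo _ (K.inv_mem hk), inv_inv]
    have h3 : (y * z⁻¹) • c = c := by
      rw [← hkc]
      exact (cs _ k h2).symm.trans (by rw [hcom])
    exact mul_inv_eq_one.mp (eq_one_of_three hsharp hab hac hbc h1 h2 h3)
  have hzz : z * z = 1 := by rw [← pow_two, ← hz, pow_orderOf_eq_one]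
  have hzcen : ∀ d ∈ D, d * z = z * d := fun d hd => mul_inv_eq_iff_eq_mul.mp
    (huniq _ (D.mul_mem (D.mul_mem hd hzD) (D.inv_mem hd)) (((MulAut.conj d).orderOf_eq z).trans hz))
  have hss : s * s = 1 := eq_one_of_three hsharp hab hac hbc (by rw [mul_smul, hsa, hsb])
    (by rw [mul_smul, hsb, hsa]) (by rw [mul_smul, hsc, hsc])
  have hsD : ∀ d ∈ D, s * d * s⁻¹ ∈ D := fun d hd => by
    obtain ⟨h1, h2⟩ := (hmem d).mp hd
    refine (hmem _).mpr ⟨?_, ?_⟩ <;> rw [inv_eq_of_mul_eq_one_right hss, mul_smul, mul_smul]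
    · rw [hsa, h2, hsb]
    · rw [hsb, h1, hsa]
  have hsz : s * z * s⁻¹ = z := huniq _ (hsD z hzD) (((MulAut.conj s).orderOf_eq z).trans hz)
  obtain ⟨t, ht, htc⟩ := hKt b c hab.symm hac.symm
  have hta : t • a = a := hKa t ht
  obtain ⟨hza, hzb⟩ := (hmem z).mp hzD
  have hztb : ∀ k ∈ K, z • (k • b) = k⁻¹ • b := fun k hk => by
    rw [← mul_smul, show z * k = k⁻¹ * z by rw [← hinv z hzD hz k hk]; group, mul_smul, hzb]
  -- `1 + ω + ω ^ 2 = 0`
  have key : ∀ w ∈ D, w ^ 3 = 1 → w ≠ 1 → (s * t * z) • ((z * w) • c) = (z * (s * w * s⁻¹) ^ 2) • c := by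
    intro w hw hw3 hw1
    obtain ⟨hwa, hwb⟩ := (hmem w).mp hw
    have k1 : w * t * w⁻¹ ∈ K := hKn w hwa t ht
    have k2 : w * (w * t * w⁻¹) * w⁻¹ ∈ K := hKn w hwa _ k1
    set t₁ := w * t * w⁻¹ with ht₁
    set t₂ := w * t₁ * w⁻¹ with ht₂
    have hw3' : w * w * w = 1 := by rw [← hw3, pow_succ, pow_two]
    have ht₃ : w * t₂ * w⁻¹ = t := by
      calc w * t₂ * w⁻¹ = (w * w * w) * t * (w * w * w)⁻¹ := by rw [ht₂, ht₁]; group
        _ = t := by rw [hw3']; group
    set P := t * t₁ * t₂ with hP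
    have hPK : P ∈ K := K.mul_mem (K.mul_mem ht k1) k2
    have hPw : w * P * w⁻¹ = P := by
      calc w * P * w⁻¹ = (w * t * w⁻¹) * (w * t₁ * w⁻¹) * (w * t₂ * w⁻¹) := by rw [hP]; group
        _ = (t₁ * t₂) * t := by rw [ht₃]
        _ = t * (t₁ * t₂) := hKc _ (K.mul_mem k1 k2) _ ht
        _ = P := (mul_assoc t t₁ t₂).symm
    have hPb : P = 1 := by
      by_contra hP1
      apply hw1
      refine eq_one_of_three hsharp hab (fun e => hab (smul_left_cancel P ((hKa P hPK).trans e)))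
        (fun e => hP1 (hKf P hPK b hab.symm e.symm)) hwa hwb ?_
      conv_rhs => rw [← hPw]
      exact (cs w P hwb).symm
    have e1 : t • (w • c) = (z * w ^ 2) • c := by
      have a1 : w • c = t₁ • b := by
        rw [← htc]; exact (cs w t hwb).symm
      have a2 : w ^ 2 • c = t₂ • b := by
        rw [pow_two, mul_smul, a1]; exact (cs w t₁ hwb).symm
      rw [a1, mul_smul z, a2, hztb _ k2, ← mul_smul, eq_inv_of_mul_eq_one_left (hP ▸ hPb : t * t₁ * t₂ = 1)]
    calc (s * t * z) • ((z * w) • c) = s • (t • ((z * z * w) • c)) := by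
          simp only [mul_smul]
      _ = (s * (z * w ^ 2)) • c := by rw [hzz, one_mul, e1, mul_smul s]
      _ = ((s * z * s⁻¹) * (s * w * s⁻¹) ^ 2) • (s • c) := by
          rw [← mul_smul]; congr 1; simp only [pow_two]; group
      _ = (z * (s * w * s⁻¹) ^ 2) • c := by rw [hsz, hsc]
  -- the element of order three
  have hωD : ω ∈ D := (hmem ω).mpr ⟨hωa, hωb⟩
  have hω3 : ω ^ 3 = 1 := hω ▸ pow_orderOf_eq_one ω
  set ω' := s * ω * s⁻¹ with hω'
  have hω'D : ω' ∈ D := hsD ω hωD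
  have hω'3 : ω' ^ 3 = 1 := by
    rw [hω', ← hω, ← ((MulAut.conj s).orderOf_eq ω)]
    exact pow_orderOf_eq_one _
  have hω'o : orderOf ω' = 3 := ((MulAut.conj s).orderOf_eq ω).trans hω
  set f := s * t * z with hf
  have hfa : f • a = b := by rw [hf, mul_smul, mul_smul, hza, hta, hsa]
  have hfb : f • b = c := by rw [hf, mul_smul, mul_smul, hzb, htc, hsc]
  have hfc : f • c = a := by
    rw [hf, mul_smul, mul_smul, ← htc, hztb t ht, smul_inv_smul, hsb]
  have hf3 : f * f * f = 1 := eq_one_of_three hsharp hab hac hbc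
    (by rw [mul_smul, mul_smul, hfa, hfb, hfc]) (by rw [mul_smul, mul_smul, hfb, hfc, hfa])
    (by rw [mul_smul, mul_smul, hfc, hfa, hfb])
  have hω1 : ω ≠ 1 := fun e => by rw [e, orderOf_one] at hω; omega
  have hψ1 : ω' ^ 2 ≠ 1 := fun e => by
    have := orderOf_dvd_of_pow_eq_one e
    rw [hω'o] at this
    omega
  set u := (z * ω) • c with hu
  have e1 : f • u = (z * ω' ^ 2) • c := key ω hωD hω3 hω1
  have e2 : f • ((z * ω' ^ 2) • c) = u := by
    rw [key (ω' ^ 2) (D.pow_mem hω'D 2) (by rw [← pow_mul, pow_mul', hω'3, one_pow]) hψ1]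
    congr 2
    have hs2 : s⁻¹ = s := inv_eq_of_mul_eq_one_right hss
    calc (s * ω' ^ 2 * s⁻¹) ^ 2 = s * ω' ^ 4 * s⁻¹ := by simp only [pow_succ, pow_zero, one_mul]; group
      _ = s * ω' * s⁻¹ := by rw [pow_succ ω' 3, hω'3, one_mul]
      _ = (s * s) * ω * (s * s)⁻¹ := by rw [hω']; group
      _ = ω := by rw [hss]; group
  have e3 : f • u = u := by
    conv_rhs => rw [← one_smul G u, ← hf3, mul_smul, mul_smul, e1, e2]
  have e4 : ω' ^ 2 = ω := mul_left_cancel (hreg _ (D.mul_mem hzD (D.pow_mem hω'D 2)) _ (D.mul_mem hzD hωD) (e1.symm.trans e3))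
  rw [← inv_eq_of_mul_eq_one_right (show ω' * ω = 1 by rw [← e4, ← pow_succ', hω'3]), inv_inv]

end

end CfsgLib.SharpThree
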