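/-
Sharply three-transitive groups of even degree: the two-point stabiliser has a non-trivial linear
character invariant under the involution interchanging the two points and fixing a third.
-/
import Cfsg.Agent.Lib.Perm.SharpThree
import Cfsg.Agent.Lib.CharTheory
import Cfsg.Agent.Lib.CharTheory.Induced
import Cfsg.Agent.Lib.CharTheory.Linear
import Cfsg.Agent.Lib.CharTheory.Degree
import Cfsg.Agent.Lib.CharTheory.Integral
import Cfsg.Agent.Lib.CharTheory.Clifford
import Cfsg.Agent.Lib.CharTheory.ExtCriteria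

namespace CfsgLib.SharpIndexTwo

open MulAction Cfsg CfsgLib.CharTheory
open scoped ComplexConjugate

universe u

theorem arith {m e j : ℕ} (hm : 0 < m) (he : m ≤ e) (hj : m < 2 * j) (hjm : j < m)
    (hdvd : m * (1 + 2 * j * e) ∣ (2 * m * e + 2) * (2 * m * e + 1) * (2 * m * e)) : False := by
  set P := 1 + 2 * j * e with hP
  have h1 : P ∣ (2 * m * e + 2) * (2 * m * e + 1) * (2 * e) := by
    refine Nat.dvd_of_mul_dvd_mul_left hm ?_
    have e1 : (2 * m * e + 2) * (2 * m * e + 1) * (2 * m * e)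
        = m * ((2 * m * e + 2) * (2 * m * e + 1) * (2 * e)) := by ring
    exact e1 ▸ hdvd
  have hcop : Nat.Coprime P (2 * e) := by
    rw [hP, show 1 + 2 * j * e = 1 + j * (2 * e) by ring]
    simp
  have h2 := hcop.dvd_of_dvd_mul_right h1
  have h3 : P ∣ (2 * j - m) * (m - j) := by
    have hz : (P : ℤ) ∣ ((2 * m * e + 2) * (2 * m * e + 1) : ℕ) := Int.natCast_dvd_natCast.mpr h2
    rw [← Int.natCast_dvd_natCast]
    push_cast [Nat.cast_sub hjm.le, Nat.cast_sub hj.le] at hz ⊢
    have e2 : (2 * (j : ℤ) - m) * (m - j) = (P : ℤ) *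
        ((m : ℤ) * (m : ℤ) * (2 * j * e - 1) + 3 * j * m)
        - (j : ℤ) * j * ((2 * m * e + 2) * (2 * m * e + 1)) := by
      rw [hP]; push_cast; ring
    rw [e2]
    exact (dvd_mul_right _ _).sub (hz.mul_left _)
  have h4 : (2 * j - m) * (m - j) < P := by
    have a1 : (2 * j - m) * (m - j) ≤ m * m := Nat.mul_le_mul (by omega) (by omega)
    have a2 : m * m ≤ (2 * j) * e := Nat.mul_le_mul (by omega) he
    omega
  have h5 : 0 < (2 * j - m) * (m - j) := Nat.mul_pos (by omega) (by omega)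
  exact absurd (Nat.le_of_dvd h5 h3) (by omega)

theorem involution_value {K : Type*} [Group K] [Finite K] {V : Type*} [AddCommGroup V] [Module ℂ V]
    [FiniteDimensional ℂ V] (ρ : Representation ℂ K V) {g : K} (hg : g * g = 1) :
    ∃ k : ℕ, ρ.character g = (Module.finrank ℂ V : ℂ) - 2 * k := by
  rw [character_eq_sum_charRoots, ← card_charRoots ρ g]
  have hroot : ∀ x ∈ charRoots ρ g, x = 1 ∨ x = -1 := fun x hx => by
    have h1 := pow_eq_one_of_mem_charRoots ρ g hx
    have h2 : orderOf g ∣ 2 := orderOf_dvd_of_pow_eq_one (by rw [pow_two, hg])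
    obtain ⟨r, hr⟩ := h2
    have h3 : x ^ 2 = 1 := by rw [hr, pow_mul, h1, one_pow]
    exact sq_eq_one_iff.mp h3
  generalize charRoots ρ g = S at hroot
  induction S using Multiset.induction with
  | empty => exact ⟨0, by simp⟩
  | cons x S ih =>
    obtain ⟨k, hk⟩ := ih fun y hy => hroot y (Multiset.mem_cons_of_mem hy)
    rcases hroot x (Multiset.mem_cons_self x S) with rfl | rfl
    · exact ⟨k, by simp [hk]; ring⟩
    · exact ⟨k + 1, by simp [hk]; ring⟩

theorem sum_smul_eq {G α : Type*} [Group G] [MulAction G α] [Fintype G] [Fintype α] [IsPretransitive G α]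
    (a : α) (f : α → ℂ) :
    ∑ x : G, f (x • a) = (Nat.card (stabilizer G a) : ℂ) * ∑ y, f y := by
  classical
  rw [← Finset.sum_fiberwise Finset.univ (fun x : G => x • a) (fun x => f (x • a)), Finset.mul_sum]
  refine Finset.sum_congr rfl fun y _ => ?_
  rw [Finset.sum_congr rfl (g := fun _ => f y) (fun x hx => by rw [(Finset.mem_filter.mp hx).2]),
    Finset.sum_const, nsmul_eq_mul]
  congr 2
  obtain ⟨g, hg⟩ := exists_smul_eq G a y
  rw [Nat.card_eq_fintype_card, ← Finset.card_univ]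
  symm
  refine Finset.card_nbij' (fun x : stabilizer G a => g * (x : G))
    (fun x => if h : x • a = y then ⟨g⁻¹ * x, by rw [mem_stabilizer_iff, mul_smul, h, ← hg, inv_smul_smul]⟩ else 1)
    (fun x _ => Finset.mem_filter.mpr ⟨Finset.mem_univ _, by rw [mul_smul, mem_stabilizer_iff.mp x.2, hg]⟩)
    (fun x _ => Finset.mem_univ _) (fun x _ => ?_) (fun x hx => ?_)
  · simp only
    rw [dif_pos (show (g * (x : G)) • a = y by rw [mul_smul, mem_stabilizer_iff.mp x.2, hg])]
    exact Subtype.ext (inv_mul_cancel_left g (x : G))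
  · simp only [dif_pos (Finset.mem_filter.mp hx).2]
    exact mul_inv_cancel_left g x

variable {α : Type u} [Fintype α] [DecidableEq α] {G : Subgroup (Equiv.Perm α)}
variable (hsharp : ∀ x : Fin 3 ↪ α, stabilizer G x = ⊥) (h3 : IsMultiplyPretransitive G α 3)
variable (heven : Even (Fintype.card α)) (hn : 4 ≤ Fintype.card α)

/-- The stabiliser of two points. -/
abbrev D (G : Subgroup (Equiv.Perm α)) (a b : α) : Subgroup G := stabilizer G a ⊓ stabilizer G b

omit [Fintype α] [DecidableEq α] in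
theorem mem_D {a b : α} {g : G} : g ∈ D G a b ↔ g • a = a ∧ g • b = b := by
  rw [Subgroup.mem_inf, mem_stabilizer_iff, mem_stabilizer_iff]

include hsharp h3

theorem card_D {a b : α} (hab : a ≠ b) (hn : 4 ≤ Fintype.card α) : Nat.card (D G a b) + 2 = Fintype.card α := by
  classical
  obtain ⟨c, hc⟩ : ∃ c : α, c ∉ ({a, b} : Finset α) := by
    refine not_forall.mp fun hall => ?_
    have e : ({a, b} : Finset α) = Finset.univ := Finset.eq_univ_of_forall hall
    have := (Finset.card_univ (α := α)).symm.trans (e ▸ Finset.card_pair hab)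
    omega
  simp only [Finset.mem_insert, Finset.mem_singleton, not_or] at hc
  have hbij : Function.Bijective (fun d : D G a b => (⟨(d : G) • c, fun e => by
      obtain ⟨h1, h2⟩ := mem_D.mp d.2
      rcases Finset.mem_insert.mp e with e | e
      · exact hc.1 (smul_left_cancel (d : G) (e.trans h1.symm))
      · rw [Finset.mem_singleton] at e
        exact hc.2 (smul_left_cancel (d : G) (e.trans h2.symm))⟩ : {x : α // x ∉ ({a, b} : Finset α)})) := by
    refine ⟨fun d e h => ?_, fun ⟨x, hx⟩ => ?_⟩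
    · have hde : (e : G)⁻¹ * (d : G) ∈ D G a b := mul_mem (inv_mem e.2) d.2
      obtain ⟨h1, h2⟩ := mem_D.mp hde
      refine Subtype.ext (inv_mul_eq_one.mp (SharpThree.eq_one_of_three hsharp hab (Ne.symm hc.1) (Ne.symm hc.2) h1 h2 ?_)).symm
      have h' : (d : G) • c = (e : G) • c := congrArg Subtype.val h
      rw [mul_smul, h', inv_smul_smul]
    · simp only [Finset.mem_insert, Finset.mem_singleton, not_or] at hx
      obtain ⟨g, h1, h2, h4⟩ := SharpThree.exists_move h3 hab (Ne.symm hc.1) (Ne.symm hc.2) hab (Ne.symm hx.1) (Ne.symm hx.2)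
      exact ⟨⟨g, mem_D.mpr ⟨h1, h2⟩⟩, Subtype.ext h4⟩
  rw [Nat.card_eq_of_bijective _ hbij, Nat.card_eq_fintype_card, Fintype.card_subtype_compl, Fintype.card_coe,
    Finset.card_pair hab]
  omega

/-- A two-point stabiliser has at most one involution. -/
theorem invol_unique {a b : α} (hab : a ≠ b) (hn : 4 ≤ Fintype.card α) {y z : G} (hy : y ∈ D G a b)
    (hz : z ∈ D G a b) (hyo : orderOf y = 2) (hzo : orderOf z = 2) : y = z := by
  classical
  obtain ⟨K, hKa, hKc, hKn, hKt, hKf⟩ := SharpThree.exists_translations hsharp h3 hn a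
  obtain ⟨c, hc⟩ : ∃ c : α, c ∉ ({a, b} : Finset α) := by
    refine not_forall.mp fun hall => ?_
    have e : ({a, b} : Finset α) = Finset.univ := Finset.eq_univ_of_forall hall
    have := (Finset.card_univ (α := α)).symm.trans (e ▸ Finset.card_pair hab)
    omega
  simp only [Finset.mem_insert, Finset.mem_singleton, not_or] at hc
  have hinv : ∀ w ∈ D G a b, orderOf w = 2 → ∀ k ∈ K, w * k * w⁻¹ = k⁻¹ := by
    intro w hw hwo k hk
    obtain ⟨hwa, hwb⟩ := mem_D.mp hw
    have hw' := hKn w hwa k hk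
    have hww : w * w = 1 := by rw [← pow_two, ← hwo, pow_orderOf_eq_one]
    have hu : w * (k * (w * k * w⁻¹)) * w⁻¹ = k * (w * k * w⁻¹) := by
      rw [hKc k hk _ hw']
      calc w * (w * k * w⁻¹ * k) * w⁻¹ = (w * w) * k * (w⁻¹ * (k * w⁻¹)) := by group
        _ = k * (w * (k * w⁻¹)) := by rw [hww, one_mul, inv_eq_of_mul_eq_one_right hww]
        _ = k * (w * k * w⁻¹) := by group
      exact hKc k hk _ hw'
    have h1 : w • ((k * (w * k * w⁻¹)) • b) = (k * (w * k * w⁻¹)) • b := by
      conv_rhs => rw [← hu, mul_smul, inv_smul_eq_iff.mpr hwb.symm, mul_smul]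
    set u := k * (w * k * w⁻¹) with hu'
    have huK : u ∈ K := K.mul_mem hk hw'
    have hua : u • a = a := hKa u huK
    by_cases hub : u • b = b
    · exact eq_inv_of_mul_eq_one_right (hKf u huK b hab.symm hub)
    · exfalso
      have : w = 1 := SharpThree.eq_one_of_three hsharp hab (fun e => hab (smul_left_cancel u (hua.trans e)))
        (Ne.symm hub) hwa hwb h1
      rw [this, orderOf_one] at hwo
      omega
  have hyzD : y * z⁻¹ ∈ D G a b := mul_mem hy (inv_mem hz)
  obtain ⟨k, hk, hkc⟩ := hKt b c hab.symm hc.1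
  obtain ⟨h1, h2⟩ := mem_D.mp hyzD
  have hcom : (y * z⁻¹) * k * (y * z⁻¹)⁻¹ = k := by
    have e2 : z⁻¹ * k * z = k⁻¹ := by
      have := hinv z⁻¹ (inv_mem hz) (by rw [orderOf_inv, hzo]) k hk
      rwa [inv_inv] at this
    calc y * z⁻¹ * k * (y * z⁻¹)⁻¹ = y * (z⁻¹ * k * z) * y⁻¹ := by group
      _ = k := by rw [e2, hinv y hy hyo _ (K.inv_mem hk), inv_inv]
  have h4 : (y * z⁻¹) • c = c := by
    conv_rhs => rw [← hkc, ← hcom, mul_smul, mul_smul, inv_smul_eq_iff.mpr h2.symm, hkc]
  exact mul_inv_eq_one.mp (SharpThree.eq_one_of_three hsharp hab (Ne.symm hc.1) (Ne.symm hc.2) h1 h2 h4)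

variable {a b c : α} (hab : a ≠ b) (hac : a ≠ c) (hbc : b ≠ c) {s : G} (hsa : s • a = b) (hsb : s • b = a)
  (hsc : s • c = c)

include hab hac hbc hsa hsb hsc

omit [Fintype α] [DecidableEq α] h3 in
theorem swap_sq : s * s = 1 :=
  SharpThree.eq_one_of_three hsharp hab hac hbc (by rw [mul_smul, hsa, hsb])
    (by rw [mul_smul, hsb, hsa]) (by rw [mul_smul, hsc, hsc])

omit [Fintype α] [DecidableEq α] h3 in
theorem swap_conj {d : G} (hd : d ∈ D G a b) : s * d * s⁻¹ ∈ D G a b := by
  obtain ⟨h1, h2⟩ := mem_D.mp hd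
  refine mem_D.mpr ⟨?_, ?_⟩ <;>
    rw [inv_eq_of_mul_eq_one_right (swap_sq hsharp hab hac hbc hsa hsb hsc), mul_smul, mul_smul]
  · rw [hsa, h2, hsb]
  · rw [hsb, h1, hsa]

include heven hn

/-- The involution fixing the two points, and its relation to the interchanging involution. -/
theorem exists_invol : ∃ (z : G) (e : α), z ∈ D G a b ∧ orderOf z = 2 ∧ e ≠ a ∧ e ≠ b ∧ e ≠ c ∧ z • c = e ∧
    (∀ x : α, s • x = x → x = c ∨ x = e) ∧ (∀ d ∈ D G a b, d * s = s * d → d = 1 ∨ d = z) ∧
    s * z = z * s ∧ (∀ d ∈ D G a b, d * z = z * d) ∧ IsConj z s := by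
  classical
  have hss := swap_sq hsharp hab hac hbc hsa hsb hsc
  have hs1 : s ≠ 1 := fun e => hab (by rw [← hsa, e, one_smul])
  have hDc := card_D hsharp h3 hab hn
  haveI : Fact (Nat.Prime 2) := ⟨Nat.prime_two⟩
  obtain ⟨⟨z, hzD⟩, hz⟩ := exists_prime_orderOf_dvd_card' (G := D G a b) 2 (by
    obtain ⟨m, hm⟩ := heven
    exact ⟨m - 1, by omega⟩)
  rw [Subgroup.orderOf_mk] at hz
  obtain ⟨hza, hzb⟩ := mem_D.mp hzD
  have hz1 : z ≠ 1 := fun e => by rw [e, orderOf_one] at hz; omega
  have hzcen : ∀ d ∈ D G a b, d * z = z * d := fun d hd => mul_inv_eq_iff_eq_mul.mp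
    (invol_unique hsharp h3 hab hn (mul_mem (mul_mem hd hzD) (inv_mem hd)) hzD
      (((MulAut.conj d).orderOf_eq z).trans hz) hz)
  have hsz : s * z * s⁻¹ = z := invol_unique hsharp h3 hab hn
    (swap_conj hsharp hab hac hbc hsa hsb hsc hzD) hzD (((MulAut.conj s).orderOf_eq z).trans hz) hz
  have hsz' : s * z = z * s := mul_inv_eq_iff_eq_mul.mp hsz
  have hse : s • (z • c) = z • c := by rw [← mul_smul, hsz', mul_smul, hsc]
  have hea : z • c ≠ a := fun e => hac (smul_left_cancel z (hza.trans e.symm))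
  have heb : z • c ≠ b := fun e => hbc (smul_left_cancel z (hzb.trans e.symm))
  have hec : z • c ≠ c := fun e => hz1 (SharpThree.eq_one_of_three hsharp hab hac hbc hza hzb e)
  have hfix : ∀ x : α, s • x = x → x = c ∨ x = z • c := by
    intro x hx
    by_contra hh
    push Not at hh
    exact hs1 (SharpThree.eq_one_of_three hsharp hec.symm hh.1.symm hh.2.symm hsc hse hx)
  have hcent : ∀ d ∈ D G a b, d * s = s * d → d = 1 ∨ d = z := by
    intro d hd hds
    obtain ⟨hda, hdb⟩ := mem_D.mp hd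
    have h1 : s • (d • c) = d • c := by rw [← mul_smul, ← hds, mul_smul, hsc]
    rcases hfix _ h1 with h | h
    · exact Or.inl (SharpThree.eq_one_of_three hsharp hab hac hbc hda hdb h)
    · refine Or.inr (inv_mul_eq_one.mp (SharpThree.eq_one_of_three hsharp hab hac hbc ?_ ?_ ?_)).symm
      · rw [mul_smul, hda, inv_smul_eq_iff, hza]
      · rw [mul_smul, hdb, inv_smul_eq_iff, hzb]
      · rw [mul_smul, h, inv_smul_smul]
  refine ⟨z, z • c, hzD, hz, hea, heb, hec, rfl, hfix, hcent, hsz', hzcen, ?_⟩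
  obtain ⟨g, hga, hgb, -⟩ := SharpThree.exists_move h3 hab hac hbc hec.symm hac.symm hea
  have hso : orderOf s = 2 := orderOf_eq_prime (by rw [pow_two, hss]) hs1
  refine isConj_iff.mpr ⟨g, invol_unique hsharp h3 hec.symm hn ?_ (mem_D.mpr ⟨hsc, hse⟩)
    (((MulAut.conj g).orderOf_eq z).trans hz) hso⟩
  refine mem_D.mpr ⟨?_, ?_⟩
  · rw [← hga, mul_smul, mul_smul, inv_smul_smul, hza]
  · rw [← hgb, mul_smul, mul_smul, inv_smul_smul, hzb]

set_option maxHeartbeats 4000000 in
/-- An invariant irreducible character of the two-point stabiliser, of odd degree and trivial on the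
involution, is linear. -/
theorem no_invariant_irr {z : G} (hzD : z ∈ D G a b) (hzs : IsConj z s)
    (hcent : ∀ d ∈ D G a b, d * s = s * d → d = 1 ∨ d = z) {m : ℕ} (hm : 3 ≤ m) (hmo : Odd m)
    {h e : ℕ} (hh : Nat.card (D G a b) = 2 * h) (he : h = m * e) (hme : m ≤ e)
    (μ : D G a b → ℂ) (hμ : IsIrrCharacter (D G a b) μ) (hμ1 : μ 1 = m) (hμz : μ ⟨z, hzD⟩ = m)
    (hinv : ∀ d d' : D G a b, (d' : G) = s * d * s⁻¹ → μ d' = μ d) : False := by
  classical
  letI : Fintype G := Fintype.ofFinite G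
  letI : Fintype (stabilizer G a) := Fintype.ofFinite _
  letI : Fintype (D G a b) := Fintype.ofFinite _
  haveI : IsPretransitive G α := by
    refine ⟨fun x y => ?_⟩
    obtain ⟨x', hx'⟩ : ∃ x', x' ∉ ({x} : Finset α) := by
      refine not_forall.mp fun hall => ?_
      have e : ({x} : Finset α) = Finset.univ := Finset.eq_univ_of_forall hall
      have := (Finset.card_univ (α := α)).symm.trans (e ▸ Finset.card_singleton x)
      omega
    obtain ⟨x'', hx''⟩ : ∃ x'', x'' ∉ ({x, x'} : Finset α) := by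
      refine not_forall.mp fun hall => ?_
      have e : ({x, x'} : Finset α) = Finset.univ := Finset.eq_univ_of_forall hall
      have h1 : (({x, x'} : Finset α)).card = Fintype.card α := by rw [e, Finset.card_univ]
      have h2 := Finset.card_le_two (a := x) (b := x')
      omega
    obtain ⟨y', hy'⟩ : ∃ y', y' ∉ ({y} : Finset α) := by
      refine not_forall.mp fun hall => ?_
      have e : ({y} : Finset α) = Finset.univ := Finset.eq_univ_of_forall hall
      have := (Finset.card_univ (α := α)).symm.trans (e ▸ Finset.card_singleton y)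
      omega
    obtain ⟨y'', hy''⟩ : ∃ y'', y'' ∉ ({y, y'} : Finset α) := by
      refine not_forall.mp fun hall => ?_
      have e : ({y, y'} : Finset α) = Finset.univ := Finset.eq_univ_of_forall hall
      have h1 : (({y, y'} : Finset α)).card = Fintype.card α := by rw [e, Finset.card_univ]
      have h2 := Finset.card_le_two (a := y) (b := y')
      omega
    simp only [Finset.mem_insert, Finset.mem_singleton, not_or] at hx' hx'' hy' hy''
    obtain ⟨g, hg, -, -⟩ := SharpThree.exists_move h3 (Ne.symm hx') (Ne.symm hx''.1) (Ne.symm hx''.2)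
      (Ne.symm hy') (Ne.symm hy''.1) (Ne.symm hy''.2)
    exact ⟨g, hg⟩
  obtain ⟨A, hAa, hAc, hAn, hAt, hAf⟩ := SharpThree.exists_translations hsharp h3 hn a
  letI : Fintype A := Fintype.ofFinite _
  set Ga := stabilizer G a with hGa
  have hDG : ∀ d ∈ D G a b, d ∈ Ga := fun d hd => (Subgroup.mem_inf.mp hd).1
  have hAG : ∀ k ∈ A, k ∈ Ga := fun k hk => hAa k hk
  have hgb : ∀ g : Ga, (g : G) • b ≠ a := fun g e =>
    hab (smul_left_cancel (g : G) ((mem_stabilizer_iff.mp g.2).trans e.symm))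
  choose kk hkkA hkkb using fun g : Ga => hAt b ((g : G) • b) hab.symm (hgb g)
  have hdd : ∀ g : Ga, (kk g)⁻¹ * g ∈ D G a b := fun g => by
    refine mem_D.mpr ⟨?_, ?_⟩
    · rw [mul_smul, mem_stabilizer_iff.mp g.2, inv_smul_eq_iff, hAa _ (hkkA g)]
    · rw [mul_smul, inv_smul_eq_iff, hkkb]
  have huq : ∀ k ∈ A, ∀ d ∈ D G a b, ∀ g : Ga, (g : G) = k * d → (kk g)⁻¹ * g = d := by
    intro k hk d hd g hg
    have h1 : k • b = kk g • b := by rw [hkkb, hg, mul_smul, (mem_D.mp hd).2]
    have h2 : (kk g)⁻¹ * k = 1 := hAf _ (mul_mem (inv_mem (hkkA g)) hk) b hab.symm (by rw [mul_smul, h1, inv_smul_smul])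
    rw [hg, ← mul_assoc, h2, one_mul]
  let π : Ga →* D G a b := MonoidHom.mk' (fun g => ⟨(kk g)⁻¹ * g, hdd g⟩) fun g g' => Subtype.ext (by
    have hd := hdd g
    set d := (kk g)⁻¹ * (g : G) with hdef
    refine huq (kk g * (d * kk g' * d⁻¹)) (mul_mem (hkkA g) (hAn d (mem_D.mp hd).1 _ (hkkA g'))) _
      (mul_mem hd (hdd g')) _ ?_
    show (g : G) * g' = _
    rw [hdef]; group)
  let θ : Ga → ℂ := fun g => μ (π g)
  have hπD : ∀ d : D G a b, ∀ g : Ga, (g : G) = d → π g = d := fun d g hg =>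
    Subtype.ext (huq 1 (one_mem _) d d.2 g (by rw [one_mul]; exact hg))
  have hπA : ∀ g : Ga, (g : G) ∈ A → π g = 1 := fun g hg =>
    Subtype.ext (huq g hg 1 (one_mem _) g (mul_one _).symm)
  have hθirr : IsIrrCharacter Ga θ := isIrrCharacter_comp_surjective hμ π
    (fun d => ⟨⟨d, hDG d d.2⟩, hπD d _ rfl⟩)
  have hθc : ∀ g g' : Ga, θ (g' * g * g'⁻¹) = θ g := isClassFunction_irr hθirr
  have hθ1 : θ 1 = m := by show μ (π 1) = _; rw [map_one, hμ1]
  have hss := swap_sq hsharp hab hac hbc hsa hsb hsc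
  -- the induced character on the point stabiliser
  have hpoint : ∀ (g : Ga) (x : G), extendByZero Ga θ (x⁻¹ * g * x) =
      if (g : G) • (x • a) = x • a then θ g else 0 := by
    intro g x
    by_cases hx : (g : G) • (x • a) = x • a
    · have hm' : x⁻¹ * g * x ∈ Ga := mem_stabilizer_iff.mpr (by
        rw [mul_smul, mul_smul, hx, inv_smul_smul])
      rw [if_pos hx, extendByZero_of_mem _ _ hm']
      by_cases hxa : x • a = a
      · have hxG : x⁻¹ ∈ Ga := inv_mem (mem_stabilizer_iff.mpr hxa)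
        rw [← hθc g ⟨x⁻¹, hxG⟩]
        exact congrArg θ (Subtype.ext (by simp))
      · obtain ⟨k, hk, hkb⟩ := hAt b (x • a) hab.symm hxa
        have hd : k⁻¹ * g * k ∈ D G a b := by
          refine mem_D.mpr ⟨?_, ?_⟩
          · rw [mul_smul, mul_smul, hAa k hk, mem_stabilizer_iff.mp g.2, inv_smul_eq_iff, hAa k hk]
          · rw [mul_smul, mul_smul, hkb, hx, inv_smul_eq_iff, hkb]
        have e1 : θ g = μ ⟨_, hd⟩ := by
          rw [← hθc g ⟨k⁻¹, inv_mem (hAG k hk)⟩]
          show μ (π _) = _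
          rw [hπD ⟨_, hd⟩ _ (by simp)]
        have hu : s⁻¹ * (k⁻¹ * x) ∈ Ga := by
          rw [hGa, mem_stabilizer_iff, mul_smul, mul_smul, ← hkb, inv_smul_smul, inv_smul_eq_iff, hsa]
        have hd' := swap_conj hsharp hab hac hbc hsa hsb hsc hd
        rw [e1, ← hinv ⟨_, hd⟩ ⟨_, hd'⟩ rfl, ← hπD ⟨_, hd'⟩ ⟨_, hDG _ hd'⟩ rfl]
        show θ _ = θ _
        rw [← hθc ⟨_, hDG _ hd'⟩ ⟨_, inv_mem hu⟩]
        refine congrArg θ (Subtype.ext ?_)
        show x⁻¹ * g * x = (s⁻¹ * (k⁻¹ * x))⁻¹ * (s * (k⁻¹ * g * k) * s⁻¹) * ((s⁻¹ * (k⁻¹ * x))⁻¹)⁻¹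
        rw [inv_eq_of_mul_eq_one_right hss]
        simp only [mul_inv_rev, inv_inv, mul_assoc, inv_eq_of_mul_eq_one_right hss]
        simp only [← mul_assoc s s, hss, one_mul]
        simp [mul_assoc]
    · rw [if_neg hx, extendByZero_of_not_mem]
      intro hm'
      have hm'' : (x⁻¹ * (g : G) * x) • a = a := mem_stabilizer_iff.mp hm'
      rw [mul_smul, mul_smul, inv_smul_eq_iff] at hm''
      exact hx hm''
  let fx : G → ℕ := fun g => (Finset.univ.filter fun y : α => g • y = y).card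
  set Φ := indFun Ga θ with hΦ
  have hΦG : ∀ g : Ga, Φ g = θ g * fx g := by
    intro g
    show (Nat.card Ga : ℂ)⁻¹ * ∑ x : G, extendByZero Ga θ (x⁻¹ * g * x) = _
    rw [Finset.sum_congr rfl fun x _ => hpoint g x,
      sum_smul_eq a (fun y => if (g : G) • y = y then θ g else 0), ← hGa, ← mul_assoc,
      inv_mul_cancel₀ (Nat.cast_ne_zero.mpr Nat.card_pos.ne'), one_mul, ← Finset.sum_filter, Finset.sum_const,
      nsmul_eq_mul, mul_comm]
  -- cardinalities
  have hDc := card_D hsharp h3 hab hn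
  have hAcard : Nat.card A = 2 * h + 1 := by
    have hbij : Function.Bijective (fun k : A => (⟨(k : G) • b, fun e =>
        hab (smul_left_cancel (k : G) ((hAa _ k.2).trans e.symm))⟩ : {y : α // y ≠ a})) := by
      refine ⟨fun k k' hkk => ?_, fun ⟨y, hy⟩ => ?_⟩
      · have h1 : (k : G) • b = (k' : G) • b := congrArg Subtype.val hkk
        exact Subtype.ext (inv_mul_eq_one.mp (hAf _ (mul_mem (inv_mem k'.2) k.2) b hab.symm
          (by rw [mul_smul, h1, inv_smul_smul]))).symm
      · obtain ⟨k, hk, hkb⟩ := hAt b y hab.symm hy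
        exact ⟨⟨k, hk⟩, Subtype.ext hkb⟩
    rw [Nat.card_eq_of_bijective _ hbij, Nat.card_eq_fintype_card, Fintype.card_subtype_compl,
      Fintype.card_subtype_eq]
    omega
  have hGac : Nat.card Ga = (2 * h + 1) * (2 * h) := by
    have hbij : Function.Bijective (fun p : A × D G a b => (⟨(p.1 : G) * p.2,
        mul_mem (hAG _ p.1.2) (hDG _ p.2.2)⟩ : Ga)) := by
      refine ⟨fun p p' hp => ?_, fun g => ⟨(⟨kk g, hkkA g⟩, π g), Subtype.ext (mul_inv_cancel_left _ _)⟩⟩
      have e1 := huq _ p.1.2 _ p.2.2 ⟨_, mul_mem (hAG _ p.1.2) (hDG _ p.2.2)⟩ rfl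
      have e2 := huq _ p'.1.2 _ p'.2.2 ⟨_, mul_mem (hAG _ p.1.2) (hDG _ p.2.2)⟩ (congrArg Subtype.val hp)
      have e3 : (p.2 : G) = p'.2 := e1.symm.trans e2
      refine Prod.ext (Subtype.ext ?_) (Subtype.ext e3)
      have := congrArg Subtype.val hp
      simp only [e3] at this
      exact mul_right_cancel this
    rw [← Nat.card_eq_of_bijective _ hbij, Nat.card_prod, hAcard, hh]
  have hGc : Nat.card G = (2 * h + 2) * ((2 * h + 1) * (2 * h)) := by
    rw [← (stabilizer G a).index_mul_card, MulAction.index_stabilizer_of_transitive, Nat.card_eq_fintype_card (α := α),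
      ← hGa, hGac, ← hDc, hh]
  -- norms
  have hμn : ∑ d : D G a b, Complex.normSq (μ d) = 2 * h := by
    have h1 := classInner_irr_self hμ
    simp only [classInner, Complex.mul_conj] at h1
    rw [hh, inv_mul_eq_one₀ (by rw [Nat.cast_ne_zero, ← hh]; exact Nat.card_pos.ne')] at h1
    exact_mod_cast h1.symm
  have hθn : ∑ g : Ga, Complex.normSq (θ g) = (2 * h + 1) * (2 * h) := by
    have h1 := classInner_irr_self hθirr
    simp only [classInner, Complex.mul_conj] at h1
    rw [inv_mul_eq_one₀ (Nat.cast_ne_zero.mpr Nat.card_pos.ne'), hGac] at h1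
    exact_mod_cast h1.symm
  have hstab : ∀ y : α, y ≠ a → ∑ g : Ga, (if (g : G) • y = y then Complex.normSq (θ g) else 0) = 2 * h := by
    intro y hy
    obtain ⟨k, hk, hkb⟩ := hAt b y hab.symm hy
    rw [← Finset.sum_filter, ← hμn]
    symm
    refine Finset.sum_bij (fun d _ => (⟨k, hAG k hk⟩ : Ga) * ⟨d, hDG _ d.2⟩ * (⟨k, hAG k hk⟩ : Ga)⁻¹)
      (fun d _ => Finset.mem_filter.mpr ⟨Finset.mem_univ _, ?_⟩)
      (fun d _ d' _ hdd' => Subtype.ext (congrArg (fun g : Ga => (g : G)) (mul_left_cancel (mul_right_cancel hdd'))))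
      (fun g hg => ?_) (fun d _ => ?_)
    · show (k * (d : G) * k⁻¹) • y = y
      rw [← hkb, mul_smul, mul_smul, inv_smul_smul, (mem_D.mp d.2).2]
    · have hgy := (Finset.mem_filter.mp hg).2
      have hd : k⁻¹ * g * k ∈ D G a b := by
        refine mem_D.mpr ⟨?_, ?_⟩
        · rw [mul_smul, mul_smul, hAa k hk, mem_stabilizer_iff.mp g.2, inv_smul_eq_iff, hAa k hk]
        · rw [mul_smul, mul_smul, hkb, hgy, inv_smul_eq_iff, hkb]
      exact ⟨⟨_, hd⟩, Finset.mem_univ _, Subtype.ext (by simp [mul_assoc])⟩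
    · rw [hθc]
      show _ = Complex.normSq (μ (π _))
      rw [hπD d _ rfl]
  have hΦnorm : classInner Φ Φ = 2 := by
    rw [hΦ, frobenius_reciprocity Ga θ (indFun_isClassFunction Ga θ), ← hΦ]
    simp only [classInner, hΦG, map_mul, map_natCast, ← mul_assoc, Complex.mul_conj]
    have key : ∑ g : Ga, Complex.normSq (θ g) * (fx g : ℝ) = 2 * ((2 * h + 1) * (2 * h)) := by
      have e1 : ∀ g : Ga, Complex.normSq (θ g) * (fx g : ℝ) =
          ∑ y : α, if (g : G) • y = y then Complex.normSq (θ g) else 0 := fun g => by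
        rw [← Finset.sum_filter, Finset.sum_const, nsmul_eq_mul, mul_comm]
      rw [Finset.sum_congr rfl fun g _ => e1 g, Finset.sum_comm, ← Finset.add_sum_erase _ _ (Finset.mem_univ a),
        Finset.sum_congr rfl fun y hy => hstab y (Finset.ne_of_mem_erase hy), Finset.sum_const,
        Finset.card_erase_of_mem (Finset.mem_univ a), Finset.card_univ, nsmul_eq_mul,
        Finset.sum_congr rfl (g := fun g => Complex.normSq (θ g))
          (fun g _ => if_pos (mem_stabilizer_iff.mp g.2)), hθn,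
        show Fintype.card α - 1 = 2 * h + 1 by omega]
      push_cast; ring
    rw [show (∑ g : Ga, (Complex.normSq (θ g) : ℂ) * (fx g : ℂ)) = ((∑ g : Ga, Complex.normSq (θ g) * (fx g : ℝ) : ℝ) : ℂ) by push_cast; rfl,
      key, hGac]
    have : (((2 * h + 1) * (2 * h) : ℕ) : ℂ) ≠ 0 := by rw [← hGac]; exact Nat.cast_ne_zero.mpr Nat.card_pos.ne'
    push_cast at this ⊢
    rw [inv_mul_eq_iff_eq_mul₀ this]
    ring
  -- two constituents
  have hΦch : IsCharacter G Φ := isCharacter_indFun Ga (isCharacter_of_irr hθirr)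
  obtain ⟨χ₁, hχ₁, hne⟩ := exists_constituent hΦch (fun h0 => by
    rw [h0] at hΦnorm; simp [classInner] at hΦnorm)
  obtain ⟨k₁, hk₁⟩ := classInner_char_nat hΦch (isCharacter_of_irr hχ₁)
  have hk₁0 : k₁ ≠ 0 := fun h0 => hne (by rw [hk₁, h0, Nat.cast_zero])
  have hχ₂c := isCharacter_sub_irr hΦch hχ₁ hne
  obtain ⟨k₂, hk₂⟩ := classInner_char_nat hχ₂c hχ₂c
  have hsub : classInner (Φ - χ₁) (Φ - χ₁) = 3 - 2 * (k₁ : ℂ) := by
    rw [classInner_sub_left, classInner_sub_right, classInner_sub_right, hΦnorm, hk₁,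
      ← classInner_comm Φ χ₁, hk₁, map_natCast, classInner_irr_self hχ₁]
    ring
  have hk : k₁ = 1 ∧ k₂ = 1 := by
    have h1 : ((k₂ + 2 * k₁ : ℕ) : ℂ) = ((3 : ℕ) : ℂ) := by push_cast; rw [← hk₂, hsub]; ring
    have h2 := Nat.cast_inj.mp h1
    omega
  have hχ₂ : IsIrrCharacter G (Φ - χ₁) := irr_of_char_norm_one hχ₂c (by rw [hk₂, hk.2, Nat.cast_one])
  have hin₁ : classInner Φ χ₁ = 1 := by rw [hk₁, hk.1, Nat.cast_one]
  have hin₂ : classInner Φ (Φ - χ₁) = 1 := by rw [classInner_sub_right, hΦnorm, hin₁]; norm_num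
  -- sums over the translations
  let iA : A →* Ga := Subgroup.inclusion (fun k hk => hAG k hk)
  have hsumθ : ∑ k : A, θ (iA k) = (2 * h + 1) * (m : ℂ) := by
    rw [Finset.sum_congr rfl (g := fun _ => (m : ℂ)) (fun k _ => by show μ (π _) = _; rw [hπA (iA k) k.2, hμ1]),
      Finset.sum_const, Finset.card_univ, ← Nat.card_eq_fintype_card, hAcard, nsmul_eq_mul]
    push_cast; ring
  have hsumΦ : ∑ k : A, Φ (k : G) = 2 * ((2 * h + 1) * (m : ℂ)) := by
    have e1 : ∀ k : A, Φ (k : G) = ∑ y : α, if (k : G) • y = y then (m : ℂ) else 0 := fun k => by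
      have := hΦG (iA k)
      rw [show θ (iA k) = m by show μ (π _) = _; rw [hπA (iA k) k.2, hμ1]] at this
      rw [← Finset.sum_filter, Finset.sum_const, nsmul_eq_mul, mul_comm]
      exact this
    rw [Finset.sum_congr rfl fun k _ => e1 k, Finset.sum_comm, ← Finset.add_sum_erase _ _ (Finset.mem_univ a),
      Finset.sum_congr rfl (g := fun _ => (m : ℂ)) (fun (k : A) _ => if_pos (hAa k k.2)),
      Finset.sum_congr (s₁ := Finset.univ.erase a) rfl (g := fun _ => (m : ℂ)) (fun y hy => by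
        rw [Finset.sum_eq_single (1 : A), OneMemClass.coe_one, if_pos (one_smul G y)]
        · intro k _ hk1
          rw [if_neg fun h' => hk1 (Subtype.ext (hAf k k.2 y (Finset.ne_of_mem_erase hy) h'))]
        · exact fun h' => absurd (Finset.mem_univ _) h'),
      Finset.sum_const, Finset.sum_const, Finset.card_erase_of_mem (Finset.mem_univ a), Finset.card_univ,
      Finset.card_univ, ← Nat.card_eq_fintype_card (α := A), hAcard,
      show Fintype.card α - 1 = 2 * h + 1 by omega, nsmul_eq_mul]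
    push_cast; ring
  -- the analysis of a constituent
  have hδ : ∀ χ, IsIrrCharacter G χ → classInner Φ χ = 1 → IsCharacter Ga (fun g : Ga => χ g - θ g) ∧
      ∃ N : ℕ, ∑ k : A, χ (k : G) = (2 * h + 1) * ((m : ℂ) + N) := by
    intro χ hχ hin
    have hr : IsCharacter Ga (fun g : Ga => χ g) := isCharacter_restrict (isCharacter_of_irr hχ) Ga
    have h1 : classInner (fun g : Ga => χ g) θ = 1 := by
      rw [← classInner_comm θ, ← frobenius_reciprocity Ga θ (isClassFunction_irr hχ), ← hΦ, hin, map_one]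
    have hc := isCharacter_sub_irr hr hθirr (by rw [h1]; exact one_ne_zero)
    refine ⟨hc, ?_⟩
    obtain ⟨N, hN⟩ := classInner_char_nat (isCharacter_comp hc iA) (isCharacter_one (G := A))
    refine ⟨N, ?_⟩
    simp only [classInner, map_one, mul_one] at hN
    rw [inv_mul_eq_iff_eq_mul₀ (Nat.cast_ne_zero.mpr Nat.card_pos.ne'), hAcard] at hN
    push_cast at hN
    have : ∑ k : A, χ (k : G) = ∑ k : A, (χ (k : G) - θ (iA k)) + ∑ k : A, θ (iA k) := by
      rw [← Finset.sum_add_distrib]; simp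
    rw [this, show (∑ k : A, (χ (k : G) - θ (iA k))) = (2 * (h : ℂ) + 1) * N from hN, hsumθ]
    ring
  obtain ⟨hc₁, N₁, hN₁⟩ := hδ χ₁ hχ₁ hin₁
  obtain ⟨hc₂, N₂, hN₂⟩ := hδ _ hχ₂ hin₂
  have hN0 : N₁ = 0 ∧ N₂ = 0 := by
    have h1 : ∑ k : A, χ₁ (k : G) + ∑ k : A, (Φ - χ₁) (k : G) = ∑ k : A, Φ (k : G) := by
      rw [← Finset.sum_add_distrib]; simp
    rw [hN₁, hN₂, hsumΦ] at h1
    have h2 : ((2 * h + 1) * (N₁ + N₂) : ℕ) = ((0 : ℕ) : ℂ) := by push_cast; linear_combination h1
    have h3 := Nat.cast_inj.mp h2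
    simp at h3
    omega
  obtain ⟨k₀, hk₀, hk₀c⟩ := hAt b c hab.symm hac.symm
  have hk₀1 : k₀ ≠ 1 := fun h0 => hbc (by rw [← hk₀c, h0, one_smul])
  have hconj : ∀ k ∈ A, k ≠ 1 → ∃ d : G, k = d * k₀ * d⁻¹ := by
    intro k hk hk1
    have hkb : k • b ≠ b := fun h' => hk1 (hAf k hk b hab.symm h')
    have hka : k • b ≠ a := fun h' => hab (smul_left_cancel k ((hAa k hk).trans h'.symm))
    obtain ⟨d, hda, hdb, hdc⟩ := SharpThree.exists_move h3 hab hac hbc hab (Ne.symm hka) (Ne.symm hkb)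
    refine ⟨d, ?_⟩
    have hk' : d * k₀ * d⁻¹ ∈ A := hAn d hda k₀ hk₀
    have h1 : (d * k₀ * d⁻¹) • b = k • b := by rw [mul_smul, mul_smul, inv_smul_eq_iff.mpr hdb.symm, hk₀c, hdc]
    exact inv_mul_eq_one.mp (hAf _ (mul_mem (inv_mem hk) hk') b hab.symm (by rw [mul_smul, h1, inv_smul_smul]))
  have hj : ∀ χ, IsIrrCharacter G χ → IsCharacter Ga (fun g : Ga => χ g - θ g) →
      (∑ k : A, χ (k : G)) = (2 * h + 1) * ((m : ℂ) + (0 : ℕ)) →
      ∃ j : ℕ, χ 1 = (m : ℂ) + 2 * h * j ∧ 1 ≤ j ∧ m * (1 + 2 * j * e) ∣ Nat.card G := by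
    intro χ hχ hc hs
    obtain ⟨n, ρ, hρ, hρχ⟩ := id hχ
    haveI := hρ
    have hx : χ 1 = (n : ℂ) := by rw [← hρχ, ρ.char_one, Module.finrank_fin_fun]
    have hsum : ∑ k : A, χ (k : G) = χ 1 + (2 * h : ℕ) * χ k₀ := by
      rw [← Finset.add_sum_erase _ _ (Finset.mem_univ (1 : A)), Finset.sum_congr rfl (g := fun _ => χ k₀) (fun k hk => by
        obtain ⟨d, hd⟩ := hconj k k.2 fun h' => Finset.ne_of_mem_erase hk (Subtype.ext h')
        rw [hd]; exact isClassFunction_irr hχ k₀ d), Finset.sum_const, Finset.card_erase_of_mem (Finset.mem_univ _),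
        Finset.card_univ, ← Nat.card_eq_fintype_card, hAcard, nsmul_eq_mul, Nat.add_sub_cancel]
      rfl
    rw [hs] at hsum
    obtain ⟨N, hN⟩ := char_one_eq_natCast hc
    have hθ1' : χ ((1 : Ga) : G) - θ 1 = (n : ℂ) - m := by rw [hθ1, OneMemClass.coe_one, hx]
    have hN' : (n : ℂ) = m + N := by rw [← hN]; simp only [hθ1', add_sub_cancel]
    have hh0 : (2 * h : ℕ) ≠ 0 := by rw [← hh]; exact Nat.card_pos.ne'
    have hq : χ k₀ = (((m : ℚ) - (N : ℚ) / (2 * h : ℕ)) : ℚ) := by
      have hh0' : ((2 * h : ℕ) : ℂ) ≠ 0 := Nat.cast_ne_zero.mpr hh0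
      rw [Rat.cast_sub, Rat.cast_div, Rat.cast_natCast, Rat.cast_natCast, Rat.cast_natCast,
        eq_sub_iff_add_eq, ← eq_sub_iff_add_eq', eq_comm, eq_div_iff hh0']
      rw [hx, hN'] at hsum
      push_cast at hsum ⊢
      linear_combination hsum
    obtain ⟨i, hi⟩ := exists_int_of_isIntegral_ratCast (hq ▸ isIntegral_of_char (isCharacter_of_irr hχ) k₀)
    have hdiv : (N : ℤ) = (2 * h : ℕ) * ((m : ℤ) - i) := by
      have hh0' : ((2 * h : ℕ) : ℚ) ≠ 0 := Nat.cast_ne_zero.mpr hh0
      have : (N : ℚ) = (2 * h : ℕ) * ((m : ℚ) - i) := by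
        rw [← hi]; field_simp; ring
      exact_mod_cast this
    obtain ⟨j, hjN⟩ : (2 * h) ∣ N := Int.natCast_dvd_natCast.mp ⟨_, hdiv⟩
    refine ⟨j, by rw [hx, hN', hjN]; push_cast; ring, ?_, ?_⟩
    · by_contra hj0
      have hN0' : N = 0 := by rw [hjN, show j = 0 by omega, mul_zero]
      have hx' : χ 1 = m := by rw [hx, hN', hN0']; simp
      have hr : ∀ g : Ga, χ g = θ g := fun g =>
        sub_eq_zero.mp (congrFun (eq_zero_of_degree_zero hc (by rw [hN, hN0', Nat.cast_zero])) g)
      have hχc := isCharacter_of_irr hχ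
      have hzker : z ∈ charKernel χ hχc := by
        rw [mem_charKernel, hx', hr ⟨z, hDG z hzD⟩]
        show μ (π _) = _
        rw [hπD ⟨z, hzD⟩ _ rfl, hμz]
      obtain ⟨g, hg⟩ := isConj_iff.mp hzs
      have hsker : s ∈ charKernel χ hχc := hg ▸ Subgroup.Normal.conj_mem inferInstance z hzker g
      let f : D G a b → D G a b := fun d => d⁻¹ * ⟨s * d * s⁻¹, swap_conj hsharp hab hac hbc hsa hsb hsc d.2⟩
      have hfm : ∀ d, μ (f d) = m := by
        intro d
        have hk : ((f d : D G a b) : G) ∈ charKernel χ hχc := by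
          show (d : G)⁻¹ * (s * d * s⁻¹) ∈ _
          rw [← mul_assoc, ← mul_assoc]
          refine mul_mem ?_ (inv_mem hsker)
          simpa using Subgroup.Normal.conj_mem inferInstance s hsker (d : G)⁻¹
        rw [mem_charKernel, hx', hr ⟨_, hDG _ (f d).2⟩] at hk
        rw [← hk]
        show μ (f d) = μ (π _)
        rw [hπD (f d) _ rfl]
      have hfib : ∀ y ∈ Finset.univ.image f, ((Finset.univ.filter fun d => f d = y).card) ≤ 2 := by
        intro y hy
        obtain ⟨d₀, -, rfl⟩ := Finset.mem_image.mp hy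
        refine (Finset.card_le_card (t := {d₀, ⟨z, hzD⟩ * d₀}) fun d hd => ?_).trans Finset.card_le_two
        have hd' : (d : G)⁻¹ * (s * d * s⁻¹) = (d₀ : G)⁻¹ * (s * d₀ * s⁻¹) :=
          congrArg Subtype.val (Finset.mem_filter.mp hd).2
        have hc' : ((d : G) * (d₀ : G)⁻¹) * s = s * ((d : G) * (d₀ : G)⁻¹) := by
          calc ((d : G) * (d₀ : G)⁻¹) * s = (d : G) * ((d₀ : G)⁻¹ * (s * d₀ * s⁻¹)) * (s * (d₀ : G)⁻¹ * s⁻¹) * s := by group
            _ = s * ((d : G) * (d₀ : G)⁻¹) := by rw [← hd']; group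
        rcases hcent _ (mul_mem d.2 (inv_mem d₀.2)) hc' with h' | h'
        · exact Finset.mem_insert.mpr (Or.inl (Subtype.ext (mul_inv_eq_one.mp h')))
        · exact Finset.mem_insert.mpr (Or.inr (Finset.mem_singleton.mpr (Subtype.ext (mul_inv_eq_iff_eq_mul.mp h'))))
      have himg := Finset.card_le_mul_card_image (Finset.univ : Finset (D G a b)) 2 hfib
      rw [Finset.card_univ, ← Nat.card_eq_fintype_card, hh] at himg
      have hlow : ((Finset.univ.image f).card : ℝ) * (m * m) ≤ ∑ d : D G a b, Complex.normSq (μ d) := by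
        refine le_trans ?_ (Finset.sum_le_univ_sum_of_nonneg (s := Finset.univ.image f) fun d => Complex.normSq_nonneg _)
        rw [Finset.sum_congr rfl (g := fun _ => ((m : ℝ) * m)) (fun y hy => by
          obtain ⟨d, -, rfl⟩ := Finset.mem_image.mp hy
          rw [hfm, Complex.normSq_natCast]), Finset.sum_const, nsmul_eq_mul]
      rw [hμn] at hlow
      have h9 : (Finset.univ.image f).card * (m * m) ≤ 2 * h := by exact_mod_cast hlow
      have h10 : 9 ≤ m * m := Nat.mul_le_mul hm hm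
      have h11 : h * 9 ≤ (Finset.univ.image f).card * (m * m) := Nat.mul_le_mul (by omega) h10
      omega
    · have hdn : n ∣ Nat.card G := by simpa using finrank_dvd_card ρ
      have : n = m * (1 + 2 * j * e) := by
        have h1 : (n : ℂ) = ((m * (1 + 2 * j * e) : ℕ) : ℂ) := by rw [hN', hjN, he]; push_cast; ring
        exact Nat.cast_inj.mp h1
      exact this ▸ hdn
  obtain ⟨j₁, hx₁, hj₁, hd₁⟩ := hj χ₁ hχ₁ hc₁ (by rw [hN₁, hN0.1])
  obtain ⟨j₂, hx₂, hj₂, hd₂⟩ := hj _ hχ₂ hc₂ (by rw [hN₂, hN0.2])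
  have hjsum : j₁ + j₂ = m := by
    have h1 : Φ 1 = (m : ℂ) * (2 * h + 2) := by
      have := hΦG 1
      rw [OneMemClass.coe_one, hθ1, show fx 1 = 2 * h + 2 by rw [← hh, hDc]; simp [fx]] at this
      rw [this]; push_cast; ring
    have h2 : ((2 * h * (j₁ + j₂) : ℕ) : ℂ) = ((2 * h * m : ℕ) : ℂ) := by
      have : χ₁ 1 + (Φ - χ₁) 1 = Φ 1 := by simp
      rw [hx₁, hx₂, h1] at this
      push_cast
      linear_combination this
    have h3 := Nat.cast_inj.mp h2
    exact Nat.eq_of_mul_eq_mul_left (by have := hh ▸ Nat.card_pos (α := D G a b); omega) h3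
  rw [hGc, he] at hd₁ hd₂
  have hre : (2 * (m * e) + 2) * ((2 * (m * e) + 1) * (2 * (m * e))) = (2 * m * e + 2) * (2 * m * e + 1) * (2 * m * e) := by
    ring
  rw [hre] at hd₁ hd₂
  obtain ⟨r, hr⟩ := hmo
  rcases lt_or_ge m (2 * j₁) with h' | h'
  · exact arith (by omega) hme h' (by omega) hd₁
  · exact arith (by omega) hme (by omega) (by omega) hd₂

set_option maxHeartbeats 2000000 in
/-- The two-point stabiliser has a non-trivial linear character fixed by the interchanging involution. -/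
theorem exists_invariant_linear : ∃ lam : D G a b →* ℂˣ, lam ≠ 1 ∧
    ∀ d d' : D G a b, (d' : G) = s * d * s⁻¹ → lam d' = lam d := by
  classical
  obtain ⟨z, e, hzD, hz, -, -, -, -, -, hcent, hsz, hzcen, hzs⟩ :=
    exists_invol hsharp h3 heven hn hab hac hbc hsa hsb hsc
  have hss := swap_sq hsharp hab hac hbc hsa hsb hsc
  have hsi := inv_eq_of_mul_eq_one_right hss
  have hsD : s ∉ D G a b := fun h' => hab (hsa ▸ (mem_D.mp h').1).symm
  have hsconj := fun d hd => swap_conj hsharp hab hac hbc hsa hsb hsc (d := d) hd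
  let K : Subgroup G :=
    { carrier := {g | g ∈ D G a b ∨ g * s ∈ D G a b}
      one_mem' := Or.inl (one_mem _)
      mul_mem' := by
        rintro g g' (hg | hg) (hg' | hg')
        · exact Or.inl (mul_mem hg hg')
        · exact Or.inr (by rw [mul_assoc]; exact mul_mem hg hg')
        · refine Or.inr ?_
          have := mul_mem hg (hsconj g' hg')
          rwa [hsi, show g * s * (s * g' * s) = g * (s * s) * (g' * s) by group, hss, mul_one, ← mul_assoc] at this
        · refine Or.inl ?_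
          have := mul_mem hg (hsconj _ hg')
          rwa [hsi, show g * s * (s * (g' * s) * s) = g * (s * s) * g' * (s * s) by group, hss, mul_one, mul_one] at this
      inv_mem' := by
        rintro g (hg | hg)
        · exact Or.inl (inv_mem hg)
        · refine Or.inr ?_
          have := hsconj _ (inv_mem hg)
          rwa [mul_inv_rev, hsi, show s * (s * g⁻¹) * s = (s * s) * (g⁻¹ * s) by group, hss, one_mul] at this }
  letI : Fintype K := Fintype.ofFinite K
  letI : Fintype (D G a b) := Fintype.ofFinite _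
  let sK : K := ⟨s, Or.inr (by rw [hss]; exact one_mem _)⟩
  let i : D G a b →* K := Subgroup.inclusion (fun g hg => Or.inl hg)
  have hsKK : sK * sK = 1 := Subtype.ext hss
  have hbij : Function.Bijective (Sum.elim (fun d : D G a b => i d) (fun d => i d * sK)) := by
    refine ⟨?_, ?_⟩
    · rintro (d | d) (d' | d') hdd <;> simp only [Sum.elim_inl, Sum.elim_inr] at hdd
      · exact congrArg Sum.inl (Subtype.ext (congrArg (fun x : K => (x : G)) hdd))
      · exfalso
        refine hsD ?_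
        have h1 : (d : G) = d' * s := congrArg (fun x : K => (x : G)) hdd
        rw [show s = (d' : G)⁻¹ * d by rw [h1, inv_mul_cancel_left]]
        exact mul_mem (inv_mem d'.2) d.2
      · exfalso
        refine hsD ?_
        have h1 : (d : G) * s = d' := congrArg (fun x : K => (x : G)) hdd
        rw [show s = (d : G)⁻¹ * d' by rw [← h1, inv_mul_cancel_left]]
        exact mul_mem (inv_mem d.2) d'.2
      · exact congrArg Sum.inr (Subtype.ext (congrArg (fun x : K => (x : G)) (mul_right_cancel hdd)))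
    · rintro ⟨g, hg | hg⟩
      · exact ⟨Sum.inl ⟨g, hg⟩, rfl⟩
      · exact ⟨Sum.inr ⟨g * s, hg⟩, Subtype.ext (by show g * s * s = g; rw [mul_assoc, hss, mul_one])⟩
  have hsplit : ∀ x : K, ∃ d, x = i d ∨ x = i d * sK := fun x => by
    obtain ⟨p, rfl⟩ := hbij.2 x
    rcases p with d | d
    · exact ⟨d, Or.inl rfl⟩
    · exact ⟨d, Or.inr rfl⟩
  have hKc : Nat.card K = 2 * Nat.card (D G a b) := by
    rw [← Nat.card_eq_of_bijective _ hbij, Nat.card_sum, two_mul]
  have hKsum : ∀ φ : K → ℝ, ∑ x, φ x = ∑ d, φ (i d) + ∑ d, φ (i d * sK) := by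
    intro φ
    rw [← Function.Bijective.sum_comp hbij φ, Fintype.sum_sum_type]
    rfl
  let zK : K := i ⟨z, hzD⟩
  have hz1 : z ≠ 1 := fun h' => by rw [h', orderOf_one] at hz; omega
  have hC : Nat.card (Subgroup.centralizer ({sK} : Set K)) = 4 := by
    have hset : ((Subgroup.centralizer ({sK} : Set K) : Subgroup K) : Set K) = ↑({1, zK, sK, zK * sK} : Finset K) := by
      ext x
      simp only [SetLike.mem_coe, Subgroup.mem_centralizer_singleton_iff, Finset.coe_insert, Finset.coe_singleton,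
        Set.mem_insert_iff, Set.mem_singleton_iff]
      have hzsK : zK * sK = sK * zK := Subtype.ext hsz.symm
      constructor
      · intro hx
        obtain ⟨p, rfl⟩ := hbij.2 x
        rcases p with d | d <;> simp only [Sum.elim_inl, Sum.elim_inr] at hx ⊢
        · have h1 : (d : G) * s = s * d := by
            have := congrArg (fun x : K => (x : G)) hx
            first | exact this | exact this.symm
          rcases hcent _ d.2 h1 with h' | h'
          · exact Or.inl (Subtype.ext h')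
          · exact Or.inr (Or.inl (Subtype.ext h'))
        · have h1 : (d : G) * s = s * d := by
            have := congrArg (fun x : K => (x : G)) hx
            simp only [Subgroup.coe_mul] at this
            have h2 : (d : G) * s * s = s * (d * s) := by
              first | exact this | exact this.symm
            exact mul_right_cancel (h2.trans (mul_assoc _ _ _).symm)
          rcases hcent _ d.2 h1 with h' | h'
          · exact Or.inr (Or.inr (Or.inl (by rw [show d = 1 from Subtype.ext h', map_one, one_mul])))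
          · exact Or.inr (Or.inr (Or.inr (by rw [show d = ⟨z, hzD⟩ from Subtype.ext h'])))
      · rintro (rfl | rfl | rfl | rfl)
        · simp
        · first | exact hzsK | exact hzsK.symm
        · rfl
        · rw [mul_assoc, hsKK, hzsK, ← mul_assoc, hsKK, mul_one, one_mul]
    have h1 : Nat.card (Subgroup.centralizer ({sK} : Set K)) = ({1, zK, sK, zK * sK} : Finset K).card := by
      rw [← Nat.card_eq_finsetCard]
      exact Nat.card_congr (Equiv.setCongr hset)
    rw [h1]
    have hzK1 : zK ≠ 1 := fun h' => hz1 (congrArg (fun x : K => (x : G)) h')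
    have hsK1 : sK ≠ 1 := fun h' => hsD (by rw [show s = 1 from congrArg (fun x : K => (x : G)) h']; exact one_mem _)
    have hzsne : zK ≠ sK := fun h' => hsD (by rw [← show z = s from congrArg (fun x : K => (x : G)) h']; exact hzD)
    have hzs1 : zK * sK ≠ 1 := fun h' => hzsne ((mul_eq_one_iff_eq_inv.mp h').trans (inv_eq_of_mul_eq_one_right hsKK))
    rw [Finset.card_insert_of_notMem (by simp [hzK1.symm, hsK1.symm, hzs1.symm]),
      Finset.card_insert_of_notMem (by simp [hzsne, hsK1]),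
      Finset.card_insert_of_notMem (by simp [hzK1]), Finset.card_singleton]
  have hcol : ∑ χ : IrrCharacter K, Complex.normSq ((χ : K → ℂ) sK) = 4 := by
    have := sum_irr_mul_conj sK sK
    rw [if_pos (IsConj.refl sK), hC] at this
    simp only [Complex.mul_conj] at this
    exact_mod_cast this
  -- the two linear characters trivial on the stabiliser
  let ε : K →* ℂˣ := MonoidHom.mk' (fun x => if (x : G) ∈ D G a b then 1 else -1) (by
    intro x y
    have hin : ∀ d : D G a b, ((i d : K) : G) ∈ D G a b := fun d => d.2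
    have hnin : ∀ d : D G a b, ((i d * sK : K) : G) ∉ D G a b := fun d h' => hsD (by
      have h2 : (d : G)⁻¹ * ((d : G) * s) ∈ D G a b := mul_mem (inv_mem d.2) h'
      rwa [inv_mul_cancel_left] at h2)
    obtain ⟨d, rfl | rfl⟩ := hsplit x <;> obtain ⟨d', rfl | rfl⟩ := hsplit y
    · rw [if_pos (hin d), if_pos (hin d'), if_pos (by exact mul_mem d.2 d'.2), one_mul]
    · rw [if_pos (hin d), if_neg (hnin d'), if_neg (by rw [← mul_assoc, ← map_mul]; exact hnin _), one_mul]
    · rw [if_neg (hnin d), if_pos (hin d'), if_neg (fun h' => ?_), mul_one]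
      refine hsD ?_
      have h2 := mul_mem (mul_mem (inv_mem d.2) h') (inv_mem d'.2)
      simpa [i, sK, mul_assoc] using h2
    · rw [if_neg (hnin d), if_neg (hnin d'), if_pos ?_, neg_mul_neg, one_mul]
      show (d : G) * s * (d' * s) ∈ D G a b
      have h2 := mul_mem d.2 (hsconj _ d'.2)
      rw [hsi] at h2
      simpa [mul_assoc] using h2)
  have hεD : ∀ d, ε (i d) = 1 := fun d => if_pos d.2
  have hεs : ε sK = -1 := if_neg hsD
  have hone : IsIrrCharacter K (fun _ => (1 : ℂ)) := isIrrCharacter_one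
  have hconst : ∀ χ, IsIrrCharacter K χ → (∀ d, χ (i d) = χ 1) → χ sK ≠ 0 →
      χ = (fun _ => (1 : ℂ)) ∨ χ = fun x => (ε x : ℂ) := by
    intro χ hχ hcd hs0
    obtain ⟨n, hn0, hχ1⟩ := irr_degree_pos hχ
    have hnorm : ∑ x : K, Complex.normSq (χ x) = Nat.card K := by
      have h1 := classInner_irr_self hχ
      simp only [classInner, Complex.mul_conj] at h1
      rw [inv_mul_eq_one₀ (Nat.cast_ne_zero.mpr Nat.card_pos.ne')] at h1
      exact_mod_cast h1.symm
    rw [hKsum, Finset.sum_congr rfl (g := fun _ => ((n : ℝ) * n)) (fun d _ => by rw [hcd, hχ1, Complex.normSq_natCast]),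
      Finset.sum_const, Finset.card_univ, ← Nat.card_eq_fintype_card, nsmul_eq_mul, hKc] at hnorm
    have hpos : 0 < ∑ d : D G a b, Complex.normSq (χ (i d * sK)) := by
      refine Finset.sum_pos' (fun d _ => Complex.normSq_nonneg _) ⟨1, Finset.mem_univ _, ?_⟩
      rw [map_one, one_mul]
      exact Complex.normSq_pos.mpr hs0
    have hn1 : n = 1 := by
      by_contra h'
      have h2 : (2 : ℝ) ≤ n := by exact_mod_cast (show 2 ≤ n by omega)
      have h4 : (0 : ℝ) < Nat.card (D G a b) := Nat.cast_pos.mpr Nat.card_pos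
      push_cast at hnorm
      nlinarith [mul_le_mul h2 h2 zero_le_two (by linarith : (0 : ℝ) ≤ n)]
    obtain ⟨φ, hφ⟩ := exists_hom_of_degree_one (isCharacter_of_irr hχ) (by rw [hχ1, hn1, Nat.cast_one])
    have hφD : ∀ d, φ (i d) = 1 := fun d => Units.ext (by rw [← congrFun hφ (i d), hcd, hχ1, hn1]; simp)
    have hφs : (φ sK : ℂ) = 1 ∨ (φ sK : ℂ) = -1 := by
      refine sq_eq_one_iff.mp ?_
      rw [pow_two, ← Units.val_mul, ← map_mul, hsKK, map_one, Units.val_one]
    rcases hφs with h' | h'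
    · refine Or.inl (funext fun x => ?_)
      obtain ⟨p, rfl⟩ := hbij.2 x
      rcases p with d | d <;> simp [hφ, hφD, h']
    · refine Or.inr (funext fun x => ?_)
      obtain ⟨p, rfl⟩ := hbij.2 x
      rcases p with d | d <;> simp [hφ, hφD, hεD, hεs, h']
  have hεirr : IsIrrCharacter K (fun x => (ε x : ℂ)) := isIrrCharacter_linear ε
  obtain ⟨ψ, hψ, hψs, hψnc⟩ : ∃ ψ, IsIrrCharacter K ψ ∧ ψ sK ≠ 0 ∧ ¬ ∀ d, ψ (i d) = ψ 1 := by
    by_contra hno
    push Not at hno
    let S : Finset (IrrCharacter K) := {⟨_, hone⟩, ⟨_, hεirr⟩}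
    have h1 : ∑ χ : IrrCharacter K, Complex.normSq ((χ : K → ℂ) sK) = ∑ χ ∈ S, Complex.normSq ((χ : K → ℂ) sK) := by
      refine (Finset.sum_subset (Finset.subset_univ S) fun χ _ hχS => ?_).symm
      by_contra h0
      have hs0 : (χ : K → ℂ) sK ≠ 0 := fun h' => h0 (by rw [h', map_zero])
      rcases hconst χ χ.2 (hno χ χ.2 hs0) hs0 with h' | h'
      · exact hχS (Finset.mem_insert.mpr (Or.inl (Subtype.ext h')))
      · exact hχS (Finset.mem_insert.mpr (Or.inr (Finset.mem_singleton.mpr (Subtype.ext h'))))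
    have h2 : ∑ χ ∈ S, Complex.normSq ((χ : K → ℂ) sK) ≤ 2 := by
      refine (Finset.sum_le_card_nsmul S _ (1 : ℝ) fun χ hχ => ?_).trans ?_
      · simp only [S, Finset.mem_insert, Finset.mem_singleton] at hχ
        rcases hχ with rfl | rfl <;> simp [hεs]
      · rw [nsmul_eq_mul, mul_one]
        exact_mod_cast (Finset.card_le_two : S.card ≤ 2)
    linarith
  -- its twin
  let ψ' : K → ℂ := fun x => ψ x * (ε x : ℂ)
  have hεsq : ∀ x, Complex.normSq ((ε x : ℂ)) = 1 := by
    intro x
    obtain ⟨p, rfl⟩ := hbij.2 x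
    rcases p with d | d <;> simp [hεD, hεs]
  have hψ' : IsIrrCharacter K ψ' := by
    refine irr_of_char_norm_one (isCharacter_mul (isCharacter_of_irr hψ) (isCharacter_of_irr hεirr)) ?_
    have h1 := classInner_irr_self hψ
    simp only [classInner, ψ', Pi.mul_apply] at h1 ⊢
    refine Eq.trans ?_ h1
    congr 1
    refine Finset.sum_congr rfl fun x _ => ?_
    rw [Complex.mul_conj, Complex.mul_conj, Complex.normSq_mul, hεsq, mul_one]
  have hψsq : Complex.normSq (ψ sK) ≤ 1 := by
    have hd1 : (fun _ : K => (1 : ℂ)) ≠ fun x => (ε x : ℂ) := fun h' => by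
      have := congrFun h' sK
      simp [hεs] at this
      norm_num at this
    have hnc' : ∀ χ : K → ℂ, (χ = ψ ∨ χ = ψ') → χ ≠ (fun _ => (1 : ℂ)) ∧ χ ≠ fun x => (ε x : ℂ) := by
      have aux : (∀ d, ψ' (i d) = ψ (i d)) ∧ ψ' 1 = ψ 1 := ⟨fun d => by simp [ψ', hεD], by simp [ψ']⟩
      rintro χ (rfl | rfl) <;> refine ⟨fun h' => hψnc fun d => ?_, fun h' => hψnc fun d => ?_⟩
      · simp [h']
      · simp [h', hεD]
      · rw [← aux.1, ← aux.2, h']
      · rw [← aux.1, ← aux.2, h']; simp [hεD]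
    have hψψ' : ψ ≠ ψ' := fun h' => by
      have := congrFun h' sK
      simp only [ψ', hεs, Units.val_neg, Units.val_one, mul_neg, mul_one] at this
      exact hψs (self_eq_neg.mp this)
    let S : Finset (IrrCharacter K) := {⟨_, hone⟩, ⟨_, hεirr⟩, ⟨ψ, hψ⟩, ⟨ψ', hψ'⟩}
    have h1 : ∑ χ ∈ S, Complex.normSq ((χ : K → ℂ) sK) ≤ 4 :=
      hcol ▸ Finset.sum_le_univ_sum_of_nonneg fun χ => Complex.normSq_nonneg _
    rw [Finset.sum_insert (by simp [Subtype.ext_iff, hd1, (hnc' ψ (Or.inl rfl)).1.symm, (hnc' ψ' (Or.inr rfl)).1.symm]),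
      Finset.sum_insert (by simp [Subtype.ext_iff, (hnc' ψ (Or.inl rfl)).2.symm, (hnc' ψ' (Or.inr rfl)).2.symm]),
      Finset.sum_insert (by simp [Subtype.ext_iff, hψψ']), Finset.sum_singleton] at h1
    simp [ψ', hεs] at h1
    linarith
  obtain ⟨m, ρ, hρ, hρψ⟩ := id hψ
  haveI := hρ
  have hψ1 : ψ 1 = (m : ℂ) := by rw [← hρψ, ρ.char_one, Module.finrank_fin_fun]
  have hm0 : 0 < m := by
    obtain ⟨n, hn0, hn1⟩ := irr_degree_pos hψ
    rw [hψ1] at hn1
    exact (Nat.cast_inj.mp hn1) ▸ hn0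
  have hmo : Odd m := by
    obtain ⟨k, hk⟩ := involution_value ρ hsKK
    rw [hρψ, Module.finrank_fin_fun] at hk
    rcases Nat.even_or_odd m with ⟨r, hr⟩ | ho
    · exfalso
      have hval : ψ sK = ((2 * ((r : ℤ) - k) : ℤ) : ℂ) := by rw [hk, hr]; push_cast; ring
      rw [hval, Complex.normSq_intCast] at hψsq
      have h1 : (2 * ((r : ℤ) - k)) * (2 * ((r : ℤ) - k)) ≤ 1 := by exact_mod_cast hψsq
      have h2 : (2 * ((r : ℤ) - k)) ≠ 0 := fun h' => hψs (by rw [hval, h', Int.cast_zero])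
      nlinarith [mul_self_nonneg ((r : ℤ) - k), Int.one_le_abs (show ((r : ℤ) - k) ≠ 0 by omega),
        sq_abs ((r : ℤ) - k)]
    · exact ho
  set μ : D G a b → ℂ := fun d => ψ (i d) with hμdef
  have hinv : ∀ d d' : D G a b, (d' : G) = s * d * s⁻¹ → μ d' = μ d := by
    intro d d' hdd
    show ψ (i d') = ψ (i d)
    rw [show i d' = sK * i d * sK⁻¹ from Subtype.ext hdd]
    exact isClassFunction_irr hψ _ _
  have hμch : IsCharacter (D G a b) μ := isCharacter_comp (isCharacter_of_irr hψ) i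
  have hμ1 : μ 1 = m := by show ψ (i 1) = _; rw [map_one, hψ1]
  have hμirr : IsIrrCharacter (D G a b) μ := by
    refine irr_of_char_norm_one hμch ?_
    obtain ⟨N, hN⟩ := classInner_char_nat hμch hμch
    rw [hN]
    have hN' : ∑ d : D G a b, Complex.normSq (μ d) = Nat.card (D G a b) * N := by
      simp only [classInner, Complex.mul_conj] at hN
      rw [inv_mul_eq_iff_eq_mul₀ (Nat.cast_ne_zero.mpr Nat.card_pos.ne')] at hN
      exact_mod_cast hN
    have hnorm : ∑ x : K, Complex.normSq (ψ x) = Nat.card K := by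
      have h1 := classInner_irr_self hψ
      simp only [classInner, Complex.mul_conj] at h1
      rw [inv_mul_eq_one₀ (Nat.cast_ne_zero.mpr Nat.card_pos.ne')] at h1
      exact_mod_cast h1.symm
    rw [hKsum, hKc] at hnorm
    have hpos : 0 < ∑ d : D G a b, Complex.normSq (ψ (i d * sK)) := by
      refine Finset.sum_pos' (fun d _ => Complex.normSq_nonneg _) ⟨1, Finset.mem_univ _, ?_⟩
      rw [map_one, one_mul]
      exact Complex.normSq_pos.mpr hψs
    have hμpos : 0 < ∑ d : D G a b, Complex.normSq (μ d) := by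
      refine Finset.sum_pos' (fun d _ => Complex.normSq_nonneg _) ⟨1, Finset.mem_univ _, ?_⟩
      rw [hμ1, Complex.normSq_natCast]; positivity
    have hlt : (Nat.card (D G a b) : ℝ) * N < Nat.card (D G a b) * 2 := by
      rw [← hN']; push_cast at hnorm ⊢; simp only [hμdef] at *; linarith
    have hN2 : N < 2 := by exact_mod_cast lt_of_mul_lt_mul_left hlt (Nat.cast_nonneg _)
    have hN0 : N ≠ 0 := fun h' => by rw [hN', h'] at hμpos; simp at hμpos
    rw [show N = 1 by omega, Nat.cast_one]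
  by_cases hm1 : m = 1
  · obtain ⟨φ, hφ⟩ := exists_hom_of_degree_one hμch (by rw [hμ1, hm1, Nat.cast_one])
    refine ⟨φ, fun h' => hψnc fun d => ?_, fun d d' hdd => Units.ext (by rw [← congrFun hφ d, ← congrFun hφ d']; exact hinv d d' hdd)⟩
    show μ d = ψ 1
    rw [hψ1, hm1, hφ, h']
    simp
  let lam : D G a b →* ℂˣ := (detHom ρ).comp i
  by_cases hlam : lam ≠ 1
  · refine ⟨lam, hlam, fun d d' hdd => ?_⟩
    show detHom ρ (i d') = detHom ρ (i d)
    rw [show i d' = sK * i d * sK⁻¹ from Subtype.ext hdd, map_mul, map_mul, map_inv, mul_comm (detHom ρ sK),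
      mul_inv_cancel_right]
  exfalso
  rw [not_not] at hlam
  have hzc : zK ∈ Subgroup.center K := by
    rw [Subgroup.mem_center_iff]
    intro x
    obtain ⟨p, rfl⟩ := hbij.2 x
    rcases p with d | d <;> apply Subtype.ext
    · exact hzcen d d.2
    · show (d : G) * s * z = z * ((d : G) * s)
      rw [mul_assoc, hsz, ← mul_assoc, hzcen d d.2, mul_assoc]
  obtain ⟨ω, hω⟩ := exists_scalar_of_mem_center ρ hzc
  have hzz : zK * zK = 1 := Subtype.ext (by show z * z = 1; rw [← pow_two, ← hz, pow_orderOf_eq_one])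
  have hψz : ψ zK = ω * m := by
    rw [← hρψ]
    simp [Representation.character, hω]
  have hω1 : ω = 1 := by
    have hdet : LinearMap.det (ρ zK) = 1 := by
      have := congrArg (fun u : ℂˣ => (u : ℂ)) (DFunLike.congr_fun hlam ⟨z, hzD⟩)
      simpa [lam, coe_detHom] using this
    rw [hω, LinearMap.det_smul, LinearMap.det_id, mul_one, Module.finrank_fin_fun] at hdet
    obtain ⟨k, hk⟩ := involution_value ρ hzz
    have hsq : ω ^ 2 = 1 := by
      have h1 : ρ zK * ρ zK = 1 := by rw [← map_mul, hzz, map_one]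
      have hne : Nontrivial (Fin m → ℂ) := by
        haveI : NeZero m := ⟨hm0.ne'⟩
        infer_instance
      obtain ⟨v, hv⟩ := exists_ne (0 : Fin m → ℂ)
      have h2 := LinearMap.congr_fun h1 v
      rw [hω] at h2
      simp [smul_smul] at h2
      rw [pow_two]
      exact smul_left_injective ℂ hv (h2.trans (one_smul ℂ v).symm)
    rcases sq_eq_one_iff.mp hsq with h' | h'
    · exact h'
    · rw [h', hmo.neg_one_pow] at hdet
      norm_num at hdet
  have hμz : μ ⟨z, hzD⟩ = m := by show ψ zK = _; rw [hψz, hω1, one_mul]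
  obtain ⟨r, hr⟩ := heven
  have hDc := card_D hsharp h3 hab hn
  have hh : Nat.card (D G a b) = 2 * (r - 1) := by omega
  have hzc' : (⟨z, hzD⟩ : D G a b) ∈ Subgroup.center (D G a b) :=
    Subgroup.mem_center_iff.mpr fun d => Subtype.ext (hzcen d d.2)
  obtain ⟨e, he⟩ : m ∣ r - 1 := by
    obtain ⟨n, σ, hσ, hσμ⟩ := id hμirr
    haveI := hσ
    have hnm : n = m := by
      have h1 : μ 1 = (n : ℂ) := by rw [← hσμ, σ.char_one, Module.finrank_fin_fun]
      exact Nat.cast_inj.mp (h1.symm.trans hμ1)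
    have h1 := degree_dvd_index_center σ
    rw [Module.finrank_fin_fun, hnm] at h1
    refine h1.trans ?_
    have h2 := Subgroup.index_dvd_of_le (Subgroup.zpowers_le.mpr hzc')
    have h3 := (Subgroup.zpowers (⟨z, hzD⟩ : D G a b)).card_mul_index
    rw [Nat.card_zpowers, Subgroup.orderOf_mk, hz, hh] at h3
    rwa [show (Subgroup.zpowers (⟨z, hzD⟩ : D G a b)).index = r - 1 by omega] at h2
  have hme : m ≤ e := by
    have hnorm : ∑ d : D G a b, Complex.normSq (μ d) = Nat.card (D G a b) := by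
      have h1 := classInner_irr_self hμirr
      simp only [classInner, Complex.mul_conj] at h1
      rw [inv_mul_eq_one₀ (Nat.cast_ne_zero.mpr Nat.card_pos.ne')] at h1
      exact_mod_cast h1.symm
    have h1 := Finset.sum_le_univ_sum_of_nonneg (s := ({1, ⟨z, hzD⟩} : Finset (D G a b)))
      (f := fun d => Complex.normSq (μ d)) fun d => Complex.normSq_nonneg _
    rw [Finset.sum_pair (fun h' => hz1 (congrArg Subtype.val h').symm), hμ1, hμz, Complex.normSq_natCast, hnorm, hh, he] at h1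
    have h2 : m * m + m * m ≤ 2 * (m * e) := by exact_mod_cast h1
    exact Nat.le_of_mul_le_mul_left (by omega : m * m ≤ m * e) hm0
  refine no_invariant_irr hsharp h3 ⟨r, by omega⟩ hn hab hac hbc hsa hsb hsc hzD hzs hcent ?_ hmo hh he hme μ hμirr hμ1 hμz hinv
  obtain ⟨k, hk⟩ := hmo
  omega

end CfsgLib.SharpIndexTwo
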