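/-
A sharply three-transitive group of even degree is not simple.
-/
import Mathlib
import Cfsg.Agent.Lib.Perm.SharpThreeIndexTwo
import Cfsg.Agent.Lib.CharTheory.Linear
import Cfsg.Agent.Lib.CharTheory.Clifford

set_option autoImplicit false

namespace CfsgLib.SharpThreeNotSimple

open MulAction Cfsg CfsgLib.CharTheory
open scoped ComplexConjugate

universe u

/-- In a subgroup all of whose nontrivial elements have one value, the multiplicity of a nontrivial linear
character is the drop divided by the order. -/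
theorem multiplicity {G : Type u} [Group G] [Fintype G] {K : Subgroup G} [Fintype K] (ν : K →* ℂˣ) (hν : ν ≠ 1)
    {φ : G → ℂ} (hφ : IsCharacter G φ) {u₀ : G} (hconst : ∀ k ∈ K, k ≠ 1 → φ k = φ u₀) :
    ∃ b : ℕ, φ 1 - φ u₀ = (Nat.card K : ℂ) * b := by
  classical
  have hνc : IsCharacter K (fun k => (ν k : ℂ)) := by
    rw [← linearRep_character]; exact isCharacter_character _
  obtain ⟨b, hb⟩ := classInner_char_nat (isCharacter_restrict hφ K) hνc
  refine ⟨b, ?_⟩
  have hsum : ∑ k : K, (ν k : ℂ) = 0 := by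
    obtain ⟨k₁, hk₁⟩ : ∃ k₁, ν k₁ ≠ 1 := by
      by_contra h
      push Not at h
      exact hν (MonoidHom.ext h)
    have h1 : (ν k₁ : ℂ) * ∑ k : K, (ν k : ℂ) = ∑ k : K, (ν k : ℂ) := by
      rw [Finset.mul_sum]
      exact Fintype.sum_equiv (Equiv.mulLeft k₁) _ _ fun k => by simp
    by_contra hne
    exact hk₁ (Units.ext (mul_right_cancel₀ hne (by rw [h1, Units.val_one, one_mul])))
  have hterm : ∀ k : K, φ k * conj (ν k : ℂ) = φ u₀ * conj (ν k : ℂ) + if k = 1 then φ 1 - φ u₀ else 0 := by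
    intro k
    by_cases hk : k = 1
    · subst hk; simp
    · rw [if_neg hk, add_zero, hconst k k.2 fun e => hk (Subtype.ext e)]
  rw [classInner] at hb
  simp only [hterm, Finset.sum_add_distrib, ← Finset.mul_sum, ← map_sum, hsum, map_zero, mul_zero, zero_add,
    Finset.sum_ite_eq', Finset.mem_univ, if_true] at hb
  rw [inv_mul_eq_iff_eq_mul₀ (Nat.cast_ne_zero.2 Nat.card_pos.ne')] at hb
  exact hb

variable {α : Type u} [Fintype α] [DecidableEq α] {G : Subgroup (Equiv.Perm α)}

set_option maxHeartbeats 4000000 in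
/-- A sharply three-transitive group of even degree is not simple. -/
theorem not_simple (hsharp : ∀ x : Fin 3 ↪ α, stabilizer G x = ⊥) (h3 : IsMultiplyPretransitive G α 3)
    (heven : Even (Fintype.card α)) (hn : 4 ≤ Fintype.card α) : ¬ IsSimpleGroup G := by
  classical
  intro hsimp
  obtain ⟨a, b, c, hab, hac, hbc⟩ : ∃ a b c : α, a ≠ b ∧ a ≠ c ∧ b ≠ c :=
    Fintype.two_lt_card_iff.1 (by omega)
  obtain ⟨s, hsa, hsb, hsc⟩ := SharpThree.exists_move h3 hab hac hbc hab.symm hbc hac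
  have hss := SharpIndexTwo.swap_sq hsharp hab hac hbc hsa hsb hsc
  have hsi : s⁻¹ = s := inv_eq_of_mul_eq_one_right hss
  obtain ⟨lam, hlam, hlinv⟩ :=
    SharpIndexTwo.exists_invariant_linear hsharp h3 heven hn hab hac hbc hsa hsb hsc
  obtain ⟨K, hKa, hKc, hKn, hKt, hKf⟩ := SharpThree.exists_translations hsharp h3 hn a
  set A := stabilizer G a with hA
  letI : Fintype A := Fintype.ofFinite A
  letI : Fintype K := Fintype.ofFinite K
  -- decomposition of the stabiliser
  have hmove : ∀ x : G, x • a = a → ∃ k ∈ K, k • b = x • b := fun x hx =>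
    hKt b (x • b) hab.symm fun e => hab.symm (smul_left_cancel x (e.trans hx.symm))
  choose kf hkfK hkfb using hmove
  have hkfu : ∀ (x : G) (hx : x • a = a) (k : G), k ∈ K → k • b = x • b → kf x hx = k := by
    intro x hx k hk hkb
    refine inv_mul_eq_one.1 (hKf _ (mul_mem (inv_mem (hkfK x hx)) hk) b hab.symm ?_)
    rw [mul_smul, hkb, ← hkfb x hx, inv_smul_smul]
  let dA : A → SharpIndexTwo.D G a b := fun x => ⟨(kf x x.2)⁻¹ * x, SharpIndexTwo.mem_D.2
    ⟨by rw [mul_smul, mem_stabilizer_iff.1 x.2, inv_smul_eq_iff, hKa _ (hkfK _ x.2)],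
      by rw [mul_smul, ← hkfb x x.2, inv_smul_smul]⟩⟩
  have hdmul : ∀ x y : A, dA (x * y) = dA x * dA y := by
    intro x y
    have hk : kf ((x * y : A) : G) (x * y).2 = kf x x.2 * ((x : G) * kf y y.2 * (x : G)⁻¹ : G) := by
      refine hkfu _ _ _ (mul_mem (hkfK _ x.2) (hKn x x.2 _ (hkfK _ y.2))) ?_
      have hcomm := hKc _ (hkfK _ x.2) _ (hKn x x.2 _ (hkfK _ y.2))
      rw [hcomm, mul_smul, hkfb x x.2, ← mul_smul, inv_mul_cancel_right, mul_smul, hkfb y y.2, ← mul_smul]
      rfl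
    refine Subtype.ext ?_
    show (kf ((x * y : A) : G) (x * y).2)⁻¹ * ((x : G) * y) = (kf x x.2)⁻¹ * x * ((kf y y.2)⁻¹ * y)
    rw [hk, hKc _ (hkfK _ x.2) _ (hKn x x.2 _ (hkfK _ y.2))]
    group
  let μ : A →* ℂˣ := MonoidHom.mk' (fun x => lam (dA x)) fun x y => by rw [hdmul, map_mul]
  have hμD : ∀ (d : G) (hd : d ∈ SharpIndexTwo.D G a b) (hdA : d ∈ A), μ ⟨d, hdA⟩ = lam ⟨d, hd⟩ := by
    intro d hd hdA
    show lam (dA _) = _
    congr 1
    refine Subtype.ext ?_
    show (kf d hdA)⁻¹ * d = d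
    rw [hkfu d hdA 1 (one_mem _) (by rw [one_smul]; exact (SharpIndexTwo.mem_D.1 hd).2.symm), inv_one, one_mul]
  have hμK : ∀ (k : G) (hk : k ∈ K), μ ⟨k, hKa k hk⟩ = 1 := by
    intro k hk
    show lam (dA _) = 1
    rw [show dA ⟨k, hKa k hk⟩ = 1 from Subtype.ext (by
      exact (congrArg (fun t => t⁻¹ * k) (hkfu k (hKa k hk) k hk rfl)).trans (inv_mul_cancel k)), map_one]
  set θ : A → ℂ := fun x => (μ x : ℂ) with hθ
  have hθc : IsCharacter A θ := by rw [hθ, ← linearRep_character]; exact isCharacter_character _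
  have hθconj : ∀ x, θ x * conj (θ x) = 1 := fun x => by
    rw [Complex.mul_conj, Complex.normSq_eq_norm_sq, Complex.norm_eq_one_of_pow_eq_one (ζ := θ x) (n := orderOf x)
      (by rw [hθ]; simp only; rw [← Units.val_pow_eq_pow_val, ← map_pow, pow_orderOf_eq_one, map_one, Units.val_one])
      (orderOf_pos x).ne']
    norm_num
  set χ := indFun A θ with hχ
  have hχc : IsCharacter G χ := isCharacter_indFun A hθc
  haveI : IsPretransitive G α :=
    ⟨fun x y => by
      obtain ⟨x1, hx1, x2, hx2, hx12⟩ : ∃ x1, x1 ≠ x ∧ ∃ x2, x2 ≠ x ∧ x1 ≠ x2 := by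
        have h1 : 1 < (Finset.univ.erase x).card := by
          rw [Finset.card_erase_of_mem (Finset.mem_univ x), Finset.card_univ]; omega
        obtain ⟨p, hp, r, hr, hpr⟩ := Finset.one_lt_card.1 h1
        exact ⟨p, (Finset.mem_erase.1 hp).1, r, (Finset.mem_erase.1 hr).1, hpr⟩
      obtain ⟨y1, hy1, y2, hy2, hy12⟩ : ∃ x1, x1 ≠ y ∧ ∃ x2, x2 ≠ y ∧ x1 ≠ x2 := by
        have h1 : 1 < (Finset.univ.erase y).card := by
          rw [Finset.card_erase_of_mem (Finset.mem_univ y), Finset.card_univ]; omega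
        obtain ⟨p, hp, r, hr, hpr⟩ := Finset.one_lt_card.1 h1
        exact ⟨p, (Finset.mem_erase.1 hp).1, r, (Finset.mem_erase.1 hr).1, hpr⟩
      obtain ⟨g, hg, -⟩ := SharpThree.exists_move h3 hx1.symm hx2.symm hx12 hy1.symm hy2.symm hy12
      exact ⟨g, hg⟩⟩
  -- orders
  have hidx : A.index = Fintype.card α := by
    rw [hA, index_stabilizer_of_transitive, Nat.card_eq_fintype_card]
  have hDc := SharpIndexTwo.card_D hsharp h3 hab hn
  have hKcard : Nat.card K + 1 = Fintype.card α := by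
    have hb : Function.Bijective (fun k : K => (⟨(k : G) • b, fun e =>
        hab.symm (smul_left_cancel (k : G) (e.trans (hKa k k.2).symm))⟩ : {x : α // x ≠ a})) := by
      refine ⟨fun k l e => ?_, fun ⟨x, hx⟩ => ?_⟩
      · have e' : (k : G) • b = (l : G) • b := congrArg Subtype.val e
        exact Subtype.ext (inv_mul_eq_one.1 (hKf _ (mul_mem (inv_mem l.2) k.2) b hab.symm
          (by rw [mul_smul, e', inv_smul_smul]))).symm
      · obtain ⟨k, hk, hk'⟩ := hKt b x hab.symm hx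
        exact ⟨⟨k, hk⟩, Subtype.ext hk'⟩
    rw [Nat.card_congr (Equiv.ofBijective _ hb), Nat.card_eq_fintype_card, Fintype.card_subtype_compl,
      Fintype.card_subtype_eq]
    omega
  have hAcard : Nat.card A = Nat.card K * Nat.card (SharpIndexTwo.D G a b) := by
    rw [← Nat.card_prod]
    refine Nat.card_congr
      { toFun := fun x => (⟨kf x x.2, hkfK _ _⟩, dA x)
        invFun := fun p => ⟨(p.1 : G) * (p.2 : G), mul_mem (hKa p.1 p.1.2) (SharpIndexTwo.mem_D.1 p.2.2).1⟩
        left_inv := fun x => Subtype.ext (by show kf x x.2 * ((kf x x.2)⁻¹ * (x : G)) = x; rw [mul_inv_cancel_left])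
        right_inv := fun p => ?_ }
    have hk : ∀ hh, kf ((p.1 : G) * (p.2 : G)) hh = p.1 := fun hh =>
      hkfu _ hh _ p.1.2 (by rw [mul_smul, (SharpIndexTwo.mem_D.1 p.2.2).2])
    refine Prod.ext (Subtype.ext (hk _)) (Subtype.ext ?_)
    exact (congrArg (fun t => t⁻¹ * ((p.1 : G) * (p.2 : G))) (hk _)).trans (inv_mul_cancel_left _ _)
  -- the norm
  have hnorm : classInner χ χ = 2 := by
    have hfr : classInner χ χ = classInner θ (fun x : A => χ x) :=
      frobenius_reciprocity A θ (isClassFunction_char hχc)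
    rw [hfr]
    simp only [classInner, hχ, indFun, map_mul, map_inv₀, map_natCast, map_sum, Finset.mul_sum]
    rw [Finset.sum_comm]
    simp only [← Finset.mul_sum]
    have hS : ∀ g : G, ∑ x : A, θ x * ((Nat.card A : ℂ)⁻¹ * conj (extendByZero A θ (g⁻¹ * x * g))) =
        (Nat.card A : ℂ)⁻¹ * if g ∈ A then (Nat.card A : ℂ) else (Nat.card (SharpIndexTwo.D G a b) : ℂ) := by
      intro g
      rw [Finset.sum_congr rfl fun x _ => mul_left_comm (θ x) _ _, ← Finset.mul_sum]
      congr 1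
      by_cases hg : g ∈ A
      · rw [if_pos hg, Nat.card_eq_fintype_card, ← Finset.card_univ, ← nsmul_one, ← Finset.sum_const]
        refine Finset.sum_congr rfl fun x _ => ?_
        rw [extendByZero_of_mem _ _ (mul_mem (mul_mem (inv_mem hg) x.2) hg)]
        have e1 : θ ⟨g⁻¹ * x * g, mul_mem (mul_mem (inv_mem hg) x.2) hg⟩ = θ x :=
          congrArg Units.val (show μ ((⟨g, hg⟩ : A)⁻¹ * x * ⟨g, hg⟩) = μ x by
            rw [map_mul, map_mul, map_inv, mul_comm (μ ⟨g, hg⟩)⁻¹, inv_mul_cancel_right])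
        rw [e1, hθconj]
      · rw [if_neg hg]
        have hga : g • a ≠ a := hg
        obtain ⟨u, hu, hub⟩ := hKt b (g • a) hab.symm hga
        have hwA : s⁻¹ * u⁻¹ * g ∈ A := by
          show (s⁻¹ * u⁻¹ * g) • a = a
          rw [mul_smul, mul_smul, ← hub, inv_smul_smul, inv_smul_eq_iff, hsa]
        set w := s⁻¹ * u⁻¹ * g with hw
        let dW : SharpIndexTwo.D G a b → A := fun d => ⟨u * d * u⁻¹, mul_mem (mul_mem (hKa u hu)
          (SharpIndexTwo.mem_D.1 d.2).1) (inv_mem (hKa u hu : u ∈ A))⟩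
        have hval : ∀ d : SharpIndexTwo.D G a b, θ (dW d) * conj (extendByZero A θ (g⁻¹ * (dW d : G) * g)) = 1 := by
          intro d
          have hd' := SharpIndexTwo.swap_conj hsharp hab hac hbc hsa hsb hsc d.2
          have e1 : g⁻¹ * (dW d : G) * g = w⁻¹ * (s * d * s⁻¹) * w := by
            show g⁻¹ * (u * d * u⁻¹) * g = _
            rw [hw, hsi]
            calc g⁻¹ * (u * d * u⁻¹) * g = g⁻¹ * u * (s * s) * d * (s * s) * u⁻¹ * g := by rw [hss]; group
              _ = (s * u⁻¹ * g)⁻¹ * (s * d * s) * (s * u⁻¹ * g) := by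
                rw [mul_inv_rev, mul_inv_rev, inv_inv, hsi]; group
          rw [e1, extendByZero_of_mem _ _ (mul_mem (mul_mem (inv_mem hwA) (SharpIndexTwo.mem_D.1 hd').1) hwA)]
          have e2 : θ ⟨w⁻¹ * (s * d * s⁻¹) * w, mul_mem (mul_mem (inv_mem hwA) (SharpIndexTwo.mem_D.1 hd').1) hwA⟩ =
              θ (dW d) := by
            refine congrArg Units.val (?_ : μ _ = μ _)
            have h1 : μ ((⟨w, hwA⟩ : A)⁻¹ * ⟨s * d * s⁻¹, (SharpIndexTwo.mem_D.1 hd').1⟩ * ⟨w, hwA⟩) =
                μ ((⟨u, hKa u hu⟩ : A) * ⟨d, (SharpIndexTwo.mem_D.1 d.2).1⟩ * (⟨u, hKa u hu⟩ : A)⁻¹) := by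
              simp only [map_mul, map_inv, hμK u hu, hμD _ hd' (SharpIndexTwo.mem_D.1 hd').1, hμD _ d.2 _,
                hlinv d ⟨_, hd'⟩ rfl]
              rw [mul_right_comm, inv_mul_cancel, inv_one, one_mul, one_mul, mul_one]
              exact (hμD _ d.2 _).symm
            exact h1
          rw [e2, hθconj]
        rw [Nat.card_eq_fintype_card, ← Finset.card_univ, ← nsmul_one, ← Finset.sum_const]
        refine Eq.symm (Finset.sum_of_injOn dW (fun d _ d' _ e => Subtype.ext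
          (mul_left_cancel (mul_right_cancel (congrArg (fun x : A => (x : G)) e)))) (fun d _ => Finset.mem_univ _)
          (fun x _ hx => ?_) fun d _ => (hval d).symm)
        rw [extendByZero_of_not_mem, map_zero, mul_zero]
        intro hmem
        refine hx ⟨⟨u⁻¹ * x * u, SharpIndexTwo.mem_D.2 ⟨?_, ?_⟩⟩, Finset.mem_coe.2 (Finset.mem_univ _), Subtype.ext (by
          show u * (u⁻¹ * x * u) * u⁻¹ = x; group)⟩
        · exact mul_mem (mul_mem (inv_mem (hKa u hu : u ∈ A)) x.2) (hKa u hu : u ∈ A)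
        · have h1 : (g⁻¹ * (x : G) * g) • a = a := hmem
          rw [mul_smul, mul_smul, inv_smul_eq_iff] at h1
          rw [mul_smul, mul_smul, hub, h1, ← hub, inv_smul_smul]
    rw [Finset.sum_congr rfl fun g _ => hS g, ← Finset.mul_sum, Finset.sum_ite, Finset.sum_const, Finset.sum_const,
      nsmul_eq_mul, nsmul_eq_mul]
    have h1 : (Finset.univ.filter fun g : G => g ∈ A).card = Nat.card A := by
      rw [Nat.card_eq_fintype_card, Fintype.card_subtype]
    have h2 : (Finset.univ.filter fun g : G => ¬ g ∈ A).card + Nat.card A = Fintype.card α * Nat.card A := by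
      rw [← h1, add_comm, Finset.card_filter_add_card_filter_not, Finset.card_univ, ← Nat.card_eq_fintype_card, h1,
        ← hidx, Subgroup.index_mul_card]
    have h3 : (Finset.univ.filter fun g : G => ¬ g ∈ A).card = Nat.card K * Nat.card A := by
      rw [← hKcard, add_one_mul] at h2; omega
    rw [h1, h3, hAcard]
    have hK0 : (Nat.card K : ℂ) ≠ 0 := Nat.cast_ne_zero.2 Nat.card_pos.ne'
    have hD0 : (Nat.card (SharpIndexTwo.D G a b) : ℂ) ≠ 0 := Nat.cast_ne_zero.2 Nat.card_pos.ne'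
    push_cast
    field_simp
    ring
  -- one nonidentity class in the translations
  obtain ⟨u₀, hu₀, hu₀b⟩ := hKt b c hab.symm hac.symm
  have hu₀1 : u₀ ≠ 1 := fun e => hbc (by rw [← hu₀b, e, one_smul])
  have hclass : ∀ φ : G → ℂ, IsClassFunction G φ → ∀ k ∈ K, k ≠ 1 → φ k = φ u₀ := by
    intro φ hφ k hk hk1
    have hka : k • b ≠ a := fun e => hab.symm (smul_left_cancel k (e.trans (hKa k hk).symm))
    have hkb : k • b ≠ b := fun e => hk1 (hKf k hk b hab.symm e)
    obtain ⟨d, hda, hdb, hdc⟩ := SharpThree.exists_move h3 hab hac hbc hab hka.symm hkb.symm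
    have e : d * u₀ * d⁻¹ = k := by
      refine (inv_mul_eq_one.1 (hKf _ (mul_mem (inv_mem hk) (hKn d hda u₀ hu₀)) b hab.symm ?_)).symm
      rw [mul_smul, mul_smul, mul_smul, inv_smul_eq_iff.2 hdb.symm, hu₀b, hdc, inv_smul_smul]
    rw [← e]; exact hφ u₀ d
  have hKne : ∃ ν : K →* ℂˣ, ν ≠ 1 := by
    letI : CommGroup K := { (inferInstance : Group K) with mul_comm := fun x y => Subtype.ext (hKc x x.2 y y.2) }
    obtain ⟨ν, hν⟩ := CommGroup.exists_apply_ne_one_of_hasEnoughRootsOfUnity K ℂ (a := ⟨u₀, hu₀⟩)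
      fun e => hu₀1 (congrArg Subtype.val e)
    exact ⟨ν, fun e => hν (by rw [e]; rfl)⟩
  obtain ⟨ν, hν⟩ := hKne
  -- the values of `χ`
  have hχ1 : χ 1 = (Fintype.card α : ℂ) := by
    rw [hχ, indFun_apply_one, hidx, show θ 1 = 1 by simp [hθ], mul_one]
  have hχu : χ u₀ = 1 := by
    rw [hχ]
    simp only [indFun]
    have hval : ∀ g : G, extendByZero A θ (g⁻¹ * u₀ * g) = if g ∈ A then 1 else 0 := by
      intro g
      by_cases hg : g ∈ A
      · have hmem : g⁻¹ * u₀ * g ∈ K := by simpa using hKn g⁻¹ (inv_mem hg : g⁻¹ ∈ A) u₀ hu₀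
        rw [if_pos hg, extendByZero_of_mem _ _ (hKa _ hmem)]
        exact congrArg Units.val (hμK _ hmem)
      · rw [if_neg hg, extendByZero_of_not_mem]
        intro hmem
        have h1 : (g⁻¹ * u₀ * g) • a = a := hmem
        rw [mul_smul, mul_smul, inv_smul_eq_iff] at h1
        exact hu₀1 (hKf u₀ hu₀ _ hg h1)
    rw [Finset.sum_congr rfl fun g _ => hval g, Finset.sum_boole, ← Fintype.card_subtype, ← Nat.card_eq_fintype_card,
      inv_mul_cancel₀ (Nat.cast_ne_zero.2 Nat.card_pos.ne')]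
  have hone : classInner χ (fun _ => 1) = 0 := by
    rw [hχ, frobenius_reciprocity A θ isClassFunction_one]
    simp only [classInner, map_one, mul_one]
    have hsum : ∑ x : A, θ x = 0 := by
      obtain ⟨d, hd⟩ : ∃ d, lam d ≠ 1 := by
        by_contra h
        push Not at h
        exact hlam (MonoidHom.ext h)
      set x₁ : A := ⟨d, (SharpIndexTwo.mem_D.1 d.2).1⟩
      have h1 : θ x₁ * ∑ x : A, θ x = ∑ x : A, θ x := by
        rw [Finset.mul_sum]
        exact Fintype.sum_equiv (Equiv.mulLeft x₁) _ _ fun x => by simp [hθ]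
      by_contra hne
      refine hd (Units.ext ?_)
      have h2 := mul_right_cancel₀ hne (h1.trans (one_mul _).symm)
      rw [Units.val_one, ← h2]
      exact congrArg Units.val (hμD _ d.2 _).symm
    rw [hsum, mul_zero]
  -- constituents with the translations in their kernel are excluded
  have htriv : ∀ φ : G → ℂ, IsIrrCharacter G φ → classInner χ φ ≠ 0 → φ u₀ ≠ φ 1 := by
    intro φ hφ hcφ hu
    obtain ⟨n, ρ, hρ, rfl⟩ := hφ
    haveI := hρ
    have hker : ρ.ker = ⊤ := (ρ.normal_ker.eq_bot_or_eq_top).resolve_left fun h =>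
      hu₀1 (Subgroup.mem_bot.1 (h ▸ MonoidHom.mem_ker.2 (rep_apply_eq_one_of_char_eq ρ hu) : u₀ ∈ (⊥ : Subgroup G)))
    have hρ1 : ∀ g, ρ g = 1 := fun g => MonoidHom.mem_ker.1 (hker ▸ Subgroup.mem_top g)
    have hch : ρ.character = (n : ℂ) • fun _ => (1 : ℂ) := by
      funext g
      simp [Representation.character, hρ1]
    rw [hch, classInner_smul_right, hone, mul_zero] at hcφ
    exact hcφ rfl
  -- the character is irreducible
  have hχ0 : χ ≠ 0 := fun h => by
    have h1 := congrFun h u₀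
    rw [hχu, Pi.zero_apply] at h1
    exact one_ne_zero h1
  obtain ⟨ψ, hψ, hψne⟩ := exists_constituent hχc hχ0
  have hrest := isCharacter_sub_irr hχc hψ hψne
  obtain ⟨b1, hb1⟩ := multiplicity ν hν (isCharacter_of_irr hψ) (hclass ψ (isClassFunction_irr hψ))
  obtain ⟨b2, hb2⟩ := multiplicity ν hν hrest (hclass _ (isClassFunction_char hrest))
  have hb : b1 + b2 = 1 := by
    have h1 : (Nat.card K : ℂ) * ((b1 + b2 : ℕ) : ℂ) = (Nat.card K : ℂ) * 1 := by
      rw [Nat.cast_add, mul_add, ← hb1, ← hb2, Pi.sub_apply, Pi.sub_apply, mul_one]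
      have h2 : χ 1 - χ u₀ = (Nat.card K : ℂ) := by
        rw [hχ1, hχu, ← hKcard, Nat.cast_add, Nat.cast_one, add_sub_cancel_right]
      linear_combination h2
    exact_mod_cast mul_left_cancel₀ (Nat.cast_ne_zero.2 Nat.card_pos.ne') h1
  have hb10 : b1 ≠ 0 := fun h => htriv ψ hψ hψne (by
    rw [h, Nat.cast_zero, mul_zero, sub_eq_zero] at hb1; exact hb1.symm)
  rw [show b2 = 0 by omega, Nat.cast_zero, mul_zero, sub_eq_zero] at hb2
  by_cases hzero : χ - ψ = 0
  · rw [sub_eq_zero.1 hzero, classInner_irr_self hψ] at hnorm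
    norm_num at hnorm
  obtain ⟨φ, hφ, hφne⟩ := exists_constituent hrest hzero
  have hrest2 := isCharacter_sub_irr hrest hφ hφne
  obtain ⟨b3, hb3⟩ := multiplicity ν hν (isCharacter_of_irr hφ) (hclass φ (isClassFunction_irr hφ))
  obtain ⟨b4, hb4⟩ := multiplicity ν hν hrest2 (hclass _ (isClassFunction_char hrest2))
  have hb34 : (Nat.card K : ℂ) * ((b3 + b4 : ℕ) : ℂ) = 0 := by
    rw [Nat.cast_add, mul_add, ← hb3, ← hb4, Pi.sub_apply, Pi.sub_apply]
    simp only [Pi.sub_apply] at hb2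
    rw [Pi.sub_apply, Pi.sub_apply, ← hb2]
    ring
  have hb30 : b3 = 0 := by
    have : b3 + b4 = 0 := by exact_mod_cast (mul_eq_zero.1 hb34).resolve_left (Nat.cast_ne_zero.2 Nat.card_pos.ne')
    omega
  refine htriv φ hφ ?_ (by rw [hb30, Nat.cast_zero, mul_zero, sub_eq_zero] at hb3; exact hb3.symm)
  intro h0
  obtain ⟨i, hi⟩ := classInner_char_nat hrest (isCharacter_of_irr hφ)
  obtain ⟨j, hj⟩ := classInner_char_nat (isCharacter_of_irr hψ) (isCharacter_of_irr hφ)
  rw [classInner_sub_left, h0, hj, zero_sub] at hi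
  have h1 : (((i + j : ℕ)) : ℂ) = 0 := by rw [Nat.cast_add, ← hi]; ring
  have h2 : i + j = 0 := by exact_mod_cast h1
  refine hφne ?_
  rw [classInner_sub_left, h0, hj, show j = 0 by omega, Nat.cast_zero, sub_zero]

end CfsgLib.SharpThreeNotSimple
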