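/-
An abstract sharply three-transitive group of even degree is not simple.
-/
import Mathlib
import Cfsg.Agent.Lib.Perm.SharpThreeNotSimple

set_option autoImplicit false

namespace CfsgLib.SharpThreeAbstract

open MulAction

universe u v

theorem not_simple {G : Type u} [Group G] {Ω : Type v} [MulAction G Ω] [Fintype Ω] [FaithfulSMul G Ω]
    [hsimp : IsSimpleGroup G] (hsharp : ∀ t : Fin 3 ↪ Ω, stabilizer G t = ⊥) (h3 : IsMultiplyPretransitive G Ω 3)
    (heven : Even (Fintype.card Ω)) (hn : 4 ≤ Fintype.card Ω) : False := by
  classical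
  let f := MulAction.toPermHom G Ω
  have hf : Function.Injective f := MulAction.toPerm_injective
  let e : G ≃* f.range := MonoidHom.ofInjective hf
  haveI : IsSimpleGroup f.range := e.symm.isSimpleGroup
  refine SharpThreeNotSimple.not_simple (G := f.range) (fun t => ?_) ⟨fun s t => ?_⟩ heven hn inferInstance
  · rw [Subgroup.eq_bot_iff_forall]
    intro g hg
    obtain ⟨x, rfl⟩ := e.surjective g
    have hx : x ∈ stabilizer G t := by
      rw [mem_stabilizer_iff] at hg ⊢
      refine Function.Embedding.ext fun i => ?_
      exact DFunLike.congr_fun hg i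
    rw [hsharp, Subgroup.mem_bot] at hx
    rw [hx, map_one]
  · obtain ⟨g, hg⟩ := h3.exists_smul_eq s t
    refine ⟨e g, Function.Embedding.ext fun i => ?_⟩
    exact DFunLike.congr_fun hg i

end CfsgLib.SharpThreeAbstract
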