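/-
The two-point stabiliser of a Zassenhaus group of half sharply three-transitive order, even case.
-/
import Mathlib
import Cfsg.Agent.S0738
import Cfsg.Agent.S0740
import Cfsg.Agent.S0741
import Cfsg.Agent.Lib.Perm.ZassenhausOdd
import Cfsg.Agent.Lib.Perm.ZassenhausNormal
import Cfsg.Agent.Lib.Dickson.Basic
import Cfsg.Agent.Lib.SLCard

set_option autoImplicit false
set_option linter.style.haveILetI false
set_option maxHeartbeats 4000000

namespace CfsgLib.ZassenhausHalfEven

/-- The two-point stabiliser is cyclic and inverted by a swapping involution. -/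
theorem cyclic_inverted {G Ω : Type*} [Group G] [Finite G] [MulAction G Ω] [Fintype Ω] (hZ : Cfsg.IsZassenhausGroup G Ω) {a b : Ω} (hab : a ≠ b) (heven : Even (Nat.card ↥(MulAction.stabilizer G a ⊓ MulAction.stabilizer G b))) (hd : 2 * Nat.card ↥(MulAction.stabilizer G a ⊓ MulAction.stabilizer G b) ≤ Fintype.card Ω - 2) :
    IsCyclic ↥(MulAction.stabilizer G a ⊓ MulAction.stabilizer G b) ∧ ∃ v : G, orderOf v = 2 ∧ v • a = b ∧ v • b = a ∧
      ∀ h ∈ MulAction.stabilizer G a ⊓ MulAction.stabilizer G b, v * h * v⁻¹ = h⁻¹ := by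
  classical
  open MulAction in
  have key : IsCyclic ↥(MulAction.stabilizer G a ⊓ MulAction.stabilizer G b) ∧ ∃ v : G, orderOf v = 2 ∧ v • a = b ∧ v • b = a ∧
      ∀ h ∈ MulAction.stabilizer G a ⊓ MulAction.stabilizer G b, v * h * v⁻¹ = h⁻¹ := by
    have hZ' := hZ
    obtain ⟨hfaith, h2, h3, hfixe, -⟩ := hZ'
    haveI := hfaith
    haveI := h2
    set d := Nat.card ↥(stabilizer G a ⊓ stabilizer G b) with hdd
    have hge := CfsgLib.Zassenhaus.card_ge_three hZ
    have hn2 : Fintype.card Ω = 2 * d + 2 := by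
      have h41 := Cfsg.Agent.S0741.result hZ hab heven
      have hd0 : 0 < d := Nat.card_pos
      omega
    obtain ⟨F, hFa, hFn, hFfix, hFtrans, -⟩ := CfsgLib.ZassenhausNormal.exists_Q (G := G) h2 h3 hfixe a
    have hFreg : ∀ y z : Ω, y ≠ a → z ≠ a → ∃! u : F, (u : G) • y = z := by
      intro y z hy hz
      obtain ⟨q, hq, hqe⟩ := hFtrans y z hy hz
      refine ⟨⟨q, hq⟩, hqe, fun v hv => Subtype.ext ?_⟩
      by_contra hne
      refine hy (hFfix (q⁻¹ * v) (mul_mem (inv_mem hq) v.2) (fun e => hne (inv_mul_eq_one.mp e).symm) y ?_)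
      rw [mul_smul, hv, inv_smul_eq_iff, hqe]
    have hFn' : (F.subgroupOf (stabilizer G a)).Normal := ⟨fun x hx h => hFn h h.2 x hx⟩
    obtain ⟨hFab, p, f, hp, hFp, hcardΩ⟩ := Cfsg.Agent.S0738.result hZ hab (by omega) F hFa hFn' hFreg
    haveI := Fact.mk hp
    set q := p ^ f with hqdef
    have hf0 : f ≠ 0 := fun e => by rw [hqdef, e, pow_zero] at hcardΩ; omega
    have hp2 : p ≠ 2 := fun e => by
      obtain ⟨r, hr⟩ : 2 ∣ q := e ▸ dvd_pow_self p hf0
      omega
    have hqd : q = 2 * d + 1 := by omega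
    -- every involution has two fixed points; swaps are involutions
    have hcardD : ∀ u v : Ω, u ≠ v → Nat.card ↥(stabilizer G u ⊓ stabilizer G v) = d := fun u v huv =>
      (CfsgLib.ZassenhausOdd.card_D_eq hZ huv hab)
    obtain ⟨z, hz2, hza, hzb⟩ : ∃ z : G, orderOf z = 2 ∧ z • a = a ∧ z • b = b := by
      obtain ⟨⟨z, hz⟩, hz2⟩ := exists_prime_orderOf_dvd_card' (G := ↥(stabilizer G a ⊓ stabilizer G b)) 2 heven.two_dvd
      exact ⟨z, by rwa [Subgroup.orderOf_mk] at hz2, hz.1, hz.2⟩
    have hmulF : ∀ x ∈ F, ∀ y ∈ F, x * y = y * x := fun x hx y hy => congrArg Subtype.val (hFab.is_comm.comm ⟨x, hx⟩ ⟨y, hy⟩)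
    have hcentF : ∀ k : G, k • a = a → k • b = b → (∀ u ∈ F, k * u = u * k) → k = 1 := by
      intro k hka hkb hk
      refine FaithfulSMul.eq_of_smul_eq_smul (α := Ω) fun c => ?_
      rw [one_smul]
      by_cases hc : c = a
      · rw [hc, hka]
      · obtain ⟨⟨u, hu⟩, hub, -⟩ := hFreg b c hab.symm hc
        rw [← hub, ← mul_smul, hk u hu, mul_smul, hkb]
    have hinvert : ∀ k : G, orderOf k = 2 → k • a = a → k • b = b → ∀ u ∈ F, k * u * k⁻¹ = u⁻¹ := by
      intro k hk hka hkb u hu
      have hk1 : k ≠ 1 := fun e => by rw [e, orderOf_one] at hk; omega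
      have hkk : k * k = 1 := by rw [← sq, ← hk, pow_orderOf_eq_one]
      set w := u * (k * u * k⁻¹) with hw
      have hwF : w ∈ F := mul_mem hu (hFn k hka u hu)
      have hwk : k * w * k⁻¹ = w := by
        calc k * w * k⁻¹ = (k * u * k⁻¹) * (k * k * u * (k * k)⁻¹) := by rw [hw]; group
          _ = (k * u * k⁻¹) * u := by rw [hkk]; group
          _ = w := hmulF _ (hFn k hka u hu) u hu
      have hw1 : w = 1 := by
        by_contra hne
        have hwb : w • b ≠ b := fun e => hab.symm (hFfix w hwF hne b e)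
        have hwa : w • b ≠ a := fun e => hab.symm (MulAction.injective w (e.trans (hFa hwF).symm))
        refine hk1 (h3 k a b (w • b) hab hwb.symm hwa.symm hka hkb ?_)
        rw [← mul_smul, show k * w = w * k by rw [← mul_inv_eq_iff_eq_mul]; exact hwk, mul_smul, hkb]
      exact eq_inv_of_mul_eq_one_right hw1
    have huniq : ∀ u v : Ω, u ≠ v → ∀ x y : G, orderOf x = 2 → orderOf y = 2 → x • u = u → x • v = v → y • u = u → y • v = v → x = y := by
      intro u v huv x y hx hy hxu hxv hyu hyv
      obtain ⟨g, hgu, hgv⟩ := CfsgLib.Zassenhaus.exists_smul_pair hZ huv hab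
      have key : ∀ x : G, orderOf x = 2 → x • u = u → x • v = v →
          orderOf (g * x * g⁻¹) = 2 ∧ (g * x * g⁻¹) • a = a ∧ (g * x * g⁻¹) • b = b := fun x hx hxu hxv =>
        ⟨by rw [← MulAut.conj_apply, ← hx]; exact orderOf_injective (MulAut.conj g).toMonoidHom (MulAut.conj g).injective x,
          by rw [mul_smul, mul_smul, inv_smul_eq_iff.mpr hgu.symm, hxu, hgu],
          by rw [mul_smul, mul_smul, inv_smul_eq_iff.mpr hgv.symm, hxv, hgv]⟩
      obtain ⟨x1, xa, xb⟩ := key x hx hxu hxv
      obtain ⟨y1, ya, yb⟩ := key y hy hyu hyv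
      have h := hcentF ((g * x * g⁻¹)⁻¹ * (g * y * g⁻¹)) (by rw [mul_smul, ya, inv_smul_eq_iff, xa])
        (by rw [mul_smul, yb, inv_smul_eq_iff, xb]) (fun w hw => by
          have e1 := hinvert _ x1 xa xb w hw
          have e2 := hinvert _ y1 ya yb w hw
          rw [← mul_inv_eq_iff_eq_mul]
          calc (g * x * g⁻¹)⁻¹ * (g * y * g⁻¹) * w * ((g * x * g⁻¹)⁻¹ * (g * y * g⁻¹))⁻¹
              = (g * x * g⁻¹)⁻¹ * ((g * y * g⁻¹) * w * (g * y * g⁻¹)⁻¹) * (g * x * g⁻¹) := by group
            _ = (g * x * g⁻¹)⁻¹ * ((g * x * g⁻¹) * w * (g * x * g⁻¹)⁻¹) * (g * x * g⁻¹) := by rw [e2, e1]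
            _ = w := by group)
      exact mul_left_cancel (mul_right_cancel (inv_mul_eq_one.mp h))
    let T := {x : G // orderOf x = 2}
    haveI := Fintype.ofFinite T
    haveI := Fintype.ofFinite G
    let Pr := {uv : Ω × Ω // uv.1 ≠ uv.2}
    have hPr : Fintype.card Pr = Fintype.card Ω * (Fintype.card Ω - 1) := by
      rw [Fintype.card_subtype, show (Finset.univ.filter fun uv : Ω × Ω => uv.1 ≠ uv.2) = Finset.univ.offDiag by ext; simp,
        Finset.offDiag_card, Finset.card_univ, Nat.mul_sub, mul_one]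
    have hTsq : ∀ x : T, x.1 * x.1 = 1 := fun x => by
      rw [← sq]; exact orderOf_dvd_iff_pow_eq_one.mp x.2.dvd
    set fx : T → ℕ := fun x => (Finset.univ.filter fun c : Ω => x.1 • c = c).card with hfx
    have hfx02 : ∀ x : T, fx x = 0 ∨ fx x = 2 := by
      intro x
      obtain ⟨c, hc⟩ : ∃ c : Ω, x.1 • c ≠ c := by
        by_contra hall
        push_neg at hall
        have : x.1 = 1 := FaithfulSMul.eq_of_smul_eq_smul (α := Ω) fun c => by rw [hall c, one_smul]
        have h := x.2; rw [this, orderOf_one] at h; omega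
      have hcc : x.1 • x.1 • c = c := by rw [← mul_smul, hTsq, one_smul]
      have h := ((Cfsg.Agent.S0740.result hZ (Ne.symm hc)).2.1 x.1 x.2 rfl hcc).2 ⟨d + 1, by omega⟩
      have e : Nat.card (fixedBy Ω x.1) = fx x := by
        rw [Nat.card_eq_fintype_card, hfx, ← Set.toFinset_card]; congr 1; ext; simp
      rwa [e] at h
    -- pairs of fixed points
    have hsumfix : ∑ x : T, fx x = Fintype.card Pr := by
      let FS := Σ x : T, {uv : Ω × Ω // uv ∈ (Finset.univ.filter fun c : Ω => x.1 • c = c).offDiag}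
      have hbij : Function.Bijective (fun s : FS => (⟨s.2.1, (Finset.mem_offDiag.mp s.2.2).2.2⟩ : Pr)) := by
        refine ⟨fun s t e => ?_, fun uv => ?_⟩
        · obtain ⟨x, uv, huv⟩ := s
          obtain ⟨y, uv', huv'⟩ := t
          obtain rfl : uv = uv' := congrArg Subtype.val e
          have h1 := Finset.mem_offDiag.mp huv
          have h1' := Finset.mem_offDiag.mp huv'
          simp only [Finset.mem_filter, Finset.mem_univ, true_and] at h1 h1'
          obtain rfl : x = y := Subtype.ext (huniq _ _ h1.2.2 _ _ x.2 y.2 h1.1 h1.2.1 h1'.1 h1'.2.1)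
          rfl
        · obtain ⟨⟨u, v⟩, huv⟩ := uv
          obtain ⟨g, hgu, hgv⟩ := CfsgLib.Zassenhaus.exists_smul_pair hZ hab huv
          refine ⟨⟨⟨g * z * g⁻¹, by rw [← MulAut.conj_apply, ← hz2]; exact orderOf_injective (MulAut.conj g).toMonoidHom (MulAut.conj g).injective z⟩,
            ⟨(u, v), ?_⟩⟩, rfl⟩
          refine Finset.mem_offDiag.mpr ⟨Finset.mem_filter.mpr ⟨Finset.mem_univ _, ?_⟩, Finset.mem_filter.mpr ⟨Finset.mem_univ _, ?_⟩, huv⟩
          · show (g * z * g⁻¹) • u = u
            simp only at hgu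
            rw [← hgu, mul_smul, mul_smul, inv_smul_smul, hza]
          · show (g * z * g⁻¹) • v = v
            simp only at hgv
            rw [← hgv, mul_smul, mul_smul, inv_smul_smul, hzb]
      rw [← Fintype.card_of_bijective hbij, Fintype.card_sigma]
      refine Finset.sum_congr rfl fun x _ => ?_
      rw [Fintype.card_coe, Finset.offDiag_card]
      show fx x = fx x * fx x - fx x
      rcases hfx02 x with e | e <;> rw [e]
    -- swaps
    let MV := Σ x : T, {c : Ω // ¬ x.1 • c = c}
    let SW := Σ uv : Pr, {g : G // g • uv.1.1 = uv.1.2 ∧ g • uv.1.2 = uv.1.1}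
    have hswap_card : ∀ uv : Pr, Fintype.card {g : G // g • uv.1.1 = uv.1.2 ∧ g • uv.1.2 = uv.1.1} = d := by
      rintro ⟨⟨u, v⟩, huv⟩
      obtain ⟨g₀, hg1, hg2⟩ := CfsgLib.Zassenhaus.exists_smul_pair hZ huv (Ne.symm huv)
      rw [← hcardD u v huv, ← Nat.card_eq_fintype_card]
      refine Nat.card_congr ((Equiv.mulLeft g₀⁻¹).subtypeEquiv fun g => ?_)
      simp only [Subgroup.mem_inf, mem_stabilizer_iff, Equiv.coe_mulLeft, mul_smul, inv_smul_eq_iff, hg1, hg2]
    let toSW : MV → SW := fun s => ⟨⟨(s.2.1, s.1.1 • s.2.1), fun e => s.2.2 e.symm⟩, ⟨s.1.1, rfl, by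
      show s.1.1 • s.1.1 • s.2.1 = s.2.1
      rw [← mul_smul, hTsq, one_smul]⟩⟩
    have htoinj : Function.Injective toSW := by
      rintro ⟨x, c, hc⟩ ⟨y, c', hc'⟩ e
      obtain rfl : c = c' := congrArg (fun s : SW => s.1.1.1) e
      obtain rfl : x = y := Subtype.ext (congrArg (fun s : SW => s.2.1) e)
      rfl
    have hSW : Fintype.card SW = Fintype.card Pr * d := by
      rw [Fintype.card_sigma, Finset.sum_congr rfl fun uv _ => hswap_card uv, Finset.sum_const, Finset.card_univ, smul_eq_mul]
    have hMV : Fintype.card MV + Fintype.card Pr = Fintype.card T * Fintype.card Ω := by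
      rw [← hsumfix, Fintype.card_sigma, ← Finset.sum_add_distrib, ← smul_eq_mul, ← Finset.card_univ (α := T),
        ← Finset.sum_const]
      refine Finset.sum_congr rfl fun x _ => ?_
      rw [Fintype.card_subtype, hfx]
      show _ + (Finset.univ.filter fun c : Ω => x.1 • c = c).card = _
      rw [add_comm, Finset.card_filter_add_card_filter_not, Finset.card_univ]
    have hle := Fintype.card_le_of_injective toSW htoinj
    set I2 := (Finset.univ.filter fun x : T => fx x = 2).card with hI2
    have hI2e : 2 * I2 = Fintype.card Pr := by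
      rw [← hsumfix, hI2, Finset.card_filter, Finset.mul_sum]
      refine Finset.sum_congr rfl fun x _ => ?_
      rcases hfx02 x with e | e <;> simp [e]
    have hTI : I2 = Fintype.card T ∧ Fintype.card MV = Fintype.card SW := by
      have hI2le : I2 ≤ Fintype.card T := Finset.card_le_univ _
      rw [hSW] at hle ⊢
      rw [hPr, hn2, show 2 * d + 2 - 1 = 2 * d + 1 by omega] at hle hI2e hMV ⊢
      generalize Fintype.card T = t at hle hMV hI2le ⊢
      generalize Fintype.card MV = m at hle hMV ⊢
      have e1 : I2 = (d + 1) * (2 * d + 1) := by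
        refine Nat.eq_of_mul_eq_mul_left (show 0 < 2 by norm_num) ?_
        rw [hI2e]; ring
      have e2 : t * (2 * d + 2) ≤ I2 * (2 * d + 2) := by rw [← hMV, e1]; nlinarith
      have e3 : t = I2 := le_antisymm (Nat.le_of_mul_le_mul_right e2 (by omega)) hI2le
      refine ⟨e3.symm, ?_⟩
      rw [e3, e1] at hMV
      nlinarith
    have hT2 : ∀ x : G, orderOf x = 2 → (Finset.univ.filter fun c : Ω => x • c = c).card = 2 := fun x hx => by
      have h := Finset.eq_of_subset_of_card_le (Finset.filter_subset (fun x : T => fx x = 2) Finset.univ)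
        (by rw [Finset.card_univ, ← hTI.1])
      have hm := Finset.mem_univ (⟨x, hx⟩ : T)
      rw [← h, Finset.mem_filter] at hm
      exact hm.2
    have hswap_sq : ∀ g : G, ∀ u v : Ω, u ≠ v → g • u = v → g • v = u → g * g = 1 := by
      intro g u v huv h1 h2'
      obtain ⟨⟨x, c⟩, e⟩ := ((Fintype.bijective_iff_injective_and_card toSW).mpr ⟨htoinj, hTI.2⟩).2 ⟨⟨(u, v), huv⟩, ⟨g, h1, h2'⟩⟩
      have : x.1 = g := congrArg (fun s : SW => s.2.1) e
      rw [← this]; exact hTsq x
    -- the linear structure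
    letI : CommGroup F := { (inferInstance : Group F) with mul_comm := fun x y => Subtype.ext (hmulF _ x.2 _ y.2) }
    have hVp : ∀ x : Additive F, p • x = 0 := fun x =>
      congrArg Additive.ofMul (Subtype.ext (hFp _ (Additive.toMul x).2) : (Additive.toMul x) ^ p = 1)
    obtain ⟨modV⟩ : Nonempty (Module (ZMod p) (Additive F)) := ⟨AddCommGroup.zmodModule hVp⟩
    letI := modV
    set Dg := stabilizer G a ⊓ stabilizer G b with hDg
    let act : Dg → (Additive F) →+ (Additive F) := fun h =>
      { toFun := fun v => Additive.ofMul (⟨h * (Additive.toMul v : F) * (h : G)⁻¹, hFn h h.2.1 _ (Additive.toMul v).2⟩ : F)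
        map_zero' := congrArg Additive.ofMul (Subtype.ext (by simp))
        map_add' := fun x y => congrArg Additive.ofMul (Subtype.ext (by
          show (h : G) * (((Additive.toMul x : F) * (Additive.toMul y : F) : F) : G) * (h : G)⁻¹ =
            (h : G) * (Additive.toMul x : F) * (h : G)⁻¹ * ((h : G) * (Additive.toMul y : F) * (h : G)⁻¹)
          rw [Subgroup.coe_mul]; group)) }
    let ψ0 : Dg → Module.End (ZMod p) (Additive F) := fun h => (act h).toZModLinearMap p
    have hψ1 : ψ0 1 = 1 := by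
      refine LinearMap.ext fun v => ?_
      rw [Module.End.one_apply]
      refine congrArg Additive.ofMul (Subtype.ext ?_ : (⟨_, _⟩ : F) = Additive.toMul v)
      simp
    have hψm : ∀ h k : Dg, ψ0 (h * k) = ψ0 h * ψ0 k := fun h k => by
      refine LinearMap.ext fun v => congrArg Additive.ofMul (Subtype.ext ?_)
      show ((h * k : Dg) : G) * (Additive.toMul v : F) * ((h * k : Dg) : G)⁻¹ =
        (h : G) * ((k : G) * (Additive.toMul v : F) * (k : G)⁻¹) * (h : G)⁻¹
      simp; group
    let ψ : Dg →* Module.End (ZMod p) (Additive F) := { toFun := ψ0, map_one' := hψ1, map_mul' := hψm }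
    have hψ : ∀ (h : Dg) (v : (Additive F)), ((Additive.toMul (ψ h v) : F) : G) = h * (Additive.toMul v : F) * (h : G)⁻¹ := fun h v => rfl
    have hψfree : ∀ (h : Dg) (v : (Additive F)), v ≠ 0 → ψ h v = v → h = 1 := by
      intro h v hv he
      have e := congrArg (fun x : (Additive F) => ((Additive.toMul x : F) : G)) he
      simp only [hψ] at e
      have hw : ((Additive.toMul v : F) : G) ≠ 1 := fun e1 => hv (congrArg Additive.ofMul (Subtype.ext e1 : Additive.toMul v = 1))
      set w := ((Additive.toMul v : F) : G) with hwdef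
      have hwF : w ∈ F := (Additive.toMul v).2
      have hwb : w • b ≠ b := fun e => hab.symm (hFfix w hwF hw b e)
      have hwa : w • b ≠ a := fun e => hab.symm (MulAction.injective w (e.trans (hFa hwF).symm))
      refine Subtype.ext (h3 h a b (w • b) hab hwb.symm hwa.symm h.2.1 h.2.2 ?_)
      rw [← mul_smul, mul_inv_eq_iff_eq_mul.mp e, mul_smul, show (h : G) • b = b from h.2.2]
    obtain ⟨s₀, ⟨hs₀, hs₀a, hs₀b⟩⟩ := (Cfsg.Agent.S0740.result hZ hab).1
    have hs₀inv : ∀ h : Dg, s₀ * h * s₀⁻¹ = (h : G)⁻¹ := by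
      intro h
      have hss : s₀ * s₀ = 1 := by rw [← sq, ← hs₀, pow_orderOf_eq_one]
      have := hswap_sq (s₀ * h) a b hab (by rw [mul_smul, show (h : G) • a = a from h.2.1, hs₀a])
        (by rw [mul_smul, show (h : G) • b = b from h.2.2, hs₀b])
      calc s₀ * h * s₀⁻¹ = (s₀ * h * (s₀ * h)) * (h : G)⁻¹ * (s₀ * s₀)⁻¹ := by group
        _ = _ := by rw [this, hss]; group
    have hDcomm : ∀ h k : Dg, h * k = k * h := fun h k => by
      have e := hs₀inv (h * k)
      rw [Subgroup.coe_mul, show s₀ * ((h : G) * k) * s₀⁻¹ = s₀ * h * s₀⁻¹ * (s₀ * k * s₀⁻¹) by group, hs₀inv, hs₀inv] at e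
      have e2 := congrArg (·⁻¹) e
      simp only [mul_inv_rev, inv_inv] at e2
      exact Subtype.ext e2.symm
    haveI : Finite (Additive F) := Finite.of_equiv F Additive.ofMul
    have hcardV : Nat.card (Additive F) = q := by
      have hb' : Function.Bijective (fun u : F => (⟨(u : G) • b, fun e => hab.symm (MulAction.injective (u : G) (e.trans (hFa u.2).symm))⟩ : {c : Ω // c ≠ a})) := by
        refine ⟨fun u v e => ?_, fun ⟨c, hc⟩ => ?_⟩
        · obtain ⟨w, -, hw⟩ := hFreg b ((u : G) • b) hab.symm (fun e' => hab.symm (MulAction.injective (u : G) (e'.trans (hFa u.2).symm)))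
          exact (hw u rfl).trans (hw v (congrArg Subtype.val e).symm).symm
        · obtain ⟨u, hu, -⟩ := hFreg b c hab.symm hc
          exact ⟨u, Subtype.ext hu⟩
      rw [← Nat.card_congr (Additive.ofMul : F ≃ Additive F), Nat.card_congr (Equiv.ofBijective _ hb'), Nat.card_eq_fintype_card,
        Fintype.card_subtype_compl, Fintype.card_subtype_eq]
      omega
    have hDge : ∀ W : Submodule (ZMod p) (Additive F), (∀ h, ∀ v ∈ W, ψ h v ∈ W) → W = ⊥ ∨ W = ⊤ := by
      intro W hW
      by_contra hh
      push_neg at hh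
      obtain ⟨v, hv, hv0⟩ := Submodule.exists_mem_ne_zero_of_ne_bot hh.1
      haveI := Fintype.ofFinite W
      have h1 : Nat.card Dg ≤ Nat.card {w : W // w ≠ 0} :=
        Nat.card_le_card_of_injective (fun h => ⟨⟨ψ h v, hW h v hv⟩, fun e => by
          have e1 : ψ h v = 0 := congrArg Subtype.val e
          have e2 : ψ (h⁻¹ * h) v = 0 := by rw [map_mul, Module.End.mul_apply, e1, map_zero]
          rw [inv_mul_cancel, map_one, Module.End.one_apply] at e2
          exact hv0 e2⟩) (fun h k e => by
          have e1 : ψ h v = ψ k v := congrArg (fun w : {w : W // w ≠ 0} => ((w.1 : W) : (Additive F))) e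
          refine (inv_mul_eq_one.mp (hψfree (k⁻¹ * h) v hv0 ?_)).symm
          rw [map_mul, Module.End.mul_apply, e1, ← Module.End.mul_apply, ← map_mul, inv_mul_cancel, map_one, Module.End.one_apply])
      rw [Nat.card_eq_fintype_card (α := {w : W // w ≠ 0}), Fintype.card_subtype_compl, Fintype.card_subtype_eq,
        ← Nat.card_eq_fintype_card, Module.natCard_eq_pow_finrank (K := ZMod p) (V := W), Nat.card_zmod] at h1
      have h2 := Submodule.finrank_lt hh.2
      have h3' : p ^ (Module.finrank (ZMod p) W + 1) ≤ q := by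
        rw [← hcardV, Module.natCard_eq_pow_finrank (K := ZMod p) (V := Additive F), Nat.card_zmod]
        exact Nat.pow_le_pow_right hp.pos h2
      rw [pow_succ] at h3'
      have h4 : 3 ≤ p := by have := hp.two_le; omega
      have h5 : p ^ Module.finrank (ZMod p) W * 3 ≤ q := (Nat.mul_le_mul_left _ h4).trans h3'
      rw [← hdd] at h1
      have h6 : 0 < d := Nat.card_pos
      omega
    -- the field
    let S := Algebra.adjoin (ZMod p) (Set.range ψ)
    letI : CommRing S := Algebra.adjoinCommRingOfComm (ZMod p) (by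
      rintro _ ⟨h, rfl⟩ _ ⟨k, rfl⟩; rw [← map_mul, hDcomm, map_mul])
    let ψS : Dg →* S := ψ.codRestrict S fun h => Algebra.subset_adjoin ⟨h, rfl⟩
    obtain ⟨c0, hc0⟩ : ∃ c0 : (Additive F), c0 ≠ 0 := by
      haveI : Nontrivial (Additive F) := Finite.one_lt_card_iff_nontrivial.mp (by rw [hcardV]; omega)
      exact exists_ne 0
    have hinjS : ∀ r : S, r ≠ 0 → Function.Injective (r : Module.End (ZMod p) (Additive F)) := fun r hr => by
      rcases hDge (LinearMap.ker (r : Module.End (ZMod p) (Additive F))) (fun h x hx => by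
        rw [LinearMap.mem_ker] at hx ⊢
        have := LinearMap.congr_fun (congrArg Subtype.val (mul_comm r (ψS h))) x
        simp only [Subalgebra.coe_mul, Module.End.mul_apply, hx, map_zero] at this
        exact this) with e | e
      · exact LinearMap.ker_eq_bot.1 e
      · exact absurd (Subtype.ext (LinearMap.ker_eq_top.1 e)) hr
    let ev : S →ₗ[ZMod p] (Additive F) := (LinearMap.applyₗ c0).comp S.val.toLinearMap
    have hev : Function.Bijective ev := by
      refine ⟨(injective_iff_map_eq_zero ev).2 fun r hr => ?_, LinearMap.range_eq_top.1 ?_⟩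
      · by_contra h0
        exact hc0 (hinjS r h0 (hr.trans (map_zero _).symm))
      · rcases hDge (LinearMap.range ev) (fun h x hx => by
          obtain ⟨r, rfl⟩ := hx
          exact ⟨ψS h * r, rfl⟩) with e | e
        · exfalso
          have hm : c0 ∈ LinearMap.range ev := ⟨1, rfl⟩
          rw [e, Submodule.mem_bot] at hm
          exact hc0 hm
        · exact e
    haveI : Finite S := Finite.of_injective ev hev.1
    haveI : Fintype S := Fintype.ofFinite S
    haveI : Nontrivial S := ⟨⟨1, 0, fun e => hc0 (LinearMap.congr_fun (congrArg Subtype.val e) c0)⟩⟩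
    haveI : NoZeroDivisors S := ⟨fun {r t} h => by
      by_contra hh
      push_neg at hh
      exact hc0 (hinjS t hh.2 ((hinjS r hh.1 ((LinearMap.congr_fun (congrArg Subtype.val h) c0).trans (map_zero _).symm)).trans (map_zero _).symm))⟩
    haveI : IsDomain S := NoZeroDivisors.to_isDomain S
    letI : Field S := (Finite.isField_of_domain S).toField
    obtain ⟨K, _, _, _, hcardK⟩ : ∃ (K : Type) (_ : Field K) (_ : Fintype K) (_ : CharP K p), Fintype.card K = q :=
      ⟨GaloisField p f, inferInstance, Fintype.ofFinite _, inferInstance, by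
        rw [@Fintype.card_eq_nat_card, GaloisField.card p f hf0]⟩
    have hcardS : Fintype.card S = q := by rw [← Nat.card_eq_fintype_card, Nat.card_congr (Equiv.ofBijective ev hev), hcardV]
    let κ : S ≃+* K := FiniteField.ringEquivOfCardEq (hcardS.trans hcardK.symm)
    let τ0 : (Additive F) ≃+ K := (LinearEquiv.ofBijective ev hev).symm.toAddEquiv.trans κ.toAddEquiv
    let ε : Dg →* K := κ.toRingHom.toMonoidHom.comp ψS
    have hτ0 : ∀ (h : Dg) (v : (Additive F)), τ0 (ψ h v) = ε h * τ0 v := by
      intro h v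
      obtain ⟨r, rfl⟩ := hev.2 v
      have e : ψ h (ev r) = ev (ψS h * r) := rfl
      rw [e]
      show κ ((LinearEquiv.ofBijective ev hev).symm (ev (ψS h * r))) = κ (ψS h) * κ ((LinearEquiv.ofBijective ev hev).symm (ev r))
      rw [show ev (ψS h * r) = LinearEquiv.ofBijective ev hev (ψS h * r) from rfl,
        show ev r = LinearEquiv.ofBijective ev hev r from rfl, LinearEquiv.symm_apply_apply, LinearEquiv.symm_apply_apply, map_mul]
    have hεinj : Function.Injective ε := fun h k e => by
      have e1 : ψS h = ψS k := κ.injective e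
      have e2 : ψ h c0 = ψ k c0 := LinearMap.congr_fun (congrArg Subtype.val e1) c0
      refine (inv_mul_eq_one.mp (hψfree (k⁻¹ * h) c0 hc0 ?_)).symm
      rw [map_mul, Module.End.mul_apply, e2, ← Module.End.mul_apply, ← map_mul, inv_mul_cancel, map_one, Module.End.one_apply]
    haveI : Finite ↥(stabilizer G a ⊓ stabilizer G b) := inferInstance
    exact ⟨isCyclic_of_subgroup_isDomain ε hεinj, s₀, hs₀, hs₀a, hs₀b, fun h hh => hs₀inv ⟨h, hh⟩⟩
  exact key

end CfsgLib.ZassenhausHalfEven
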