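/-
Structure of nonabelian minimal normal subgroups of transitive permutation groups:
the simple factors, their projections, and elements without fixed points.
-/
import Cfsg.Agent.Lib.Solvable.MinimalNormal
import Cfsg.Agent.Lib.Elementary
import Cfsg.Agent.Lib.CharTheory.Burnside
import Cfsg.Agent.Lib.JordanCover

set_option autoImplicit false

namespace CfsgLib.Socle

universe u v

variable {G : Type u} [Group G] {N : Subgroup G}

/-- The simple factors of a nonabelian minimal normal subgroup. -/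
structure Data (N : Subgroup G) where
  s : Finset (Subgroup G)
  nonempty : s.Nonempty
  le : ∀ T ∈ s, T ≤ N
  simple : ∀ T ∈ s, IsSimpleGroup T
  center : ∀ T ∈ s, ∀ x ∈ T, (∀ y ∈ T, x * y = y * x) → x = 1
  norm : ∀ T ∈ s, ∀ n ∈ N, ∀ x ∈ T, n * x * n⁻¹ ∈ T
  comm : ∀ T ∈ s, ∀ T' ∈ s, T ≠ T' → ∀ x ∈ T, ∀ y ∈ T', x * y = y * x
  sup : s.sup id = N
  centerN : ∀ x ∈ N, (∀ y ∈ N, x * y = y * x) → x = 1
  conj : ∀ T ∈ s, ∀ g : G, T.map (MulAut.conj g).toMonoidHom ∈ s
  trans : ∀ T ∈ s, ∀ T' ∈ s, ∃ g : G, T.map (MulAut.conj g).toMonoidHom = T'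

theorem mem_map_conj {T : Subgroup G} {g x : G} :
    x ∈ T.map (MulAut.conj g).toMonoidHom ↔ g⁻¹ * x * g ∈ T := by
  rw [Subgroup.mem_map]
  constructor
  · rintro ⟨y, hy, rfl⟩
    rw [MulEquiv.coe_toMonoidHom, MulAut.conj_apply]
    simpa [mul_assoc] using hy
  · intro h
    exact ⟨_, h, by rw [MulEquiv.coe_toMonoidHom, MulAut.conj_apply]; group⟩

theorem exists_data [Finite G] (N : Subgroup G) [hn : N.Normal] (hN : N ≠ ⊥)
    (hmin : ∀ M : Subgroup G, M.Normal → M ≤ N → M = ⊥ ∨ M = N) (hna : ¬ IsMulCommutative N) :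
    Nonempty (Data N) := by
  classical
  obtain ⟨T₀, s, hsimple, hne, hT₀, hconj, hsup, hnorm, -, hcomm⟩ :=
    CfsgLib.MinimalNormal.exists_factors N hN hmin
  have hleN : ∀ T ∈ s, T ≤ N := fun T hT => (hnorm T hT).1
  have hnormN : ∀ T ∈ s, ∀ n ∈ N, ∀ x ∈ T, n * x * n⁻¹ ∈ T := fun T hT n hn x hx =>
    (Subgroup.mem_normalizer_iff.mp ((hnorm T hT).2 hn) x).mp hx
  have hall : ∀ S : Subgroup G, (∀ T ∈ s, T ≤ S) → N ≤ S := fun S h => hsup ▸ Finset.sup_le h
  have hcN : ∀ x ∈ N, (∀ y ∈ N, x * y = y * x) → x = 1 := by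
    intro x hx hxc
    rcases hmin (N ⊓ Subgroup.centralizer (N : Set G)) inferInstance inf_le_left with h | h
    · exact Subgroup.mem_bot.mp (h ▸ ⟨hx, Subgroup.mem_centralizer_iff.mpr fun y hy => (hxc y hy).symm⟩)
    · exact absurd ⟨⟨fun a b => Subtype.ext
        (Subgroup.mem_centralizer_iff.mp (h.ge b.2).2 (a : G) a.2)⟩⟩ hna
  have hTsimple : ∀ T ∈ s, IsSimpleGroup T := by
    intro T hT
    obtain ⟨g, hg⟩ := hconj T hT
    have := hsimple
    exact ((MulEquiv.subgroupCongr hg).trans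
      (T₀.equivMapOfInjective _ (MulAut.conj g).injective).symm).isSimpleGroup
  have hT₀c : ∀ x ∈ T₀, (∀ y ∈ T₀, x * y = y * x) → x = 1 := by
    intro x hx hxc
    have := hsimple
    rcases (inferInstance : (Subgroup.center T₀).Normal).eq_bot_or_eq_top with h | h
    · have h1 : (⟨x, hx⟩ : T₀) ∈ Subgroup.center T₀ :=
        Subgroup.mem_center_iff.mpr fun y => Subtype.ext (hxc y y.2).symm
      rw [h, Subgroup.mem_bot] at h1
      exact congrArg Subtype.val h1
    · exfalso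
      apply hna
      have hab : ∀ T ∈ s, ∀ a ∈ T, ∀ b ∈ T, a * b = b * a := by
        intro T hT a ha b hb
        obtain ⟨g, rfl⟩ := hconj T hT
        obtain ⟨a', ha', rfl⟩ := ha
        obtain ⟨b', hb', rfl⟩ := hb
        rw [← map_mul, ← map_mul]
        exact congrArg _ (congrArg Subtype.val
          (Subgroup.mem_center_iff.mp (h ▸ Subgroup.mem_top (⟨b', hb'⟩ : T₀)) ⟨a', ha'⟩))
      have hle : N ≤ Subgroup.centralizer (N : Set G) := hall _ fun T hT x hx => by
        have : N ≤ Subgroup.centralizer {x} := hall _ fun T' hT' y hy => by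
          rw [Subgroup.mem_centralizer_singleton_iff]
          by_cases e : T' = T
          · subst e; exact hab _ hT y hy x hx
          · exact hcomm T' hT' T hT e y hy x hx
        exact Subgroup.mem_centralizer_iff.mpr fun y hy =>
          Subgroup.mem_centralizer_singleton_iff.mp (this hy)
      exact ⟨⟨fun a b => Subtype.ext (Subgroup.mem_centralizer_iff.mp (hle b.2) (a : G) a.2)⟩⟩
  have hcenter : ∀ T ∈ s, ∀ x ∈ T, (∀ y ∈ T, x * y = y * x) → x = 1 := by
    intro T hT x hx hxc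
    obtain ⟨g, rfl⟩ := hconj T hT
    obtain ⟨x', hx', rfl⟩ := hx
    rw [hT₀c x' hx' fun y hy => (MulAut.conj g).injective (by
      simpa using hxc _ ⟨y, hy, rfl⟩), map_one]
  have hclosed : ∀ T ∈ s, ∀ g : G, T.map (MulAut.conj g).toMonoidHom ∈ s := by
    intro T hT g
    set A := T.map (MulAut.conj g).toMonoidHom with hA
    have hAN : A ≤ N := fun x hx => by
      simpa [mul_assoc] using hn.conj_mem _ (hleN T hT (mem_map_conj.mp hx)) g
    have hAnorm : ∀ n ∈ N, ∀ x ∈ A, n * x * n⁻¹ ∈ A := fun n hn' x hx => by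
      rw [hA, mem_map_conj]
      have := hnormN T hT (g⁻¹ * n * g) (by simpa [mul_assoc] using hn.conj_mem n hn' g⁻¹) _ (mem_map_conj.mp hx)
      simpa [mul_assoc] using this
    have hAsimple : IsSimpleGroup A := by
      have := hTsimple T hT
      exact (T.equivMapOfInjective _ (MulAut.conj g).injective).symm.isSimpleGroup
    by_contra hno
    have hbot : ∀ T' ∈ s, ∀ x ∈ A, x ∈ T' → x = 1 := by
      intro T' hT' x hxA hxT
      have := hTsimple T' hT'
      have := hAsimple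
      have hI1 : (A.subgroupOf T').Normal := ⟨fun y hy z => hAnorm z (hleN T' hT' z.2) y hy⟩
      have hI2 : (T'.subgroupOf A).Normal := ⟨fun y hy z => hnormN T' hT' z (hAN z.2) y hy⟩
      rcases hI1.eq_bot_or_eq_top with e | e
      · have h' : (⟨x, hxT⟩ : T') ∈ A.subgroupOf T' := hxA
        rw [e, Subgroup.mem_bot] at h'
        exact congrArg Subtype.val h'
      · rcases hI2.eq_bot_or_eq_top with e' | e'
        · have h' : (⟨x, hxA⟩ : A) ∈ T'.subgroupOf A := hxT
          rw [e', Subgroup.mem_bot] at h'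
          exact congrArg Subtype.val h'
        · exact absurd (le_antisymm (Subgroup.subgroupOf_eq_top.mp e') (Subgroup.subgroupOf_eq_top.mp e) ▸ hT') hno
    have hcent : ∀ x ∈ A, ∀ y ∈ N, x * y = y * x := by
      intro x hx y hy
      have : N ≤ Subgroup.centralizer {x} := hall _ fun T' hT' z hz => by
        rw [Subgroup.mem_centralizer_singleton_iff]
        have h1 : z * x * z⁻¹ * x⁻¹ = 1 := hbot T' hT' _
          (A.mul_mem (hAnorm z (hleN T' hT' hz) x hx) (A.inv_mem hx))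
          (by
            have := T'.mul_mem hz (hnormN T' hT' x (hAN hx) z⁻¹ (T'.inv_mem hz))
            simpa [mul_assoc] using this)
        rwa [mul_inv_eq_one, mul_inv_eq_iff_eq_mul] at h1
      exact (Subgroup.mem_centralizer_singleton_iff.mp (this hy)).symm
    obtain ⟨x, hxA, hx1⟩ := (A.bot_or_exists_ne_one).resolve_left (Subgroup.nontrivial_iff_ne_bot A |>.mp hAsimple.toNontrivial)
    exact hx1 (hcN x (hAN hxA) (hcent x hxA))
  refine ⟨⟨s, hne, hleN, hTsimple, hcenter, hnormN, hcomm, hsup, hcN, hclosed, fun T hT T' hT' => ?_⟩⟩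
  obtain ⟨g, rfl⟩ := hconj T hT
  obtain ⟨g', rfl⟩ := hconj T' hT'
  refine ⟨g' * g⁻¹, ?_⟩
  ext x
  simp [mem_map_conj, mul_assoc]

namespace Data

variable (D : Data N)

theorem le_of_forall {S : Subgroup G} (h : ∀ T ∈ D.s, T ≤ S) : N ≤ S := fun x hx => by
  rw [← D.sup] at hx
  exact (Finset.sup_le h : D.s.sup id ≤ S) hx

theorem eq_one_of_mem_two {T T' : Subgroup G} (hT : T ∈ D.s) (hT' : T' ∈ D.s) (hne : T ≠ T') {x : G}
    (hx : x ∈ T) (hx' : x ∈ T') : x = 1 :=
  D.center T hT x hx fun y hy => (D.comm T hT T' hT' hne y hy x hx').symm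

theorem exists_ne {T : Subgroup G} (hT : T ∈ D.s) : ∃ x ∈ T, x ≠ 1 :=
  T.bot_or_exists_ne_one.resolve_left ((Subgroup.nontrivial_iff_ne_bot T).mp (D.simple T hT).toNontrivial)

theorem exists_proj {T : Subgroup G} (hT : T ∈ D.s) {n : G} (hn : n ∈ N) :
    ∃ t ∈ T, ∀ x ∈ T, n * x * n⁻¹ = t * x * t⁻¹ := by
  let S : Subgroup G :=
    { carrier := {m | m ∈ N ∧ ∃ t ∈ T, ∀ x ∈ T, m * x * m⁻¹ = t * x * t⁻¹}
      one_mem' := ⟨N.one_mem, 1, T.one_mem, fun x _ => rfl⟩
      mul_mem' := by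
        rintro a b ⟨ha, t, ht, h⟩ ⟨hb, t', ht', h'⟩
        refine ⟨N.mul_mem ha hb, t * t', T.mul_mem ht ht', fun x hx => ?_⟩
        calc a * b * x * (a * b)⁻¹ = a * (b * x * b⁻¹) * a⁻¹ := by group
          _ = a * (t' * x * t'⁻¹) * a⁻¹ := by rw [h' x hx]
          _ = t * (t' * x * t'⁻¹) * t⁻¹ := h _ (T.mul_mem (T.mul_mem ht' hx) (T.inv_mem ht'))
          _ = t * t' * x * (t * t')⁻¹ := by group
      inv_mem' := by
        rintro a ⟨ha, t, ht, h⟩
        refine ⟨N.inv_mem ha, t⁻¹, T.inv_mem ht, fun x hx => ?_⟩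
        have := h (t⁻¹ * x * t) (T.mul_mem (T.mul_mem (T.inv_mem ht) hx) ht)
        rw [show t * (t⁻¹ * x * t) * t⁻¹ = x by group] at this
        conv_lhs => rw [← this]
        group }
  suffices N ≤ S from (this hn).2
  refine D.le_of_forall fun T' hT' m hm => ⟨D.le T' hT' hm, ?_⟩
  by_cases e : T' = T
  · subst e; exact ⟨m, hm, fun x _ => rfl⟩
  · refine ⟨1, T.one_mem, fun x hx => ?_⟩
    rw [D.comm T' hT' T hT e m hm x hx]; group

open Classical in
/-- Projection onto a factor. -/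
noncomputable def proj (T : Subgroup G) (n : G) : G :=
  if h : ∃ t ∈ T, ∀ x ∈ T, n * x * n⁻¹ = t * x * t⁻¹ then h.choose else 1

variable {T : Subgroup G}

theorem proj_mem (T : Subgroup G) (n : G) : proj T n ∈ T := by
  unfold proj
  split
  · next h => exact h.choose_spec.1
  · exact T.one_mem

include D in
theorem proj_spec (hT : T ∈ D.s) {n : G} (hn : n ∈ N) :
    ∀ x ∈ T, n * x * n⁻¹ = proj T n * x * (proj T n)⁻¹ := by
  unfold proj
  rw [dif_pos (D.exists_proj hT hn)]
  exact (D.exists_proj hT hn).choose_spec.2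

theorem proj_eq (hT : T ∈ D.s) {n t : G} (hn : n ∈ N) (ht : t ∈ T)
    (h : ∀ x ∈ T, n * x * n⁻¹ = t * x * t⁻¹) : proj T n = t := by
  have h2 : (proj T n)⁻¹ * t = 1 := D.center T hT _ (T.mul_mem (T.inv_mem (proj_mem T n)) ht) fun y hy => by
    have := (proj_spec D hT hn y hy).symm.trans (h y hy)
    calc (proj T n)⁻¹ * t * y = (proj T n)⁻¹ * (t * y * t⁻¹) * t := by group
      _ = (proj T n)⁻¹ * (proj T n * y * (proj T n)⁻¹) * t := by rw [this]
      _ = y * ((proj T n)⁻¹ * t) := by group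
  exact inv_mul_eq_one.mp h2

theorem proj_of_mem (hT : T ∈ D.s) {t : G} (ht : t ∈ T) : proj T t = t :=
  D.proj_eq hT (D.le T hT ht) ht fun _ _ => rfl

theorem proj_of_other (hT : T ∈ D.s) {T' : Subgroup G} (hT' : T' ∈ D.s) (hne : T' ≠ T) {t : G}
    (ht : t ∈ T') : proj T t = 1 :=
  D.proj_eq hT (D.le T' hT' ht) T.one_mem fun x hx => by
    rw [D.comm T' hT' T hT hne t ht x hx]; group

theorem proj_one (hT : T ∈ D.s) : proj T (1 : G) = 1 := D.proj_of_mem hT T.one_mem

theorem proj_mul (hT : T ∈ D.s) {a b : G} (ha : a ∈ N) (hb : b ∈ N) :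
    proj T (a * b) = proj T a * proj T b :=
  D.proj_eq hT (N.mul_mem ha hb) (T.mul_mem (proj_mem T a) (proj_mem T b)) fun x hx => by
    have h1 := proj_spec D hT hb x hx
    have h2 := proj_spec D hT ha _ (T.mul_mem (T.mul_mem (proj_mem T b) hx) (T.inv_mem (proj_mem T b)))
    calc a * b * x * (a * b)⁻¹ = a * (b * x * b⁻¹) * a⁻¹ := by group
      _ = proj T a * (proj T b * x * (proj T b)⁻¹) * (proj T a)⁻¹ := by rw [h1, h2]
      _ = _ := by group

theorem proj_inv (hT : T ∈ D.s) {a : G} (ha : a ∈ N) : proj T a⁻¹ = (proj T a)⁻¹ := by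
  have := D.proj_mul hT (N.inv_mem ha) ha
  rw [inv_mul_cancel, D.proj_one hT] at this
  exact eq_inv_of_mul_eq_one_left this.symm

theorem proj_conj [hn : N.Normal] (hT : T ∈ D.s) {n : G} (hnN : n ∈ N) (g : G) :
    proj (T.map (MulAut.conj g).toMonoidHom) (g * n * g⁻¹) = g * proj T n * g⁻¹ :=
  D.proj_eq (D.conj T hT g) (hn.conj_mem n hnN g)
    (mem_map_conj.mpr (by simpa [mul_assoc] using proj_mem T n)) fun x hx => by
      have h1 := proj_spec D hT hnN _ (mem_map_conj.mp hx)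
      calc g * n * g⁻¹ * x * (g * n * g⁻¹)⁻¹ = g * (n * (g⁻¹ * x * g) * n⁻¹) * g⁻¹ := by group
        _ = _ := by rw [h1]; group

open Classical in
/-- Number of factors whose projection of `n` satisfies `P`. -/
noncomputable def count (P : G → Prop) (n : G) : ℕ := (D.s.filter fun T => P (proj T n)).card

theorem count_conj [hn : N.Normal] {P : G → Prop} (hP : ∀ g x : G, P (g * x * g⁻¹) ↔ P x) {n : G}
    (hnN : n ∈ N) (g : G) : D.count P (g * n * g⁻¹) = D.count P n := by
  classical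
  unfold count
  symm
  refine Finset.card_bij' (fun T _ => T.map (MulAut.conj g).toMonoidHom)
    (fun T _ => T.map (MulAut.conj g⁻¹).toMonoidHom) ?_ ?_ ?_ ?_
  · intro T hT
    rw [Finset.mem_filter] at hT ⊢
    exact ⟨D.conj T hT.1 g, by rw [D.proj_conj hT.1 hnN g, hP]; exact hT.2⟩
  · intro T hT
    rw [Finset.mem_filter] at hT ⊢
    refine ⟨D.conj T hT.1 g⁻¹, ?_⟩
    have h := D.proj_conj hT.1 (hn.conj_mem n hnN g) g⁻¹
    rw [show g⁻¹ * (g * n * g⁻¹) * g⁻¹⁻¹ = n by group] at h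
    rw [h, hP]
    exact hT.2
  · intro T _; ext x; simp [mem_map_conj, mul_assoc]
  · intro T _; ext x; simp [mem_map_conj, mul_assoc]

theorem count_of_mem {P : G → Prop} (hP1 : ¬ P 1) {n : G} (S : Finset (Subgroup G)) (hS : S ⊆ D.s)
    (hin : ∀ T ∈ S, P (proj T n)) (hout : ∀ T ∈ D.s, T ∉ S → proj T n = 1) : D.count P n = S.card := by
  classical
  unfold count
  congr 1
  ext T
  rw [Finset.mem_filter]
  refine ⟨fun h => ?_, fun h => ⟨hS h, hin T h⟩⟩
  by_contra hT
  exact hP1 (hout T h.1 hT ▸ h.2)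

theorem eq_simple_of_card_one (h : D.s.card = 1) : IsSimpleGroup N ∧ ¬ IsMulCommutative N := by
  obtain ⟨T, hT⟩ := Finset.card_eq_one.mp h
  have hTs : T ∈ D.s := by rw [hT]; exact Finset.mem_singleton_self T
  have hTN : T = N := by have := D.sup; rwa [hT, Finset.sup_singleton] at this
  subst hTN
  refine ⟨D.simple T hTs, fun hc => ?_⟩
  obtain ⟨x, hx, hx1⟩ := D.exists_ne hTs
  exact hx1 (D.center T hTs x hx fun y hy => congrArg Subtype.val (hc.is_comm.comm ⟨x, hx⟩ ⟨y, hy⟩))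

/-- A factor has elements of three different prime orders. -/
theorem exists_three_orders [Finite G] (hT : T ∈ D.s) :
    ∃ f : Fin 3 → G, (∀ i, f i ∈ T ∧ f i ≠ 1) ∧ Function.Injective fun i => orderOf (f i) := by
  classical
  have hns : ¬ Group.IsSolvable T := by
    intro h
    have := D.simple T hT
    obtain ⟨x, hx, hx1⟩ := D.exists_ne hT
    refine hx1 (D.center T hT x hx fun y hy => ?_)
    have hc : IsMulCommutative T := by
      have : Nontrivial T := (D.simple T hT).toNontrivial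
      have hlt := Group.IsSolvable.commutator_lt_top_of_nontrivial T
      rcases (inferInstance : (commutator T).Normal).eq_bot_or_eq_top with e | e
      · exact (commutator_eq_bot_iff T).mp e
      · exact absurd e hlt.ne
    exact congrArg Subtype.val (hc.is_comm.comm ⟨x, hx⟩ ⟨y, hy⟩)
  have h3 : 2 < (Nat.card T).primeFactors.card := by
    by_contra hle
    apply hns
    have hprod := Nat.prod_factorization_pow_eq_self (Nat.card_pos (α := T)).ne'
    rw [Finsupp.prod, Nat.support_factorization] at hprod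
    rcases Nat.lt_or_ge (Nat.card T).primeFactors.card 1 with h0 | h1
    · rw [Finset.card_eq_zero.mp (by omega : (Nat.card T).primeFactors.card = 0), Finset.prod_empty] at hprod
      exact CfsgLib.CharTheory.isSolvable_of_card_two_primes (p := 2) (q := 2) (a := 0) (b := 0)
        Nat.prime_two Nat.prime_two (by simpa using hprod.symm)
    rcases Nat.lt_or_ge (Nat.card T).primeFactors.card 2 with h1' | h2
    · obtain ⟨p, hp⟩ := Finset.card_eq_one.mp (by omega : (Nat.card T).primeFactors.card = 1)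
      rw [hp, Finset.prod_singleton] at hprod
      have hpp : p.Prime := Nat.prime_of_mem_primeFactors (hp ▸ Finset.mem_singleton_self p)
      exact CfsgLib.CharTheory.isSolvable_of_card_two_primes (p := p) (q := p)
        (a := (Nat.card T).factorization p) (b := 0) hpp hpp (by simpa using hprod.symm)
    · obtain ⟨p, q, hpq, hset⟩ := Finset.card_eq_two.mp (by omega : (Nat.card T).primeFactors.card = 2)
      rw [hset, Finset.prod_pair hpq] at hprod
      exact CfsgLib.CharTheory.isSolvable_of_card_two_primes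
        (Nat.prime_of_mem_primeFactors (hset ▸ Finset.mem_insert_self p _))
        (Nat.prime_of_mem_primeFactors (hset ▸ Finset.mem_insert_of_mem (Finset.mem_singleton_self q)))
        hprod.symm
  obtain ⟨a, b, c, ha, hb, hc, hab, hac, hbc⟩ := Finset.two_lt_card_iff.mp h3
  have hex : ∀ p ∈ (Nat.card T).primeFactors, ∃ x : G, x ∈ T ∧ x ≠ 1 ∧ orderOf x = p := by
    intro p hp
    have := Fact.mk (Nat.prime_of_mem_primeFactors hp)
    obtain ⟨x, hx⟩ := exists_prime_orderOf_dvd_card' (G := T) p (Nat.dvd_of_mem_primeFactors hp)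
    refine ⟨x, x.2, fun e => ?_, by rw [Subgroup.orderOf_coe, hx]⟩
    have : orderOf (x : G) = 1 := by rw [e, orderOf_one]
    rw [Subgroup.orderOf_coe, hx] at this
    exact (Fact.out : p.Prime).ne_one this
  obtain ⟨x, hxT, hx1, hxa⟩ := hex a ha
  obtain ⟨y, hyT, hy1, hyb⟩ := hex b hb
  obtain ⟨z, hzT, hz1, hzc⟩ := hex c hc
  refine ⟨![x, y, z], fun i => ?_, fun i j => ?_⟩
  · fin_cases i <;> simp [*]
  · fin_cases i <;> fin_cases j <;> simp [*, Ne.symm hab, Ne.symm hac, Ne.symm hbc]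

/-! ### Action -/

variable {Ω : Type v} [MulAction G Ω]

/-- Either no nontrivial element of a factor fixes `a`, or every factor has such an element and also a value of the
projection which forces an element to have no fixed point. -/
theorem key [Finite G] (a : Ω) (htr : ∀ x y : Ω, ∃ m ∈ N, m • x = y) (hΩ : ∃ b : Ω, b ≠ a) :
    (∀ T ∈ D.s, ∀ x ∈ T, ∀ ω : Ω, x • ω = ω → x = 1) ∨
      ((∀ T ∈ D.s, ∃ x ∈ T, x ≠ 1 ∧ x • a = a) ∧
        ∀ T ∈ D.s, ∃ t ∈ T, ∀ n ∈ N, proj T n = t → ∀ ω : Ω, n • ω ≠ ω) := by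
  classical
  by_cases hfree : ∀ T ∈ D.s, ∀ x ∈ T, x • a = a → x = 1
  · left
    intro T hT x hx ω hω
    obtain ⟨m, hm, rfl⟩ := htr a ω
    have h1 : m⁻¹ * x * m ∈ T := by simpa using D.norm T hT m⁻¹ (N.inv_mem hm) x hx
    have h2 : (m⁻¹ * x * m) • a = a := by rw [mul_smul, mul_smul, hω, inv_smul_smul]
    have := hfree T hT _ h1 h2
    calc x = m * (m⁻¹ * x * m) * m⁻¹ := by group
      _ = 1 := by rw [this]; group
  right
  push Not at hfree
  obtain ⟨T₀, hT₀, x₀, hx₀, hx₀a, hx₀1⟩ := hfree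
  have hl : ∀ T ∈ D.s, ∀ T' ∈ D.s, ∃ l : G, l • a = a ∧ T.map (MulAut.conj l).toMonoidHom = T' := by
    intro T hT T' hT'
    obtain ⟨g, rfl⟩ := D.trans T hT T' hT'
    obtain ⟨m, hm, hma⟩ := htr (g • a) a
    refine ⟨m * g, by rw [mul_smul, hma], ?_⟩
    ext x
    rw [mem_map_conj, mem_map_conj]
    constructor <;> intro hx
    · have h := D.norm _ (D.conj T hT g) m hm ((m⁻¹ * x * m)) (mem_map_conj.mpr (by simpa [mul_assoc] using hx))
      rw [mem_map_conj] at h
      simpa [mul_assoc] using h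
    · have h := D.norm _ (D.conj T hT g) m⁻¹ (N.inv_mem hm) x (mem_map_conj.mpr hx)
      rw [mem_map_conj] at h
      simpa [mul_assoc] using h
  have hex : ∀ T ∈ D.s, ∃ x ∈ T, x ≠ 1 ∧ x • a = a := by
    intro T hT
    obtain ⟨l, hla, rfl⟩ := hl T₀ hT₀ T hT
    refine ⟨l * x₀ * l⁻¹, mem_map_conj.mpr (by simpa [mul_assoc] using hx₀),
      fun e => hx₀1 (conj_eq_one_iff.mp e), ?_⟩
    rw [mul_smul, mul_smul, inv_smul_eq_iff.mpr hla.symm, hx₀a, hla]
  refine ⟨hex, fun T hT => ?_⟩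
  let R : Subgroup T :=
    { carrier := {t | ∃ n ∈ N, n • a = a ∧ proj T n = (t : G)}
      one_mem' := ⟨1, N.one_mem, one_smul _ _, D.proj_one hT⟩
      mul_mem' := by
        rintro s t ⟨n, hn, hna, hns⟩ ⟨m, hm, hma, hmt⟩
        exact ⟨n * m, N.mul_mem hn hm, by rw [mul_smul, hma, hna], by rw [D.proj_mul hT hn hm, hns, hmt]; rfl⟩
      inv_mem' := by
        rintro s ⟨n, hn, hna, hns⟩
        exact ⟨n⁻¹, N.inv_mem hn, by rw [inv_smul_eq_iff, hna], by rw [D.proj_inv hT hn, hns]; rfl⟩ }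
  have hR : R ≠ ⊤ := by
    intro htop
    let K : Subgroup T := (MulAction.stabilizer G a).subgroupOf T
    have hK : K.Normal := ⟨fun x hx y => by
      obtain ⟨n, hn, hna, hny⟩ : y ∈ R := htop ▸ Subgroup.mem_top y
      show ((y : G) * (x : G) * (y : G)⁻¹) • a = a
      have hxa : (x : G) • a = a := hx
      rw [← hny, ← proj_spec D hT hn x x.2, mul_smul, mul_smul, inv_smul_eq_iff.mpr hna.symm, hxa, hna]⟩
    have := D.simple T hT
    rcases hK.eq_bot_or_eq_top with e | e
    · obtain ⟨x, hx, hx1, hxa⟩ := hex T hT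
      have h' : (⟨x, hx⟩ : T) ∈ K := hxa
      rw [e, Subgroup.mem_bot] at h'
      exact hx1 (congrArg Subtype.val h')
    · have hTa : ∀ x ∈ T, x • a = a := fun x hx => (e ▸ Subgroup.mem_top _ : (⟨x, hx⟩ : T) ∈ K)
      have hall : N ≤ MulAction.stabilizer G a := D.le_of_forall fun T' hT' x hx => by
        obtain ⟨l, hla, rfl⟩ := hl T hT T' hT'
        have h1 := hTa _ (mem_map_conj.mp hx)
        rw [mul_smul, mul_smul, hla, inv_smul_eq_iff, hla] at h1
        exact h1
      obtain ⟨b, hb⟩ := hΩ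
      obtain ⟨m, hm, rfl⟩ := htr a b
      exact hb (hall hm)
  obtain ⟨t, ht⟩ : ∃ t : T, ∀ y : T, y * t * y⁻¹ ∉ R := by
    by_contra hc
    push Not at hc
    exact hR (CfsgLib.eq_top_of_conj_cover R hc)
  refine ⟨t, t.2, fun n hn hnt ω hω => ?_⟩
  obtain ⟨m, hm, rfl⟩ := htr a ω
  apply ht ⟨proj T m, proj_mem T m⟩⁻¹
  refine ⟨m⁻¹ * n * m, N.mul_mem (N.mul_mem (N.inv_mem hm) hn) hm,
    by rw [mul_smul, mul_smul, hω, inv_smul_smul], ?_⟩
  rw [D.proj_mul hT (N.mul_mem (N.inv_mem hm) hn) hm, D.proj_mul hT (N.inv_mem hm) hn, D.proj_inv hT hm, hnt]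
  simp

end Data

end CfsgLib.Socle
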