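/-
Primitive groups: affine / almost simple / the rest, and elements without fixed points.
-/
import Cfsg.Agent.Lib.Perm.Socle

set_option autoImplicit false

namespace CfsgLib.Socle

universe u v

variable {G : Type u} [Group G] {Ω : Type v} [MulAction G Ω]

theorem trans_of_normal [FaithfulSMul G Ω] (hprim : MulAction.IsPreprimitive G Ω) (M : Subgroup G)
    [M.Normal] (hM : M ≠ ⊥) : ∀ x y : Ω, ∃ m ∈ M, m • x = y := by
  have := hprim
  have hne : MulAction.fixedPoints M Ω ≠ Set.univ := by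
    intro h
    refine hM ((Subgroup.eq_bot_iff_forall _).mpr fun m hm => eq_of_smul_eq_smul (α := Ω) fun x => ?_)
    rw [one_smul]
    exact (h ▸ Set.mem_univ x : x ∈ MulAction.fixedPoints M Ω) ⟨m, hm⟩
  have := MulAction.IsQuasiPreprimitive.isPretransitive_of_normal hne
  intro x y
  obtain ⟨m, hm⟩ := MulAction.exists_smul_eq M x y
  exact ⟨m, m.2, hm⟩

theorem semiregular_of_comm [FaithfulSMul G Ω] {M : Subgroup G} (htr : ∀ x y : Ω, ∃ m ∈ M, m • x = y)
    {c : G} (hc : ∀ m ∈ M, c * m = m * c) {x : Ω} (hx : c • x = x) : c = 1 := by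
  refine eq_of_smul_eq_smul (α := Ω) fun y => ?_
  obtain ⟨m, hm, rfl⟩ := htr x y
  rw [one_smul, ← mul_smul, hc m hm, mul_smul, hx]

theorem exists_minimal [Finite G] [FaithfulSMul G Ω] (hprim : MulAction.IsPreprimitive G Ω)
    (hΩ : 2 ≤ Nat.card Ω) : ∃ N : Subgroup G, N.Normal ∧ N ≠ ⊥ ∧
      (∀ M : Subgroup G, M.Normal → M ≤ N → M = ⊥ ∨ M = N) ∧ ∀ x y : Ω, ∃ m ∈ N, m • x = y := by
  have := hprim
  have : Finite Ω := (Nat.card_pos_iff.mp (by omega)).2
  have : Nontrivial Ω := Finite.one_lt_card_iff_nontrivial.mp (by omega)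
  obtain ⟨x, y, hxy⟩ := exists_pair_ne Ω
  obtain ⟨g, hg⟩ := MulAction.exists_smul_eq G x y
  have htop : (⊤ : Subgroup G) ≠ ⊥ := fun h => hxy (by
    have hg1 : g = 1 := Subgroup.mem_bot.mp (h ▸ Subgroup.mem_top g)
    rw [← hg, hg1, one_smul])
  obtain ⟨N, hN, -, hN0, hmin⟩ := CfsgLib.exists_minimal_normal htop
  exact ⟨N, hN, hN0, hmin, trans_of_normal hprim N hN0⟩

/-- An abelian minimal normal subgroup of a primitive group is elementary abelian and regular. -/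
theorem abelian_regular [Finite G] [FaithfulSMul G Ω] {N : Subgroup G} [N.Normal] (hN : N ≠ ⊥)
    (hmin : ∀ M : Subgroup G, M.Normal → M ≤ N → M = ⊥ ∨ M = N) (hab : IsMulCommutative N)
    (htr : ∀ x y : Ω, ∃ m ∈ N, m • x = y) :
    (∀ n ∈ N, ∀ x : Ω, n • x = x → n = 1) ∧ ∃ r : ℕ, r.Prime ∧ ∀ n ∈ N, n ^ r = 1 := by
  refine ⟨fun n hn x hx => semiregular_of_comm htr (fun m hm => congrArg Subtype.val
    (hab.is_comm.comm ⟨n, hn⟩ ⟨m, hm⟩)) hx, ?_⟩
  have hs : Group.IsSolvable N := by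
    let _ : CommGroup N := { mul_comm := hab.is_comm.comm }
    infer_instance
  exact (CfsgLib.minimal_normal_elementary hN hs hmin).2

/-- The three possibilities for a nonabelian minimal normal subgroup. -/
theorem cases_nonabelian [Finite G] [FaithfulSMul G Ω] (hprim : MulAction.IsPreprimitive G Ω)
    (hΩ : 2 ≤ Nat.card Ω) {N : Subgroup G} [N.Normal] (hN : N ≠ ⊥)
    (D : Data N) (a : Ω) :
    (∃ T : Subgroup G, T.Normal ∧ IsSimpleGroup T ∧ ¬ IsMulCommutative T ∧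
        Subgroup.centralizer (T : Set G) = ⊥) ∨
      (∀ T ∈ D.s, ∀ x ∈ T, ∀ ω : Ω, x • ω = ω → x = 1) ∨
      (2 ≤ D.s.card ∧ (∀ T ∈ D.s, ∃ x ∈ T, x ≠ 1 ∧ x • a = a) ∧
        ∀ T ∈ D.s, ∃ t ∈ T, ∀ n ∈ N, Data.proj T n = t → ∀ ω : Ω, n • ω ≠ ω) := by
  have htr := trans_of_normal hprim N hN
  have : Finite Ω := (Nat.card_pos_iff.mp (by omega)).2
  have : Nontrivial Ω := Finite.one_lt_card_iff_nontrivial.mp (by omega)
  rcases D.key a htr (exists_ne a) with h | ⟨h1, h2⟩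
  · exact Or.inr (Or.inl h)
  by_cases hk : 2 ≤ D.s.card
  · exact Or.inr (Or.inr ⟨hk, h1, h2⟩)
  have hk1 : D.s.card = 1 := by have := Finset.card_pos.mpr D.nonempty; omega
  obtain ⟨hs, hna⟩ := D.eq_simple_of_card_one hk1
  refine Or.inl ⟨N, inferInstance, hs, hna, ?_⟩
  by_contra hC
  obtain ⟨T, hT⟩ := D.nonempty
  obtain ⟨x, hx, hx1, hxa⟩ := h1 T hT
  exact hx1 (semiregular_of_comm (trans_of_normal hprim _ hC)
    (fun c hc => Subgroup.mem_centralizer_iff.mp hc x (D.le T hT hx)) hxa)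

open Classical in
theorem classes_of_three_factors [FaithfulSMul G Ω] {N : Subgroup G} [hn : N.Normal] (D : Data N) (a : Ω)
    (hP₁ : ∀ g x : G, g * x * g⁻¹ ≠ 1 ↔ x ≠ 1) (hP₂ : ∀ g x : G, (∀ ω : Ω, (g * x * g⁻¹) • ω ≠ ω) ↔ ∀ ω : Ω, x • ω ≠ ω)
    (c : Subgroup G → G) (hcm : ∀ T ∈ D.s, c T ∈ T) (hcN : ∀ T ∈ D.s, c T ∈ N)
    (hder : ∀ T ∈ D.s, ∀ n ∈ N, Data.proj T n = c T → ∀ ω : Ω, n • ω ≠ ω)
    (hc1 : ∀ T ∈ D.s, c T ≠ 1 ∧ ∀ ω : Ω, c T • ω ≠ ω)
    {A B C : Subgroup G} (hA : A ∈ D.s) (hB : B ∈ D.s) (hC : C ∈ D.s) (hAB : A ≠ B) (hAC : A ≠ C) (hBC : B ≠ C) :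
    ∃ f : Fin 3 → G, (∀ i, ∀ ω : Ω, f i • ω ≠ ω) ∧ ∀ i j, IsConj (f i) (f j) → i = j := by
  classical
  let P₁ : G → Prop := fun x => x ≠ 1
  have hP₁1 : ¬ P₁ 1 := fun h => h rfl
  refine ⟨![c A, c A * c B, c A * c B * c C], ?_, ?_⟩
  · intro i
    refine hder A hA _ ?_ ?_
    · fin_cases i <;> simp [hcN A hA, N.mul_mem, hcN B hB, hcN C hC]
    · have e1 := D.proj_of_mem hA (hcm A hA)
      have e2 := D.proj_of_other hA hB (Ne.symm hAB) (hcm B hB)
      have e3 := D.proj_of_other hA hC (Ne.symm hAC) (hcm C hC)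
      fin_cases i <;>
        simp [D.proj_mul hA, hcN A hA, hcN B hB, hcN C hC, N.mul_mem, e1, e2, e3]
  · have v1 : D.count P₁ (c A) = 1 := by
      rw [D.count_of_mem hP₁1 {A} (by simpa using hA)]
      · rfl
      · intro T hT
        rw [Finset.mem_singleton] at hT; subst hT
        rw [D.proj_of_mem hA (hcm _ hA)]; exact (hc1 _ hA).1
      · intro T hT hTS
        exact D.proj_of_other hT hA (fun e => hTS (by simp [e])) (hcm A hA)
    have v2 : D.count P₁ (c A * c B) = 2 := by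
      rw [D.count_of_mem hP₁1 {A, B} (by simp [Finset.insert_subset_iff, hA, hB])]
      · simp [hAB]
      · intro T hT
        simp only [Finset.mem_insert, Finset.mem_singleton] at hT
        rcases hT with rfl | rfl
        · rw [D.proj_mul hA (hcN _ hA) (hcN _ hB), D.proj_of_mem hA (hcm _ hA),
            D.proj_of_other hA hB (Ne.symm hAB) (hcm _ hB), mul_one]; exact (hc1 _ hA).1
        · rw [D.proj_mul hB (hcN _ hA) (hcN _ hB), D.proj_of_mem hB (hcm _ hB),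
            D.proj_of_other hB hA hAB (hcm _ hA), one_mul]; exact (hc1 _ hB).1
      · intro T hT hTS
        simp only [Finset.mem_insert, Finset.mem_singleton, not_or] at hTS
        rw [D.proj_mul hT (hcN _ hA) (hcN _ hB), D.proj_of_other hT hA (Ne.symm hTS.1) (hcm _ hA),
          D.proj_of_other hT hB (Ne.symm hTS.2) (hcm _ hB), one_mul]
    have v3 : D.count P₁ (c A * c B * c C) = 3 := by
      have hABN : c A * c B ∈ N := N.mul_mem (hcN _ hA) (hcN _ hB)
      rw [D.count_of_mem hP₁1 {A, B, C} (by simp [Finset.insert_subset_iff, hA, hB, hC])]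
      · simp [hAB, hAC, hBC]
      · intro T hT
        simp only [Finset.mem_insert, Finset.mem_singleton] at hT
        rcases hT with rfl | rfl | rfl
        · rw [D.proj_mul hA hABN (hcN _ hC), D.proj_mul hA (hcN _ hA) (hcN _ hB), D.proj_of_mem hA (hcm _ hA),
            D.proj_of_other hA hB (Ne.symm hAB) (hcm _ hB),
            D.proj_of_other hA hC (Ne.symm hAC) (hcm _ hC), mul_one, mul_one]; exact (hc1 _ hA).1
        · rw [D.proj_mul hB hABN (hcN _ hC), D.proj_mul hB (hcN _ hA) (hcN _ hB), D.proj_of_mem hB (hcm _ hB),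
            D.proj_of_other hB hA hAB (hcm _ hA),
            D.proj_of_other hB hC (Ne.symm hBC) (hcm _ hC), mul_one, one_mul]; exact (hc1 _ hB).1
        · rw [D.proj_mul hC hABN (hcN _ hC), D.proj_mul hC (hcN _ hA) (hcN _ hB), D.proj_of_mem hC (hcm _ hC),
            D.proj_of_other hC hA hAC (hcm _ hA),
            D.proj_of_other hC hB hBC (hcm _ hB), one_mul, one_mul]; exact (hc1 _ hC).1
      · intro T hT hTS
        simp only [Finset.mem_insert, Finset.mem_singleton, not_or] at hTS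
        rw [D.proj_mul hT hABN (hcN _ hC), D.proj_mul hT (hcN _ hA) (hcN _ hB),
          D.proj_of_other hT hA (Ne.symm hTS.1) (hcm _ hA),
          D.proj_of_other hT hB (Ne.symm hTS.2.1) (hcm _ hB),
          D.proj_of_other hT hC (Ne.symm hTS.2.2) (hcm _ hC), one_mul, one_mul]
    have hN1 := hcN A hA
    have hN2 : c A * c B ∈ N := N.mul_mem hN1 (hcN _ hB)
    have hN3 : c A * c B * c C ∈ N := N.mul_mem hN2 (hcN _ hC)
    have hmem : ∀ i, (![c A, c A * c B, c A * c B * c C] : Fin 3 → G) i ∈ N := by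
      intro i; fin_cases i <;> assumption
    intro i j hij
    obtain ⟨g, hg⟩ := isConj_iff.mp hij
    have := D.count_conj (P := P₁) hP₁ (hmem i) g
    rw [hg] at this
    fin_cases i <;> fin_cases j <;>
      simp only [Fin.zero_eta, Fin.mk_one, Fin.reduceFinMk, Matrix.cons_val, v1, v2, v3] at this ⊢ <;> omega

open Classical in
theorem classes_of_two_factors [FaithfulSMul G Ω] {N : Subgroup G} [hn : N.Normal] (D : Data N) (a : Ω)
    (hP₁ : ∀ g x : G, g * x * g⁻¹ ≠ 1 ↔ x ≠ 1) (hP₂ : ∀ g x : G, (∀ ω : Ω, (g * x * g⁻¹) • ω ≠ ω) ↔ ∀ ω : Ω, x • ω ≠ ω)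
    (c : Subgroup G → G) (hcm : ∀ T ∈ D.s, c T ∈ T) (hcN : ∀ T ∈ D.s, c T ∈ N)
    (hder : ∀ T ∈ D.s, ∀ n ∈ N, Data.proj T n = c T → ∀ ω : Ω, n • ω ≠ ω)
    (hc1 : ∀ T ∈ D.s, c T ≠ 1 ∧ ∀ ω : Ω, c T • ω ≠ ω)
    {A B : Subgroup G} (hA : A ∈ D.s) (hB : B ∈ D.s) (hAB : A ≠ B) (hs : D.s = {A, B})
    (hex : ∀ T ∈ D.s, ∃ x ∈ T, x ≠ 1 ∧ x • a = a) :
    ∃ f : Fin 3 → G, (∀ i, ∀ ω : Ω, f i • ω ≠ ω) ∧ ∀ i j, IsConj (f i) (f j) → i = j := by
  classical
  let P₁ : G → Prop := fun x => x ≠ 1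
  have hP₁1 : ¬ P₁ 1 := fun h => h rfl
  let P₂ : G → Prop := fun x => ∀ ω : Ω, x • ω ≠ ω
  have hP₂1 : ¬ P₂ 1 := fun h => h a (one_smul G a)
  obtain ⟨r, hr, hr1, hra⟩ := hex B hB
  have hrN : r ∈ N := D.le B hB hr
  have hN2 : c A * c B ∈ N := N.mul_mem (hcN _ hA) (hcN _ hB)
  have hN3 : c A * r ∈ N := N.mul_mem (hcN _ hA) hrN
  refine ⟨![c A, c A * c B, c A * r], ?_, ?_⟩
  · intro i
    refine hder A hA _ ?_ ?_
    · fin_cases i <;> simp [hcN A hA, hN2, hN3]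
    · have e1 := D.proj_of_mem hA (hcm A hA)
      have e2 := D.proj_of_other hA hB (Ne.symm hAB) (hcm B hB)
      have e3 := D.proj_of_other hA hB (Ne.symm hAB) hr
      fin_cases i <;> simp [D.proj_mul hA, hcN A hA, hcN B hB, hrN, e1, e2, e3]
  · have pA : ∀ y ∈ B, y ∈ N → Data.proj A (c A * y) = c A ∧ Data.proj B (c A * y) = y := by
      intro y hy hyN
      rw [D.proj_mul hA (hcN _ hA) hyN, D.proj_mul hB (hcN _ hA) hyN, D.proj_of_mem hA (hcm _ hA),
        D.proj_of_mem hB hy, D.proj_of_other hA hB (Ne.symm hAB) hy,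
        D.proj_of_other hB hA hAB (hcm _ hA), mul_one, one_mul]
      exact ⟨rfl, rfl⟩
    have eA : Data.proj A (c A) = c A ∧ Data.proj B (c A) = 1 :=
      ⟨D.proj_of_mem hA (hcm _ hA), D.proj_of_other hB hA hAB (hcm _ hA)⟩
    have eB := pA _ (hcm B hB) (hcN B hB)
    have eR := pA r hr hrN
    have cnt : ∀ (P : G → Prop) (n : G), D.count P n =
        (if P (Data.proj A n) then 1 else 0) + (if P (Data.proj B n) then 1 else 0) := by
      intro P n
      rw [Data.count, Finset.card_filter, hs, Finset.sum_pair hAB]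
    have hr2 : ¬ P₂ r := fun h => h a hra
    have hmem : ∀ i, (![c A, c A * c B, c A * r] : Fin 3 → G) i ∈ N := by
      intro i; fin_cases i <;> first | exact hcN A hA | exact hN2 | exact hN3
    have v1 : D.count P₁ (c A) = 1 ∧ D.count P₂ (c A) = 1 := by
      rw [cnt, cnt, eA.1, eA.2, if_pos (hc1 A hA).1, if_pos (hc1 A hA).2, if_neg hP₁1, if_neg hP₂1]
      exact ⟨rfl, rfl⟩
    have v2 : D.count P₁ (c A * c B) = 2 ∧ D.count P₂ (c A * c B) = 2 := by
      rw [cnt, cnt, eB.1, eB.2, if_pos (hc1 A hA).1, if_pos (hc1 A hA).2, if_pos (hc1 B hB).1,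
        if_pos (hc1 B hB).2]
      exact ⟨rfl, rfl⟩
    have v3 : D.count P₁ (c A * r) = 2 ∧ D.count P₂ (c A * r) = 1 := by
      rw [cnt, cnt, eR.1, eR.2, if_pos (hc1 A hA).1, if_pos (hc1 A hA).2,
        if_pos (show P₁ r from hr1), if_neg hr2]
      exact ⟨rfl, rfl⟩
    intro i j hij
    obtain ⟨g, hg⟩ := isConj_iff.mp hij
    have h1 := D.count_conj (P := P₁) hP₁ (hmem i) g
    have h2 := D.count_conj (P := P₂) hP₂ (hmem i) g
    rw [hg] at h1 h2
    fin_cases i <;> fin_cases j <;>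
      simp only [Fin.zero_eta, Fin.mk_one, Fin.reduceFinMk, Matrix.cons_val, v1.1, v1.2, v2.1, v2.2,
        v3.1, v3.2] at h1 h2 ⊢ <;> omega

/-- A primitive group with a nonabelian minimal normal subgroup which is not almost simple has three classes
of elements without fixed points. -/
theorem three_classes [Finite G] [FaithfulSMul G Ω] (hprim : MulAction.IsPreprimitive G Ω)
    (hΩ : 2 ≤ Nat.card Ω) {N : Subgroup G} [hn : N.Normal] (hN : N ≠ ⊥)
    (hmin : ∀ M : Subgroup G, M.Normal → M ≤ N → M = ⊥ ∨ M = N) (hna : ¬ IsMulCommutative N)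
    (hnas : ¬ ∃ T : Subgroup G, T.Normal ∧ IsSimpleGroup T ∧ ¬ IsMulCommutative T ∧
        Subgroup.centralizer (T : Set G) = ⊥) :
    ∃ f : Fin 3 → G, (∀ i, ∀ ω : Ω, f i • ω ≠ ω) ∧ ∀ i j, IsConj (f i) (f j) → i = j := by
  classical
  obtain ⟨D⟩ := exists_data N hN hmin hna
  obtain ⟨a⟩ : Nonempty Ω := (Nat.card_pos_iff.mp (by omega)).1
  rcases cases_nonabelian hprim hΩ hN D a with h | h | ⟨hk, hex, ht⟩
  · exact absurd h hnas
  · obtain ⟨T, hT⟩ := D.nonempty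
    obtain ⟨f, hf, hinj⟩ := D.exists_three_orders hT
    refine ⟨f, fun i ω hω => (hf i).2 (h T hT _ (hf i).1 ω hω), fun i j hij => hinj ?_⟩
    obtain ⟨c, hc⟩ := isConj_iff.mp hij
    show orderOf (f i) = orderOf (f j)
    rw [← hc, ← MulAut.conj_apply, MulEquiv.orderOf_eq]
  · let P₁ : G → Prop := fun x => x ≠ 1
    have hP₁ : ∀ g x : G, P₁ (g * x * g⁻¹) ↔ P₁ x := fun g x => not_congr conj_eq_one_iff
    have hP₁1 : ¬ P₁ 1 := fun h => h rfl
    let P₂ : G → Prop := fun x => ∀ ω : Ω, x • ω ≠ ω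
    have hP₂ : ∀ g x : G, P₂ (g * x * g⁻¹) ↔ P₂ x := fun g x =>
      ⟨fun h ω e => h (g • ω) (by rw [mul_smul, mul_smul, inv_smul_smul, e]),
       fun h ω e => h (g⁻¹ • ω) (by
        rw [mul_smul, mul_smul] at e
        rw [eq_inv_smul_iff, e])⟩
    have hP₂1 : ¬ P₂ 1 := fun h => h a (one_smul G a)
    have hder : ∀ T ∈ D.s, ∀ n ∈ N, Data.proj T n = (fun T => if h : T ∈ D.s then (ht T h).choose else 1) T →
        ∀ ω : Ω, n • ω ≠ ω := fun T hT n hn hnt => (ht T hT).choose_spec.2 n hn (by simpa [hT] using hnt)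
    set c : Subgroup G → G := fun T => if h : T ∈ D.s then (ht T h).choose else 1 with hc
    have hcm : ∀ T ∈ D.s, c T ∈ T := fun T hT => by
      rw [hc]; simp only [dif_pos hT]; exact (ht T hT).choose_spec.1
    have hcN : ∀ T ∈ D.s, c T ∈ N := fun T hT => D.le T hT (hcm T hT)
    have hc1 : ∀ T ∈ D.s, P₁ (c T) ∧ P₂ (c T) := fun T hT => by
      have h2 : P₂ (c T) := hder T hT _ (hcN T hT) (D.proj_of_mem hT (hcm T hT))
      exact ⟨fun e => hP₂1 (e ▸ h2), h2⟩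
    by_cases hk3 : 3 ≤ D.s.card
    · obtain ⟨A, B, C, hA, hB, hC, hAB, hAC, hBC⟩ := Finset.two_lt_card_iff.mp hk3
      exact classes_of_three_factors D a hP₁ hP₂ c hcm hcN
        (fun T hT n hn hnt => hder T hT n hn hnt) hc1 hA hB hC hAB hAC hBC
    · obtain ⟨A, B, hAB, hs⟩ := Finset.card_eq_two.mp (by omega : D.s.card = 2)
      exact classes_of_two_factors D a hP₁ hP₂ c hcm hcN
        (fun T hT n hn hnt => hder T hT n hn hnt) hc1 (by simp [hs] : A ∈ D.s) (by simp [hs] : B ∈ D.s) hAB hs hex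

end CfsgLib.Socle

namespace CfsgLib.Socle

universe u' v'

variable {G : Type u'} [Group G] {Ω : Type v'} [MulAction G Ω] {N : Subgroup G} [hn : N.Normal]

/-- The classes of elements without fixed points. -/
abbrev DClass (G : Type u') [Group G] (Ω : Type v') [MulAction G Ω] : Type u' :=
  {c : ConjClasses G // ∃ g : G, ConjClasses.mk g = c ∧ ∀ ω : Ω, g • ω ≠ ω}

theorem card_le_dclass [Finite G] {k : ℕ} (f : Fin k → G) (hf : ∀ i, ∀ ω : Ω, f i • ω ≠ ω)
    (hne : ∀ i j, IsConj (f i) (f j) → i = j) : k ≤ Nat.card (DClass G Ω) := by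
  have : Finite (ConjClasses G) := Quotient.finite _
  have h := Nat.card_le_card_of_injective
    (fun i => (⟨ConjClasses.mk (f i), f i, rfl, hf i⟩ : DClass G Ω)) fun i j h =>
      hne i j (ConjClasses.mk_eq_mk_iff_isConj.mp (congrArg Subtype.val h))
  simpa using h

include hn in
theorem decomp (htr : ∀ x y : Ω, ∃ m ∈ N, m • x = y) (a : Ω) (g : G) :
    ∃ l : G, l • a = a ∧ ∃ m ∈ N, g = l * m := by
  obtain ⟨m, hm, hma⟩ := htr a (g • a)
  refine ⟨g * (g⁻¹ * m⁻¹ * g)⁻¹⁻¹, ?_, g⁻¹ * m * g, by simpa [mul_assoc] using hn.conj_mem m hm g⁻¹, by group⟩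
  rw [inv_inv, show g * (g⁻¹ * m⁻¹ * g) = m⁻¹ * g by group, mul_smul, ← hma, inv_smul_smul]

include hn in
/-- In the affine case: free, or a fixed-point-free element outside `N`. -/
theorem affine_dichotomy [Finite G] [FaithfulSMul G Ω] (hab : IsMulCommutative N)
    (htr : ∀ x y : Ω, ∃ m ∈ N, m • x = y) (hsr : ∀ n ∈ N, ∀ x : Ω, n • x = x → n = 1) (a : Ω) :
    ((∀ g : G, g ≠ 1 → ∀ x y : Ω, x ≠ y → g • x = x → g • y ≠ y) ∧
        ∀ g : G, (∀ ω : Ω, g • ω ≠ ω) → g ∈ N) ∨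
      ((∃ d : G, (∀ ω : Ω, d • ω ≠ ω) ∧ d ∉ N) ∧
        ∃ g : G, g ≠ 1 ∧ ∃ x y : Ω, x ≠ y ∧ g • x = x ∧ g • y = y) := by
  have hc : ∀ x ∈ N, ∀ y ∈ N, x * y = y * x := fun x hx y hy =>
    congrArg Subtype.val (hab.is_comm.comm ⟨x, hx⟩ ⟨y, hy⟩)
  have hconj : ∀ l : G, ∀ x ∈ N, l⁻¹ * x * l ∈ N := fun l x hx => by
    simpa [mul_assoc] using hn.conj_mem x hx l⁻¹
  let φ : G → N → N := fun l x =>
    ⟨l⁻¹ * x * l * (x : G)⁻¹, N.mul_mem (hconj l x x.2) (N.inv_mem x.2)⟩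
  have hfix : ∀ l m : G, l • a = a → m ∈ N → ∀ x : N,
      (l * m) • ((x : G) • a) = (x : G) • a ↔ (φ l x : G) = m := by
    intro l m hla hm x
    have hy : l * (m * (x : G)) * l⁻¹ ∈ N := hn.conj_mem _ (N.mul_mem hm x.2) l
    have e : (l * m) • ((x : G) • a) = (l * (m * (x : G)) * l⁻¹) • a := by
      rw [← mul_smul]
      conv_rhs => rw [mul_smul, inv_smul_eq_iff.mpr hla.symm]
      rw [mul_assoc]
    rw [e]
    constructor
    · intro h
      have h1 := hsr _ (N.mul_mem (N.inv_mem x.2) hy) a (by rw [mul_smul, h, inv_smul_smul])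
      show l⁻¹ * (x : G) * l * (x : G)⁻¹ = m
      have h5 := inv_mul_eq_one.mp h1
      calc l⁻¹ * (x : G) * l * (x : G)⁻¹ = l⁻¹ * (l * (m * (x : G)) * l⁻¹) * l * (x : G)⁻¹ := by rw [← h5]
        _ = m := by group
    · intro h
      have h' : l⁻¹ * (x : G) * l * (x : G)⁻¹ = m := h
      rw [← h']
      congr 1
      group
  by_cases hfree : ∀ l : G, l • a = a → l ≠ 1 → ∀ n ∈ N, l * n = n * l → n = 1
  · left
    refine ⟨fun g hg x y hxy hx hy => ?_, fun g hg => ?_⟩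
    · obtain ⟨m, hm, hma⟩ := htr x a
      obtain ⟨n, hnN, hna⟩ := htr a (m • y)
      have hl : (m * g * m⁻¹) • a = a := by rw [mul_smul, mul_smul, inv_smul_eq_iff.mpr hma.symm, hx, hma]
      have hl1 : m * g * m⁻¹ ≠ 1 := fun e => hg (conj_eq_one_iff.mp e)
      have hn1 : n = 1 := hfree _ hl hl1 n hnN (by
        have h2 : (n⁻¹ * (m * g * m⁻¹ * n * (m * g * m⁻¹)⁻¹)) • a = a := by
          rw [mul_smul, mul_smul _ (m * g * m⁻¹)⁻¹, inv_smul_eq_iff.mpr hl.symm, mul_smul, hna, mul_smul,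
            inv_smul_smul, mul_smul, hy, ← hna, inv_smul_smul]
        have h3 := hsr _ (N.mul_mem (N.inv_mem hnN) (hn.conj_mem n hnN _)) a h2
        rw [inv_mul_eq_one] at h3
        conv_rhs => rw [h3]
        group)
      exact hxy (smul_left_cancel m (by rw [hma, ← hna, hn1, one_smul]))
    · obtain ⟨l, hla, m, hm, rfl⟩ := decomp (N := N) htr a g
      by_cases hl : l = 1
      · simpa [hl] using hm
      exfalso
      have hinj : Function.Injective (φ l) := by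
        intro x y h
        have h' : l⁻¹ * (x : G) * l * (x : G)⁻¹ = l⁻¹ * (y : G) * l * (y : G)⁻¹ := congrArg Subtype.val h
        have hz : ((y : G)⁻¹ * (x : G)) = 1 := hfree l hla hl _ (N.mul_mem (N.inv_mem y.2) x.2) (by
          have h4 : (l⁻¹ * (y : G) * l)⁻¹ * (l⁻¹ * (x : G) * l) = (y : G)⁻¹ * (x : G) := by
            rw [inv_mul_eq_iff_eq_mul]
            calc l⁻¹ * (x : G) * l = l⁻¹ * (x : G) * l * (x : G)⁻¹ * (x : G) := by group
              _ = l⁻¹ * (y : G) * l * (y : G)⁻¹ * (x : G) := by rw [h']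
              _ = _ := by group
          conv_lhs => rw [← h4]
          group)
        exact Subtype.ext (inv_mul_eq_one.mp hz).symm
      obtain ⟨x, hx⟩ := (Finite.surjective_of_injective hinj) ⟨m, hm⟩
      exact hg _ ((hfix l m hla hm x).mpr (congrArg Subtype.val hx))
  · right
    push Not at hfree
    obtain ⟨l, hla, hl1, n, hnN, hcomm, hn1⟩ := hfree
    have hni : ¬ Function.Injective (φ l) := by
      intro hinj
      refine hn1 (congrArg Subtype.val (hinj (a₁ := ⟨n, hnN⟩) (a₂ := 1) (Subtype.ext ?_)))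
      show l⁻¹ * n * l * n⁻¹ = l⁻¹ * ((1 : N) : G) * l * ((1 : N) : G)⁻¹
      rw [mul_assoc l⁻¹, ← hcomm]
      simp
    obtain ⟨m, hm⟩ := not_forall.mp (fun h => hni (Finite.injective_iff_surjective.mpr h))
    refine ⟨?_, l, hl1, a, n • a, fun e => hn1 (hsr n hnN a e.symm), hla,
      by rw [← mul_smul, hcomm, mul_smul, hla]⟩
    refine ⟨l * m, fun ω e => ?_, fun h => ?_⟩
    · obtain ⟨x, hx, rfl⟩ := htr a ω
      exact hm ⟨⟨x, hx⟩, Subtype.ext ((hfix l m hla m.2 ⟨x, hx⟩).mp e)⟩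
    · exact hl1 (hsr l (by simpa using N.mul_mem h (N.inv_mem m.2)) a hla)

omit hn in
/-- If all nontrivial elements of a regular normal subgroup are conjugate, the group is 2-transitive. -/
theorem two_pretransitive (hab : IsMulCommutative N) (htr : ∀ x y : Ω, ∃ m ∈ N, m • x = y)
    (h : ∀ n ∈ N, ∀ m ∈ N, n ≠ 1 → m ≠ 1 → IsConj n m) :
    MulAction.IsMultiplyPretransitive G Ω 2 := by
  have hc : ∀ x ∈ N, ∀ y ∈ N, x * y = y * x := fun x hx y hy =>
    congrArg Subtype.val (hab.is_comm.comm ⟨x, hx⟩ ⟨y, hy⟩)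
  rw [MulAction.is_two_pretransitive_iff]
  intro a b c d hab' hcd
  obtain ⟨s, hs, rfl⟩ := htr a b
  obtain ⟨t, ht, rfl⟩ := htr c d
  obtain ⟨g, hg⟩ := isConj_iff.mp (h s hs t ht (fun e => hab' (by rw [e, one_smul]))
    (fun e => hcd (by rw [e, one_smul])))
  obtain ⟨m, hm, hma⟩ := htr (g • a) c
  refine ⟨m * g, by rw [mul_smul, hma], ?_⟩
  rw [← mul_smul]
  calc (m * g * s) • a = (m * (g * s * g⁻¹) * g) • a := by congr 1; group
    _ = (m * t * g) • a := by rw [hg]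
    _ = (t * m * g) • a := by rw [hc m hm t ht]
    _ = t • c := by rw [mul_smul, mul_smul, hma]

end CfsgLib.Socle
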