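import Mathlib
import Cfsg.Agent.Lib.Perm.AutAlt

/-!
Automorphisms of an alternating group preserving the three-cycles are induced by permutations (any degree `n ≥ 4`).
-/

set_option autoImplicit false

namespace CfsgLib.AutAltGen

theorem conjNormal_injective (n : ℕ) (hn : 4 ≤ n) :
    Function.Injective (MulAut.conjNormal : Equiv.Perm (Fin n) →* MulAut ↥(alternatingGroup (Fin n))) := by
  classical
  rw [injective_iff_map_eq_one]
  intro σ hσ
  refine Equiv.ext fun a => ?_
  rw [Equiv.Perm.one_apply]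
  by_contra ha
  obtain ⟨b, hb, c, hc, hbc⟩ : ∃ b ∈ ({a, σ a} : Finset (Fin n))ᶜ, ∃ c ∈ ({a, σ a} : Finset (Fin n))ᶜ, b ≠ c := by
    refine Finset.one_lt_card.mp ?_
    have : ({a, σ a} : Finset (Fin n)).card ≤ 2 := Finset.card_le_two
    rw [Finset.card_compl, Fintype.card_fin]
    omega
  simp only [Finset.mem_compl, Finset.mem_insert, Finset.mem_singleton, not_or] at hb hc
  have h3 := CfsgLib.AutAlt.isThreeCycle_cyc (Ne.symm hb.1) (Ne.symm hc.1) hbc
  have he := congrArg (fun f : MulAut (alternatingGroup (Fin n)) =>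
    ((f ⟨_, h3.mem_alternatingGroup⟩ : alternatingGroup (Fin n)) : Equiv.Perm (Fin n))) hσ
  simp only [MulAut.conjNormal_apply, MulAut.one_apply] at he
  rw [CfsgLib.AutAlt.conj_cyc] at he
  have h1 := congrArg (fun f : Equiv.Perm (Fin n) => f (σ a)) he
  beta_reduce at h1
  rw [CfsgLib.AutAlt.cyc_fix ha (Ne.symm hb.2) (Ne.symm hc.2), CfsgLib.AutAlt.cyc_a
    (fun e => hb.1 (σ.injective e).symm) (fun e => hc.1 (σ.injective e).symm)] at h1
  exact hb.1 (σ.injective h1)

theorem exists_conjNormal (n : ℕ) (hn : 4 ≤ n) (φ : MulAut ↥(alternatingGroup (Fin n)))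
    (himg : ∀ x : alternatingGroup (Fin n), Equiv.Perm.IsThreeCycle (x : Equiv.Perm (Fin n)) →
      Equiv.Perm.IsThreeCycle (φ x : Equiv.Perm (Fin n))) :
    ∃ σ : Equiv.Perm (Fin n), MulAut.conjNormal σ = φ := by
  classical
  set o : Fin n := ⟨0, by omega⟩ with ho
  set l : Fin n := ⟨1, by omega⟩ with hl
  have hol : o ≠ l := by simp [ho, hl, Fin.ext_iff]
  have hne : ∀ i : Fin n, 2 ≤ (i : ℕ) → i ≠ o ∧ i ≠ l := fun i hi => by
    constructor <;> (intro e; rw [e] at hi; simp [ho, hl] at hi)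
  have hx : ∀ i : Fin n, 2 ≤ (i : ℕ) → Equiv.Perm.IsThreeCycle (CfsgLib.AutAlt.cyc o l i) :=
    fun i hi => CfsgLib.AutAlt.isThreeCycle_cyc hol (hne i hi).1.symm (hne i hi).2.symm
  let y : {i : Fin n // 2 ≤ (i : ℕ)} → Equiv.Perm (Fin n) :=
    fun i => (φ ⟨_, (hx i.1 i.2).mem_alternatingGroup⟩ : alternatingGroup (Fin n))
  have hy : ∀ i, Equiv.Perm.IsThreeCycle (y i) := fun i =>
    himg _ (hx i.1 i.2)
  have hyinj : Function.Injective y := by
    intro i j e
    have e1 := congrArg Subtype.val (φ.injective (Subtype.ext e))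
    have e2 := congrArg (fun f : Equiv.Perm (Fin n) => f l) e1
    beta_reduce at e2
    rw [CfsgLib.AutAlt.cyc_b (hne i.1 i.2).1.symm (hne i.1 i.2).2.symm,
      CfsgLib.AutAlt.cyc_b (hne j.1 j.2).1.symm (hne j.1 j.2).2.symm] at e2
    exact Subtype.ext e2
  have hpair : ∀ i j, i ≠ j → ∃ a, y i a ≠ a ∧ y j a = y i a ∧ y j (y i a) ≠ y i (y i a) := by
    intro i j hij
    have hij' : i.1 ≠ j.1 := fun e => hij (Subtype.ext e)
    obtain ⟨hio, hil⟩ := hne i.1 i.2
    obtain ⟨hjo, hjl⟩ := hne j.1 j.2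
    have e0 : ∀ z, CfsgLib.AutAlt.cyc o l i.1 (CfsgLib.AutAlt.cyc o l j.1
        (CfsgLib.AutAlt.cyc o l i.1 (CfsgLib.AutAlt.cyc o l j.1 z))) = z := by
      intro z
      by_cases z1 : z = o
      · rw [z1, CfsgLib.AutAlt.cyc_a hol hjo.symm, CfsgLib.AutAlt.cyc_b hio.symm hil.symm,
          CfsgLib.AutAlt.cyc_fix hio hil hij', CfsgLib.AutAlt.cyc_c]
      by_cases z2 : z = l
      · rw [z2, CfsgLib.AutAlt.cyc_b hjo.symm hjl.symm, CfsgLib.AutAlt.cyc_fix hjo hjl (Ne.symm hij'),
          CfsgLib.AutAlt.cyc_c, CfsgLib.AutAlt.cyc_a hol hio.symm]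
      by_cases z3 : z = i.1
      · rw [z3, CfsgLib.AutAlt.cyc_fix hio hil hij', CfsgLib.AutAlt.cyc_c,
          CfsgLib.AutAlt.cyc_a hol hjo.symm, CfsgLib.AutAlt.cyc_b hio.symm hil.symm]
      by_cases z4 : z = j.1
      · rw [z4, CfsgLib.AutAlt.cyc_c, CfsgLib.AutAlt.cyc_a hol hio.symm,
          CfsgLib.AutAlt.cyc_b hjo.symm hjl.symm, CfsgLib.AutAlt.cyc_fix hjo hjl (Ne.symm hij')]
      rw [CfsgLib.AutAlt.cyc_fix z1 z2 z4, CfsgLib.AutAlt.cyc_fix z1 z2 z3,
        CfsgLib.AutAlt.cyc_fix z1 z2 z4, CfsgLib.AutAlt.cyc_fix z1 z2 z3]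
    set gi : alternatingGroup (Fin n) := ⟨_, (hx i.1 i.2).mem_alternatingGroup⟩
    set gj : alternatingGroup (Fin n) := ⟨_, (hx j.1 j.2).mem_alternatingGroup⟩
    have h2 : gi * gj * (gi * gj) = 1 := Subtype.ext (Equiv.ext fun z => by
      simpa [gi, gj] using e0 z)
    have h1 : gi * gj ≠ 1 := by
      intro e
      have := congrArg (fun g : alternatingGroup (Fin n) => (g : Equiv.Perm (Fin n)) o) e
      simp [gi, gj, CfsgLib.AutAlt.cyc_a hol hjo.symm, CfsgLib.AutAlt.cyc_b hio.symm hil.symm] at this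
      exact hio this
    refine CfsgLib.AutAlt.share_edge (hy i) (hy j) ?_ ?_
    · exact congrArg Subtype.val (show φ gi * φ gj * (φ gi * φ gj) = 1 by
        rw [← map_mul, ← map_mul, h2, map_one])
    · intro e
      refine h1 (φ.injective ?_)
      rw [map_mul, map_one]
      exact Subtype.ext e
  set i0 : {i : Fin n // 2 ≤ (i : ℕ)} := ⟨⟨2, by omega⟩, le_refl 2⟩ with hi0
  set i1 : {i : Fin n // 2 ≤ (i : ℕ)} := ⟨⟨3, by omega⟩, by simp⟩ with hi1
  have h01 : i0 ≠ i1 := by simp [hi0, hi1, Subtype.ext_iff, Fin.ext_iff]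
  obtain ⟨a, ha0, ha1, hcd⟩ := hpair i0 i1 h01
  obtain ⟨hab, hac, hbc, h03, -⟩ := CfsgLib.AutAlt.exists_cyc (hy i0) ha0
  have ha1' : y i1 a ≠ a := by rw [ha1]; exact ha0
  obtain ⟨-, had, hbd, h13, -⟩ := CfsgLib.AutAlt.exists_cyc (hy i1) ha1'
  rw [ha1] at had hbd h13
  set b := y i0 a with hb
  set c := y i0 b with hc
  set d := y i1 b with hd
  have hall : ∀ k, y k a = b := by
    intro k
    by_cases hk0 : k = i0
    · rw [hk0]
    by_cases hk1 : k = i1
    · rw [hk1, ha1]
    obtain ⟨p, hp, hkp, -⟩ := hpair i0 k (Ne.symm hk0)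
    obtain ⟨q, hq, hkq, -⟩ := hpair i1 k (Ne.symm hk1)
    rcases CfsgLib.AutAlt.moved_of_three (hy i0) ha0 hp with e | e | e
    · rw [e] at hkp; exact hkp
    all_goals rcases CfsgLib.AutAlt.moved_of_three (hy i1) ha1' hq with f | f | f
    all_goals subst e
    all_goals subst f
    · exact hkq.trans ha1
    · rw [ha1, ← hd] at hkq
      rw [← hc] at hkp
      exact absurd (hkq.symm.trans hkp) hcd
    · exfalso
      rw [ha1, ← hd, h13] at hkq
      rw [← hc] at hkp
      have hcard := (hy k).card_support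
      have : ({b, c, d, a} : Finset (Fin n)) ⊆ (y k).support := by
        intro z hz
        simp only [Finset.mem_insert, Finset.mem_singleton] at hz
        rw [Equiv.Perm.mem_support]
        rcases hz with rfl | rfl | rfl | rfl
        · rw [hkp]; exact hbc.symm
        · intro e; exact hbc ((y k).injective (hkp.trans e.symm))
        · rw [hkq]; exact had
        · intro e; exact had ((y k).injective (e.trans hkq.symm))
      have := Finset.card_le_card this
      rw [Finset.card_insert_of_notMem (by simp [hbc, hbd, hab.symm]),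
        Finset.card_insert_of_notMem (by simp [Ne.symm hcd, hac.symm]),
        Finset.card_insert_of_notMem (by simp [had.symm]), Finset.card_singleton] at this
      omega
    · exact hkq.trans ha1
    · exfalso
      rw [ha1, ← hd] at hkq
      rw [← hc, h03] at hkp
      have hcard := (hy k).card_support
      have : ({b, c, d, a} : Finset (Fin n)) ⊆ (y k).support := by
        intro z hz
        simp only [Finset.mem_insert, Finset.mem_singleton] at hz
        rw [Equiv.Perm.mem_support]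
        rcases hz with rfl | rfl | rfl | rfl
        · rw [hkq]; exact hbd.symm
        · rw [hkp]; exact hac
        · intro e; exact hbd ((y k).injective (hkq.trans e.symm))
        · intro e; exact hac ((y k).injective (e.trans hkp.symm))
      have := Finset.card_le_card this
      rw [Finset.card_insert_of_notMem (by simp [hbc, hbd, hab.symm]),
        Finset.card_insert_of_notMem (by simp [Ne.symm hcd, hac.symm]),
        Finset.card_insert_of_notMem (by simp [had.symm]), Finset.card_singleton] at this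
      omega
    · exfalso
      rw [ha1, ← hd, h13] at hkq
      rw [← hc, h03] at hkp
      exact hcd ((y k).injective (hkq.trans hkp.symm))
  have hcycle : ∀ k, a ≠ y k b ∧ b ≠ y k b ∧ y k = CfsgLib.AutAlt.cyc a b (y k b) := by
    intro k
    obtain ⟨-, h2, h3, -, h4⟩ := CfsgLib.AutAlt.exists_cyc (hy k) (a := a) (by rw [hall k]; exact ha0)
    rw [hall k] at h2 h3 h4
    exact ⟨h2, h3, h4⟩
  let f : Fin n → Fin n := fun i => if h : 2 ≤ (i : ℕ) then y ⟨i, h⟩ b else if i = o then a else b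
  have hlt : ∀ i : Fin n, ¬ 2 ≤ (i : ℕ) → i = o ∨ i = l := fun i hi => by
    rcases (show (i : ℕ) = 0 ∨ (i : ℕ) = 1 by omega) with e | e
    · exact Or.inl (Fin.ext (by simp [ho, e]))
    · exact Or.inr (Fin.ext (by simp [hl, e]))
  have hfo : f o = a := by simp [f, ho]
  have hfl : f l = b := by simp [f, hl, ho]
  have hfi : ∀ i : Fin n, ∀ h : 2 ≤ (i : ℕ), f i = y ⟨i, h⟩ b := fun i h => dif_pos h
  have hfinj : Function.Injective f := by
    intro i j e
    by_cases hi : 2 ≤ (i : ℕ) <;> by_cases hj : 2 ≤ (j : ℕ)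
    · rw [hfi i hi, hfi j hj] at e
      have : y ⟨i, hi⟩ = y ⟨j, hj⟩ := by rw [(hcycle _).2.2, (hcycle ⟨j, hj⟩).2.2, e]
      exact congrArg Subtype.val (hyinj this)
    · rw [hfi i hi] at e
      rcases hlt j hj with rfl | rfl
      · rw [hfo] at e; exact absurd e.symm (hcycle _).1
      · rw [hfl] at e; exact absurd e.symm (hcycle _).2.1
    · rw [hfi j hj] at e
      rcases hlt i hi with rfl | rfl
      · rw [hfo] at e; exact absurd e (hcycle _).1
      · rw [hfl] at e; exact absurd e (hcycle _).2.1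
    · rcases hlt i hi with rfl | rfl <;> rcases hlt j hj with rfl | rfl
      · rfl
      · rw [hfo, hfl] at e; exact absurd e hab
      · rw [hfo, hfl] at e; exact absurd e.symm hab
      · rfl
  set σ : Equiv.Perm (Fin n) := Equiv.ofBijective f (Finite.injective_iff_bijective.mp hfinj)
  refine ⟨σ, MulEquiv.ext fun g => ?_⟩
  set K : Subgroup (alternatingGroup (Fin n)) :=
    (MulAut.conjNormal σ).toMonoidHom.eqLocus φ.toMonoidHom
  have hK : alternatingGroup (Fin n) ≤ K.map (alternatingGroup (Fin n)).subtype := by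
    conv_lhs => rw [← CfsgLib.AutAlt.closure_base n (by omega)]
    rw [Subgroup.closure_le]
    rintro _ ⟨i, hi, rfl⟩
    refine ⟨⟨_, (hx i hi).mem_alternatingGroup⟩, ?_, rfl⟩
    show MulAut.conjNormal σ _ = φ _
    refine Subtype.ext ?_
    rw [MulAut.conjNormal_apply, CfsgLib.AutAlt.conj_cyc]
    show CfsgLib.AutAlt.cyc (f o) (f l) (f i) = y ⟨i, hi⟩
    rw [hfo, hfl, hfi i hi, ← (hcycle _).2.2]
  obtain ⟨g', hg', e⟩ := hK g.2
  obtain rfl : g' = g := Subtype.ext e
  exact hg'

end CfsgLib.AutAltGen
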