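import Cfsg.Agent.Lib.Components
import Mathlib.GroupTheory.SpecificGroups.Alternating
import Mathlib.GroupTheory.SpecificGroups.Alternating.Simple
import Mathlib.GroupTheory.Perm.Cycle.Type
import Cfsg.Prelude.Def_Local

/-!
The stabiliser of four points is a standard subgroup of an alternating group.
-/

set_option autoImplicit false
set_option linter.unusedSectionVars false

namespace CfsgLib.StandardAlt

open Equiv Equiv.Perm Cfsg
open scoped commutatorElement

variable {n : ℕ}

/-- A simple group with two non-commuting elements is quasisimple. -/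
theorem isQuasisimple_of_simple {J : Type*} [Group J] [IsSimpleGroup J] {a b : J} (h : a * b ≠ b * a) :
    IsQuasisimple J := by
  have hc : Subgroup.center J = ⊥ :=
    (inferInstance : (Subgroup.center J).Normal).eq_bot_or_eq_top.resolve_right fun e =>
      h (Subgroup.mem_center_iff.mp (e ▸ Subgroup.mem_top b) a)
  have hperf : commutator J = ⊤ :=
    (inferInstance : (commutator J).Normal).eq_bot_or_eq_top.resolve_left fun e => h (by
      have h1 : ⁅a, b⁆ ∈ commutator J := Subgroup.commutator_mem_commutator (Subgroup.mem_top a) (Subgroup.mem_top b)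
      rw [e, Subgroup.mem_bot, commutatorElement_eq_one_iff_mul_comm] at h1
      exact h1)
  exact ⟨⟨hperf⟩, ((QuotientGroup.quotientMulEquivOfEq hc).trans QuotientGroup.quotientBot).isSimpleGroup⟩

/-- The pointwise stabiliser of `s`. -/
def fixOn (s : Finset (Fin n)) : Subgroup (alternatingGroup (Fin n)) where
  carrier := {σ | ∀ x ∈ s, (σ : Perm (Fin n)) x = x}
  one_mem' := fun x _ => rfl
  mul_mem' := fun {a b} ha hb x hx => by
    show (a : Perm (Fin n)) ((b : Perm (Fin n)) x) = x
    rw [hb x hx, ha x hx]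
  inv_mem' := fun {a} ha x hx => Perm.inv_eq_iff_eq.mpr (ha x hx).symm

theorem mem_fixOn {s : Finset (Fin n)} {σ : alternatingGroup (Fin n)} :
    σ ∈ fixOn s ↔ ∀ x ∈ s, (σ : Perm (Fin n)) x = x := Iff.rfl

theorem fixOn_compl_comm {s : Finset (Fin n)} {σ τ : alternatingGroup (Fin n)} (hσ : σ ∈ fixOn s)
    (hτ : τ ∈ fixOn sᶜ) : σ * τ = τ * σ := by
  refine Subtype.ext (Equiv.ext fun x => ?_)
  show (σ : Perm (Fin n)) ((τ : Perm (Fin n)) x) = (τ : Perm (Fin n)) ((σ : Perm (Fin n)) x)
  by_cases hx : x ∈ s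
  · have h : (τ : Perm (Fin n)) x ∈ s := by
      by_contra h
      have h2 := (τ : Perm (Fin n)).injective (hτ _ (Finset.mem_compl.mpr h))
      rw [h2] at h
      exact h hx
    rw [hσ x hx, hσ _ h]
  · have h : (σ : Perm (Fin n)) x ∉ s := fun h => hx ((σ : Perm (Fin n)).injective (hσ _ h) ▸ h)
    rw [hτ x (Finset.mem_compl.mpr hx), hτ _ (Finset.mem_compl.mpr h)]

/-- Three-cycles as elements of the alternating group. -/
def tri (a b c : Fin n) (hab : a ≠ b) (hac : a ≠ c) (hbc : b ≠ c) : alternatingGroup (Fin n) :=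
  ⟨swap a b * swap a c, mem_alternatingGroup.mpr (isThreeCycle_swap_mul_swap_same hab hac hbc).sign⟩

theorem exists_moving {s : Finset (Fin n)} (hs : 4 ≤ sᶜ.card) {x y : Fin n} (hx : x ∉ s) (hxy : x ≠ y) :
    ∃ c ∈ fixOn s, (c : Perm (Fin n)) y = y ∧ (c : Perm (Fin n)) x ≠ x := by
  have h : 1 < ((sᶜ.erase x).erase y).card := by
    have h1 := Finset.card_erase_of_mem (Finset.mem_compl.mpr hx)
    have h2 : (sᶜ.erase x).card - 1 ≤ ((sᶜ.erase x).erase y).card := Finset.pred_card_le_card_erase
    omega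
  obtain ⟨a, ha, b, hb, hab⟩ := Finset.one_lt_card.mp h
  simp only [Finset.mem_erase, Finset.mem_compl] at ha hb
  obtain ⟨hay, hax, has⟩ := ha
  obtain ⟨hby, hbx, hbs⟩ := hb
  have hf : ∀ z, z ≠ x → z ≠ a → z ≠ b → swap x a (swap x b z) = z := fun z h1 h2 h3 => by
    rw [swap_apply_of_ne_of_ne h1 h3, swap_apply_of_ne_of_ne h1 h2]
  refine ⟨tri x a b hax.symm hbx.symm hab, fun z hz => hf z (fun e => hx (e ▸ hz)) (fun e => has (e ▸ hz))
    (fun e => hbs (e ▸ hz)), hf y hxy.symm hay.symm hby.symm, ?_⟩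
  show swap x a (swap x b x) ≠ x
  rw [swap_apply_left, swap_apply_of_ne_of_ne hbx hab.symm]
  exact hbx

theorem centralizer_fixOn {s : Finset (Fin n)} (hs : 4 ≤ sᶜ.card) :
    Subgroup.centralizer (fixOn s : Set (alternatingGroup (Fin n))) = fixOn sᶜ := by
  refine le_antisymm (fun σ hσ x hx => ?_) fun τ hτ σ hσ => fixOn_compl_comm hσ hτ
  rw [Finset.mem_compl] at hx
  by_contra hne
  have hcomm : ∀ c ∈ fixOn s, (c : Perm (Fin n)) ((σ : Perm (Fin n)) x) =
      (σ : Perm (Fin n)) ((c : Perm (Fin n)) x) := fun c hc =>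
    congrArg (fun q : alternatingGroup (Fin n) => (q : Perm (Fin n)) x) (hσ c hc)
  by_cases hy : (σ : Perm (Fin n)) x ∈ s
  · obtain ⟨c, hc, -, hcx⟩ := exists_moving hs hx (Ne.symm hne)
    have h := hcomm c hc
    rw [hc _ hy] at h
    exact hcx ((σ : Perm (Fin n)).injective h).symm
  · obtain ⟨c, hc, hcx, hcy⟩ := exists_moving hs hy hne
    have h := hcomm c hc
    rw [hcx] at h
    exact hcy h

theorem mem_iff_forall_fixOn {s : Finset (Fin n)} (hs : 4 ≤ sᶜ.card) {x : Fin n} :
    x ∈ s ↔ ∀ c ∈ fixOn s, (c : Perm (Fin n)) x = x := by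
  refine ⟨fun hx c hc => hc x hx, fun h => by_contra fun hx => ?_⟩
  obtain ⟨y, hy⟩ : ∃ y, x ≠ y := by
    obtain ⟨a, -, b, -, hab⟩ := Finset.one_lt_card.mp (show 1 < sᶜ.card by omega)
    by_cases e : x = a
    · exact ⟨b, e ▸ hab⟩
    · exact ⟨a, e⟩
  obtain ⟨c, hc, -, hcx⟩ := exists_moving hs hx hy
  exact hcx (h c hc)

theorem mem_map_conj {g : alternatingGroup (Fin n)} {s : Finset (Fin n)} :
    (fixOn s).map (MulAut.conj g).toMonoidHom = fixOn (s.map (g : Perm (Fin n)).toEmbedding) := by
  ext σ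
  constructor
  · rintro ⟨τ, hτ, rfl⟩ x hx
    obtain ⟨y, hy, rfl⟩ := Finset.mem_map.mp hx
    show (g : Perm (Fin n)) ((τ : Perm (Fin n)) ((g : Perm (Fin n))⁻¹ ((g : Perm (Fin n)) y))) = _
    rw [show (g : Perm (Fin n))⁻¹ ((g : Perm (Fin n)) y) = y from (g : Perm (Fin n)).symm_apply_apply y, hτ y hy]
    rfl
  · intro hσ
    refine ⟨g⁻¹ * σ * g, fun y hy => ?_, show g * (g⁻¹ * σ * g) * g⁻¹ = σ by group⟩
    show (g : Perm (Fin n))⁻¹ ((σ : Perm (Fin n)) ((g : Perm (Fin n)) y)) = y
    rw [hσ ((g : Perm (Fin n)) y) (Finset.mem_map.mpr ⟨y, hy, rfl⟩)]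
    exact (g : Perm (Fin n)).symm_apply_apply y

theorem mem_normalizer_fixOn {g : alternatingGroup (Fin n)} {s : Finset (Fin n)} (hs : 4 ≤ sᶜ.card) :
    g ∈ Subgroup.normalizer (fixOn s : Set (alternatingGroup (Fin n))) ↔
      s.map (g : Perm (Fin n)).toEmbedding = s := by
  constructor
  · intro hg
    refine Finset.eq_of_subset_of_card_le (fun x hx => ?_) (Finset.card_map _).ge
    obtain ⟨y, hy, rfl⟩ := Finset.mem_map.mp hx
    rw [mem_iff_forall_fixOn hs]
    intro c hc
    have h := (Subgroup.mem_normalizer_iff''.mp hg c).mp hc y hy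
    exact (g : Perm (Fin n)).symm.injective (h.trans ((g : Perm (Fin n)).symm_apply_apply y).symm)
  · intro h
    refine Subgroup.mem_normalizer_iff.mpr fun σ => ⟨fun hσ => ?_, fun hσ => ?_⟩
    · have h1 := Subgroup.mem_map_of_mem (MulAut.conj g).toMonoidHom hσ
      rw [mem_map_conj, h] at h1
      exact h1
    · rw [← h, ← mem_map_conj] at hσ
      obtain ⟨τ, hτ, e⟩ := hσ
      rwa [← mul_left_cancel (mul_right_cancel (show g * τ * g⁻¹ = g * σ * g⁻¹ from e))]

theorem isStandardSubgroup_fixOn {s : Finset (Fin n)} (hs4 : s.card = 4) (hn : 9 ≤ n) :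
    IsStandardSubgroup (fixOn s) := by
  have hc : ∀ r : Finset (Fin n), r.card = 4 → rᶜ.card = n - 4 := fun r hr => by
    rw [Finset.card_compl, Fintype.card_fin, hr]
  have hs : 4 ≤ sᶜ.card := by rw [hc s hs4]; omega
  have hC := centralizer_fixOn hs
  refine ⟨?_, ⟨?_, fun g hg => ?_⟩, fun g hg hcomm => ?_, ?_⟩
  · -- `fixOn s` is a copy of an alternating group
    let α := {x : Fin n // x ∉ s}
    have hα : 5 ≤ Nat.card α := by
      rw [Nat.card_eq_fintype_card, Fintype.card_subtype_compl]
      simp only [Fintype.card_fin, Fintype.card_coe, hs4]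
      omega
    let φ : alternatingGroup α →* alternatingGroup (Fin n) :=
      ((Perm.ofSubtype).comp (alternatingGroup α).subtype).codRestrict _ fun q =>
        mem_alternatingGroup.mpr (by
          show sign (Perm.ofSubtype (q : Perm α)) = 1
          rw [sign_ofSubtype]; exact mem_alternatingGroup.mp q.2)
    have hφ : Function.Injective φ := fun q r e =>
      Subtype.ext (Perm.ofSubtype_injective (congrArg Subtype.val e))
    have hrange : φ.range = fixOn s := by
      refine le_antisymm ?_ fun σ hσ => ?_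
      · rintro _ ⟨q, rfl⟩ x hx
        exact Perm.ofSubtype_apply_of_not_mem (q : Perm α) (not_not_intro hx)
      · have h1 : ∀ x, x ∉ s ↔ (σ : Perm (Fin n)) x ∉ s := fun x => by
          constructor
          · intro hx hx'
            exact hx ((σ : Perm (Fin n)).injective (hσ _ hx') ▸ hx')
          · intro hx' hx
            exact hx' ((hσ x hx).symm ▸ hx)
        have h2 : Perm.ofSubtype ((σ : Perm (Fin n)).subtypePerm fun x => (h1 x).symm) = (σ : Perm (Fin n)) :=
          Perm.ofSubtype_subtypePerm _ fun x hx hxs => hx (hσ x hxs)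
        have h3 := mem_alternatingGroup.mp σ.2
        rw [← h2, sign_ofSubtype] at h3
        refine ⟨⟨(σ : Perm (Fin n)).subtypePerm fun x => (h1 x).symm, mem_alternatingGroup.mpr ?_⟩, Subtype.ext ?_⟩
        · convert h3 using 4
        · show Perm.ofSubtype ((σ : Perm (Fin n)).subtypePerm fun x => (h1 x).symm : Perm α) = (σ : Perm (Fin n))
          convert h2 using 4
    haveI := alternatingGroup.isSimpleGroup (α := α) hα
    obtain ⟨a, b, hab⟩ : ∃ a b : alternatingGroup α, a * b ≠ b * a := by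
      by_contra h
      push Not at h
      obtain ⟨x, hx⟩ := Finset.card_pos.mp (show 0 < sᶜ.card by omega)
      obtain ⟨y, hy⟩ := Finset.card_pos.mp (show 0 < (sᶜ.erase x).card by
        rw [Finset.card_erase_of_mem hx]; omega)
      obtain ⟨c, hc', -, hcx⟩ := exists_moving hs (Finset.mem_compl.mp hx) (Finset.mem_erase.mp hy).1.symm
      have hmem : c ∈ Subgroup.centralizer (fixOn s : Set (alternatingGroup (Fin n))) := fun τ hτ => by
        obtain ⟨q, rfl⟩ := hrange.ge hτ
        obtain ⟨r, rfl⟩ := hrange.ge hc'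
        rw [← map_mul, ← map_mul, h]
      rw [hC] at hmem
      exact hcx (hmem x hx)
    exact isQuasisimple_of_equiv ((MonoidHom.ofInjective hφ).trans (MulEquiv.subgroupCongr hrange))
      (isQuasisimple_of_simple hab)
  · rw [hC]
    obtain ⟨a, b, c, d, hab, hac, had, hbc, hbd, hcd, rfl⟩ := Finset.card_eq_four.mp hs4
    let w : alternatingGroup (Fin n) := ⟨swap a b * swap c d, mem_alternatingGroup.mpr (by
      rw [map_mul, sign_swap hab, sign_swap hcd]; rfl)⟩
    have hw : w ∈ fixOn ({a, b, c, d} : Finset (Fin n))ᶜ := fun x hx => by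
      simp only [Finset.mem_compl, Finset.mem_insert, Finset.mem_singleton, not_or] at hx
      show swap a b (swap c d x) = x
      rw [swap_apply_of_ne_of_ne hx.2.2.1 hx.2.2.2, swap_apply_of_ne_of_ne hx.1 hx.2.1]
    have hw2 : orderOf (⟨w, hw⟩ : ↥(fixOn ({a, b, c, d} : Finset (Fin n))ᶜ)) = 2 := by
      refine orderOf_eq_prime (Subtype.ext (Subtype.ext ?_)) fun e => hab ?_
      · show (swap a b * swap c d) ^ 2 = 1
        rw [pow_two, show swap a b * swap c d * (swap a b * swap c d) = 1 from Equiv.ext fun x => by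
          simp only [Perm.mul_apply, Perm.one_apply, swap_apply_def]
          grind]
      · have h := congrArg (fun q : ↥(fixOn ({a, b, c, d} : Finset (Fin n))ᶜ) =>
          ((q : alternatingGroup (Fin n)) : Perm (Fin n)) a) e
        have h1 : swap a b (swap c d a) = a := h
        rw [swap_apply_of_ne_of_ne hac had, swap_apply_left] at h1
        exact h1.symm
    exact even_iff_two_dvd.mpr (hw2 ▸ orderOf_dvd_natCard _)
  · rw [hC] at hg ⊢
    rw [mem_map_conj]
    have hne : sᶜ.map (g : Perm (Fin n)).toEmbedding ≠ sᶜ := fun e =>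
      hg ((mem_normalizer_fixOn (by rw [compl_compl, hs4])).mpr e)
    by_contra hodd
    haveI : Fact (Nat.Prime 2) := ⟨Nat.prime_two⟩
    obtain ⟨z, hz⟩ := exists_prime_orderOf_dvd_card' 2 (even_iff_two_dvd.mp (Nat.not_odd_iff_even.mp hodd))
    obtain ⟨⟨σ, hσA⟩, hσ⟩ := z
    obtain ⟨hσ1, hσ2⟩ := Subgroup.mem_inf.mp hσ
    set s' := (sᶜ.map (g : Perm (Fin n)).toEmbedding)ᶜ with hs'
    have hcard' : s'.card = 4 := by
      rw [hs', Finset.card_compl, Finset.card_map, hc s hs4, Fintype.card_fin]; omega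
    have hss : s ∩ s' ≠ s := fun e => hne (by
      have h1 : s = s' := Finset.eq_of_subset_of_card_le (Finset.inter_eq_left.mp e) (by omega)
      conv_rhs => rw [h1, hs', compl_compl])
    have hsupp : σ.support ⊆ s ∩ s' := fun x hx => by
      rw [Perm.mem_support] at hx
      refine Finset.mem_inter.mpr ⟨by_contra fun h => hx (hσ1 x (Finset.mem_compl.mpr h)),
        by_contra fun h => hx (hσ2 x ?_)⟩
      simpa [hs'] using h
    have h3 : σ.support.card ≤ 3 := by
      have := Finset.card_le_card hsupp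
      have := Finset.card_lt_card ((Finset.inter_subset_left (s₂ := s')).ssubset_of_ne hss)
      omega
    have hσo : σ ^ 2 = 1 ∧ σ ≠ 1 := by
      have h1 : orderOf σ = 2 := by
        rw [← hz, ← Subgroup.orderOf_coe, ← Subgroup.orderOf_coe]
      exact ⟨h1 ▸ pow_orderOf_eq_one σ, fun e => by simp [e] at h1⟩
    obtain ⟨k, hk⟩ := two_dvd_card_support hσo.1
    have h0 : σ.support.card ≠ 0 := fun e => hσo.2 (Perm.support_eq_empty_iff.mp (Finset.card_eq_zero.mp e))
    have h2 : IsSwap σ := card_support_eq_two.mp (by omega)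
    exact absurd ((mem_alternatingGroup.mp hσA).symm.trans h2.sign_eq) (by decide)
  · rw [Subgroup.commutator_eq_bot_iff_le_centralizer, mem_map_conj,
      centralizer_fixOn (by rw [Finset.card_compl, Finset.card_map, Fintype.card_fin, hs4]; omega)] at hcomm
    set r := s.map (g : Perm (Fin n)).toEmbedding
    obtain ⟨x, hx⟩ := Finset.card_pos.mp (show 0 < (s ∪ r)ᶜ.card by
      have := Finset.card_union_le s r
      rw [Finset.card_compl, Fintype.card_fin]
      rw [Finset.card_map, hs4] at this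
      omega)
    simp only [Finset.mem_compl, Finset.mem_union, not_or] at hx
    obtain ⟨y, hy⟩ := Finset.card_pos.mp (show 0 < (sᶜ.erase x).card by
      rw [Finset.card_erase_of_mem (Finset.mem_compl.mpr hx.1)]; omega)
    obtain ⟨c, hc', -, hcx⟩ := exists_moving hs hx.1 (Finset.mem_erase.mp hy).1.symm
    exact hcx (hcomm hc' x (Finset.mem_compl.mpr hx.2))
  · rw [hC]
    ext g
    rw [mem_normalizer_fixOn hs, mem_normalizer_fixOn (by rw [compl_compl, hs4])]
    have h : sᶜ.map (g : Perm (Fin n)).toEmbedding = (s.map (g : Perm (Fin n)).toEmbedding)ᶜ := by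
      ext x
      simp [Finset.mem_map_equiv]
    rw [h]
    exact ⟨fun e => by rw [e], fun e => compl_injective e⟩

end CfsgLib.StandardAlt
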