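/-
Coordinates from a p-cycle in a permutation group of prime degree p.
-/
import Mathlib

set_option autoImplicit false

namespace CfsgLib.CycleCoords

/-- An element of order `p` of a permutation group of prime degree `p` gives coordinates in `ZMod p`. -/
theorem exists_coords {α : Type*} [Fintype α] [DecidableEq α] {p : ℕ} [Fact p.Prime] (hα : Fintype.card α = p)
    (G : Subgroup (Equiv.Perm α)) (σ : G) (hσ : orderOf σ = p) :
    ∃ e : ZMod p ≃ α, (∀ x, σ • e x = e (x + 1)) ∧ ∀ (z : ℤ) x, (σ ^ z) • e x = e (x + z) := by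
  have hp : p.Prime := Fact.out
  obtain ⟨a₁, ha₁⟩ : ∃ a : α, σ • a ≠ a := by
    by_contra hh
    push Not at hh
    have : σ = 1 := Subtype.ext (Equiv.ext fun a => hh a)
    rw [this, orderOf_one] at hσ
    exact hp.ne_one hσ.symm
  have hper : Function.minimalPeriod (σ • ·) a₁ = p := by
    have hd : Function.minimalPeriod (σ • ·) a₁ ∣ p := by
      rw [← MulAction.pow_smul_eq_iff_minimalPeriod_dvd, ← hσ, pow_orderOf_eq_one, one_smul]
    rcases (Nat.dvd_prime hp).1 hd with h | h
    · exfalso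
      apply ha₁
      have h1 : σ ^ 1 • a₁ = a₁ := MulAction.pow_smul_eq_iff_minimalPeriod_dvd.2 (by rw [h])
      rwa [pow_one] at h1
    · exact h
  let f₀ : ZMod p → α := fun x => σ ^ (x.val : ℤ) • a₁
  have hfz : ∀ z : ℤ, f₀ z = σ ^ z • a₁ := fun z => by
    show σ ^ (((z : ZMod p).val : ℕ) : ℤ) • a₁ = _
    rw [ZMod.val_intCast, ← hper, MulAction.zpow_smul_mod_minimalPeriod]
  have hinj : Function.Injective f₀ := by
    intro x y hxy
    change σ ^ (x.val : ℤ) • a₁ = σ ^ (y.val : ℤ) • a₁ at hxy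
    have h1 : σ ^ ((x.val : ℤ) - y.val) • a₁ = a₁ := by
      rw [zpow_sub, (Commute.zpow_zpow_self σ _ _).inv_right.eq, mul_smul, hxy, inv_smul_smul]
    rw [MulAction.zpow_smul_eq_iff_minimalPeriod_dvd, hper, ← ZMod.intCast_zmod_eq_zero_iff_dvd,
      Int.cast_sub, sub_eq_zero, Int.cast_natCast, Int.cast_natCast, ZMod.natCast_zmod_val,
      ZMod.natCast_zmod_val] at h1
    exact h1
  let e : ZMod p ≃ α := Equiv.ofBijective f₀
    ((Fintype.bijective_iff_injective_and_card f₀).2 ⟨hinj, by rw [ZMod.card, hα]⟩)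
  have hz : ∀ (z : ℤ) x, (σ ^ z) • e x = e (x + z) := fun z x => by
    show σ ^ z • f₀ x = f₀ (x + z)
    rw [show x + (z : ZMod p) = ((z + (x.val : ℤ) : ℤ) : ZMod p) by simp [add_comm], hfz, zpow_add, mul_smul]
  exact ⟨e, fun x => by simpa using hz 1 x, hz⟩

/-- An involution normalising the group of a p-cycle is a reflection in its coordinates. -/
theorem reflection {α : Type*} [Fintype α] [DecidableEq α] {p : ℕ} [Fact p.Prime] (hp2 : p ≠ 2)
    (G : Subgroup (Equiv.Perm α)) (σ t : G) (e : ZMod p ≃ α) (he : ∀ (z : ℤ) x, (σ ^ z) • e x = e (x + z))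
    (ht2 : t * t = 1) (ht1 : t ≠ 1) (htσ : ∃ k : ℤ, t * σ * t⁻¹ = σ ^ k) :
    ∃ c, ∀ x, t • e x = e (c - x) := by
  obtain ⟨k, hk⟩ := htσ
  set c := e.symm (t • e 0) with hc
  have hlin : ∀ x : ZMod p, t • e x = e (c + x * k) := fun x => by
    have h1 : e x = σ ^ (x.val : ℤ) • e 0 := by
      rw [he, zero_add, Int.cast_natCast, ZMod.natCast_zmod_val]
    rw [h1, ← mul_smul, show t * σ ^ (x.val : ℤ) = (t * σ * t⁻¹) ^ (x.val : ℤ) * t by rw [conj_zpow, inv_mul_cancel_right],
      hk, ← zpow_mul, mul_smul, show t • e 0 = e c by rw [hc, Equiv.apply_symm_apply], he,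
      Int.cast_mul, Int.cast_natCast, ZMod.natCast_zmod_val, mul_comm]
  have h2 : ∀ x : ZMod p, e (c + (c + x * k) * k) = e x := fun x => by
    rw [← hlin, ← hlin, ← mul_smul, ht2, one_smul]
  have h0 := e.injective (h2 0)
  have h1 := e.injective (h2 1)
  have hk2 : (k : ZMod p) * k = 1 := by linear_combination h1 - h0
  rcases mul_self_eq_one_iff.1 hk2 with hk1 | hk1
  · exfalso
    have h2' : (2 : ZMod p) ≠ 0 := by
      have := (ZMod.natCast_eq_zero_iff 2 p).not.2 (fun hd => hp2 ((Nat.prime_dvd_prime_iff_eq Fact.out Nat.prime_two).1 hd))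
      exact_mod_cast this
    have hc0 : c = 0 := by
      rw [hk1] at h0
      have : (2 : ZMod p) * c = 0 := by linear_combination h0
      exact (mul_eq_zero.1 this).resolve_left h2'
    apply ht1
    refine Subtype.ext (Equiv.ext fun a => ?_)
    have := hlin (e.symm a)
    rw [hk1, hc0, zero_add, mul_one, Equiv.apply_symm_apply] at this
    rw [Subgroup.smul_def, Equiv.Perm.smul_def] at this
    simpa using this
  · exact ⟨c, fun x => by rw [hlin, hk1]; congr 1; ring⟩

/-- In a permutation group of prime degree with Sylow normaliser of even order, coordinates with a reflection. -/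
theorem exists_reflection {α : Type*} [Fintype α] [DecidableEq α] {p : ℕ} [Fact p.Prime] (hα : Fintype.card α = p)
    (hp2 : p ≠ 2) (G : Subgroup (Equiv.Perm α)) [MulAction.IsPretransitive G α] (P : Sylow p G)
    (heven : Even (Nat.card (Subgroup.normalizer ((P : Subgroup G) : Set G)))) :
    ∃ (σ t : G) (e : ZMod p ≃ α), orderOf σ = p ∧ (∀ (z : ℤ) x, (σ ^ z) • e x = e (x + z)) ∧
      ∀ x, t • e x = e (-x) := by
  have hp : p.Prime := Fact.out
  obtain ⟨a₀⟩ : Nonempty α := Fintype.card_pos_iff.1 (hα ▸ hp.pos)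
  have hdG : p ∣ Nat.card G := by
    rw [← hα, ← Nat.card_eq_fintype_card, ← MulAction.index_stabilizer_of_transitive G a₀]
    exact Subgroup.index_dvd_card _
  have hG : Nat.card G ∣ p.factorial := by
    have := Subgroup.card_subgroup_dvd_card G
    rwa [Nat.card_eq_fintype_card (α := Equiv.Perm α), Fintype.card_perm, hα] at this
  have hP : Nat.card (P : Subgroup G) = p := by
    rw [P.card_eq_multiplicity]
    have h2 : (Nat.card G).factorization p ≤ 1 := by
      by_contra hgt
      push Not at hgt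
      have h3 : p ^ 2 ∣ p.factorial := ((pow_dvd_pow p hgt).trans (Nat.ordProj_dvd _ p)).trans hG
      rw [sq, ← Nat.mul_factorial_pred hp.ne_zero, Nat.mul_dvd_mul_iff_left hp.pos, hp.dvd_factorial] at h3
      have := hp.pos
      omega
    have h1 := hp.factorization_pos_of_dvd Nat.card_pos.ne' hdG
    rw [show (Nat.card G).factorization p = 1 by omega, pow_one]
  obtain ⟨⟨σ, hσP⟩, hσ⟩ := exists_prime_orderOf_dvd_card' (G := (P : Subgroup G)) p (dvd_of_eq hP.symm)
  rw [Subgroup.orderOf_mk] at hσ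
  have hPσ : (P : Subgroup G) = Subgroup.zpowers σ :=
    (Subgroup.eq_of_le_of_card_ge (Subgroup.zpowers_le.2 hσP) (by rw [Nat.card_zpowers, hσ, hP])).symm
  obtain ⟨⟨t, htN⟩, ht⟩ := exists_prime_orderOf_dvd_card'
    (G := Subgroup.normalizer ((P : Subgroup G) : Set G)) 2 heven.two_dvd
  rw [Subgroup.orderOf_mk] at ht
  obtain ⟨e, -, he⟩ := exists_coords hα G σ hσ
  have htσ : ∃ k : ℤ, t * σ * t⁻¹ = σ ^ k := by
    have := (Subgroup.mem_normalizer_iff.1 htN σ).1 hσP
    rw [hPσ, Subgroup.mem_zpowers_iff] at this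
    obtain ⟨k, hk⟩ := this
    exact ⟨k, hk.symm⟩
  obtain ⟨c, hc⟩ := reflection hp2 G σ t e he (by rw [← sq, ← ht, pow_orderOf_eq_one])
    (fun e' => by rw [e', orderOf_one] at ht; exact absurd ht (by norm_num)) htσ
  have h2' : (2 : ZMod p) ≠ 0 := by
    have := (ZMod.natCast_eq_zero_iff 2 p).not.2 (fun hd => hp2 ((Nat.prime_dvd_prime_iff_eq hp Nat.prime_two).1 hd))
    exact_mod_cast this
  refine ⟨σ, t, (Equiv.addRight (c / 2)).trans e, hσ, fun z x => ?_, fun x => ?_⟩
  · simp only [Equiv.trans_apply, Equiv.coe_addRight, he]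
    congr 1; ring
  · simp only [Equiv.trans_apply, Equiv.coe_addRight, hc]
    congr 1
    field_simp
    ring

end CfsgLib.CycleCoords
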