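import Mathlib
import Cfsg.Agent.Lib.Perm.SharplyTwo

/-! Triply transitive groups of odd degree in which only the identity fixes three points. -/

set_option autoImplicit false

namespace CfsgLib.TripleOdd

open scoped LinearAlgebra.Projectivization

universe u

variable {α : Type u} [Fintype α] [DecidableEq α] (G : Subgroup (Equiv.Perm α))

theorem inj3 {β : Type*} {a b c : β} (h1 : a ≠ b) (h2 : a ≠ c) (h3 : b ≠ c) : Function.Injective ![a, b, c] := by
  have h4 := h1.symm; have h5 := h2.symm; have h6 := h3.symm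
  intro i j e
  fin_cases i <;> fin_cases j <;> first | rfl | exact absurd e ‹_›

theorem eq_of_two_moves {H : Subgroup (Equiv.Perm α)} (o z : α) (s : Equiv.Perm α) (hs : s ∈ H) (hsz : s z = o)
    (htr : ∀ x : α, x ≠ o → ∃ u ∈ H, u o = o ∧ u z = x) {K : Subgroup (Equiv.Perm α)}
    (hK : s ∈ K) (hHK : ∀ u ∈ H, u o = o → u ∈ K) (hso : s o = z) : H ≤ K := by
  intro g hg
  by_cases h : g o = o
  · exact hHK g hg h
  obtain ⟨u, hu, huo, huz⟩ := htr (g o) h
  have h1 : (s⁻¹ * u⁻¹ * g) o = o := by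
    rw [Equiv.Perm.mul_apply, Equiv.Perm.mul_apply, ← huz, Equiv.Perm.inv_eq_iff_eq, ← hso, eq_comm,
      eq_comm, Equiv.Perm.inv_eq_iff_eq]
  have h2 := hHK _ (mul_mem (mul_mem (inv_mem hs) (inv_mem hu)) hg) h1
  have : g = u * (s * (s⁻¹ * u⁻¹ * g)) := by group
  rw [this]
  exact mul_mem (hHK u hu huo) (mul_mem hK h2)

theorem vec_inf (F : Type*) [Field F] : (![1, 0] : Fin 2 → F) ≠ 0 := fun h => one_ne_zero (congrFun h 0)

theorem vec_pt {F : Type*} [Field F] (x : F) : (![x, 1] : Fin 2 → F) ≠ 0 := fun h => one_ne_zero (congrFun h 1)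

/-- The points of the projective line. -/
def toP (F : Type*) [Field F] : Option F → ℙ F (Fin 2 → F) := fun t =>
  t.elim (Projectivization.mk F ![1, 0] (vec_inf F)) fun x => Projectivization.mk F ![x, 1] (vec_pt x)

theorem proj_faithful {F : Type} [Field F] [CharP F 2] [Finite F] (g : Matrix.SpecialLinearGroup (Fin 2) F)
    (hsm : ∀ v : ℙ F (Fin 2 → F), g • v = v) : g = 1 := by
  have hev : ∀ v : Fin 2 → F, v ≠ 0 → ∃ c : F, c • v = (g : Matrix (Fin 2) (Fin 2) F).mulVec v := fun v hv => by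
    have h := hsm (Projectivization.mk F v hv)
    rw [Projectivization.smul_mk] at h
    exact (Projectivization.mk_eq_mk_iff' _ _ _ _ _).1 h
  obtain ⟨c0, h0⟩ := hev ![1, 0] (vec_inf F)
  obtain ⟨c1, h1⟩ := hev ![0, 1] (vec_pt 0)
  obtain ⟨c2, h2⟩ := hev ![1, 1] (vec_pt 1)
  have a00 := congrFun h0 0; have a10 := congrFun h0 1
  have a01 := congrFun h1 0; have a11 := congrFun h1 1
  have a20 := congrFun h2 0; have a21 := congrFun h2 1
  simp [Matrix.mulVec, dotProduct, Fin.sum_univ_two] at a00 a10 a01 a11 a20 a21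
  have hdet := g.2
  rw [Matrix.det_fin_two, ← a10, ← a01, ← a00, ← a11] at hdet
  rw [← a01, ← a00, add_zero] at a20
  rw [← a10, ← a11, zero_add] at a21
  have hcc : c0 * c0 = 1 := by
    rw [← a20, ← a21, zero_mul, sub_zero] at hdet
    rw [← a20]; exact hdet
  haveI : Fact (Nat.Prime 2) := ⟨Nat.prime_two⟩
  have hc1 : c0 = 1 := frobenius_inj F 2 (by rw [frobenius_def, frobenius_def, one_pow, sq]; exact hcc)
  refine Subtype.ext ?_
  ext i j
  fin_cases i <;> fin_cases j <;> simp_all

theorem toP_bijective (F : Type*) [Field F] : Function.Bijective (toP F) := by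
  constructor
  · intro x y h
    rcases x with _ | x <;> rcases y with _ | y
    · rfl
    · obtain ⟨c, hc⟩ := (Projectivization.mk_eq_mk_iff' _ _ _ _ _).1 h
      have h1 := congrFun hc 1
      have h0 := congrFun hc 0
      simp at h0 h1
      simp [h1] at h0
    · obtain ⟨c, hc⟩ := (Projectivization.mk_eq_mk_iff' _ _ _ _ _).1 h
      have h1 := congrFun hc 1
      simp at h1
    · obtain ⟨c, hc⟩ := (Projectivization.mk_eq_mk_iff' _ _ _ _ _).1 h
      have h1 := congrFun hc 1
      have h0 := congrFun hc 0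
      simp at h0 h1
      simp [h1] at h0
      rw [h0]
  · intro v
    induction v using Projectivization.ind with | _ v hv => ?_
    by_cases h1 : v 1 = 0
    · refine ⟨none, (Projectivization.mk_eq_mk_iff' _ _ _ _ _).2 ⟨(v 0)⁻¹, ?_⟩⟩
      have h0 : v 0 ≠ 0 := fun h0 => hv (funext fun i => by fin_cases i <;> assumption)
      funext i; fin_cases i <;> simp [h0, h1]
    · refine ⟨some (v 0 * (v 1)⁻¹), (Projectivization.mk_eq_mk_iff' _ _ _ _ _).2 ⟨(v 1)⁻¹, ?_⟩⟩
      funext i; fin_cases i <;> simp [h1, mul_comm]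

set_option maxHeartbeats 1600000 in
theorem classify (hm : 3 ≤ Fintype.card α) (hodd : Odd (Fintype.card α))
    (h3 : MulAction.IsMultiplyPretransitive G α 3)
    (hfix : ∀ g : G, 3 ≤ Nat.card (MulAction.fixedBy α g) → g = 1) :
    ∃ a : ℕ, 1 ≤ a ∧ Fintype.card α = 2 ^ a + 1 ∧ ∃ (F : Type) (_ : Field F) (_ : Fintype F),
      Fintype.card F = 2 ^ a ∧ Nonempty (G ≃* Matrix.SpecialLinearGroup (Fin 2) F) := by
  classical
  haveI := h3
  have hthree : ∀ g : G, ∀ a b c : α, a ≠ b → a ≠ c → b ≠ c → g • a = a → g • b = b → g • c = c → g = 1 := by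
    intro g a b c hab hac hbc ha hb hc
    refine hfix g ?_
    have hmem : ∀ i : Fin 3, ![a, b, c] i ∈ MulAction.fixedBy α g := by
      intro i
      fin_cases i
      · exact ha
      · exact hb
      · exact hc
    have hle := Nat.card_le_card_of_injective (fun i : Fin 3 => (⟨![a, b, c] i, hmem i⟩ : MulAction.fixedBy α g))
      (fun i j e => inj3 hab hac hbc (congrArg Subtype.val e))
    rwa [Nat.card_eq_fintype_card, Fintype.card_fin] at hle
  have hmove : ∀ a b c a' b' c' : α, a ≠ b → a ≠ c → b ≠ c → a' ≠ b' → a' ≠ c' → b' ≠ c' →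
      ∃ g : G, g • a = a' ∧ g • b = b' ∧ g • c = c' := by
    intro a b c a' b' c' h1 h2 h3 h4 h5 h6
    obtain ⟨g, hg⟩ := MulAction.exists_smul_eq G
      (⟨![a, b, c], inj3 h1 h2 h3⟩ : Fin 3 ↪ α)
      ⟨![a', b', c'], inj3 h4 h5 h6⟩
    exact ⟨g, DFunLike.congr_fun hg 0, DFunLike.congr_fun hg 1, DFunLike.congr_fun hg 2⟩
  have hthird : ∀ a b : α, ∃ c, a ≠ c ∧ b ≠ c := by
    intro a b
    by_contra! h
    have : (Finset.univ : Finset α) ⊆ {a, b} := fun c _ => by
      by_cases hc : a = c <;> simp [hc, (h c)]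
    exact absurd ((Finset.card_le_card this).trans Finset.card_le_two) (by rw [Finset.card_univ]; omega)
  obtain ⟨o⟩ : Nonempty α := Fintype.card_pos_iff.1 (by omega)
  let β := {x : α // x ≠ o}
  let K : Subgroup (Equiv.Perm β) :=
    { carrier := {σ | ∃ g : G, g • o = o ∧ ∀ x : β, ((σ x : β) : α) = g • (x : α)}
      one_mem' := ⟨1, one_smul _ _, fun x => (one_smul G (x : α)).symm⟩
      mul_mem' := by
        rintro σ τ ⟨g, hg, hσ⟩ ⟨k, hk, hτ⟩
        exact ⟨g * k, by rw [mul_smul, hk, hg], fun x => by rw [Equiv.Perm.mul_apply, hσ, hτ, mul_smul]⟩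
      inv_mem' := by
        rintro σ ⟨g, hg, hσ⟩
        refine ⟨g⁻¹, inv_smul_eq_iff.2 hg.symm, fun x => ?_⟩
        rw [eq_inv_smul_iff, ← hσ, Equiv.Perm.coe_inv, Equiv.apply_symm_apply] }
  have hlift : ∀ g : G, g • o = o → ∃ σ : K, ∀ x : β, (((σ : Equiv.Perm β) x : β) : α) = g • (x : α) := by
    intro g hg
    have h : ∀ x : α, g • x ≠ o ↔ x ≠ o := fun x => not_congr ⟨fun e => smul_left_cancel g (e.trans hg.symm),
      fun e => e ▸ hg⟩
    exact ⟨⟨(g : Equiv.Perm α).subtypePerm (fun x => h x), g, hg, fun x => rfl⟩, fun x => rfl⟩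
  haveI : MulAction.IsMultiplyPretransitive K β 2 := by
    rw [MulAction.is_two_pretransitive_iff]
    intro a b c d hab hcd
    obtain ⟨g, hgo, hga, hgb⟩ := hmove o a b o c d a.2.symm b.2.symm (fun e => hab (Subtype.ext e))
      c.2.symm d.2.symm (fun e => hcd (Subtype.ext e))
    obtain ⟨σ, hσ⟩ := hlift g hgo
    exact ⟨σ, Subtype.ext ((hσ a).trans hga), Subtype.ext ((hσ b).trans hgb)⟩
  have hsharp : ∀ x : Fin 2 ↪ β, MulAction.stabilizer K x = ⊥ := by
    intro x
    refine (Subgroup.eq_bot_iff_forall _).2 fun σ hσ => ?_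
    obtain ⟨g, hgo, hg⟩ := σ.2
    have hx : ∀ i, (σ : Equiv.Perm β) (x i) = x i := fun i => DFunLike.congr_fun hσ i
    have h1 : g = 1 := hthree g o (x 0) (x 1) (x 0).2.symm (x 1).2.symm
      (fun e => absurd (x.injective (Subtype.ext e)) (by decide)) hgo
      (by rw [← hg, hx]) (by rw [← hg, hx])
    exact Subtype.ext (Equiv.ext fun y => Subtype.ext (by rw [hg, h1, one_smul]; rfl))
  have hβcard : Fintype.card β + 1 = Fintype.card α := by
    rw [Fintype.card_subtype_compl, Fintype.card_subtype_eq]; omega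
  obtain ⟨N, hN⟩ := CfsgLib.SharplyTwo.exists_nearField K hsharp (by omega)
  letI := N
  set zero : β := 0 with hzero
  have hne01 : (zero : α) ≠ ((1 : β) : α) := fun e => Cfsg.NearField.zero_ne_one (Subtype.ext e)
  obtain ⟨s, hso, hsz, hs1⟩ := hmove o zero (1 : β) zero o (1 : β) zero.2.symm (1 : β).2.symm hne01
    zero.2 hne01 (1 : β).2.symm
  have hss : s * s = 1 := hthree _ o zero (1 : β) zero.2.symm (1 : β).2.symm hne01
    (by rw [mul_smul, hso, hsz]) (by rw [mul_smul, hsz, hso]) (by rw [mul_smul, hs1, hs1])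
  have hzmul : ∀ a : β, zero * a = zero := fun a => by
    have h := Cfsg.NearField.right_distrib zero zero a
    rw [hzero, add_zero, left_eq_add] at h
    rw [hzero]; exact h
  -- the two-point stabiliser is the multiplicative group
  let H : Subgroup G := MulAction.stabilizer G o ⊓ MulAction.stabilizer G (zero : α)
  have hHmul : ∀ g : G, g ∈ H → ∃ a : β, a ≠ zero ∧ ∀ x : β, g • (x : α) = ((x * a : β) : α) := by
    intro g hg
    obtain ⟨σ, hσ⟩ := hlift g hg.1
    obtain ⟨a, b, ha, hab⟩ := (hN σ).1 σ.2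
    have hb : b = zero := by
      have h1 : (σ : Equiv.Perm β) zero = zero := Subtype.ext ((hσ zero).trans hg.2)
      rw [hab, hzmul, hzero, zero_add] at h1
      rw [hzero]; exact h1
    refine ⟨a, ha, fun x => ?_⟩
    rw [← hσ, hab, hb, hzero, add_zero]
  have hmulH : ∀ a : β, a ≠ zero → ∃ g ∈ H, ∀ x : β, g • (x : α) = ((x * a : β) : α) := by
    intro a ha
    obtain ⟨u, hu1, hu2⟩ := Cfsg.NearField.exists_inv a ha
    have hσ : (⟨fun x => x * a, fun x => x * u, fun x => by simp only [mul_assoc, hu1, mul_one],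
        fun x => by simp only [mul_assoc, hu2, mul_one]⟩ : Equiv.Perm β) ∈ K :=
      (hN _).2 ⟨a, zero, ha, fun x => by rw [hzero, add_zero]; rfl⟩
    obtain ⟨g, hg, hgx⟩ := hσ
    refine ⟨g, ⟨hg, ?_⟩, fun x => (hgx x).symm⟩
    show g • (zero : α) = _
    rw [← hgx]
    exact congrArg Subtype.val (hzmul a)
  have hsH : ∀ g ∈ H, s * g * s ∈ H := fun g hg =>
    ⟨by show (s * g * s) • o = o; rw [mul_smul, mul_smul, hso, hg.2, hsz],
     by show (s * g * s) • (zero : α) = _; rw [mul_smul, mul_smul, hsz, hg.1, hso]⟩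
  -- the involution fixes only one point
  have hone : ∀ c : α, s • c = c → c = ((1 : β) : α) := by
    intro c hc
    by_contra hne
    let f : Equiv.Perm α := (s : Equiv.Perm α)
    have hsq : f ^ 2 ^ 1 = 1 := by
      rw [pow_one, sq]; exact congrArg Subtype.val hss
    have hsupp : Finset.univ.filter (fun x => f x ≠ x) = Finset.univ \ {((1 : β) : α), c} := by
      ext x
      simp only [Finset.mem_filter, Finset.mem_univ, true_and, Finset.mem_sdiff, Finset.mem_insert,
        Finset.mem_singleton, not_or]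
      refine ⟨fun hx => ⟨fun e => hx (e ▸ hs1), fun e => hx (e ▸ hc)⟩, fun hx e => ?_⟩
      have hs1' : s = 1 := hthree s ((1 : β) : α) c x (Ne.symm hne) (Ne.symm hx.1) (Ne.symm hx.2) hs1 hc e
      rw [hs1', one_smul] at hso
      exact zero.2 hso.symm
    have h2 : 2 ∣ (Finset.univ.filter (fun x => f x ≠ x)).card := by
      haveI := Fact.mk Nat.prime_two
      exact Equiv.Perm.two_dvd_card_support (σ := f) hsq
    rw [hsupp, Finset.card_sdiff_of_subset (Finset.subset_univ _), Finset.card_univ,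
      Finset.card_pair (Ne.symm hne)] at h2
    obtain ⟨k, hk⟩ := hodd
    omega
  let φ : H →* H :=
    { toFun := fun g => ⟨s * g * s, hsH g g.2⟩
      map_one' := Subtype.ext (by simp [hss])
      map_mul' := fun g k => Subtype.ext (by
        show s * ((g : G) * k) * s = s * g * s * (s * k * s)
        calc s * ((g : G) * k) * s = s * g * 1 * k * s := by group
          _ = s * g * (s * s) * k * s := by rw [hss]
          _ = _ := by group) }
  have hφfix : MonoidHom.FixedPointFree φ := by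
    intro g hg
    have hg' : s * (g : G) * s = g := congrArg Subtype.val hg
    have h1 : s • ((g : G) • ((1 : β) : α)) = (g : G) • ((1 : β) : α) := by
      conv_rhs => rw [← hg']
      rw [mul_smul, mul_smul, hs1]
    exact Subtype.ext (hthree _ o zero (1 : β) zero.2.symm (1 : β).2.symm hne01 g.2.1 g.2.2 (hone _ h1))
  have hφinv := MonoidHom.FixedPointFree.coe_eq_inv_of_involutive hφfix (fun g => Subtype.ext (by
    show s * (s * g * s) * s = g
    calc s * (s * (g : G) * s) * s = (s * s) * g * (s * s) := by group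
      _ = g := by rw [hss, one_mul, mul_one]))
  have hsinv : ∀ g ∈ H, s * g * s = g⁻¹ := fun g hg => congrArg Subtype.val (congrFun hφinv ⟨g, hg⟩)
  have hHcomm : ∀ g ∈ H, ∀ k ∈ H, g * k = k * g := by
    intro g hg k hk
    have h := hsinv _ (mul_mem hg hk)
    have e : s * (g * k) * s = (s * g * s) * (s * k * s) := congrArg Subtype.val (map_mul φ ⟨g, hg⟩ ⟨k, hk⟩)
    rw [e, hsinv g hg, hsinv k hk] at h
    have := congrArg (·⁻¹) h
    simp only [mul_inv_rev, inv_inv] at this
    exact this.symm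
  have hcomm : ∀ a b : β, a * b = b * a := by
    have hz0 : ∀ a : β, a * zero = zero := fun a => Cfsg.NearField.mul_zero a
    intro a b
    by_cases ha : a = zero
    · rw [ha, hzmul, hz0]
    by_cases hb : b = zero
    · rw [hb, hzmul, hz0]
    obtain ⟨g, hg, hga⟩ := hmulH a ha
    obtain ⟨k, hk, hkb⟩ := hmulH b hb
    have h := congrArg (fun t : G => t • ((1 : β) : α)) (hHcomm g hg k hk)
    simp only [mul_smul, hga, hkb, one_mul] at h
    exact (Subtype.ext h).symm
  have hldist : ∀ a b c : β, a * (b + c) = a * b + a * c := fun a b c => by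
    rw [hcomm, Cfsg.NearField.right_distrib, hcomm b, hcomm c]
  have haddcomm : ∀ a b : β, a + b = b + a := by
    intro a b
    have h1 : (a + b) * (1 + 1) = a + b + (a + b) := by rw [hldist, mul_one]
    have h2 : (a + b) * (1 + 1) = a + a + (b + b) := by rw [Cfsg.NearField.right_distrib, hldist, hldist, mul_one, mul_one]
    have h3 := h1.symm.trans h2
    rw [add_assoc a b (a + b), add_assoc a a (b + b)] at h3
    have h4 := add_left_cancel h3
    rw [← add_assoc b a b, ← add_assoc a b b] at h4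
    exact (add_right_cancel h4).symm
  letI R : CommRing β :=
    { N.toAddGroup, N.toMonoid with
      add_comm := haddcomm
      mul_comm := hcomm
      left_distrib := hldist
      right_distrib := Cfsg.NearField.right_distrib
      zero_mul := hzmul
      mul_zero := Cfsg.NearField.mul_zero }
  letI : Field β := IsField.toField
    { exists_pair_ne := ⟨0, 1, Cfsg.NearField.zero_ne_one⟩
      mul_comm := hcomm
      mul_inv_cancel := fun {a} ha => by
        obtain ⟨u, hu, -⟩ := Cfsg.NearField.exists_inv a ha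
        exact ⟨u, hu⟩ }
  obtain ⟨p, n, hp, hpn⟩ : ∃ p n, Nat.Prime p ∧ Fintype.card β = p ^ n := by
    obtain ⟨p, -, n, hp, hpn⟩ := FiniteField.card' β
    exact ⟨p, n, hp, hpn⟩
  have hn : 1 ≤ n := by
    rcases Nat.eq_zero_or_pos n with h | h
    · rw [h, pow_zero] at hpn; omega
    · exact h
  obtain rfl : p = 2 := by
    by_contra hp2
    obtain ⟨k, hk⟩ := (hp.odd_of_ne_two hp2).pow (n := n)
    obtain ⟨j, hj⟩ := hodd
    omega
  haveI := Fact.mk hp
  let F := GaloisField 2 n
  letI : Fintype F := Fintype.ofFinite F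
  have hFcard : Fintype.card F = 2 ^ n := by
    rw [← Nat.card_eq_fintype_card, GaloisField.card 2 n (by omega)]
  let e : F ≃+* β := FiniteField.ringEquivOfCardEq (by rw [hFcard, hpn])
  refine ⟨n, hn, by rw [← hpn, hβcard], F, inferInstance, inferInstance, hFcard, ?_⟩
  -- affine maps
  have haff : ∀ g : G, g • o = o → ∃ a b : F, a ≠ 0 ∧ ∀ x : F, g • ((e x : β) : α) = ((e (x * a + b) : β) : α) := by
    intro g hg
    obtain ⟨σ, hσ⟩ := hlift g hg
    obtain ⟨a, b, ha, hab⟩ := (hN σ).1 σ.2
    refine ⟨e.symm a, e.symm b, fun h => ha ?_, fun x => ?_⟩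
    · rw [← e.apply_symm_apply a, h, map_zero]
    · rw [← hσ, hab, map_add, map_mul, e.apply_symm_apply, e.apply_symm_apply]
  have haff' : ∀ a b : F, a ≠ 0 → ∃ g : G, g • o = o ∧ ∀ x : F, g • ((e x : β) : α) = ((e (x * a + b) : β) : α) := by
    intro a b ha
    have hea : e a ≠ 0 := fun h => ha (e.injective (h.trans (map_zero e).symm))
    obtain ⟨g, hg, hgx⟩ := (hN ((Equiv.mulRight₀ (e a) hea).trans (Equiv.addRight (e b)))).2
      ⟨e a, e b, hea, fun x => rfl⟩
    exact ⟨g, hg, fun x => by rw [← hgx, map_add, map_mul]; rfl⟩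
  -- the projective line
  let V := Fin 2 → F
  have hinf : (![1, 0] : V) ≠ 0 := fun h => one_ne_zero (congrFun h 0)
  have hpt : ∀ x : F, (![x, 1] : V) ≠ 0 := fun x h => one_ne_zero (congrFun h 1)
  have htoinf : toP F none = Projectivization.mk F ![1, 0] hinf := rfl
  have htobij : Function.Bijective (toP F) := toP_bijective F
  let po : Option F ≃ α :=
    (Equiv.optionCongr e.toEquiv).trans (Equiv.optionSubtypeNe o)
  have hpoinf : po none = o := Equiv.optionSubtypeNe_none o
  have hpo : ∀ x : F, po (some x) = (e x : α) := fun x => Equiv.optionSubtypeNe_some o (e x)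
  let E : ℙ F V ≃ α := (Equiv.ofBijective (toP F) htobij).symm.trans po
  have hEto : ∀ t, E (toP F t) = po t := fun t => by simp [E]
  let ψ : Matrix.SpecialLinearGroup (Fin 2) F →* Equiv.Perm α :=
    E.permCongrHom.toMonoidHom.comp (MulAction.toPermHom _ (ℙ F V))
  have hψ : ∀ g t, ψ g (po t) = E (g • toP F t) := fun g t => by
    rw [← hEto]
    show E (g • E.symm (E (toP F t))) = _
    rw [Equiv.symm_apply_apply]
  have hψmk : ∀ (g : Matrix.SpecialLinearGroup (Fin 2) F) (t : Option F) (v : V) (hv : v ≠ 0) (t' : Option F),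
      toP F t = Projectivization.mk F v hv → (∃ c : F, c • (g : Matrix (Fin 2) (Fin 2) F).mulVec v =
        t'.elim (![1, 0] : V) fun x => ![x, 1]) → ψ g (po t) = po t' := by
    intro g t v hv t' ht ⟨c, hc⟩
    rw [hψ, ← hEto, ht]
    congr 1
    rw [Projectivization.smul_mk]
    symm
    rcases t' with _ | x
    · exact (Projectivization.mk_eq_mk_iff' _ _ _ _ _).2 ⟨c, hc⟩
    · exact (Projectivization.mk_eq_mk_iff' _ _ _ _ _).2 ⟨c, hc⟩
  have hchar : ringChar F = 2 := by
    exact ringChar.eq F 2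
  have hupper : ∀ a b : F, a ≠ 0 → ∃ g, ψ g o = o ∧ ∀ x : F, ψ g ((e x : β) : α) = ((e (x * a + b) : β) : α) := by
    intro a b ha
    obtain ⟨t, rfl⟩ := FiniteField.isSquare_of_char_two hchar a
    have ht : t ≠ 0 := fun h => ha (by rw [h, mul_zero])
    refine ⟨⟨!![t, b * t⁻¹; 0, t⁻¹], by simp [Matrix.det_fin_two, ht]; exact mul_inv_cancel₀ ht⟩, ?_, fun x => ?_⟩
    · rw [← hpoinf]
      exact hψmk _ none _ hinf none rfl ⟨t⁻¹, by funext i; fin_cases i <;> simp [Matrix.mulVec, ht, dotProduct, Fin.sum_univ_two] <;> exact inv_mul_cancel₀ ht⟩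
    · rw [← hpo, ← hpo]
      exact hψmk _ (some x) _ (hpt x) (some _) rfl ⟨t, by
        funext i; fin_cases i <;> simp [Matrix.mulVec, ht, dotProduct, Fin.sum_univ_two] <;> first | linear_combination b * (mul_inv_cancel₀ (a := t) ht) | linear_combination (mul_inv_cancel₀ (a := t) ht) | exact (mul_inv_cancel₀ (a := t) ht)⟩
  have hGstab : ∀ u : G, u • o = o → (u : Equiv.Perm α) ∈ ψ.range := by
    intro u hu
    obtain ⟨a, b, ha, hab⟩ := haff u hu
    obtain ⟨g, hg, hgx⟩ := hupper a b ha
    refine ⟨g, Equiv.ext fun y => ?_⟩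
    obtain ⟨t, rfl⟩ := po.surjective y
    rcases t with _ | x
    · rw [hpoinf, hg]; exact hu.symm
    · rw [hpo, hgx]; exact (hab x).symm
  -- the involution is inversion
  have h2F : ((2 : ℕ) : F) = 0 := CharP.cast_eq_zero F 2
  let w : Matrix.SpecialLinearGroup (Fin 2) F := ⟨!![0, 1; 1, 0], by
    rw [Matrix.det_fin_two]; simp; linear_combination (-1 : F) * (by simpa using h2F : (2 : F) = 0)⟩
  have hw : ψ w = (s : Equiv.Perm α) := by
    refine Equiv.ext fun y => ?_
    obtain ⟨t, rfl⟩ := po.surjective y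
    rcases t with _ | x
    · rw [hψmk w none _ hinf (some 0) rfl ⟨1, by funext i; fin_cases i <;> simp [w, Matrix.mulVec, dotProduct, Fin.sum_univ_two]⟩,
        hpoinf, hpo, map_zero]
      exact hso.symm
    by_cases hx : x = 0
    · subst hx
      rw [hψmk w (some 0) _ (hpt 0) none rfl ⟨1, by funext i; fin_cases i <;> simp [w, Matrix.mulVec, dotProduct, Fin.sum_univ_two]⟩,
        hpoinf, hpo, map_zero]
      exact hsz.symm
    · rw [hψmk w (some x) _ (hpt x) (some x⁻¹) rfl ⟨x⁻¹, by
          funext i; fin_cases i <;> simp [w, Matrix.mulVec, dotProduct, Fin.sum_univ_two, hx] <;> exact inv_mul_cancel₀ hx⟩, hpo, hpo]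
      have hex : e x ≠ zero := fun h => hx (e.injective (h.trans (map_zero e).symm))
      obtain ⟨g, hg, hgx⟩ := hmulH (e x) hex
      have h1 : g • ((1 : β) : α) = (e x : α) := by rw [hgx, one_mul]
      have h2 : s • (e x : α) = g⁻¹ • ((1 : β) : α) := by
        rw [← hsinv g hg, mul_smul, mul_smul, hs1, h1]
      refine (h2.trans ?_).symm
      rw [inv_smul_eq_iff, hgx, ← map_mul, inv_mul_cancel₀ hx, map_one]
  have hψfix : ∀ g, ψ g o = o → ∃ a b : F, a ≠ 0 ∧ ∀ x : F, ψ g ((e x : β) : α) = ((e (x * a + b) : β) : α) := by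
    intro g hg
    set A : Matrix (Fin 2) (Fin 2) F := (g : Matrix (Fin 2) (Fin 2) F) with hA
    have h10 : A 1 0 = 0 := by
      rw [← hpoinf, hψ] at hg
      have h := E.injective (hg.trans (hEto none).symm)
      rw [htoinf, Projectivization.smul_mk] at h
      obtain ⟨c, hc⟩ := (Projectivization.mk_eq_mk_iff' _ _ _ _ _).1 h
      have h1 : c • (![1, 0] : V) = A.mulVec ![1, 0] := hc
      have := congrFun h1 1
      simpa [Matrix.mulVec, dotProduct, Fin.sum_univ_two] using this.symm
    have hdet : A 0 0 * A 1 1 = 1 := by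
      have := g.2
      rw [Matrix.det_fin_two] at this
      simpa [h10, ← hA] using this
    have h00 : A 0 0 ≠ 0 := left_ne_zero_of_mul (hdet ▸ one_ne_zero)
    refine ⟨A 0 0 * A 0 0, A 0 0 * A 0 1, mul_ne_zero h00 h00, fun x => ?_⟩
    rw [← hpo, ← hpo]
    exact hψmk g (some x) _ (hpt x) (some _) rfl ⟨A 0 0, by
      funext i; fin_cases i <;> simp [← hA, Matrix.mulVec, dotProduct, Fin.sum_univ_two, h10, hdet]; ring⟩
  have hrange : ψ.range = G := by
    apply le_antisymm
    · refine eq_of_two_moves o (zero : α) (s : Equiv.Perm α) (hw ▸ ⟨w, rfl⟩) hsz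
        (fun x hx => ?_) s.2 (fun u hu huo => ?_) hso
      · obtain ⟨g, hgo, hgz, -⟩ := hmove o zero (1 : β) o x (hthird o x).choose zero.2.symm (1 : β).2.symm
          hne01 (Ne.symm hx) (hthird o x).choose_spec.1 (hthird o x).choose_spec.2
        exact ⟨g, hGstab g hgo, hgo, hgz⟩
      · obtain ⟨g, rfl⟩ := hu
        obtain ⟨a, b, ha, hab⟩ := hψfix g huo
        obtain ⟨u, hu, hux⟩ := haff' a b ha
        have : ψ g = (u : Equiv.Perm α) := Equiv.ext fun y => by
          obtain ⟨t, rfl⟩ := po.surjective y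
          rcases t with _ | x
          · rw [hpoinf, huo]; exact hu.symm
          · rw [hpo, hab]; exact (hux x).symm
        rw [this]; exact u.2
    · refine eq_of_two_moves o (zero : α) (s : Equiv.Perm α) s.2 hsz (fun x hx => ?_) (hw ▸ ⟨w, rfl⟩)
        (fun u hu huo => hGstab ⟨u, hu⟩ huo) hso
      obtain ⟨g, hgo, hgz, -⟩ := hmove o zero (1 : β) o x (hthird o x).choose zero.2.symm (1 : β).2.symm
        hne01 (Ne.symm hx) (hthird o x).choose_spec.1 (hthird o x).choose_spec.2
      exact ⟨g, g.2, hgo, hgz⟩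
  have hinj : Function.Injective ψ := by
    rw [injective_iff_map_eq_one]
    intro g hg
    have hfixall : ∀ x, ψ g x = x := fun x => by rw [hg]; rfl
    exact proj_faithful g fun v => by
      have h := hfixall (E v)
      change E (g • E.symm (E v)) = E v at h
      rw [Equiv.symm_apply_apply] at h
      exact E.injective h
  exact ⟨((MonoidHom.ofInjective hinj).trans (MulEquiv.subgroupCongr hrange)).symm⟩

end CfsgLib.TripleOdd
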