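/-
Sharply three-transitive groups with commutative near-field coordinates are projective linear groups.
-/
import Cfsg.Prelude.Def_Perm
import Cfsg.Agent.S0266
import Cfsg.Agent.S0682
import Cfsg.Agent.Lib.Perm.SharpThree
import Cfsg.Agent.Lib.Perm.SharplyTwo
import Mathlib

set_option autoImplicit false

namespace CfsgLib.SharpPGL

open MulAction

variable {α : Type*} [Fintype α] [DecidableEq α] {G : Subgroup (Equiv.Perm α)}

omit [DecidableEq α] in
/-- A sharply three-transitive group containing all projectivities of a line is the projective group. -/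
theorem pglIso {F : Type} [Field F] (hsharp : ∀ x : Fin 3 ↪ α, stabilizer G x = ⊥)
    (Φ : Projectivization F (Fin 2 → F) → α) (hΦ : Function.Bijective Φ)
    (hG : ∀ g : Matrix.GeneralLinearGroup (Fin 2) F, ∃ h : G, ∀ (v : Fin 2 → F) (hv : v ≠ 0),
      h • Φ (Projectivization.mk F v hv) = Φ (Matrix.ProjGenLinGroup.mk g • Projectivization.mk F v hv)) :
    Nonempty (G ≃* Matrix.ProjGenLinGroup (Fin 2) F) := by
  classical
  have hG' : ∀ g : Matrix.ProjGenLinGroup (Fin 2) F, ∃ h : G, ∀ p, h • Φ p = Φ (g • p) := fun g => by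
    obtain ⟨g₀, rfl⟩ := Matrix.ProjGenLinGroup.mk_surjective g
    obtain ⟨h, hh⟩ := hG g₀
    exact ⟨h, fun p => by rw [← Projectivization.mk_rep p]; exact hh _ _⟩
  choose φ hφ using hG'
  have huniq : ∀ g (h : G), (∀ p, h • Φ p = Φ (g • p)) → φ g = h := fun g h hh => by
    refine Subtype.ext (Equiv.ext fun x => ?_)
    obtain ⟨p, rfl⟩ := hΦ.2 x
    exact (hφ g p).trans (hh p).symm
  let ψ : Matrix.ProjGenLinGroup (Fin 2) F →* G := MonoidHom.mk' φ fun g g' => huniq _ _ fun p => by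
    rw [mul_smul, hφ, hφ, mul_smul]
  let e₀ : Projectivization F (Fin 2 → F) := Projectivization.mk F ![1, 0] (by simp)
  let e₁ : Projectivization F (Fin 2 → F) := Projectivization.mk F ![0, 1] (by simp)
  let e₂ : Projectivization F (Fin 2 → F) := Projectivization.mk F ![1, 1] (by simp)
  have h01 : e₀ ≠ e₁ := fun e => by
    obtain ⟨t, ht⟩ := (Projectivization.mk_eq_mk_iff' _ _ _ _ _).1 e
    simpa using congrFun ht 0
  have h02 : e₀ ≠ e₂ := fun e => by
    obtain ⟨t, ht⟩ := (Projectivization.mk_eq_mk_iff' _ _ _ _ _).1 e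
    have h0 := congrFun ht 0
    have h1 := congrFun ht 1
    simp at h0 h1
    rw [h1] at h0; exact one_ne_zero h0.symm
  have h12 : e₁ ≠ e₂ := fun e => by
    obtain ⟨t, ht⟩ := (Projectivization.mk_eq_mk_iff' _ _ _ _ _).1 e
    have h0 := congrFun ht 0
    have h1 := congrFun ht 1
    simp at h0 h1
    rw [h0] at h1; exact one_ne_zero h1.symm
  refine ⟨(MulEquiv.ofBijective ψ ⟨(injective_iff_map_eq_one ψ).2 fun g hg => ?_, fun h => ?_⟩).symm⟩
  · have hfix : ∀ p, g • p = p := fun p => hΦ.1 (by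
      rw [← hφ g p, show φ g = 1 from hg, one_smul])
    exact Cfsg.Agent.S0266.std_fixed g (hfix _) (hfix _) (hfix _)
  · obtain ⟨p, hp⟩ := hΦ.2 (h • Φ e₀)
    obtain ⟨q, hq⟩ := hΦ.2 (h • Φ e₁)
    obtain ⟨r, hr⟩ := hΦ.2 (h • Φ e₂)
    have hne : ∀ {x y : Projectivization F (Fin 2 → F)} {x' y'}, Φ x' = h • Φ x → Φ y' = h • Φ y → x ≠ y → x' ≠ y' :=
      fun {x y x' y'} hx hy hxy e => hxy (hΦ.1 (MulAction.injective h (hx.symm.trans (e ▸ hy))))
    obtain ⟨g, g0, g1, g2⟩ := Cfsg.Agent.S0266.exists_std p q r (hne hp hq h01) (hne hp hr h02) (hne hq hr h12) e₀ e₁ e₂ rfl rfl rfl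
    refine ⟨g, inv_mul_eq_one.1 (CfsgLib.SharpThree.eq_one_of_three hsharp (a := Φ e₀) (b := Φ e₁) (c := Φ e₂)
      (hΦ.1.ne h01) (hΦ.1.ne h02) (hΦ.1.ne h12) ?_ ?_ ?_)⟩
    · show ((φ g)⁻¹ * h) • _ = _
      rw [mul_smul, inv_smul_eq_iff, hφ, g0, hp]
    · show ((φ g)⁻¹ * h) • _ = _
      rw [mul_smul, inv_smul_eq_iff, hφ, g1, hq]
    · show ((φ g)⁻¹ * h) • _ = _
      rw [mul_smul, inv_smul_eq_iff, hφ, g2, hr]

/-- A multiplicative involution satisfying the three-cycle identity is inversion. -/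
theorem eq_inv_of_identity {K : Type*} [Field K] (σ : K → K)
    (hσ : ∀ z, z ≠ 0 → σ z ≠ 0 ∧ σ (σ z) = z) (hσ1 : σ 1 = 1)
    (hmul : ∀ u v, u ≠ 0 → v ≠ 0 → σ (u * v) = σ u * σ v) (hfix : ∀ u, u ≠ 0 → σ u = u → u * u = 1)
    (hid : ∀ z, z ≠ 0 → z * (-1) + 1 ≠ 0 → σ (σ (σ (z * (-1) + 1) * (-1) + 1) * (-1) + 1) = z) :
    ∀ z, z ≠ 0 → σ z = z⁻¹ := by
  intro z hz
  by_contra hne
  have hsig : ∀ y : K, y ≠ 0 → y * σ y = 1 ∨ y * σ y = -1 := fun y hy => by
    have h0 := mul_ne_zero hy (hσ y hy).1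
    refine mul_self_eq_one_iff.1 (hfix _ h0 ?_)
    rw [hmul y _ hy (hσ y hy).1, (hσ y hy).2, mul_comm]
  have hz' : z * σ z = -1 := (hsig z hz).resolve_left fun e => hne (eq_inv_of_mul_eq_one_right e)
  have hm1 : (-1 : K) ≠ 1 := fun e => hne (eq_inv_of_mul_eq_one_right (hz'.trans e))
  have key : ∀ w : K, w ≠ 0 → w * σ w = -1 → w * w - w - 1 = 0 := fun w hw hw' => by
    have hw1 : w ≠ 1 := fun e => hm1 (by rw [← hw', e, hσ1, mul_one])
    have hv : 1 - w ≠ 0 := sub_ne_zero.2 (Ne.symm hw1)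
    have h := hid w hw (by rwa [show w * (-1) + 1 = 1 - w by ring])
    rw [show w * (-1) + 1 = 1 - w by ring] at h
    have hσv : σ (1 - w) * (-1) + 1 ≠ 0 := fun e => by
      have e1 : σ (1 - w) = 1 := by linear_combination -e
      apply hw
      have := (hσ _ hv).2
      rw [e1, hσ1] at this
      linear_combination this
    set u := σ (1 - w) * (-1) + 1 with hu
    have h' : σ u * (-1) + 1 = σ w := by
      have hne' : σ u * (-1) + 1 ≠ 0 := fun e => by
        have e1 : σ u = 1 := by linear_combination -e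
        have h2 := (hσ _ hσv).2
        rw [e1, hσ1, hu] at h2
        exact (hσ _ hv).1 (by linear_combination h2)
      have := (hσ _ hne').2
      rw [h] at this
      exact this.symm
    have e1 : σ w * w = -1 := by rw [mul_comm]; exact hw'
    have e2 : σ u * w = w + 1 := by linear_combination (-w) * h' - e1
    rcases hsig u hσv with eu | eu <;> rcases hsig (1 - w) hv with ev | ev
    · -- both signs positive
      exfalso
      have e3 : u * (1 - w) = -w := by rw [hu]; linear_combination -ev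
      have e4 : (w + 1) * (-w) = w * (1 - w) := by linear_combination (w * (1 - w)) * eu - (u * (1 - w)) * e2 - (w + 1) * e3
      exact hw (by
        have h5 : (1 - (-1)) * w = 0 := by linear_combination -e4
        exact (mul_eq_zero.1 h5).resolve_left (sub_ne_zero.2 (Ne.symm hm1)))
    · have e3 : u * (1 - w) = 2 - w := by rw [hu]; linear_combination -ev
      exfalso
      have e4 : (w + 1) * (2 - w) = w * (1 - w) := by linear_combination (w * (1 - w)) * eu - (u * (1 - w)) * e2 - (w + 1) * e3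
      exact sub_ne_zero.2 (Ne.symm hm1) (by linear_combination e4)
    · exfalso
      have e3 : u * (1 - w) = -w := by rw [hu]; linear_combination -ev
      have e4 : (w + 1) * (-w) = -(w * (1 - w)) := by linear_combination (w * (1 - w)) * eu - (u * (1 - w)) * e2 - (w + 1) * e3
      refine hw (eq_zero_of_ne_zero_of_mul_left_eq_zero ?_ (show w * w = 0 from ?_))
      · exact hw
      · have h5 : (1 - (-1)) * (w * w) = 0 := by linear_combination -e4
        exact (mul_eq_zero.1 h5).resolve_left (sub_ne_zero.2 (Ne.symm hm1))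
    · have e3 : u * (1 - w) = 2 - w := by rw [hu]; linear_combination -ev
      have e4 : (w + 1) * (2 - w) = -(w * (1 - w)) := by linear_combination (w * (1 - w)) * eu - (u * (1 - w)) * e2 - (w + 1) * e3
      have h5 : (1 - (-1)) * (w * w - w - 1) = 0 := by linear_combination -e4
      exact (mul_eq_zero.1 h5).resolve_left (sub_ne_zero.2 (Ne.symm hm1))
  have e1 := key z hz hz'
  have hzi : z * z⁻¹ = 1 := mul_inv_cancel₀ hz
  have hsi : σ z * σ z⁻¹ = 1 := by rw [← hmul z _ hz (inv_ne_zero hz), hzi, hσ1]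
  have e2 := key z⁻¹ (inv_ne_zero hz) (by
    linear_combination (z⁻¹ * σ z⁻¹) * hz' - (σ z * σ z⁻¹) * hzi - hsi)
  have h5 : (1 - (-1)) * z = 0 := by
    linear_combination -(z * z) * e2 - e1 + (z * z⁻¹ + 1 - z) * hzi
  exact hz ((mul_eq_zero.1 h5).resolve_left (sub_ne_zero.2 (Ne.symm hm1)))

section

variable (h3 : IsMultiplyPretransitive G α 3) (hsharp : ∀ x : Fin 3 ↪ α, stabilizer G x = ⊥)

include h3 hsharp in
/-- Near-field coordinates off a point. -/
theorem exists_coords (hn : 3 ≤ Fintype.card α) (a : α) :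
    ∃ _ : Cfsg.NearField {x : α // x ≠ a}, ∀ u v : {x : α // x ≠ a}, u ≠ 0 →
      ∃ h : G, h • a = a ∧ ∀ z : {x : α // x ≠ a}, h • (z : α) = ((z * u + v : {x : α // x ≠ a}) : α) := by
  classical
  let φ : stabilizer G a →* Equiv.Perm {x : α // x ≠ a} := MonoidHom.mk'
    (fun g => ((g : G) : Equiv.Perm α).subtypePerm (fun x => by
      have hg : ((g : G) : Equiv.Perm α) a = a := g.2
      constructor
      · exact fun h e => h (by rw [e, hg])
      · exact fun h e => h (((g : G) : Equiv.Perm α).injective (e.trans hg.symm))))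
    (fun g g' => Equiv.ext fun x => Subtype.ext rfl)
  have hval : ∀ (g : stabilizer G a) (x : {x : α // x ≠ a}), ((φ g x : {x : α // x ≠ a}) : α) = (g : G) • (x : α) :=
    fun g x => rfl
  haveI h2 : IsMultiplyPretransitive φ.range {x : α // x ≠ a} 2 := by
    rw [is_two_pretransitive_iff]
    rintro ⟨x, hx⟩ ⟨y, hy⟩ ⟨z, hz⟩ ⟨w, hw⟩ hxy hzw
    obtain ⟨g, hga, hgx, hgy⟩ := CfsgLib.SharpThree.exists_move h3 (Ne.symm hx) (Ne.symm hy) (fun e => hxy (Subtype.ext e))
      (Ne.symm hz) (Ne.symm hw) (fun e => hzw (Subtype.ext e))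
    exact ⟨⟨φ ⟨g, hga⟩, ⟨g, hga⟩, rfl⟩, Subtype.ext ((hval _ _).trans hgx), Subtype.ext ((hval _ _).trans hgy)⟩
  have hsh : ∀ x : Fin 2 ↪ {x : α // x ≠ a}, stabilizer φ.range x = ⊥ := fun x => by
    rw [Subgroup.eq_bot_iff_forall]
    rintro ⟨_, g, rfl⟩ hg
    rw [mem_stabilizer_iff] at hg
    have e : ∀ i, (g : G) • ((x i : {x : α // x ≠ a}) : α) = x i := fun i =>
      (hval g (x i)).symm.trans (congrArg Subtype.val (DFunLike.congr_fun hg i))
    have h1 : (g : G) = 1 := CfsgLib.SharpThree.eq_one_of_three hsharp (a := a) (x 0).2.symm (x 1).2.symm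
      (fun e => by exact absurd (x.injective (Subtype.ext e)) (by decide)) g.2 (e 0) (e 1)
    apply Subtype.ext
    show φ g = 1
    rw [show g = 1 from Subtype.ext h1, map_one]
  obtain ⟨nf, hnf⟩ := CfsgLib.SharplyTwo.exists_nearField φ.range hsh
    (by rw [Fintype.card_subtype_compl, Fintype.card_subtype_eq]; omega)
  letI := nf
  refine ⟨nf, fun u v hu => ?_⟩
  have hinj : Function.Injective fun z : {x : α // x ≠ a} => z * u + v := fun z z' e => by
    obtain ⟨w, hw, -⟩ := Cfsg.NearField.exists_inv u hu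
    simpa [mul_assoc, hw] using congrArg (· * w) (add_right_cancel e)
  obtain ⟨g, hg⟩ := (hnf (Equiv.ofBijective _ (Finite.injective_iff_bijective.1 hinj))).2 ⟨u, v, hu, fun _ => rfl⟩
  exact ⟨g, g.2, fun z => (hval g z).symm.trans (congrArg Subtype.val (by rw [hg]; rfl))⟩

variable {a : α} [Cfsg.NearField {x : α // x ≠ a}]
  (haff : ∀ u v : {x : α // x ≠ a}, u ≠ 0 →
    ∃ h : G, h • a = a ∧ ∀ z : {x : α // x ≠ a}, h • (z : α) = ((z * u + v : {x : α // x ≠ a}) : α))

omit [Fintype α] [DecidableEq α] in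
theorem zero_mul' (x : {x : α // x ≠ a}) : (0 : {x : α // x ≠ a}) * x = 0 := by
  have h := Cfsg.NearField.right_distrib (0 : {x : α // x ≠ a}) 0 x
  rw [add_zero] at h
  exact add_eq_left.1 h.symm

omit [Fintype α] [DecidableEq α] in
theorem mul_ne_zero' {x y : {x : α // x ≠ a}} (hx : x ≠ 0) (hy : y ≠ 0) : x * y ≠ 0 := fun e => by
  obtain ⟨w, hw, -⟩ := Cfsg.NearField.exists_inv y hy
  have := congrArg (· * w) e
  simp only [mul_assoc, hw, mul_one, zero_mul'] at this
  exact hx this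

include h3 hsharp haff in
/-- The element exchanging `a` and `0` and fixing `1`. -/
theorem exists_swap_aut : ∃ (s : G) (σ : {x : α // x ≠ a} → {x : α // x ≠ a}),
    s • a = ((0 : {x : α // x ≠ a}) : α) ∧ s • ((0 : {x : α // x ≠ a}) : α) = a ∧
    (∀ z : {x : α // x ≠ a}, z ≠ 0 → s • (z : α) = σ z ∧ σ z ≠ 0 ∧ σ (σ z) = z) ∧ σ 1 = 1 ∧
    (∀ u v : {x : α // x ≠ a}, u ≠ 0 → v ≠ 0 → σ (u * v) = σ u * σ v) ∧
    (∀ u : {x : α // x ≠ a}, u ≠ 0 → σ u = u → u * u = 1) ∧
    ∀ z : {x : α // x ≠ a}, z ≠ 0 → z * (-1) + 1 ≠ 0 →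
      σ (σ (σ (z * (-1) + 1) * (-1) + 1) * (-1) + 1) = z := by
  classical
  set b : α := ((0 : {x : α // x ≠ a}) : α) with hb
  set c : α := ((1 : {x : α // x ≠ a}) : α) with hc
  have hab : a ≠ b := (0 : {x : α // x ≠ a}).2.symm
  have hac : a ≠ c := (1 : {x : α // x ≠ a}).2.symm
  have hbc : b ≠ c := fun e => Cfsg.NearField.zero_ne_one (Subtype.ext e)
  obtain ⟨s, hsa, hsb, hsc⟩ := CfsgLib.SharpThree.exists_move h3 hab hac hbc hab.symm hbc hac
  have hss : ∀ x : α, s • s • x = x := fun x => by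
    rw [← mul_smul, CfsgLib.SharpThree.eq_one_of_three hsharp (g := s * s) hab hac hbc
      (by rw [mul_smul, hsa, hsb]) (by rw [mul_smul, hsb, hsa]) (by rw [mul_smul, hsc, hsc]), one_smul]
  have hne : ∀ z : {x : α // x ≠ a}, z ≠ 0 → s • (z : α) ≠ a := fun z hz e => hz (Subtype.ext (by
    rw [← hss (z : α), e, hsa]))
  let σ : {x : α // x ≠ a} → {x : α // x ≠ a} := fun z => if hz : z = 0 then 0 else ⟨s • (z : α), hne z hz⟩
  have hσ : ∀ z : {x : α // x ≠ a}, z ≠ 0 → s • (z : α) = σ z := fun z hz => by simp [σ, hz]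
  have hσ0 : ∀ z : {x : α // x ≠ a}, z ≠ 0 → σ z ≠ 0 := fun z hz e => by
    have h := hσ z hz
    rw [e] at h
    exact z.2 (by rw [← hss (z : α), h, hsb])
  have hσσ : ∀ z : {x : α // x ≠ a}, z ≠ 0 → σ (σ z) = z := fun z hz => Subtype.ext (by
    rw [← hσ _ (hσ0 z hz), ← hσ z hz, hss])
  have h1 : (1 : {x : α // x ≠ a}) ≠ 0 := Ne.symm Cfsg.NearField.zero_ne_one
  have hσ1 : σ 1 = 1 := Subtype.ext (by rw [← hσ 1 h1]; exact hsc)
  -- multiplications conjugate to multiplications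
  have hD : ∀ u : {x : α // x ≠ a}, u ≠ 0 → ∃ h : G, h • a = a ∧ h • b = b ∧
      ∀ z : {x : α // x ≠ a}, h • (z : α) = ((z * u : {x : α // x ≠ a}) : α) := fun u hu => by
    obtain ⟨h, h1, h2⟩ := haff u 0 hu
    simp only [add_zero] at h2
    exact ⟨h, h1, by rw [hb, h2, zero_mul'], h2⟩
  have hmul : ∀ u v : {x : α // x ≠ a}, u ≠ 0 → v ≠ 0 → σ (u * v) = σ u * σ v := fun u v hu hv => by
    obtain ⟨g, hga, hgb, hg⟩ := hD v hv
    obtain ⟨k, hka, hkb, hk⟩ := hD (σ v) (hσ0 v hv)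
    have hsgs : s * g * s = k := inv_mul_eq_one.1 (CfsgLib.SharpThree.eq_one_of_three hsharp (g := (s * g * s)⁻¹ * k) hab hac hbc
      (by rw [mul_smul, hka, inv_smul_eq_iff, mul_smul, mul_smul, hsa, hgb, hsb])
      (by rw [mul_smul, hkb, inv_smul_eq_iff, mul_smul, mul_smul, hsb, hga, hsa])
      (by rw [mul_smul, hc, hk, one_mul, inv_smul_eq_iff, mul_smul, mul_smul, ← hc, hsc, hc, hg, one_mul, hσ v hv]))
    apply Subtype.ext
    rw [← hk, ← hsgs, mul_smul, mul_smul, ← hσ u hu, hss, hg, hσ _ (mul_ne_zero' hu hv)]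
  have hfix : ∀ u : {x : α // x ≠ a}, u ≠ 0 → σ u = u → u * u = 1 := fun u hu hu' => by
    by_cases hu1 : u = 1
    · rw [hu1, one_mul]
    have h2 : σ (u * u) = u * u := by rw [hmul u u hu hu, hu']
    by_contra hne1
    have hd : u * u ≠ u := fun e => by
      obtain ⟨w, hw, -⟩ := Cfsg.NearField.exists_inv u hu
      have := congrArg (· * w) e
      simp only [mul_assoc, hw, mul_one] at this
      exact hu1 this
    have hs1 : s = 1 := CfsgLib.SharpThree.eq_one_of_three hsharp (a := c) (b := (u : α)) (c := ((u * u : {x : α // x ≠ a}) : α))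
      (fun e => hu1 (Subtype.ext e.symm)) (fun e => hne1 (Subtype.ext e.symm)) (fun e => hd (Subtype.ext e.symm))
      hsc (by rw [hσ u hu, hu']) (by rw [hσ _ (mul_ne_zero' hu hu), h2])
    exact hab (by rw [← hsa, hs1, one_smul])
  refine ⟨s, σ, hsa, hsb, fun z hz => ⟨hσ z hz, hσ0 z hz, hσσ z hz⟩, hσ1, hmul, hfix, fun z hz hz1 => ?_⟩
  -- the element permuting the three base points cyclically
  have hm0 : (-1 : {x : α // x ≠ a}) ≠ 0 := fun e => h1 (neg_eq_zero.1 e)
  obtain ⟨t, hta, ht⟩ := haff (-1) 1 hm0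
  have ht0 : t • b = c := by rw [hb, ht, zero_mul', zero_add]
  have ht1 : t • c = b := by rw [hc, ht, one_mul, neg_add_cancel]
  have hg : (s * t) * (s * t) * (s * t) = 1 := CfsgLib.SharpThree.eq_one_of_three hsharp hab hac hbc
    (by simp only [mul_smul, hta, hsa, ht0, hsc, ht1, hsb])
    (by simp only [mul_smul, hta, hsa, ht0, hsc, ht1, hsb])
    (by simp only [mul_smul, hta, hsa, ht0, hsc, ht1, hsb])
  have h := congrArg (fun g : G => g • (z : α)) hg
  simp only [mul_smul, one_smul] at h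
  set w := z * (-1) + 1 with hw
  have hσw1 : σ w * (-1) + 1 ≠ 0 := fun e => by
    apply hz
    have h4 : σ w = 1 := by
      have h5 := ht (σ w)
      rw [e, ← hb, ← ht1] at h5
      exact Subtype.ext (MulAction.injective t h5)
    have h6 : w = 1 := by rw [← hσσ w hz1, h4, hσ1]
    rw [hw, add_eq_right] at h6
    by_contra hz'
    exact mul_ne_zero' hz' hm0 h6
  set w' := σ w * (-1) + 1 with hw'
  have hw'1 : σ w' * (-1) + 1 ≠ 0 := fun e => by
    have h4 : σ w' = 1 := by
      have h5 := ht (σ w')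
      rw [e, ← hb, ← ht1] at h5
      exact Subtype.ext (MulAction.injective t h5)
    have h6 : w' = 1 := by rw [← hσσ w' hσw1, h4, hσ1]
    rw [hw', add_eq_right] at h6
    exact mul_ne_zero' (hσ0 w hz1) hm0 h6
  rw [ht, ← hw, hσ w hz1, ht, ← hw', hσ w' hσw1, ht, hσ _ hw'1] at h
  exact Subtype.ext h

include h3 hsharp haff in
/-- Commutative coordinates give the projective linear group. -/
theorem iso_of_comm (hcomm : ∀ u v : {x : α // x ≠ a}, u * v = v * u) :
    ∃ (F : Type) (_ : Field F) (_ : Fintype F), Fintype.card F + 1 = Fintype.card α ∧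
      Nonempty (G ≃* Matrix.ProjGenLinGroup (Fin 2) F) := by
  classical
  obtain ⟨s, σ, hsa, hsb, hσ, hσ1, hmul, hfix, hid⟩ := exists_swap_aut h3 hsharp haff
  obtain ⟨p, j, hp, hj, hcard, haddc, -⟩ := Cfsg.Agent.S0682.result (F := {x : α // x ≠ a})
  have hldist : ∀ x y z : {x : α // x ≠ a}, x * (y + z) = x * y + x * z := fun x y z => by
    rw [hcomm, Cfsg.NearField.right_distrib, hcomm y, hcomm z]
  letI crK : CommRing {x : α // x ≠ a} :=
    CommRing.ofMinimalAxioms add_assoc zero_add neg_add_cancel mul_assoc hcomm one_mul hldist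
  have hfield : IsField {x : α // x ≠ a} :=
    ⟨⟨0, 1, Cfsg.NearField.zero_ne_one⟩, mul_comm, fun {x} hx => let ⟨w, hw, _⟩ := Cfsg.NearField.exists_inv x hx; ⟨w, hw⟩⟩
  letI fK : Field {x : α // x ≠ a} := hfield.toField
  -- the swap is inversion
  have hinv : ∀ z : {x : α // x ≠ a}, z ≠ 0 → σ z = z⁻¹ :=
    eq_inv_of_identity σ (fun z hz => (hσ z hz).2) hσ1 hmul hfix hid
  haveI : Fact p.Prime := ⟨hp⟩
  letI : Fintype (GaloisField p j) := Fintype.ofFinite _
  have hFc : Fintype.card (GaloisField p j) = p ^ j := by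
    rw [← Nat.card_eq_fintype_card, GaloisField.card p j (by omega)]
  have hKc : Fintype.card {x : α // x ≠ a} = p ^ j := by rw [← Nat.card_eq_fintype_card, hcard]
  let e : GaloisField p j ≃+* {x : α // x ≠ a} := FiniteField.ringEquivOfCardEq (hFc.trans hKc.symm)
  let ι : GaloisField p j → α := fun z => ((e z : {x : α // x ≠ a}) : α)
  refine ⟨GaloisField p j, inferInstance, inferInstance, ?_, ?_⟩
  · rw [hFc, ← hKc, Fintype.card_subtype_compl, Fintype.card_subtype_eq]
    have := Fintype.card_pos_iff.2 ⟨a⟩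
    omega
  have haff' : ∀ u v : GaloisField p j, u ≠ 0 → ∃ h : G, h • a = a ∧ ∀ z, h • ι z = ι (z * u + v) := fun u v hu => by
    obtain ⟨h, h1, h2⟩ := haff (e u) (e v) ((map_ne_zero_iff e e.injective).2 hu)
    refine ⟨h, h1, fun z => ?_⟩
    show h • ((e z : {x : α // x ≠ a}) : α) = ((e (z * u + v) : {x : α // x ≠ a}) : α)
    rw [h2, map_add, map_mul]
  have hs' : ∀ z, z ≠ 0 → s • ι z = ι z⁻¹ := fun z hz => by
    have hz' : e z ≠ 0 := (map_ne_zero_iff e e.injective).2 hz
    show s • ((e z : {x : α // x ≠ a}) : α) = ((e z⁻¹ : {x : α // x ≠ a}) : α)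
    rw [(hσ _ hz').1, hinv _ hz', map_inv₀]
  have hsa' : s • a = ι 0 := by
    show s • a = ((e 0 : {x : α // x ≠ a}) : α)
    rw [map_zero]; exact hsa
  have hsb' : s • ι 0 = a := by
    show s • ((e 0 : {x : α // x ≠ a}) : α) = a
    rw [map_zero]; exact hsb
  have hιa : ∀ z, ι z ≠ a := fun z => (e z).2
  have hιi : Function.Injective ι := fun y z h => e.injective (Subtype.ext h)
  -- coordinates on the line
  let co : (Fin 2 → GaloisField p j) → α := fun v => if v 1 = 0 then a else ι (v 0 / v 1)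
  let Φ : Projectivization (GaloisField p j) (Fin 2 → GaloisField p j) → α :=
    Projectivization.lift (fun v => co v.1) fun v w t h => by
      have ht : t ≠ 0 := fun e => v.2 (by rw [h, e, zero_smul])
      show co v.1 = co w.1
      simp only [co, h, Pi.smul_apply, smul_eq_mul, mul_eq_zero, ht, false_or]
      split_ifs with h1
      · rfl
      · rw [mul_div_mul_left _ _ ht]
  have hΦmk : ∀ v (hv : v ≠ 0), Φ (Projectivization.mk _ v hv) = co v := fun v hv => rfl
  have hΦ : Function.Bijective Φ := by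
    constructor
    · intro x y
      induction x using Projectivization.ind with | h v hv => ?_
      induction y using Projectivization.ind with | h w hw => ?_
      rw [hΦmk, hΦmk]
      intro h
      rw [Projectivization.mk_eq_mk_iff']
      simp only [co] at h
      split_ifs at h with h1 h2 h2
      · have hv0 : v 0 ≠ 0 := fun e => hv (funext fun i => by fin_cases i <;> simp [e, h1])
        have hw0 : w 0 ≠ 0 := fun e => hw (funext fun i => by fin_cases i <;> simp [e, h2])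
        exact ⟨v 0 / w 0, funext fun i => by fin_cases i <;> simp [h1, h2, div_mul_cancel₀ _ hw0]⟩
      · exact absurd h.symm (hιa _)
      · exact absurd h (hιa _)
      · have h3' := hιi h
        exact ⟨v 1 / w 1, funext fun i => by fin_cases i <;> simp <;> field_simp at h3' ⊢ <;> linear_combination -h3'⟩
    · intro x
      by_cases hx : x = a
      · exact ⟨Projectivization.mk _ ![1, 0] (by simp), by rw [hΦmk]; simp [co, hx]⟩
      · exact ⟨Projectivization.mk _ ![e.symm ⟨x, hx⟩, 1] (by simp), by rw [hΦmk]; simp [co, ι]⟩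
  refine pglIso hsharp Φ hΦ fun g => ?_
  set M : Matrix (Fin 2) (Fin 2) (GaloisField p j) := g.1 with hM
  have hdet : M 0 0 * M 1 1 - M 0 1 * M 1 0 ≠ 0 := by
    rw [← Matrix.det_fin_two]; exact g.det_ne_zero
  suffices h : ∃ h : G, ∀ v : Fin 2 → GaloisField p j, v ≠ 0 → h • co v = co (M.mulVec v) by
    obtain ⟨h, hh⟩ := h
    exact ⟨h, fun v hv => by rw [hΦmk, Projectivization.PGL.mk_smul_mk, hΦmk]; exact hh v hv⟩
  have hMv : ∀ v : Fin 2 → GaloisField p j, M.mulVec v = ![M 0 0 * v 0 + M 0 1 * v 1, M 1 0 * v 0 + M 1 1 * v 1] :=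
    fun v => by ext i; fin_cases i <;> simp [Matrix.mulVec, dotProduct, Fin.sum_univ_two]
  have hinf : ∀ w : Fin 2 → GaloisField p j, w 1 = 0 → co w = a := fun w h => if_pos h
  have hfin : ∀ w : Fin 2 → GaloisField p j, w 1 ≠ 0 → co w = ι (w 0 / w 1) := fun w h => if_neg h
  by_cases hc : M 1 0 = 0
  · have hd : M 1 1 ≠ 0 := fun e => hdet (by rw [e, hc]; ring)
    have ha : M 0 0 ≠ 0 := fun e => hdet (by rw [e, hc]; ring)
    obtain ⟨h, h1, h2⟩ := haff' (M 0 0 / M 1 1) (M 0 1 / M 1 1) (div_ne_zero ha hd)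
    refine ⟨h, fun v hv => ?_⟩
    rw [hMv]
    by_cases hv1 : v 1 = 0
    · rw [hinf v hv1, h1]
      exact (hinf ![_, _] (show M 1 0 * v 0 + M 1 1 * v 1 = 0 by rw [hc, hv1]; ring)).symm
    · have hden : M 1 0 * v 0 + M 1 1 * v 1 ≠ 0 := by simp [hc, hd, hv1]
      rw [hfin v hv1, h2, hfin ![_, _] hden]
      congr 1
      show _ = (M 0 0 * v 0 + M 0 1 * v 1) / (M 1 0 * v 0 + M 1 1 * v 1)
      rw [hc]; field_simp; ring
  · obtain ⟨h₁, h1a, h1z⟩ := haff' 1 (M 1 1 / M 1 0) one_ne_zero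
    obtain ⟨h₂, h2a, h2z⟩ := haff' ((M 0 1 * M 1 0 - M 0 0 * M 1 1) / (M 1 0 * M 1 0)) (M 0 0 / M 1 0)
      (div_ne_zero (fun e => hdet (by linear_combination -e)) (mul_ne_zero hc hc))
    refine ⟨h₂ * (s * h₁), fun v hv => ?_⟩
    rw [hMv, mul_smul, mul_smul]
    by_cases hv1 : v 1 = 0
    · have hv0 : v 0 ≠ 0 := fun e => hv (funext fun i => by fin_cases i <;> simp [e, hv1])
      have hden : M 1 0 * v 0 + M 1 1 * v 1 ≠ 0 := by simp [hv1, hc, hv0]
      rw [hinf v hv1, h1a, hsa', h2z, hfin ![_, _] hden, zero_mul, zero_add]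
      congr 1
      show M 0 0 / M 1 0 = (M 0 0 * v 0 + M 0 1 * v 1) / (M 1 0 * v 0 + M 1 1 * v 1)
      rw [hv1]; field_simp; ring
    · rw [hfin v hv1, h1z, mul_one]
      by_cases hz : M 1 0 * v 0 + M 1 1 * v 1 = 0
      · have h0 : v 0 / v 1 + M 1 1 / M 1 0 = 0 := by field_simp; linear_combination hz
        rw [h0, hsb', h2a]
        exact (hinf ![_, _] hz).symm
      · have h0 : v 0 / v 1 + M 1 1 / M 1 0 ≠ 0 := fun e => hz (by field_simp at e; linear_combination e)
        rw [hs' _ h0, h2z, hfin ![_, _] hz]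
        congr 1
        show _ = (M 0 0 * v 0 + M 0 1 * v 1) / (M 1 0 * v 0 + M 1 1 * v 1)
        have h6 : v 0 * M 1 0 + v 1 * M 1 1 ≠ 0 := fun e => hz (by linear_combination e)
        field_simp
        ring

end

end CfsgLib.SharpPGL
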