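/-
A simple group with an icosahedral subgroup of index eleven is 2-transitive on its cosets.
-/
import Mathlib

set_option linter.style.haveILetI false

namespace CfsgLib.ElevenPoints

open MulAction

theorem two_transitive {G : Type*} [Group G] [Finite G] [IsSimpleGroup G] (H : Subgroup G)
    (hidx : H.index = 11) (e : H ≃* alternatingGroup (Fin 5)) :
    IsMultiplyPretransitive G (G ⧸ H) 2 := by
  classical
  haveI : IsSimpleGroup (alternatingGroup (Fin 5)) := alternatingGroup.isSimpleGroup_five
  haveI : IsSimpleGroup H := e.isSimpleGroup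
  haveI := Fintype.ofFinite (G ⧸ H)
  have hH : Nat.card H = 60 := by
    rw [Nat.card_congr e.toEquiv, nat_card_alternatingGroup, Nat.card_eq_fintype_card, Fintype.card_fin]
    rfl
  set p₀ : G ⧸ H := ((1 : G) : G ⧸ H) with hp₀
  have hfix : ∀ h ∈ H, h • p₀ = p₀ := by
    intro h hh
    show ((h * 1 : G) : G ⧸ H) = _
    rw [mul_one, QuotientGroup.eq]
    simpa using hh
  -- small orbits are fixed points, and the only fixed point is the base
  have horb : ∀ z : G ⧸ H, z ≠ p₀ → 5 ≤ (orbit H z).ncard := by
    intro z hz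
    by_contra hcon
    let f : H →* Equiv.Perm (orbit H z) := toPermHom H (orbit H z)
    have hker : f.ker = ⊤ := by
      refine (Subgroup.Normal.eq_bot_or_eq_top (inferInstance : f.ker.Normal)).resolve_left fun hb => ?_
      have hinj : Function.Injective f := (MonoidHom.ker_eq_bot_iff f).mp hb
      have h1 := Nat.card_le_card_of_injective f hinj
      rw [Nat.card_perm, hH, Nat.card_coe_set_eq] at h1
      have h2 : (orbit H z).ncard.factorial ≤ Nat.factorial 4 := Nat.factorial_le (by omega)
      have : Nat.factorial 4 = 24 := rfl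
      omega
    have hfz : ∀ h ∈ H, h • z = z := by
      intro h hh
      have h1 : f ⟨h, hh⟩ = 1 := MonoidHom.mem_ker.mp (hker ▸ Subgroup.mem_top _)
      have h2 := congrArg (fun σ : Equiv.Perm (orbit H z) => (σ ⟨z, mem_orbit_self z⟩ : G ⧸ H)) h1
      exact h2
    obtain ⟨g, rfl⟩ := QuotientGroup.mk_surjective z
    have hgH : g ∉ H := fun hg => hz (by
      rw [hp₀, QuotientGroup.eq, mul_one]; exact inv_mem hg)
    have hnorm : g ∈ Subgroup.normalizer (H : Set G) := by
      have hconj : ∀ h ∈ H, g⁻¹ * h * g ∈ H := by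
        intro h hh
        have := hfz h hh
        rw [MulAction.Quotient.smul_coe, QuotientGroup.eq, smul_eq_mul] at this
        have := inv_mem this
        simpa [mul_assoc] using this
      have hle : H.map (MulAut.conj g⁻¹).toMonoidHom ≤ H := by
        rintro _ ⟨h, hh, rfl⟩
        simpa [MulAut.conj_apply] using hconj h hh
      have heq : H.map (MulAut.conj g⁻¹).toMonoidHom = H :=
        Subgroup.eq_of_le_of_card_ge hle (le_of_eq (Nat.card_congr
          (H.equivMapOfInjective _ (MulAut.conj g⁻¹).injective).toEquiv))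
      rw [Subgroup.mem_normalizer_iff]
      intro h
      constructor
      · intro hh
        rw [← heq] at hh
        obtain ⟨k, hk, rfl⟩ := hh
        simpa [MulAut.conj_apply, mul_assoc] using hk
      · intro hh
        have := hconj _ hh
        simpa [mul_assoc] using this
    have hNtop : Subgroup.normalizer (H : Set G) = ⊤ := by
      rw [← Subgroup.index_eq_one]
      have hd := Subgroup.index_dvd_of_le (H.le_normalizer)
      rw [hidx] at hd
      rcases (Nat.dvd_prime (by norm_num)).mp hd with h | h
      · exact h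
      · exfalso
        have hrel := Subgroup.relIndex_mul_index (H.le_normalizer)
        rw [hidx, h] at hrel
        have h1 : H.relIndex (Subgroup.normalizer (H : Set G)) = 1 := by omega
        exact hgH (Subgroup.relIndex_eq_one.mp h1 hnorm)
    haveI : H.Normal := Subgroup.normalizer_eq_top_iff.mp hNtop
    rcases Subgroup.Normal.eq_bot_or_eq_top (inferInstance : H.Normal) with h | h
    · rw [h, Subgroup.card_bot] at hH; omega
    · exact hgH (h ▸ Subgroup.mem_top g)
  have hcard : Fintype.card (G ⧸ H) = 11 := by rw [← Nat.card_eq_fintype_card]; exact hidx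
  -- some orbit away from the base is everything else
  have hbig : ∀ z : G ⧸ H, z ≠ p₀ → orbit H z = {p₀}ᶜ := by
    intro z₀ hz₀
    have hsub : ∀ z : G ⧸ H, z ≠ p₀ → orbit H z ⊆ {p₀}ᶜ := by
      rintro z hz w ⟨h, rfl⟩ hw
      rw [Set.mem_singleton_iff] at hw
      apply hz
      have := congrArg (fun y => (h⁻¹ : H) • y) hw
      simp only [inv_smul_smul] at this
      rw [this]
      exact hfix _ (h⁻¹ : H).2
    have hc10 : ({p₀}ᶜ : Set (G ⧸ H)).ncard = 10 := by
      rw [Set.ncard_compl, Set.ncard_singleton, Nat.card_eq_fintype_card, hcard]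
    by_contra hne
    have hlt : (orbit H z₀).ncard < 10 :=
      hc10 ▸ Set.ncard_lt_ncard (lt_of_le_of_ne (hsub z₀ hz₀) hne) (Set.toFinite _)
    -- then every orbit away from the base has five points
    have hfive : ∀ z, z ≠ p₀ → (orbit H z).ncard = 5 := by
      obtain ⟨w, hw, hw'⟩ : ∃ w ∈ ({p₀}ᶜ : Set (G ⧸ H)), w ∉ orbit H z₀ :=
        Set.exists_of_ssubset (lt_of_le_of_ne (hsub z₀ hz₀) hne)
      have hdis : Disjoint (orbit H z₀) (orbit H w) := by
        rw [Set.disjoint_left]
        intro y hy hy'
        exact hw' (orbit_eq_iff.mp ((orbit_eq_iff.mpr hy').symm.trans (orbit_eq_iff.mpr hy)))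
      have hu : (orbit H z₀ ∪ orbit H w).ncard ≤ 10 :=
        hc10 ▸ Set.ncard_le_ncard (Set.union_subset (hsub z₀ hz₀) (hsub w hw)) (Set.toFinite _)
      rw [Set.ncard_union_eq hdis (Set.toFinite _) (Set.toFinite _)] at hu
      have h5 := horb z₀ hz₀
      have h5' := horb w hw
      intro z hz
      have huniv : orbit H z₀ ∪ orbit H w = {p₀}ᶜ := by
        refine Set.eq_of_subset_of_ncard_le (Set.union_subset (hsub z₀ hz₀) (hsub w hw)) ?_ (Set.toFinite _)
        rw [hc10, Set.ncard_union_eq hdis (Set.toFinite _) (Set.toFinite _)]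
        omega
      have hzm : z ∈ orbit H z₀ ∪ orbit H w := huniv ▸ hz
      rcases hzm with h | h <;> rw [orbit_eq_iff.mpr h] <;> omega
    -- an involution gives a self-paired orbital of odd valency
    haveI : Fact (Nat.Prime 2) := ⟨Nat.prime_two⟩
    obtain ⟨t, ht⟩ := exists_prime_orderOf_dvd_card' (G := G) 2 (by
      rw [← H.card_mul_index, hH, hidx]; norm_num)
    have ht1 : t * t = 1 := by rw [← sq, ← ht]; exact pow_orderOf_eq_one t
    obtain ⟨x, hx⟩ : ∃ x : G ⧸ H, t • x ≠ x := by
      by_contra hall
      push Not at hall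
      have hmem : t ∈ H.normalCore := by
        rw [Subgroup.normalCore_eq_ker, MonoidHom.mem_ker]
        exact Equiv.ext hall
      rcases Subgroup.Normal.eq_bot_or_eq_top (Subgroup.normalCore_normal H) with h | h
      · rw [h, Subgroup.mem_bot] at hmem
        rw [hmem, orderOf_one] at ht
        omega
      · have : H = ⊤ := top_le_iff.mp (h ▸ Subgroup.normalCore_le H)
        rw [this, Subgroup.index_top] at hidx
        omega
    let R : Set ((G ⧸ H) × (G ⧸ H)) := orbit G (x, t • x)
    have hswap : ∀ p ∈ R, (p.2, p.1) ∈ R := by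
      rintro _ ⟨g, rfl⟩
      refine ⟨g * t, ?_⟩
      show ((g * t) • x, (g * t) • t • x) = (g • t • x, g • x)
      rw [mul_smul, mul_smul, smul_smul t t, ht1, one_smul]
    have hoff : ∀ p ∈ R, p.1 ≠ p.2 := by
      rintro _ ⟨g, rfl⟩ h
      exact hx ((smul_left_cancel g h).symm)
    have hR : R.ncard = 55 := by
      obtain ⟨g, hg⟩ := exists_smul_eq G x p₀
      have hgx : g • t • x ≠ p₀ := fun h => hx (smul_left_cancel g (h.trans hg.symm))
      have hRy : R = orbit G (p₀, g • t • x) := by
        have : (p₀, g • t • x) = g • (x, t • x) := Prod.ext hg.symm rfl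
        rw [this, orbit_smul]
      have hfib : ∀ a : G ⧸ H, Nat.card {b // (a, b) ∈ R} = 5 := by
        intro a
        obtain ⟨k, hk⟩ := exists_smul_eq G p₀ a
        rw [← hfive _ hgx, ← Nat.card_coe_set_eq]
        refine (Nat.card_congr ?_).symm
        refine Equiv.subtypeEquiv (MulAction.toPerm k) fun b => ?_
        show b ∈ orbit H (g • t • x) ↔ (a, k • b) ∈ R
        rw [hRy]
        constructor
        · rintro ⟨h, rfl⟩
          exact ⟨k * h, Prod.ext (by show (k * (h : G)) • p₀ = a; rw [mul_smul, hfix _ h.2, hk])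
            (mul_smul k (h : G) _)⟩
        · rintro ⟨m, hm⟩
          have hm1 : m • p₀ = a := congrArg Prod.fst hm
          have hm2 : m • g • t • x = k • b := congrArg Prod.snd hm
          have hmem : k⁻¹ * m ∈ H := by
            have : (k⁻¹ * m) • p₀ = p₀ := by rw [mul_smul, hm1, inv_smul_eq_iff, hk]
            rw [hp₀, MulAction.Quotient.smul_coe, QuotientGroup.eq, smul_eq_mul, mul_one] at this
            exact inv_mem_iff.mp (by simpa using this)
          refine ⟨⟨_, hmem⟩, ?_⟩
          show (k⁻¹ * m) • g • t • x = b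
          rw [mul_smul, hm2, inv_smul_smul]
      rw [← Nat.card_coe_set_eq, Nat.card_congr (show R ≃ Σ a : G ⧸ H, {b // (a, b) ∈ R} from
        { toFun := fun p => ⟨p.1.1, p.1.2, p.2⟩
          invFun := fun p => ⟨(p.1, p.2.1), p.2.2⟩
          left_inv := fun p => rfl
          right_inv := fun p => rfl }), Nat.card_sigma]
      simp only [hfib, Finset.sum_const, Finset.card_univ, hcard, smul_eq_mul]
    haveI : Fintype R := Fintype.ofFinite R
    let σ : Equiv.Perm R :=
      { toFun := fun p => ⟨(p.1.2, p.1.1), hswap p.1 p.2⟩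
        invFun := fun p => ⟨(p.1.2, p.1.1), hswap p.1 p.2⟩
        left_inv := fun p => rfl
        right_inv := fun p => rfl }
    have hnofix := Equiv.Perm.card_fixedPoints_modEq (p := 2) (n := 1) (f := σ.toFun) (funext fun p => rfl)
    have hempty : Fintype.card (Function.fixedPoints σ.toFun) = 0 := by
      rw [Fintype.card_eq_zero_iff]
      exact ⟨fun p => hoff p.1.1 p.1.2 (congrArg Prod.snd (congrArg Subtype.val p.2))⟩
    rw [← Nat.card_coe_set_eq, Nat.card_eq_fintype_card] at hR
    rw [hempty, hR] at hnofix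
    exact absurd hnofix (by decide)
  rw [MulAction.is_two_pretransitive_iff]
  intro a b c d hab hcd
  obtain ⟨g, hg⟩ := exists_smul_eq G a p₀
  obtain ⟨k, hk⟩ := exists_smul_eq G c p₀
  have h1 : g • b ≠ p₀ := fun h => hab (smul_left_cancel g (hg.trans h.symm))
  have h2 : k • d ≠ p₀ := fun h => hcd (smul_left_cancel k (hk.trans h.symm))
  have h3 : k • d ∈ orbit H (g • b) := by rw [hbig _ h1]; exact h2
  obtain ⟨h, hh⟩ := h3
  refine ⟨k⁻¹ * h * g, ?_, ?_⟩
  · rw [mul_smul, mul_smul, hg, hfix _ h.2, inv_smul_eq_iff, hk]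
  · rw [mul_smul, mul_smul, inv_smul_eq_iff]
    exact hh

end CfsgLib.ElevenPoints
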