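/-
Prime degree p with Sylow normaliser of half the affine order: coordinates, and Neumann's bound on the
orbits of a two-point stabiliser.
-/
import Cfsg.Agent.S0674
import Cfsg.Agent.Lib.Perm.CycleCoords
import Cfsg.Agent.Lib.Perm.PrimeDegree

set_option autoImplicit false

namespace CfsgLib.HalfNormalizer

variable {G α : Type*} [Group G] [MulAction G α] {p : ℕ} [Fact p.Prime]

/-- Coordinates in which `G` contains all translations and all multiplications by squares. -/
theorem exists_square_coords [Finite G] [FaithfulSMul G α] (hα : Nat.card α = p) (P : Sylow p G)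
    [MulAction.IsPretransitive G α]
    (hN : 2 * Nat.card ↥(Subgroup.normalizer ((P : Subgroup G) : Set G)) = p * (p - 1)) :
    ∃ e : ZMod p ≃ α, (∀ k : ZMod p, ∃ g : G, ∀ x, g • e x = e (x + k)) ∧
      ∀ y : ZMod p, y ≠ 0 → ∃ g : G, ∀ x, g • e x = e (y * y * x) := by
  classical
  have hp : p.Prime := Fact.out
  haveI : Finite α := Nat.finite_of_card_ne_zero (hα ▸ hp.ne_zero)
  haveI := Fintype.ofFinite α
  obtain ⟨a₀⟩ : Nonempty α := (Nat.card_pos_iff.1 (hα ▸ hp.pos)).1
  have hdG : p ∣ Nat.card G := by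
    rw [← hα, ← MulAction.index_stabilizer_of_transitive G a₀]
    exact Subgroup.index_dvd_card _
  set N := Subgroup.normalizer ((P : Subgroup G) : Set G) with hNdef
  have hP : Nat.card (P : Subgroup G) = p := by
    obtain ⟨j, hj⟩ := IsPGroup.iff_card.1 P.2
    have h1 : Nat.card (P : Subgroup G) ∣ Nat.card N := Subgroup.card_dvd_of_le Subgroup.le_normalizer
    have h2 : p ^ j ∣ p * (p - 1) := hj ▸ hN ▸ h1.mul_left 2
    rcases Nat.lt_or_ge j 1 with h | h
    · exfalso
      have := (P.dvd_card_of_dvd_card hdG)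
      rw [hj, Nat.lt_one_iff.1 h, pow_zero] at this
      exact hp.not_dvd_one this
    rcases Nat.lt_or_ge j 2 with h' | h'
    · rw [hj, show j = 1 by omega, pow_one]
    · exfalso
      have h3 : p ^ 2 ∣ p * (p - 1) := (pow_dvd_pow p h').trans h2
      rw [sq, Nat.mul_dvd_mul_iff_left hp.pos] at h3
      have := Nat.le_of_dvd (by have := hp.two_le; omega) h3
      have := hp.two_le
      omega
  obtain ⟨⟨σ, hσP⟩, hσ⟩ := exists_prime_orderOf_dvd_card' (G := (P : Subgroup G)) p (dvd_of_eq hP.symm)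
  rw [Subgroup.orderOf_mk] at hσ
  have hPσ : (P : Subgroup G) = Subgroup.zpowers σ :=
    (Subgroup.eq_of_le_of_card_ge (Subgroup.zpowers_le.2 hσP) (by rw [Nat.card_zpowers, hσ, hP])).symm
  let φ := MulAction.toPermHom G α
  have hφ : Function.Injective φ := MulAction.toPerm_injective
  have hσ' : orderOf (⟨φ σ, σ, rfl⟩ : φ.range) = p := by
    refine (Subgroup.orderOf_mk _ _).trans ?_
    rw [orderOf_injective φ hφ, hσ]
  obtain ⟨e, -, he'⟩ := CfsgLib.CycleCoords.exists_coords (by rw [← Nat.card_eq_fintype_card, hα])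
    φ.range ⟨φ σ, σ, rfl⟩ hσ'
  have he : ∀ (z : ℤ) x, σ ^ z • e x = e (x + z) := fun z x => by
    have h := he' z x
    rw [Subgroup.smul_def, Subgroup.coe_zpow, Equiv.Perm.smul_def] at h
    change (φ σ ^ z) (e x) = _ at h
    rw [← map_zpow] at h
    exact h
  have htr : ∀ k : ZMod p, ∃ g : G, ∀ x, g • e x = e (x + k) := fun k =>
    ⟨σ ^ (k.val : ℤ), fun x => by rw [he, Int.cast_natCast, ZMod.natCast_zmod_val]⟩
  refine ⟨e, htr, ?_⟩
  have haff : ∀ n : N, ∃ a b : ZMod p, ∀ x, (n : G) • e x = e (a * x + b) := fun n => by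
    obtain ⟨k, hk⟩ : ∃ k : ℤ, (n : G) * σ * (n : G)⁻¹ = σ ^ k := by
      have := (Subgroup.mem_normalizer_iff.1 n.2 σ).1 hσP
      rw [hPσ, Subgroup.mem_zpowers_iff] at this
      obtain ⟨k, hk⟩ := this
      exact ⟨k, hk.symm⟩
    refine ⟨k, e.symm ((n : G) • e 0), fun x => ?_⟩
    have h1 : e x = σ ^ (x.val : ℤ) • e 0 := by
      rw [he, zero_add, Int.cast_natCast, ZMod.natCast_zmod_val]
    rw [h1, ← mul_smul, show (n : G) * σ ^ (x.val : ℤ) = ((n : G) * σ * (n : G)⁻¹) ^ (x.val : ℤ) * n by
      rw [conj_zpow, inv_mul_cancel_right], hk, ← zpow_mul, mul_smul]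
    obtain ⟨c, hc⟩ := e.surjective ((n : G) • e 0)
    rw [← hc, he, Int.cast_mul, Int.cast_natCast, ZMod.natCast_zmod_val, Equiv.symm_apply_apply, add_comm]
  choose a b hab using haff
  have hmul : ∀ g h : N, a (g * h) = a g * a h ∧ b (g * h) = a g * b h + b g := fun g h => by
    have key : ∀ x, a (g * h) * x + b (g * h) = a g * (a h * x + b h) + b g := fun x =>
      e.injective (by rw [← hab, Subgroup.coe_mul, mul_smul, hab, hab])
    have h0 := key 0
    have h1 := key 1
    simp only [mul_zero, zero_add, mul_one] at h0 h1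
    exact ⟨by linear_combination h1 - h0, h0⟩
  have h1 : a 1 = 1 := by
    have k0 : a 1 * 0 + b 1 = 0 := e.injective (by rw [← hab, Subgroup.coe_one, one_smul])
    have k1 : a 1 * 1 + b 1 = 1 := e.injective (by rw [← hab, Subgroup.coe_one, one_smul])
    linear_combination k1 - k0
  let χ : N →* ZMod p := { toFun := a, map_one' := h1, map_mul' := fun g h => (hmul g h).1 }
  let ψ : N →* (ZMod p)ˣ := χ.toHomUnits
  have hψ : ∀ n, ((ψ n : (ZMod p)ˣ) : ZMod p) = a n := fun n => rfl
  have hker : Nat.card ψ.ker ≤ p := by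
    refine le_trans (Nat.card_le_card_of_injective (fun n : ψ.ker => b n) fun u v huv => ?_) (Nat.card_zmod p).le
    have ha : ∀ w : ψ.ker, a w = 1 := fun w => congrArg Units.val (MonoidHom.mem_ker.1 w.2)
    refine Subtype.ext (Subtype.ext (eq_of_smul_eq_smul (α := α) fun z => ?_))
    obtain ⟨x, rfl⟩ := e.surjective z
    show ((u : N) : G) • e x = ((v : N) : G) • e x
    rw [hab, hab, ha, ha]
    exact congrArg (fun t => e (1 * x + t)) huv
  have hidx : ψ.range.index ≤ 2 := by
    have h2 := Subgroup.card_mul_index ψ.ker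
    rw [Subgroup.index_ker] at h2
    have h3 := Subgroup.card_mul_index ψ.range
    rw [Nat.card_eq_fintype_card (α := (ZMod p)ˣ), ZMod.card_units_eq_totient, Nat.totient_prime hp] at h3
    have h4 : p * (p - 1) ≤ 2 * (p * Nat.card ψ.range) := by
      rw [← hN, ← h2]; gcongr
    have hpos : 0 < Nat.card ψ.range := Nat.card_pos
    have h5 : p - 1 ≤ 2 * Nat.card ψ.range := by
      refine Nat.le_of_mul_le_mul_left ?_ hp.pos
      linarith
    by_contra h6
    push Not at h6
    nlinarith
  intro y hy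
  have hmem : (Units.mk0 y hy) * (Units.mk0 y hy) ∈ ψ.range := by
    have hne : ψ.range.index ≠ 0 := Subgroup.index_ne_zero_of_finite
    rcases (show ψ.range.index = 1 ∨ ψ.range.index = 2 by omega) with h | h
    · rw [Subgroup.index_eq_one.1 h]; trivial
    · exact Subgroup.mul_self_mem_of_index_two h _
  obtain ⟨n, hn⟩ := hmem
  have hn' : a n = y * y := by rw [← hψ, hn]; rfl
  obtain ⟨g, hg⟩ := htr (-(b n))
  exact ⟨g * n, fun x => by rw [mul_smul, hab, hg, hn', add_neg_cancel_right]⟩

/-- If `p ≡ 3 mod 4`, a two-point stabiliser has at most two orbits away from the two points. -/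
theorem orbits_le_two [Finite G] [FaithfulSMul G α] (hα : Nat.card α = p) (hp4 : p % 4 = 3)
    [MulAction.IsPretransitive G α] (hins : ¬ Group.IsSolvable G) (P : Sylow p G)
    (hN : 2 * Nat.card ↥(Subgroup.normalizer ((P : Subgroup G) : Set G)) = p * (p - 1))
    (x₀ y₀ : α) (hxy : x₀ ≠ y₀) (γ : Fin 3 → α) (hγ : ∀ i, γ i ≠ x₀ ∧ γ i ≠ y₀) :
    ∃ i j, i ≠ j ∧ ∃ g : G, g • x₀ = x₀ ∧ g • y₀ = y₀ ∧ g • γ i = γ j := by
  classical
  by_contra hno
  push Not at hno
  have hp : p.Prime := Fact.out
  haveI : Finite α := Nat.finite_of_card_ne_zero (hα ▸ hp.ne_zero)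
  haveI := Fintype.ofFinite α
  have hα' : Fintype.card α = p := by rw [← Nat.card_eq_fintype_card, hα]
  obtain ⟨e, htr, hsq⟩ := exists_square_coords hα P hN
  have h2t : MulAction.IsMultiplyPretransitive G α 2 := by
    by_contra h
    obtain ⟨e', he'⟩ := CfsgLib.PrimeDegree.affine_coordinates hα h
    exact hins (CfsgLib.PrimeDegree.isSolvable_of_affine e' he')
  have h2' : ∀ {x y z u : α} (_ : x ≠ y) (_ : z ≠ u), ∃ g : G, g • x = z ∧ g • y = u :=
    MulAction.is_two_pretransitive_iff.1 h2t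
  -- the three orbital maps
  let R : Fin 3 → α → α → α → Prop := fun i z x y => ∃ g : G, g • γ i = z ∧ g • x₀ = x ∧ g • y₀ = y
  have hR : ∀ (g : G) i z x y, R i (g • z) (g • x) (g • y) ↔ R i z x y := fun g i z x y => by
    constructor
    · rintro ⟨h, e1, e2, e3⟩
      exact ⟨g⁻¹ * h, by rw [mul_smul, e1, inv_smul_smul], by rw [mul_smul, e2, inv_smul_smul],
        by rw [mul_smul, e3, inv_smul_smul]⟩
    · rintro ⟨h, e1, e2, e3⟩
      exact ⟨g * h, by rw [mul_smul, e1], by rw [mul_smul, e2], by rw [mul_smul, e3]⟩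
  let Φ : (Fin 4 → ZMod p) → (α → ZMod p) → α → α → ZMod p := fun c v x y =>
    c 3 * v x + ∑ i : Fin 3, c i.castSucc * ∑ z, if R i z x y then v z else 0
  have hequiv : ∀ c (g : G) v x y, Φ c v (g • x) (g • y) = Φ c (fun z => v (g • z)) x y := fun c g v x y => by
    simp only [Φ]
    refine congrArg (fun t => c 3 * v (g • x) + t) (Finset.sum_congr rfl fun i _ => congrArg (c i.castSucc * ·) ?_)
    refine (Fintype.sum_equiv (MulAction.toPerm g) _ _ fun z => ?_).symm
    simp only [MulAction.toPerm_apply]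
    rw [if_congr (hR g i z x y) rfl rfl]
  have hadd : ∀ c u v x y, Φ c (u + v) x y = Φ c u x y + Φ c v x y := fun c u v x y => by
    simp only [Φ, Pi.add_apply, mul_add, ite_add_zero, Finset.sum_add_distrib]
    ring
  have hsmul : ∀ c (r : ZMod p) v x y, Φ c (r • v) x y = r * Φ c v x y := fun c r v x y => by
    simp only [Φ, Pi.smul_apply, smul_eq_mul, mul_add, Finset.mul_sum, mul_ite, mul_zero]
    congr 1
    · ring
    · exact Finset.sum_congr rfl fun i _ => Finset.sum_congr rfl fun z _ => by split_ifs <;> ring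
  let one : α → ZMod p := fun _ => 1
  let l : α → ZMod p := fun a => e.symm a
  -- three linear conditions on four coefficients
  let T : (Fin 4 → ZMod p) →ₗ[ZMod p] (Fin 3 → ZMod p) :=
    { toFun := fun c => ![Φ c one (e 0) (e 1), Φ c l (e 0) (e 1), Φ c l (e 0) (e (-1))]
      map_add' := fun c d => by
        funext k; fin_cases k <;> simp [Φ, add_mul, Finset.sum_add_distrib] <;> ring
      map_smul' := fun r c => by
        funext k; fin_cases k <;> simp [Φ, mul_add, Finset.mul_sum, mul_assoc] }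
  obtain ⟨c, hc, hc0⟩ : ∃ c, T c = 0 ∧ c ≠ 0 := by
    by_contra h
    push Not at h
    have hinj : Function.Injective T := by
      rw [← LinearMap.ker_eq_bot]
      exact LinearMap.ker_eq_bot'.2 h
    have := LinearMap.finrank_le_finrank_of_injective hinj
    rw [Module.finrank_fin_fun, Module.finrank_fin_fun] at this
    omega
  have hcone : Φ c one (e 0) (e 1) = 0 := congrFun hc 0
  have hcl1 : Φ c l (e 0) (e 1) = 0 := congrFun hc 1
  have hcl2 : Φ c l (e 0) (e (-1)) = 0 := congrFun hc 2
  have h01 : e 0 ≠ e 1 := fun h => zero_ne_one (e.injective h)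
  have hone : ∀ x y, x ≠ y → Φ c one x y = 0 := fun x y h => by
    obtain ⟨g, rfl, rfl⟩ := h2' h01 h
    rw [hequiv]; exact hcone
  have hl : ∀ x y, x ≠ y → Φ c l x y = 0 := by
    intro x y h
    obtain ⟨u, rfl⟩ := e.surjective x
    obtain ⟨v, rfl⟩ := e.surjective y
    have htrans : Φ c l (e u) (e v) = Φ c l (e 0) (e (v - u)) := by
      obtain ⟨g, hg⟩ := htr u
      have e1 : e u = g • e 0 := by rw [hg, zero_add]
      have e2 : e v = g • e (v - u) := by rw [hg, sub_add_cancel]
      have e3 : (fun z => l (g • z)) = l + u • one := by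
        funext z
        obtain ⟨w, rfl⟩ := e.surjective z
        simp [l, one, hg]
      rw [e1, e2, hequiv, e3, hadd, hsmul, hone _ _ ?_, mul_zero, add_zero]
      intro h'
      apply h
      rw [e1, e2, h']
    have hd : v - u ≠ 0 := sub_ne_zero.2 fun h' => h (by rw [h'])
    have hscale : ∀ w : ZMod p, w ≠ 0 → ∀ s, Φ c l (e 0) (e (w * w * s)) = w * w * Φ c l (e 0) (e s) := by
      intro w hw s
      obtain ⟨g, hg⟩ := hsq w hw
      have e3 : (fun z => l (g • z)) = (w * w) • l := by
        funext z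
        obtain ⟨t, rfl⟩ := e.surjective z
        simp [l, hg]
      conv_lhs => rw [← mul_zero (w * w), ← hg, ← hg, hequiv, e3, hsmul]
    rw [htrans]
    obtain ⟨w, hw⟩ | ⟨w, hw⟩ : IsSquare (v - u) ∨ IsSquare (-(v - u)) := by
      have hne : ringChar (ZMod p) ≠ 2 := by rw [ZMod.ringChar_zmod_n]; omega
      have hodd : Odd (Fintype.card (ZMod p) / 2) := by
        rw [ZMod.card, Nat.odd_iff]; omega
      rw [FiniteField.isSquare_iff hne hd, FiniteField.isSquare_iff hne (neg_ne_zero.2 hd), hodd.neg_pow]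
      rcases FiniteField.pow_dichotomy hne hd with h' | h'
      · exact Or.inl h'
      · exact Or.inr (by rw [h', neg_neg])
    · have hw0 : w ≠ 0 := fun h' => hd (by rw [hw, h', zero_mul])
      rw [show v - u = w * w * 1 by rw [hw, mul_one], hscale w hw0, hcl1, mul_zero]
    · have hw0 : w ≠ 0 := fun h' => hd (by rw [← neg_eq_zero, hw, h', zero_mul])
      rw [show v - u = w * w * (-1) by rw [mul_neg_one, ← hw, neg_neg], hscale w hw0, hcl2, mul_zero]
  -- irreducibility of the heart
  let φ := MulAction.toPermHom G α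
  have hφ : Function.Injective φ := MulAction.toPerm_injective
  haveI : MulAction.IsPretransitive φ.range α := ⟨fun x y => by
    obtain ⟨g, hg⟩ := MulAction.exists_smul_eq G x y
    exact ⟨⟨φ g, g, rfl⟩, hg⟩⟩
  have hins' : ¬ Group.IsSolvable φ.range := fun h => hins (by
    haveI := h
    exact Group.isSolvable_of_isSolvable_injective (f := φ.rangeRestrict) fun u v huv =>
      hφ (congrArg Subtype.val huv))
  let W : Subrepresentation (Cfsg.permRep (ZMod p) φ.range α) :=
    { toSubmodule :=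
        { carrier := {v | v ∈ (Cfsg.permSumZero (ZMod p) φ.range α).toSubmodule ∧ ∀ x y, x ≠ y → Φ c v x y = 0}
          add_mem' := fun {u v} ⟨hu, hu'⟩ ⟨hv, hv'⟩ => ⟨Submodule.add_mem _ hu hv, fun x y h => by
            rw [hadd, hu' x y h, hv' x y h, add_zero]⟩
          zero_mem' := ⟨Submodule.zero_mem _, fun x y _ => by simp [Φ]⟩
          smul_mem' := fun r v ⟨hv, hv'⟩ => ⟨Submodule.smul_mem _ r hv, fun x y h => by
            rw [hsmul, hv' x y h, mul_zero]⟩ }
      apply_mem_toSubmodule := fun g v ⟨hv, hv'⟩ => by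
        refine ⟨(Cfsg.permSumZero (ZMod p) φ.range α).apply_mem_toSubmodule g hv, fun x y h => ?_⟩
        obtain ⟨g₁, hg₁⟩ := (g⁻¹ : φ.range).2
        have e1 : (Cfsg.permRep (ZMod p) φ.range α) g v = fun z => v (g₁ • z) := funext fun z => by
          show v (g⁻¹ • z) = v (g₁ • z)
          rw [Subgroup.smul_def, ← hg₁]
          rfl
        rw [e1, ← hequiv]
        exact hv' _ _ fun h' => h (smul_left_cancel g₁ h') }
  have hC : (Cfsg.permConstants (ZMod p) φ.range α).toSubmodule ≤ W.toSubmodule := by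
    refine Submodule.span_le.mpr (Set.singleton_subset_iff.mpr ⟨?_, hone⟩)
    show ∑ _x : α, (1 : ZMod p) = 0
    rw [Finset.sum_const, Finset.card_univ, hα', nsmul_one, ZMod.natCast_self]
  have h20 : (2 : ZMod p) ≠ 0 := by
    have := (ZMod.natCast_eq_zero_iff 2 p).not.2 (fun hd => by have := Nat.le_of_dvd (by norm_num) hd; omega)
    exact_mod_cast this
  have hlW : l ∈ W.toSubmodule := by
    refine ⟨?_, hl⟩
    show ∑ a, l a = 0
    rw [← Equiv.sum_comp e]
    simp only [l, Equiv.symm_apply_apply]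
    have h := Equiv.sum_comp (Equiv.neg (ZMod p)) (fun x : ZMod p => x)
    simp only [Equiv.neg_apply] at h
    rw [Finset.sum_neg_distrib] at h
    have : (2 : ZMod p) * ∑ x : ZMod p, x = 0 := by linear_combination -h
    exact (mul_eq_zero.1 this).resolve_left h20
  rcases Cfsg.Agent.S0674.result hα' φ.range hins' W hC (fun v hv => hv.1) with hW | hW
  · rw [hW] at hlW
    obtain ⟨t, ht⟩ := Submodule.mem_span_singleton.1 hlW
    have h := congrFun ht (e 0)
    have h' := congrFun ht (e 1)
    simp [l] at h h'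
    exact zero_ne_one (h.symm.trans h')
  have hall : ∀ a b : α, ∀ x y, x ≠ y → Φ c (Pi.single a 1 - Pi.single b 1) x y = 0 := fun a b x y h => by
    have hv : (Pi.single a 1 - Pi.single b 1 : α → ZMod p) ∈ W.toSubmodule := by
      rw [hW]
      show ∑ z, ((Pi.single a (1 : ZMod p) : α → ZMod p) z - (Pi.single b 1 : α → ZMod p) z) = 0
      simp [Finset.sum_sub_distrib]
    exact hv.2 x y h
  have hRj : ∀ i j, R i (γ j) x₀ y₀ ↔ i = j := fun i j => by
    refine ⟨fun ⟨g, e1, e2, e3⟩ => by_contra fun hne => hno i j hne g e2 e3 e1, ?_⟩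
    rintro rfl
    exact ⟨1, one_smul _ _, one_smul _ _, one_smul _ _⟩
  have hRx : ∀ i, ¬ R i x₀ x₀ y₀ := fun i ⟨g, e1, e2, _⟩ =>
    (hγ i).1 (smul_left_cancel g (e1.trans e2.symm))
  have hRy : ∀ i, ¬ R i y₀ x₀ y₀ := fun i ⟨g, e1, _, e3⟩ =>
    (hγ i).2 (smul_left_cancel g (e1.trans e3.symm))
  have hcj : ∀ j : Fin 3, c j.castSucc = 0 := fun j => by
    have h := hall (γ j) y₀ x₀ y₀ hxy
    simp only [Φ, Pi.sub_apply, Pi.single_apply, (hγ j).1.symm, hxy, if_false, sub_zero, mul_zero, zero_add] at h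
    rw [Finset.sum_eq_single j ?_ (by simp)] at h
    · rw [Finset.sum_eq_single (γ j) ?_ (by simp)] at h
      · simpa [(hRj j j).2 rfl, (hγ j).2] using h
      · intro z _ hz
        by_cases hz' : z = y₀
        · subst hz'; simp [hRy j]
        · simp [hz, hz']
    · intro i _ hij
      rw [Finset.sum_eq_zero (fun z _ => ?_), mul_zero]
      by_cases hz : z = γ j
      · subst hz; simp [mt (hRj i j).1 hij]
      · by_cases hz' : z = y₀
        · subst hz'; simp [hRy i]
        · simp [hz, hz']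
  have hc3 : c 3 = 0 := by
    have h := hall x₀ y₀ x₀ y₀ hxy
    simpa [Φ, hcj, hxy] using h
  apply hc0
  funext k
  fin_cases k
  · exact hcj 0
  · exact hcj 1
  · exact hcj 2
  · exact hc3

end CfsgLib.HalfNormalizer
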