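/-
No Steiner triple system on `ZMod p` of square-cyclotomic type (Netto) has a group of automorphisms
transitive on its triangles, for a prime p ≡ 3 mod 4 above 7.
-/
import Mathlib

set_option autoImplicit false

namespace CfsgLib.TripleSystem

variable {p : ℕ} [Fact p.Prime]

/-- The third point on the line through two points. -/
def third (ω x y : ZMod p) : ZMod p :=
  x + (if (y - x) ^ (p / 2) = 1 then ω else 1 - ω) * (y - x)

theorem third_cases (ω x y : ZMod p) :
    third ω x y = x + ω * (y - x) ∨ third ω x y = x + (1 - ω) * (y - x) := by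
  unfold third; split_ifs
  · exact Or.inl rfl
  · exact Or.inr rfl

theorem pow_half_iff {d : ZMod p} (hd : d ≠ 0) : d ^ (p / 2) = 1 ↔ IsSquare d :=
  (ZMod.euler_criterion p hd).symm

theorem isSquare_neg_iff (hp4 : p % 4 = 3) {d : ZMod p} (hd : d ≠ 0) : IsSquare (-d) ↔ ¬ IsSquare d := by
  rw [← pow_half_iff (neg_ne_zero.2 hd), ← pow_half_iff hd,
    (show Odd (p / 2) by rw [Nat.odd_iff]; omega).neg_pow]
  rcases ZMod.pow_div_two_eq_neg_one_or_one p hd with h | h
  · haveI : Fact (2 < p) := ⟨by omega⟩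
    simp [h, ZMod.neg_one_ne_one]
  · haveI : Fact (2 < p) := ⟨by omega⟩
    simp [h, ZMod.neg_one_ne_one]

theorem third_sq {ω x y : ZMod p} (hd : y - x ≠ 0) (h : IsSquare (y - x)) :
    third ω x y = x + ω * (y - x) := by
  unfold third; rw [if_pos ((pow_half_iff hd).2 h)]

theorem third_nsq {ω x y : ZMod p} (hd : y - x ≠ 0) (h : ¬ IsSquare (y - x)) :
    third ω x y = x + (1 - ω) * (y - x) := by
  unfold third; rw [if_neg (mt (pow_half_iff hd).1 h)]

theorem root_facts (hp3 : 3 < p) {ω : ZMod p} (hω : ω * ω - ω + 1 = 0) :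
    ω ≠ 0 ∧ ω ≠ 1 ∧ ω ≠ -1 ∧ ω ≠ 2 ∧ 2 * ω ≠ 1 ∧ 1 + ω ≠ 0 ∧ (2 : ZMod p) ≠ 0 ∧ (3 : ZMod p) ≠ 0 := by
  have hn : ∀ n : ℕ, 0 < n → n < p → (n : ZMod p) ≠ 0 := fun n h0 h1 e => by
    rw [ZMod.natCast_eq_zero_iff] at e
    exact absurd (Nat.le_of_dvd h0 e) (by omega)
  have h2 : (2 : ZMod p) ≠ 0 := by exact_mod_cast hn 2 (by omega) (by omega)
  have h3 : (3 : ZMod p) ≠ 0 := by exact_mod_cast hn 3 (by omega) (by omega)
  refine ⟨?_, ?_, ?_, ?_, ?_, ?_, h2, h3⟩
  · rintro rfl; exact one_ne_zero (α := ZMod p) (by linear_combination hω)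
  · rintro rfl; exact one_ne_zero (α := ZMod p) (by linear_combination hω)
  · rintro rfl; exact h3 (by linear_combination hω)
  · rintro rfl; exact h3 (by linear_combination hω)
  · intro e; exact h3 (by linear_combination 4 * hω - (2 * ω - 1) * e)
  · intro e; exact h3 (by linear_combination hω - (ω - 2) * e)

theorem eq_div_of_eq {K : Type*} [Field K] {k n t : K} (h : k * t = n) (hk : k = 0 → n ≠ 0) : t = n / k := by
  have hk' : k ≠ 0 := fun e => hk e (by rw [← h, e, zero_mul])
  rw [eq_div_iff hk', mul_comm, h]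

section char

open scoped Classical

/-- Correlation of the quadratic character. -/
theorem sum_char_mul (hp2 : p ≠ 2) {a b : ZMod p} (hab : a ≠ b) :
    ∑ t : ZMod p, quadraticChar (ZMod p) (t - a) * quadraticChar (ZMod p) (t - b) = -1 := by
  have hchar : ringChar (ZMod p) ≠ 2 := by rwa [ZMod.ringChar_zmod_n]
  set χ := quadraticChar (ZMod p)
  have h1 : ∀ c : ZMod p, c ≠ 0 → ∑ t, χ t * χ (t - c) = -1 := by
    intro c hc
    have e1 : ∀ t : ZMod p, χ t * χ (t - c) = if t = 0 then 0 else χ (1 - c * t⁻¹) := fun t => by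
      split_ifs with ht
      · rw [ht, quadraticChar_zero, zero_mul]
      · rw [← map_mul, show t * (t - c) = t ^ 2 * (1 - c * t⁻¹) by field_simp, map_mul,
          quadraticChar_sq_one' ht, one_mul]
    have e2 : ∑ t : ZMod p, χ (1 - c * t) = 0 := by
      rw [← quadraticChar_sum_zero hchar]
      exact Fintype.sum_equiv ((Equiv.mulLeft₀ c hc).trans (Equiv.subLeft 1)) _ _ fun t => rfl
    calc ∑ t : ZMod p, χ t * χ (t - c) = ∑ t : ZMod p, if t = 0 then 0 else χ (1 - c * t⁻¹) :=
          Finset.sum_congr rfl fun t _ => e1 t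
      _ = ∑ t : ZMod p, if t = 0 then 0 else χ (1 - c * t) :=
          Fintype.sum_equiv (Equiv.inv (ZMod p)) _ _ fun t => by simp
      _ = ∑ t : ZMod p, (χ (1 - c * t) - if t = 0 then 1 else 0) := Finset.sum_congr rfl fun t _ => by
          split_ifs with ht <;> simp [ht]
      _ = -1 := by rw [Finset.sum_sub_distrib, e2]; simp
  rw [← h1 (b - a) (sub_ne_zero.2 hab.symm)]
  exact Fintype.sum_equiv (Equiv.subRight a) _ _ fun t => by simp [χ]

/-- Exactly a quarter of the points off the line `0, 1, ω` have all three differences in one square class. -/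
theorem count_same_class (hp4 : p % 4 = 3) {ω : ZMod p} (hω0 : ω ≠ 0) (hω1 : ω ≠ 1)
    (hω : ω * ω - ω + 1 = 0) (hsq : IsSquare (-ω)) :
    4 * (Finset.univ.filter fun t : ZMod p => t ≠ 0 ∧ t ≠ 1 ∧ t ≠ ω ∧
      (IsSquare t ↔ IsSquare (t - 1)) ∧ (IsSquare t ↔ IsSquare (t - ω))).card = p - 3 := by
  have hp2 : p ≠ 2 := by omega
  set χ := quadraticChar (ZMod p)
  set S : Finset (ZMod p) := {0, 1, ω} with hS
  have hScard : S.card = 3 := Finset.card_eq_three.2 ⟨0, 1, ω, zero_ne_one, hω0.symm, hω1.symm, rfl⟩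
  have hval : ∀ x : ZMod p, x ≠ 0 → χ x = if IsSquare x then 1 else -1 := fun x hx => by
    split_ifs with h
    · exact (quadraticChar_one_iff_isSquare hx).2 h
    · exact quadraticChar_neg_one_iff_not_isSquare.2 h
  have hneg1 : χ (-1) = -1 := quadraticChar_neg_one_iff_not_isSquare.2
    fun h => (isSquare_neg_iff hp4 one_ne_zero).1 h IsSquare.one
  have hnω : χ (-ω) = 1 := (quadraticChar_one_iff_isSquare (neg_ne_zero.2 hω0)).2 hsq
  have hωv : χ ω = -1 := by rw [show ω = -1 * -ω by ring, map_mul, hneg1, hnω]; rfl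
  have hω1v : χ (ω - 1) = 1 := by
    rw [show ω - 1 = ω ^ 2 by linear_combination -hω]
    exact quadraticChar_sq_one' hω0
  have h1ωv : χ (1 - ω) = -1 := by rw [show 1 - ω = -1 * (ω - 1) by ring, map_mul, hneg1, hω1v]; rfl
  let F : ZMod p → ℤ := fun t =>
    1 + (χ t * χ (t - 1) + χ (t - 1) * χ (t - ω) + χ t * χ (t - ω))
  have hF : ∀ t ∈ Sᶜ, F t = if (IsSquare t ↔ IsSquare (t - 1)) ∧ (IsSquare t ↔ IsSquare (t - ω)) then 4 else 0 := by
    intro t ht
    simp only [hS, Finset.mem_compl, Finset.mem_insert, Finset.mem_singleton, not_or] at ht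
    simp only [F, hval _ ht.1, hval _ (sub_ne_zero.2 ht.2.1), hval _ (sub_ne_zero.2 ht.2.2)]
    by_cases a : IsSquare t <;> by_cases b : IsSquare (t - 1) <;> by_cases c : IsSquare (t - ω) <;>
      simp [a, b, c]
  have hsum : ∀ a b c : ZMod p, S = {a, b, c} → a ≠ b → a ≠ c → b ≠ c → χ (c - a) * χ (c - b) = -1 →
      ∑ t ∈ Sᶜ, χ (t - a) * χ (t - b) = 0 := by
    intro a b c hSabc hab hac hbc hv
    have h := Finset.sum_compl_add_sum S fun t => χ (t - a) * χ (t - b)
    rw [sum_char_mul hp2 hab] at h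
    have h' : ∑ t ∈ S, χ (t - a) * χ (t - b) = -1 := by
      rw [hSabc, Finset.sum_insert (by simp [hab, hac]), Finset.sum_insert (by simp [hbc]), Finset.sum_singleton,
        sub_self, sub_self, quadraticChar_zero, zero_mul, mul_zero, hv]
      simp
    omega
  have s1 : ∑ t ∈ Sᶜ, χ t * χ (t - 1) = 0 := by
    have h := hsum 0 1 ω rfl zero_ne_one hω0.symm hω1.symm (by rw [sub_zero, hωv, hω1v]; rfl)
    simpa using h
  have s2 : ∑ t ∈ Sᶜ, χ (t - 1) * χ (t - ω) = 0 :=
    hsum 1 ω 0 (by ext x; simp [hS]; tauto) hω1.symm one_ne_zero hω0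
      (by rw [zero_sub, zero_sub, hneg1, hnω]; rfl)
  have s3 : ∑ t ∈ Sᶜ, χ t * χ (t - ω) = 0 := by
    have h := hsum 0 ω 1 (by ext x; simp [hS]; tauto) hω0.symm zero_ne_one hω1
      (by rw [sub_zero, map_one, h1ωv]; rfl)
    simpa using h
  have htot : ∑ t ∈ Sᶜ, F t = ((p - 3 : ℕ) : ℤ) := by
    simp only [F, Finset.sum_add_distrib, s1, s2, s3, Finset.sum_const, Finset.card_compl, ZMod.card, hScard]
    simp
  rw [Finset.sum_congr rfl hF, ← Finset.sum_filter, Finset.sum_const] at htot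
  have e : (Finset.univ.filter fun t : ZMod p => t ≠ 0 ∧ t ≠ 1 ∧ t ≠ ω ∧
      (IsSquare t ↔ IsSquare (t - 1)) ∧ (IsSquare t ↔ IsSquare (t - ω))) =
      Sᶜ.filter fun t => (IsSquare t ↔ IsSquare (t - 1)) ∧ (IsSquare t ↔ IsSquare (t - ω)) := by
    ext t; simp [hS]; tauto
  rw [e]
  simp only [nsmul_eq_mul] at htot
  omega

end char

/-- `ω ^ 2 - ω + 1` has no root modulo 11. -/
theorem small_no_root_eleven : ∀ ω : ZMod 11, ω * ω - ω + 1 ≠ 0 := by decide

theorem no_root_small : (∀ ω : ZMod 23, ω * ω - ω + 1 ≠ 0) ∧ (∀ ω : ZMod 47, ω * ω - ω + 1 ≠ 0) ∧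
    (∀ ω : ZMod 59, ω * ω - ω + 1 ≠ 0) := by decide

theorem small_bad_19 : ∀ ω : ZMod 19, ω * ω - ω + 1 = 0 → ∃ t : ZMod 19, (t ≠ 0 ∧ t ≠ 1 ∧ t ≠ ω) ∧
    ¬ (let th : ZMod 19 → ZMod 19 → ZMod 19 := fun x y => x + (if (y - x) ^ (19 / 2) = 1 then ω else 1 - ω) * (y - x)
      th 0 (th 1 (th 0 t)) = th 1 (th 0 (th 1 t))) := by decide +kernel

theorem small_bad_43 : ∀ ω : ZMod 43, ω * ω - ω + 1 = 0 → ∃ t : ZMod 43, (t ≠ 0 ∧ t ≠ 1 ∧ t ≠ ω) ∧
    ¬ (let th : ZMod 43 → ZMod 43 → ZMod 43 := fun x y => x + (if (y - x) ^ (43 / 2) = 1 then ω else 1 - ω) * (y - x)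
      th 0 (th 1 (th 0 t)) = th 1 (th 0 (th 1 t))) := by decide +kernel

theorem small_bad_67 : ∀ ω : ZMod 67, ω * ω - ω + 1 = 0 → ∃ t : ZMod 67, (t ≠ 0 ∧ t ≠ 1 ∧ t ≠ ω) ∧
    ¬ (let th : ZMod 67 → ZMod 67 → ZMod 67 := fun x y => x + (if (y - x) ^ (67 / 2) = 1 then ω else 1 - ω) * (y - x)
      th 0 (th 1 (th 0 t)) = th 1 (th 0 (th 1 t))) := by decide +kernel

theorem small_bad_31 : ∀ ω : ZMod 31, ω * ω - ω + 1 = 0 → ∃ t : ZMod 31, (t ≠ 0 ∧ t ≠ 1 ∧ t ≠ ω) ∧
    ¬ (let th : ZMod 31 → ZMod 31 → ZMod 31 := fun x y => x + (if (y - x) ^ (31 / 2) = 1 then ω else 1 - ω) * (y - x)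
      th 0 (th 1 (th 0 t)) = th 1 (th 0 (th 1 t))) := by decide +kernel

theorem no_triangle_transitive (hp4 : p % 4 = 3) (hp7 : 7 < p) (ω : ZMod p) (hω : ω * ω - ω + 1 = 0)
    (hsq : IsSquare (-ω))
    (hinv : ∀ t t' : ZMod p, t ≠ 0 → t ≠ 1 → t ≠ ω → t' ≠ 0 → t' ≠ 1 → t' ≠ ω →
      ∃ π : ZMod p → ZMod p, π 0 = 0 ∧ π 1 = 1 ∧ π t = t' ∧
        ∀ x y, π (third ω x y) = third ω (π x) (π y)) : False := by
  classical
  have hp : p.Prime := Fact.out
  obtain ⟨hω0, hω1, hωm, hω2, h2ω, h1ω, h20, h30⟩ := root_facts (by omega) hω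
  have hnω : ¬ IsSquare ω := (isSquare_neg_iff hp4 hω0).1 hsq
  have hn1 : ¬ IsSquare (-1 : ZMod p) := fun h => (isSquare_neg_iff hp4 one_ne_zero).1 h IsSquare.one
  have hωbar : ω - 1 = ω * ω := by linear_combination -hω
  have h01 : third ω 0 1 = ω := by
    rw [third_sq (by simp) (by simp)]; ring
  have hnn : ∀ {a b : ZMod p}, a ≠ 0 → ¬ IsSquare a → ¬ IsSquare b → IsSquare (a * b) := by
    intro a b ha h1 h2
    have hb : b ≠ 0 := fun e => h2 (e ▸ IsSquare.zero)
    have := ((isSquare_neg_iff hp4 ha).2 h1).mul ((isSquare_neg_iff hp4 hb).2 h2)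
    rwa [neg_mul_neg] at this
  have hsn : ∀ {a b : ZMod p}, a ≠ 0 → IsSquare a → ¬ IsSquare b → ¬ IsSquare (a * b) := by
    intro a b ha h1 h2 h
    exact h2 (by simpa [mul_assoc, inv_mul_cancel_left₀ ha] using h1.inv.mul h)
  have hω'n : ¬ IsSquare (1 - ω) := fun h => by
    have : IsSquare (-(ω * ω)) := by rwa [← hωbar, neg_sub]
    exact (isSquare_neg_iff hp4 (mul_ne_zero hω0 hω0)).1 this (IsSquare.mul_self ω)
  by_cases h2 : IsSquare (2 : ZMod p)
  · -- every triangle would give a Pasch configuration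
    let T := fun t : ZMod p => third ω (third ω 0 1) (third ω 0 t) = third ω 1 t
    have hT0 : T (-1) := by
      simp only [T]
      rw [h01, third_nsq (x := 0) (y := -1) (by simp) (by simpa using hn1)]
      rw [third_nsq (x := 1) (y := -1) (by
          rw [show (-1 : ZMod p) - 1 = -2 by ring]; exact neg_ne_zero.2 h20) (by
          rw [show (-1 : ZMod p) - 1 = -2 by ring]
          exact fun h => (isSquare_neg_iff hp4 h20).1 h h2)]
      rw [third_nsq (by rw [show 0 + (1 - ω) * (-1 - 0) - ω = (-1 : ZMod p) by ring]; simp) (by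
        rw [show 0 + (1 - ω) * (-1 - 0) - ω = (-1 : ZMod p) by ring]; exact hn1)]
      ring
    have hall : ∀ t, t ≠ 0 → t ≠ 1 → t ≠ ω → T t := by
      intro t a b c
      obtain ⟨π, h0, h1, ht, hπ⟩ := hinv (-1) t (by simp)
        (fun e => h20 (by linear_combination -e)) (Ne.symm hωm) a b c
      have := congrArg π hT0
      simpa only [T, hπ, h0, h1, ht] using this
    let val : Bool → ZMod p := fun b => if b then ω else 1 - ω
    let sol : Bool × Bool × Bool → ZMod p := fun x =>
      (1 - val x.2.1 - ω + val x.2.2 * ω) / (val x.2.2 * val x.1 - val x.2.1)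
    have hsub : (({0, 1, ω} : Finset (ZMod p))ᶜ) ⊆ Finset.univ.image sol := by
      intro t ht
      simp only [Finset.mem_compl, Finset.mem_insert, Finset.mem_singleton, not_or] at ht
      have hT := hall t ht.1 ht.2.1 ht.2.2
      simp only [T, h01] at hT
      obtain ⟨a, ha⟩ : ∃ a, third ω 0 t = 0 + val a * (t - 0) :=
        (third_cases ω 0 t).elim (fun h => ⟨true, h⟩) (fun h => ⟨false, h⟩)
      obtain ⟨b, hb⟩ : ∃ b, third ω 1 t = 1 + val b * (t - 1) :=
        (third_cases ω 1 t).elim (fun h => ⟨true, h⟩) (fun h => ⟨false, h⟩)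
      rw [ha, hb] at hT
      obtain ⟨c, hc⟩ : ∃ c, third ω ω (0 + val a * (t - 0)) = ω + val c * (0 + val a * (t - 0) - ω) :=
        (third_cases ω ω _).elim (fun h => ⟨true, h⟩) (fun h => ⟨false, h⟩)
      rw [hc] at hT
      refine Finset.mem_image.2 ⟨(a, b, c), Finset.mem_univ _, (eq_div_of_eq ?_ ?_).symm⟩
      · linear_combination hT
      · intro e
        exfalso
        cases a <;> cases b <;> cases c <;> simp only [val, Bool.false_eq_true, if_false, if_true] at e
        all_goals grobner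
    have := (Finset.card_le_card hsub).trans Finset.card_image_le
    rw [Finset.card_compl, ZMod.card,
      Finset.card_eq_three.2 ⟨0, 1, ω, zero_ne_one, hω0.symm, hω1.symm, rfl⟩] at this
    simp at this
    obtain rfl : p = 11 := by omega
    exact small_no_root_eleven ω hω
  · -- every hexagon of third points would close
    let T := fun t : ZMod p =>
      third ω 0 (third ω 1 (third ω 0 t)) = third ω 1 (third ω 0 (third ω 1 t))
    have hw : (1 - ω) ≠ 0 := sub_ne_zero.2 hω1.symm
    have hT0 : T (1 - ω) := by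
      simp only [T]
      rw [third_nsq (x := 0) (y := 1 - ω) (by simpa using hw) (by simpa using hω'n),
        third_sq (x := 1) (y := 1 - ω) (by simpa using hω0) (by simpa using hsq),
        show 0 + (1 - ω) * (1 - ω - 0) = -ω by linear_combination hω,
        show 1 + ω * (1 - ω - 1) = 2 - ω by linear_combination -hω]
      have hd1 : -ω - 1 ≠ (0 : ZMod p) := fun e => h1ω (by linear_combination -e)
      have hd2 : 2 - ω - 0 ≠ (0 : ZMod p) := fun e => hω2 (by linear_combination -e)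
      have hrel : 2 - ω - 0 = (ω - 1) * (-ω - 1) := by linear_combination hω
      by_cases hs : IsSquare (-ω - 1)
      · have hd2s : IsSquare (2 - ω - 0) := by
          rw [hrel, hωbar]; exact (IsSquare.mul_self ω).mul hs
        rw [third_sq hd1 hs, third_sq hd2 hd2s,
          show 1 + ω * (-ω - 1) = 2 - 2 * ω by linear_combination -hω,
          show 0 + ω * (2 - ω - 0) = 1 + ω by linear_combination -hω,
          third_sq (x := 0) (y := 2 - 2 * ω) (by
            rw [sub_zero, show 2 - 2 * ω = 2 * (1 - ω) by ring]; exact mul_ne_zero h20 hw) (by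
            rw [sub_zero, show 2 - 2 * ω = 2 * (1 - ω) by ring]; exact hnn h20 h2 hω'n),
          third_nsq (x := 1) (y := 1 + ω) (by simpa using hω0) (by simpa using hnω)]
        linear_combination -hω
      · have hd2n : ¬ IsSquare (2 - ω - 0) := by
          rw [hrel, hωbar]; exact hsn (mul_ne_zero hω0 hω0) (IsSquare.mul_self ω) hs
        rw [third_nsq hd1 hs, third_nsq hd2 hd2n,
          show 1 + (1 - ω) * (-ω - 1) = ω - 1 by linear_combination hω,
          show 0 + (1 - ω) * (2 - ω - 0) = 1 - 2 * ω by linear_combination hω,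
          third_sq (x := 0) (y := ω - 1) (by simpa [sub_eq_zero] using hω1) (by
            rw [sub_zero, hωbar]; exact IsSquare.mul_self ω),
          third_nsq (x := 1) (y := 1 - 2 * ω) (by
            rw [show 1 - 2 * ω - 1 = 2 * -ω by ring]; exact mul_ne_zero h20 (neg_ne_zero.2 hω0)) (by
            rw [show 1 - 2 * ω - 1 = -ω * 2 by ring]; exact hsn (neg_ne_zero.2 hω0) hsq h2)]
        linear_combination -hω
    have hall : ∀ t, t ≠ 0 → t ≠ 1 → t ≠ ω → T t := by
      intro t a b c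
      obtain ⟨π, h0, h1, ht, hπ⟩ := hinv (1 - ω) t hw (fun e => hω0 (by linear_combination -e))
        (fun e => h2ω (by linear_combination -e)) a b c
      have := congrArg π hT0
      simpa only [T, hπ, h0, h1, ht] using this
    let A := Finset.univ.filter fun t : ZMod p => t ≠ 0 ∧ t ≠ 1 ∧ t ≠ ω ∧
      (IsSquare t ↔ IsSquare (t - 1)) ∧ (IsSquare t ↔ IsSquare (t - ω))
    let val : Bool → ZMod p := fun b => if b then ω else 1 - ω
    let sol : Bool × Bool × Bool × Bool → ZMod p := fun x =>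
      if x.1 then
        (1 - val x.2.2.2 * (1 + ω) - val x.2.2.1 * (1 - val x.2.1)) /
          (val x.2.2.1 * val x.2.1 * ω - val x.2.2.2)
      else
        (1 + val x.2.2.2 * (val x.2.1 * ω - 1) - val x.2.2.1 * (1 - ω)) /
          (val x.2.2.1 - val x.2.2.2 * val x.2.1 * (1 - ω))
    have hsub : A ⊆ Finset.univ.image sol := by
      intro t ht
      simp only [A, Finset.mem_filter, Finset.mem_univ, true_and] at ht
      obtain ⟨t0, t1, tω, hb, hc⟩ := ht
      have hT := hall t t0 t1 tω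
      simp only [T] at hT
      by_cases hts : IsSquare t
      · rw [third_sq (x := 0) (y := t) (by simpa using t0) (by simpa using hts),
          third_sq (x := 1) (y := t) (sub_ne_zero.2 t1) (hb.1 hts)] at hT
        have hg : 1 + ω * (t - 1) - 0 = (t - ω) * ω := by linear_combination hω
        rw [third_nsq (x := 0) (y := 1 + ω * (t - 1)) (by rw [hg]; exact mul_ne_zero (sub_ne_zero.2 tω) hω0)
            (by rw [hg]; exact hsn (sub_ne_zero.2 tω) (hc.1 hts) hnω),
          show 0 + (1 - ω) * (1 + ω * (t - 1) - 0) = t - ω by linear_combination (1 - t) * hω] at hT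
        obtain ⟨a2, ha2⟩ : ∃ a, third ω 1 (0 + ω * (t - 0)) = 1 + val a * (0 + ω * (t - 0) - 1) :=
          (third_cases ω 1 _).elim (fun h => ⟨true, h⟩) (fun h => ⟨false, h⟩)
        rw [ha2] at hT
        obtain ⟨a3, ha3⟩ : ∃ a, third ω 0 (1 + val a2 * (0 + ω * (t - 0) - 1)) =
            0 + val a * (1 + val a2 * (0 + ω * (t - 0) - 1) - 0) :=
          (third_cases ω 0 _).elim (fun h => ⟨true, h⟩) (fun h => ⟨false, h⟩)
        obtain ⟨b3, hb3⟩ : ∃ a, third ω 1 (t - ω) = 1 + val a * (t - ω - 1) :=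
          (third_cases ω 1 _).elim (fun h => ⟨true, h⟩) (fun h => ⟨false, h⟩)
        rw [ha3, hb3] at hT
        refine Finset.mem_image.2 ⟨(true, a2, a3, b3), Finset.mem_univ _, ?_⟩
        simp only [sol, if_true]
        refine (eq_div_of_eq ?_ ?_).symm
        · linear_combination hT
        · intro hk hn
          cases a2 <;> cases a3 <;> cases b3 <;>
            simp only [val, Bool.false_eq_true, if_false, if_true] at hk hn <;> grobner
      · have htn : ¬ IsSquare (t - ω) := fun h => hts (hc.2 h)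
        rw [third_nsq (x := 0) (y := t) (by simpa using t0) (by simpa using hts),
          third_nsq (x := 1) (y := t) (sub_ne_zero.2 t1) (fun h => hts (hb.2 h))] at hT
        have hf : 0 + (1 - ω) * (t - 0) - 1 = (1 - ω) * (t - ω) := by linear_combination -hω
        rw [third_sq (x := 1) (y := 0 + (1 - ω) * (t - 0)) (by rw [hf]; exact mul_ne_zero hw (sub_ne_zero.2 tω))
            (by rw [hf]; exact hnn hw hω'n htn),
          show 1 + ω * (0 + (1 - ω) * (t - 0) - 1) = t + 1 - ω by linear_combination -t * hω] at hT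
        obtain ⟨b2, hb2⟩ : ∃ a, third ω 0 (1 + (1 - ω) * (t - 1)) = 0 + val a * (1 + (1 - ω) * (t - 1) - 0) :=
          (third_cases ω 0 _).elim (fun h => ⟨true, h⟩) (fun h => ⟨false, h⟩)
        rw [hb2] at hT
        obtain ⟨a3, ha3⟩ : ∃ a, third ω 0 (t + 1 - ω) = 0 + val a * (t + 1 - ω - 0) :=
          (third_cases ω 0 _).elim (fun h => ⟨true, h⟩) (fun h => ⟨false, h⟩)
        obtain ⟨b3, hb3⟩ : ∃ a, third ω 1 (0 + val b2 * (1 + (1 - ω) * (t - 1) - 0)) =
            1 + val a * (0 + val b2 * (1 + (1 - ω) * (t - 1) - 0) - 1) :=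
          (third_cases ω 1 _).elim (fun h => ⟨true, h⟩) (fun h => ⟨false, h⟩)
        rw [ha3, hb3] at hT
        refine Finset.mem_image.2 ⟨(false, b2, a3, b3), Finset.mem_univ _, ?_⟩
        simp only [sol, Bool.false_eq_true, if_false]
        refine (eq_div_of_eq ?_ ?_).symm
        · linear_combination hT
        · intro hk hn
          cases b2 <;> cases a3 <;> cases b3 <;>
            simp only [val, Bool.false_eq_true, if_false, if_true] at hk hn <;> grobner
    have hle := (Finset.card_le_card hsub).trans Finset.card_image_le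
    have hcount : 4 * A.card = p - 3 := count_same_class hp4 hω0 hω1 hω hsq
    simp at hle
    have hp67 : p ≤ 67 := by omega
    have hbad : ∃ t, (t ≠ 0 ∧ t ≠ 1 ∧ t ≠ ω) ∧ ¬ T t := by
      simp only [T, third]
      clear hall hT0 hsub hle hcount hinv hnn hsn h01 hωbar
      revert ω
      interval_cases p
      all_goals intro ω hω
      all_goals intros
      all_goals first
        | omega
        | (revert hp; norm_num; done)
        | exact absurd hω (small_no_root_eleven ω)
        | exact absurd hω (no_root_small.1 ω)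
        | exact absurd hω (no_root_small.2.1 ω)
        | exact absurd hω (no_root_small.2.2 ω)
        | exact small_bad_19 ω hω
        | exact small_bad_31 ω hω
        | exact small_bad_43 ω hω
        | exact small_bad_67 ω hω
    obtain ⟨t, ⟨a, b, c⟩, hbad⟩ := hbad
    exact hbad (hall t a b c)

end CfsgLib.TripleSystem
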