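/-
Prime degree p > 7 with half Sylow normaliser: no invariant system of blocks for a point stabiliser.
-/
import Cfsg.Agent.Lib.Perm.HalfNormalizer
import Cfsg.Agent.Lib.Perm.TripleSystem
import Cfsg.Agent.S0676

set_option autoImplicit false

namespace CfsgLib.HalfBlocks

variable {G α : Type*} [Group G] [MulAction G α] {p : ℕ} [Fact p.Prime]

/-- The even case: `G` is triply transitive. -/
theorem three_of_mod_one [Finite G] [FaithfulSMul G α] [MulAction.IsPretransitive G α] (hα : Nat.card α = p)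
    (hp4 : p % 4 = 1) (hins : ¬ Group.IsSolvable G) (P : Sylow p G)
    (hN : 2 * Nat.card ↥(Subgroup.normalizer ((P : Subgroup G) : Set G)) = p * (p - 1)) :
    MulAction.IsMultiplyPretransitive G α 3 := by
  classical
  haveI : Finite α := Nat.finite_of_card_ne_zero (hα ▸ (Fact.out : p.Prime).ne_zero)
  haveI := Fintype.ofFinite α
  let φ := MulAction.toPermHom G α
  have hφ : Function.Injective φ := MulAction.toPerm_injective
  haveI : MulAction.IsPretransitive φ.range α := ⟨fun x y => by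
    obtain ⟨g, hg⟩ := MulAction.exists_smul_eq G x y
    exact ⟨⟨φ g, g, rfl⟩, hg⟩⟩
  have hins' : ¬ Group.IsSolvable φ.range := fun h => hins (by
    haveI := h
    exact Group.isSolvable_of_isSolvable_injective (f := φ.rangeRestrict) fun u v huv =>
      hφ (congrArg Subtype.val huv))
  let P' := P.mapSurjective φ.rangeRestrict_surjective
  have hev : Even (Nat.card (Subgroup.normalizer ((P' : Subgroup φ.range) : Set φ.range))) := by
    have hb : Function.Bijective φ.rangeRestrict :=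
      ⟨fun u v huv => hφ (congrArg Subtype.val huv), φ.rangeRestrict_surjective⟩
    have hev0 : Even (Nat.card (Subgroup.normalizer ((P : Subgroup G) : Set G))) := by
      obtain ⟨j, hj⟩ : ∃ j, p - 1 = 4 * j := ⟨(p - 1) / 4, by omega⟩
      refine ⟨p * j, Nat.eq_of_mul_eq_mul_left (show 0 < 2 by norm_num) ?_⟩
      rw [hN, hj]; ring
    rw [show (P' : Subgroup φ.range) = (P : Subgroup G).map φ.rangeRestrict from rfl,
      ← Subgroup.map_normalizer_eq_of_bijective _ hb,
      ← Nat.card_congr ((Subgroup.normalizer ((P : Subgroup G) : Set G)).equivMapOfInjective _ hb.1).toEquiv]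
    exact hev0
  have h3 := Cfsg.Agent.S0676.result (by rw [← Nat.card_eq_fintype_card, hα]) φ.range hins' P' hev
  refine ⟨fun i j => ?_⟩
  obtain ⟨⟨_, g, rfl⟩, hg⟩ := MulAction.exists_smul_eq φ.range i j
  exact ⟨g, hg⟩

/-- A point stabiliser has no proper block with two points. -/
theorem no_block [Finite G] [FaithfulSMul G α] [MulAction.IsPretransitive G α] (hα : Nat.card α = p)
    (hp7 : 7 < p) (hins : ¬ Group.IsSolvable G) (P : Sylow p G)
    (hN : 2 * Nat.card ↥(Subgroup.normalizer ((P : Subgroup G) : Set G)) = p * (p - 1))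
    (x₀ : α) (B : Set α) (hB : ∀ g : G, g • x₀ = x₀ → ∀ x ∈ B, g • x ∈ B → ∀ y ∈ B, g • y ∈ B)
    (hx₀ : x₀ ∉ B) (y₀ a o : α) (hy : y₀ ∈ B) (ha : a ∈ B) (hay : a ≠ y₀) (ho : o ∉ B) (hox : o ≠ x₀) :
    False := by
  classical
  have hp : p.Prime := Fact.out
  haveI : Finite α := Nat.finite_of_card_ne_zero (hα ▸ hp.ne_zero)
  haveI := Fintype.ofFinite α
  have hα' : Fintype.card α = p := by rw [← Nat.card_eq_fintype_card, hα]
  have hxy : x₀ ≠ y₀ := fun h => hx₀ (h ▸ hy)
  have hax : a ≠ x₀ := fun h => hx₀ (h ▸ ha)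
  have hoy : o ≠ y₀ := fun h => ho (h ▸ hy)
  let Rel : α → α → Prop := fun u v => ∃ g : G, g • x₀ = x₀ ∧ g • y₀ = y₀ ∧ g • u = v
  have hsymm : ∀ u v, Rel u v → Rel v u := fun u v ⟨g, h1, h2, h3⟩ =>
    ⟨g⁻¹, by rw [inv_smul_eq_iff, h1], by rw [inv_smul_eq_iff, h2], by rw [inv_smul_eq_iff, h3]⟩
  have htrans : ∀ u v w, Rel u v → Rel v w → Rel u w := fun u v w ⟨g, a1, a2, a3⟩ ⟨h, b1, b2, b3⟩ =>
    ⟨h * g, by rw [mul_smul, a1, b1], by rw [mul_smul, a2, b2], by rw [mul_smul, a3, b3]⟩
  have hRB : ∀ u v, Rel u v → u ∈ B → v ∈ B := fun u v ⟨g, h1, h2, h3⟩ hu =>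
    h3 ▸ hB g h1 y₀ hy (h2.symm ▸ hy) u hu
  have hao : ¬ Rel a o := fun h => ho (hRB _ _ h ha)
  have hp4 : p % 4 = 3 := by
    have h1 := hp.eq_one_or_self_of_dvd 2
    rcases (show p % 4 = 0 ∨ p % 4 = 1 ∨ p % 4 = 2 ∨ p % 4 = 3 by omega) with h | h | h | h
    · have := h1 (by omega); omega
    · exfalso
      have h3 := three_of_mod_one hα h hins P hN
      let i : Fin 3 ↪ α := ⟨![x₀, y₀, a], fun k l => by
        fin_cases k <;> fin_cases l <;> simp [hxy, hax, hay, hxy.symm, Ne.symm hax, Ne.symm hay]⟩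
      let j : Fin 3 ↪ α := ⟨![x₀, y₀, o], fun k l => by
        fin_cases k <;> fin_cases l <;> simp [hxy, hox, hoy, hxy.symm, Ne.symm hox, Ne.symm hoy]⟩
      obtain ⟨g, hg⟩ := h3.exists_smul_eq i j
      exact hao ⟨g, congrArg (fun f : Fin 3 ↪ α => f 0) hg, congrArg (fun f : Fin 3 ↪ α => f 1) hg,
        congrArg (fun f : Fin 3 ↪ α => f 2) hg⟩
    · have := h1 (by omega); omega
    · exact h
  -- exactly two orbits
  have hdich : ∀ u, u ≠ x₀ → u ≠ y₀ → Rel a u ∨ Rel o u := by
    intro u hux huy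
    obtain ⟨i, j, hij, g, g0, g1, g2⟩ := CfsgLib.HalfNormalizer.orbits_le_two hα hp4 hins P hN x₀ y₀ hxy
      ![a, o, u] (by intro i; fin_cases i <;> simp [hax, hay, hox, hoy, hux, huy])
    have h : Rel (![a, o, u] i) (![a, o, u] j) := ⟨g, g0, g1, g2⟩
    have h' := hsymm _ _ h
    fin_cases i <;> fin_cases j <;> simp at h h' hij
    all_goals first
      | exact Or.inl h
      | exact Or.inl h'
      | exact Or.inr h
      | exact Or.inr h'
      | exact absurd h hao
      | exact absurd h' hao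
  have h2t : MulAction.IsMultiplyPretransitive G α 2 := by
    by_contra h
    obtain ⟨e', he'⟩ := CfsgLib.PrimeDegree.affine_coordinates hα h
    exact hins (CfsgLib.PrimeDegree.isSolvable_of_affine e' he')
  have h2' : ∀ {x y z u : α} (_ : x ≠ y) (_ : z ≠ u), ∃ g : G, g • x = z ∧ g • y = u :=
    MulAction.is_two_pretransitive_iff.1 h2t
  obtain ⟨τ, hτx, hτy⟩ := h2' hxy hxy.symm
  have hτR : ∀ u v, Rel u v → Rel (τ • u) (τ • v) := fun u v ⟨g, h1, h2, h3⟩ =>
    ⟨τ * g * τ⁻¹, by rw [mul_smul, mul_smul, ← hτy, inv_smul_smul, h2],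
      by rw [mul_smul, mul_smul, ← hτx, inv_smul_smul, h1],
      by rw [mul_smul, mul_smul, inv_smul_smul, h3]⟩
  have hττ : ∀ u, Rel u (τ • τ • u) := fun u =>
    ⟨τ * τ, by rw [mul_smul, hτx, hτy], by rw [mul_smul, hτy, hτx], mul_smul _ _ _⟩
  have hτne : ∀ u, u ≠ x₀ → u ≠ y₀ → τ • u ≠ x₀ ∧ τ • u ≠ y₀ := fun u h1 h2 =>
    ⟨fun h => h2 (smul_left_cancel τ (h.trans hτy.symm)), fun h => h1 (smul_left_cancel τ (h.trans hτx.symm))⟩
  -- the exchange fixes both orbits
  have hτa : Rel a (τ • a) := by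
    refine (hdich _ (hτne a hax hay).1 (hτne a hax hay).2).resolve_right fun hoa => ?_
    let A := Finset.univ.filter fun u => Rel a u
    let O := Finset.univ.filter fun u => Rel o u
    have hAne : ∀ {u}, u ∈ A → u ≠ x₀ ∧ u ≠ y₀ := by
      intro u hu
      obtain ⟨g, h1, h2, h3⟩ := (Finset.mem_filter.1 hu).2
      exact ⟨fun e => hax (smul_left_cancel g ((h3.trans e).trans h1.symm)),
        fun e => hay (smul_left_cancel g ((h3.trans e).trans h2.symm))⟩
    have hOne : ∀ {u}, u ∈ O → u ≠ x₀ ∧ u ≠ y₀ := by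
      intro u hu
      obtain ⟨g, h1, h2, h3⟩ := (Finset.mem_filter.1 hu).2
      exact ⟨fun e => hox (smul_left_cancel g ((h3.trans e).trans h1.symm)),
        fun e => hoy (smul_left_cancel g ((h3.trans e).trans h2.symm))⟩
    have hcard : A.card = O.card := by
      refine Finset.card_bij (fun u _ => τ • u) (fun u hu => ?_) (fun u _ v _ h => smul_left_cancel τ h)
        fun v hv => ⟨τ⁻¹ • v, ?_, smul_inv_smul τ v⟩
      · exact Finset.mem_filter.2 ⟨Finset.mem_univ _, htrans _ _ _ hoa (hτR _ _ (Finset.mem_filter.1 hu).2)⟩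
      · have h1 : Rel o v := (Finset.mem_filter.1 hv).2
        have hne : τ⁻¹ • v ≠ x₀ ∧ τ⁻¹ • v ≠ y₀ := ⟨fun e => (hOne hv).2 (by
          rw [inv_smul_eq_iff, hτx] at e; exact e), fun e => (hOne hv).1 (by
          rw [inv_smul_eq_iff, hτy] at e; exact e)⟩
        refine Finset.mem_filter.2 ⟨Finset.mem_univ _, (hdich _ hne.1 hne.2).resolve_right fun h => hao ?_⟩
        -- both would map into the orbit of `a`
        have h3 := hτR _ _ h
        rw [smul_inv_smul] at h3
        have h5 : Rel a (τ • o) := htrans _ _ _ (hττ a) (hτR _ _ (hsymm _ _ hoa))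
        exact htrans _ _ _ (htrans _ _ _ h5 h3) (hsymm _ _ h1)
    have hun : A ∪ O = ({x₀, y₀} : Finset α)ᶜ := by
      ext u
      simp only [Finset.mem_union, Finset.mem_compl, Finset.mem_insert, Finset.mem_singleton, not_or]
      exact ⟨fun h => h.elim hAne hOne, fun h => (hdich u h.1 h.2).imp
        (fun h' => Finset.mem_filter.2 ⟨Finset.mem_univ _, h'⟩) (fun h' => Finset.mem_filter.2 ⟨Finset.mem_univ _, h'⟩)⟩
    have hdis : Disjoint A O := Finset.disjoint_left.2 fun u hu hu' =>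
      hao (htrans _ _ _ (Finset.mem_filter.1 hu).2 (hsymm _ _ (Finset.mem_filter.1 hu').2))
    have hc := congrArg Finset.card hun
    rw [Finset.card_union_of_disjoint hdis, Finset.card_compl, Finset.card_pair hxy, hα', hcard] at hc
    omega
  -- the line through the two points
  let L : Set α := insert x₀ B
  let St : G → Prop := fun g => ∀ z, g • z ∈ L ↔ z ∈ L
  have hSt_of : ∀ g : G, (∀ z ∈ L, g • z ∈ L) → St g := by
    intro g hg z
    refine ⟨fun hz => ?_, hg z⟩
    have hfin : L.Finite := Set.toFinite L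
    have himg : (g • ·) '' L = L := by
      refine Set.eq_of_subset_of_ncard_le (fun w ⟨u, hu, hw⟩ => hw ▸ hg u hu) ?_ hfin
      rw [Set.ncard_image_of_injective _ (MulAction.injective g)]
    rw [← himg] at hz
    obtain ⟨u, hu, hu'⟩ := hz
    rwa [← smul_left_cancel g hu']
  have hStmul : ∀ g h, St g → St h → St (g * h) := fun g h hg hh z => by rw [mul_smul, hg, hh]
  have hStfix : ∀ g : G, g • x₀ = x₀ → ∀ x ∈ B, g • x ∈ B → St g := fun g h1 x hx hgx => hSt_of g fun z hz => by
    rcases hz with rfl | hz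
    · exact Or.inl h1
    · exact Or.inr (hB g h1 x hx hgx z hz)
  have hSτ : St τ := hSt_of τ fun z hz => by
    rcases hz with rfl | hz
    · exact Or.inr (hτx.symm ▸ hy)
    · by_cases hzy : z = y₀
      · exact Or.inl (hzy ▸ hτy)
      · have hzx : z ≠ x₀ := fun h => hx₀ (h ▸ hz)
        have hza : Rel a z := (hdich z hzx hzy).resolve_right fun h => ho (hRB _ _ (hsymm _ _ h) hz)
        exact Or.inr (hRB _ _ (htrans _ _ _ hτa (hτR _ _ hza)) ha)
  have hSinv : ∀ g, St g → St g⁻¹ := fun g hg z => by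
    have h := hg (g⁻¹ • z)
    rw [smul_inv_smul] at h
    exact h.symm
  have hL2 : ∀ g : G, g • x₀ ∈ L → g • y₀ ∈ L → St g := by
    intro g hgx hgy
    obtain ⟨h1, hh1, hh1x⟩ : ∃ h1, St h1 ∧ h1 • x₀ = g • x₀ := by
      rcases hgx with h | h
      · exact ⟨1, fun z => by rw [one_smul], by rw [one_smul, h]⟩
      · obtain ⟨k, k0, k1⟩ := h2' hxy (show x₀ ≠ g • x₀ from fun e => hx₀ (e ▸ h))
        exact ⟨k * τ, hStmul _ _ (hStfix k k0 y₀ hy (k1.symm ▸ h)) hSτ, by rw [mul_smul, hτx, k1]⟩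
    have hy' : h1⁻¹ • g • y₀ ∈ B := by
      have h := ((hSinv _ hh1) (g • y₀)).2 hgy
      refine h.resolve_left fun e => hxy ?_
      rw [inv_smul_eq_iff, hh1x] at e
      exact (smul_left_cancel g e).symm
    have hk0 : (h1⁻¹ * g) • x₀ = x₀ := by rw [mul_smul, ← hh1x, inv_smul_smul]
    have hk := hStfix _ hk0 y₀ hy (by rwa [mul_smul])
    have := hStmul _ _ hh1 hk
    rwa [mul_inv_cancel_left] at this
  -- coordinates
  obtain ⟨e, htr, hsq⟩ := CfsgLib.HalfNormalizer.exists_square_coords hα P hN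
  have he01 : e 0 ≠ e 1 := fun h => zero_ne_one (e.injective h)
  obtain ⟨g₀, hg₀x, hg₀y⟩ := h2' hxy he01
  let M : ZMod p → Prop := fun u => g₀⁻¹ • e u ∈ L
  let cj : G → ZMod p → ZMod p := fun g u => e.symm (g • e u)
  have hcj : ∀ g u, e (cj g u) = g • e u := fun g u => e.apply_symm_apply _
  have hM : ∀ (g : G) u v, u ≠ v → M u → M v → M (cj g u) → M (cj g v) → ∀ z, M z → M (cj g z) := by
    intro g u v huv hu hv hgu hgv z hz
    obtain ⟨k, k0, k1⟩ := h2' hxy (show g₀⁻¹ • e u ≠ g₀⁻¹ • e v from fun h => huv (e.injective (smul_left_cancel _ h)))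
    have hk : St k := hL2 k (k0.symm ▸ hu) (k1.symm ▸ hv)
    have hc : St (g₀⁻¹ * g * g₀ * k) := by
      refine hL2 _ ?_ ?_
      · simp only [M, hcj] at hgu
        rwa [mul_smul, k0, mul_smul, mul_smul, smul_inv_smul]
      · simp only [M, hcj] at hgv
        rwa [mul_smul, k1, mul_smul, mul_smul, smul_inv_smul]
    have := hStmul _ _ hc (hSinv _ hk)
    rw [mul_inv_cancel_right] at this
    have h' := (this (g₀⁻¹ • e z)).2 hz
    simp only [M, hcj]
    rwa [mul_smul, mul_smul, smul_inv_smul] at h'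
  have hM0 : M 0 := by show g₀⁻¹ • e 0 ∈ L; rw [← hg₀x, inv_smul_smul]; exact Or.inl rfl
  have hM1 : M 1 := by show g₀⁻¹ • e 1 ∈ L; rw [← hg₀y, inv_smul_smul]; exact Or.inr hy
  obtain ⟨z, hz, hz0, hz1⟩ : ∃ z, M z ∧ z ≠ 0 ∧ z ≠ 1 := by
    refine ⟨e.symm (g₀ • a), ?_, fun h => hax (smul_left_cancel g₀ ?_), fun h => hay (smul_left_cancel g₀ ?_)⟩
    · show g₀⁻¹ • e _ ∈ L
      rw [Equiv.apply_symm_apply, inv_smul_smul]; exact Or.inr ha
    · rw [hg₀x, ← h, Equiv.apply_symm_apply]
    · rw [hg₀y, ← h, Equiv.apply_symm_apply]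
  obtain ⟨w₀, hw₀⟩ : ∃ w, ¬ M w := by
    refine ⟨e.symm (g₀ • o), fun h => ?_⟩
    simp only [M, Equiv.apply_symm_apply, inv_smul_smul] at h
    exact h.elim hox ho
  -- the maps of the coordinates
  have haff : ∀ x s : ZMod p, s ≠ 0 → IsSquare s → ∃ g : G, ∀ u, cj g u = x + s * u := by
    rintro x s hs ⟨r, rfl⟩
    obtain ⟨g1, hg1⟩ := hsq r (fun h => hs (by rw [h, mul_zero]))
    obtain ⟨g2, hg2⟩ := htr x
    exact ⟨g2 * g1, fun u => e.injective (by rw [hcj, mul_smul, hg1, hg2, add_comm])⟩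
  have hpair : ∀ x y, M x → M y → y - x ≠ 0 → IsSquare (y - x) → ∀ u, M u → M (x + (y - x) * u) := by
    intro x y hx hy' hd hsd u hu
    obtain ⟨g, hg⟩ := haff x (y - x) hd hsd
    rw [← hg]
    exact hM g 0 1 zero_ne_one hM0 hM1 (by rw [hg]; simpa using hx) (by rw [hg]; simpa using hy') u hu
  have hpre : ∀ x y, M x → M y → y - x ≠ 0 → IsSquare (y - x) → ∀ v, M v → ∃ u, M u ∧ x + (y - x) * u = v := by
    intro x y hx hy' hd hsd v hv
    have h := Finset.surjOn_of_injOn_of_card_le (s := Finset.univ.filter M) (t := Finset.univ.filter M)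
      (fun u => x + (y - x) * u) (fun u hu => by simpa using hpair x y hx hy' hd hsd u (by simpa using hu))
      (fun u _ v _ h => mul_left_cancel₀ hd (add_left_cancel h)) le_rfl
    obtain ⟨u, hu, hu'⟩ := h (show v ∈ Finset.univ.filter M by simpa using hv)
    exact ⟨u, by simpa using hu, hu'⟩
  -- only one square difference from each point
  have hzero : ∀ u, M u → u ≠ 0 → IsSquare u → u = 1 := by
    intro u hu hu0 hus
    by_contra hu1
    have hmul : ∀ v, M v → M (u * v) := fun v hv => by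
      simpa using hpair 0 u hM0 hu (by simpa using hu0) (by simpa using hus) v hv
    obtain ⟨c, d, hc, hd, hc0, hdc, hdcs⟩ : ∃ c d, M c ∧ M d ∧ c ≠ 0 ∧ d - c ≠ 0 ∧ IsSquare (d - c) := by
      by_cases h : IsSquare (u - 1)
      · exact ⟨1, u, hM1, hu, one_ne_zero, sub_ne_zero.2 hu1, h⟩
      · refine ⟨u, 1, hu, hM1, hu0, sub_ne_zero.2 (Ne.symm hu1), ?_⟩
        rw [← neg_sub]
        exact (CfsgLib.TripleSystem.isSquare_neg_iff hp4 (sub_ne_zero.2 hu1)).2 h
    have htransl : ∀ w, M w → M (w + c * (u - 1)) := fun w hw => by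
      obtain ⟨v, hv, rfl⟩ := hpre c d hc hd hdc hdcs w hw
      obtain ⟨v', hv', rfl⟩ := hpre 0 u hM0 hu (by simpa using hu0) (by simpa using hus) v hv
      have := hmul _ (hpair c d hc hd hdc hdcs v' hv')
      convert this using 1
      ring
    have hn : ∀ n : ℕ, M ((n : ZMod p) * (c * (u - 1))) := fun n => by
      induction n with
      | zero => simpa using hM0
      | succ n ih => simpa [add_mul] using htransl _ ih
    refine hw₀ ?_
    have hne : c * (u - 1) ≠ 0 := mul_ne_zero hc0 (sub_ne_zero.2 hu1)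
    have := hn (w₀ / (c * (u - 1))).val
    rwa [ZMod.natCast_zmod_val, div_mul_cancel₀ _ hne] at this
  have huniq : ∀ x y y', M x → M y → M y' → y - x ≠ 0 → IsSquare (y - x) → y' - x ≠ 0 → IsSquare (y' - x) →
      y' = y := by
    intro x y y' hx hy' hy'' hd hs hd' hs'
    obtain ⟨u, hu, hu'⟩ := hpre x y hx hy' hd hs y' hy''
    have h1 : u ≠ 0 := fun h => hd' (by rw [← hu', h]; ring)
    have h2 : IsSquare u := by
      have : u = (y' - x) / (y - x) := by rw [← hu', add_sub_cancel_left, mul_div_cancel_left₀ _ hd]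
      rw [this]; exact hs'.div hs
    rw [← hu', hzero u hu h1 h2]; ring
  have hneg : ∀ d : ZMod p, d ≠ 0 → ¬ IsSquare d → IsSquare (-d) := fun d hd h =>
    (CfsgLib.TripleSystem.isSquare_neg_iff hp4 hd).2 h
  have hpos : ∀ v, M v → v ≠ 0 → v ≠ 1 → IsSquare (-v) ∧ IsSquare (v - 1) := by
    intro v hv h0 h1
    have hn : ¬ IsSquare v := fun h => h1 (hzero v hv h0 h)
    refine ⟨hneg v h0 hn, ?_⟩
    by_contra h
    have := huniq v 0 1 hv hM0 hM1 (by simpa using h0) (by simpa using hneg v h0 hn) (sub_ne_zero.2 (Ne.symm h1))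
      (by rw [← neg_sub]; exact hneg _ (sub_ne_zero.2 h1) h)
    exact one_ne_zero this
  have hMeq : ∀ v, M v → v = 0 ∨ v = 1 ∨ v = z := by
    intro v hv
    by_cases h0 : v = 0
    · exact Or.inl h0
    by_cases h1 : v = 1
    · exact Or.inr (Or.inl h1)
    exact Or.inr (Or.inr (huniq 1 z v hM1 hz hv (sub_ne_zero.2 hz1) (hpos z hz hz0 hz1).2 (sub_ne_zero.2 h1)
      (hpos v hv h0 h1).2))
  have hroot : z * z - z + 1 = 0 := by
    have h := hpair z 0 hz hM0 (by simpa using hz0) (by simpa using (hpos z hz hz0 hz1).1) z hz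
    rcases hMeq _ h with h | h | h
    · refine absurd ?_ hz1
      exact mul_left_cancel₀ hz0 (by linear_combination -h)
    · linear_combination -h
    · refine absurd ?_ hz0
      have : z * z = 0 := by linear_combination -h
      simpa using this
  set T := CfsgLib.TripleSystem.third z with hT
  have hTne : ∀ x y, x ≠ y → T x y ≠ x ∧ T x y ≠ y := by
    intro x y hne
    have hd : y - x ≠ 0 := sub_ne_zero.2 hne.symm
    rcases CfsgLib.TripleSystem.third_cases z x y with h | h <;> rw [hT, h]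
    · exact ⟨fun e => mul_ne_zero hz0 hd (by linear_combination e),
        fun e => mul_ne_zero (sub_ne_zero.2 hz1) hd (by linear_combination e)⟩
    · exact ⟨fun e => mul_ne_zero (sub_ne_zero.2 (Ne.symm hz1)) hd (by linear_combination e),
        fun e => mul_ne_zero hz0 hd (by linear_combination -e)⟩
  have hline : ∀ x y, x ≠ y → ∃ h : G, ∃ u v w, M u ∧ M v ∧ M w ∧ cj h u = x ∧ cj h v = y ∧ cj h w = T x y := by
    intro x y hne
    have hd : y - x ≠ 0 := sub_ne_zero.2 hne.symm
    by_cases hs : IsSquare (y - x)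
    · obtain ⟨g, hg⟩ := haff x (y - x) hd hs
      refine ⟨g, 0, 1, z, hM0, hM1, hz, ?_, ?_, ?_⟩
      · rw [hg]; ring
      · rw [hg]; ring
      · rw [hg, hT, CfsgLib.TripleSystem.third_sq hd hs]; ring
    · obtain ⟨g, hg⟩ := haff y (x - y) (sub_ne_zero.2 hne) (by rw [← neg_sub]; exact hneg _ hd hs)
      refine ⟨g, 1, 0, z, hM1, hM0, hz, ?_, ?_, ?_⟩
      · rw [hg]; ring
      · rw [hg]; ring
      · rw [hg, hT, CfsgLib.TripleSystem.third_nsq hd hs]; ring
  have hcjm : ∀ g h u, cj (g * h) u = cj g (cj h u) := fun g h u => e.injective (by rw [hcj, hcj, hcj, mul_smul])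
  have hcji : ∀ g u v, cj g u = cj g v → u = v := fun g u v h => by
    have := congrArg e h
    rw [hcj, hcj] at this
    exact e.injective (smul_left_cancel g this)
  have hequiv : ∀ (g : G) x y, cj g (T x y) = T (cj g x) (cj g y) := by
    intro g x y
    by_cases hne : x = y
    · subst hne
      simp [hT, CfsgLib.TripleSystem.third]
    obtain ⟨h, u, v, w, hu, hv, hw, eu, ev, ew⟩ := hline x y hne
    have hne' : cj g x ≠ cj g y := fun h' => hne (hcji g _ _ h')
    obtain ⟨h', u', v', w', hu', hv', hw', eu', ev', ew'⟩ := hline (cj g x) (cj g y) hne'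
    -- both are images of the base line through the same two points
    let k := h'⁻¹ * (g * h)
    have hk : ∀ s, cj h' (cj k s) = cj g (cj h s) := fun s => by rw [← hcjm, ← hcjm, mul_inv_cancel_left]
    have hku : cj k u = u' := hcji h' _ _ (by rw [hk, eu, eu'])
    have hkv : cj k v = v' := hcji h' _ _ (by rw [hk, ev, ev'])
    have huv : u ≠ v := fun h'' => hne (by rw [← eu, ← ev, h''])
    have hkw : M (cj k w) := hM k u v huv hu hv (hku.symm ▸ hu') (hkv.symm ▸ hv') w hw
    have hT1 := hTne x y hne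
    have hT2 := hTne _ _ hne'
    have d1 : cj k w ≠ u' := fun h'' => hT1.1 (by
      rw [← ew, ← eu]; exact congrArg (cj h) (hcji k _ _ (h''.trans hku.symm)))
    have d2 : cj k w ≠ v' := fun h'' => hT1.2 (by
      rw [← ew, ← ev]; exact congrArg (cj h) (hcji k _ _ (h''.trans hkv.symm)))
    have d3 : w' ≠ u' := fun h'' => hT2.1 (by rw [← ew', h'', eu'])
    have d4 : w' ≠ v' := fun h'' => hT2.2 (by rw [← ew', h'', ev'])
    have d5 : u' ≠ v' := fun h'' => hne' (by rw [← eu', h'', ev'])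
    have : cj k w = w' := by
      rcases hMeq _ hkw with a1 | a1 | a1 <;> rcases hMeq _ hw' with a2 | a2 | a2 <;>
        rcases hMeq _ hu' with a3 | a3 | a3 <;> rcases hMeq _ hv' with a4 | a4 | a4
      all_goals first
        | exact absurd (a3.trans a4.symm) d5
        | exact absurd (a1.trans a3.symm) d1
        | exact absurd (a1.trans a4.symm) d2
        | exact absurd (a2.trans a3.symm) d3
        | exact absurd (a2.trans a4.symm) d4
        | exact a1.trans a2.symm
    rw [← ew, ← hk, this, ew']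
  refine CfsgLib.TripleSystem.no_triangle_transitive hp4 hp7 z hroot (hpos z hz hz0 hz1).1 ?_
  intro t t' a0 a1 az b0 b1 bz
  obtain ⟨i, j, hij, g, gx, gy, gij⟩ := CfsgLib.HalfNormalizer.orbits_le_two hα hp4 hins P hN (e 0) (e 1) he01
    ![e z, e t, e t'] (by intro i; fin_cases i <;> simp [e.injective.eq_iff, hz0, hz1, a0, a1, b0, b1])
  have hT01 : T 0 1 = z := by
    rw [hT, CfsgLib.TripleSystem.third_sq (by simp) (by simp)]; ring
  have g0 : cj g 0 = 0 := e.injective (by rw [hcj, gx])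
  have g1 : cj g 1 = 1 := e.injective (by rw [hcj, gy])
  have gz : cj g z = z := by rw [← hT01, hequiv, g0, g1]
  have hgz : g • e z = e z := by rw [← hcj, gz]
  fin_cases i <;> fin_cases j <;> simp at hij gij
  · exact absurd (e.injective (hgz.symm.trans gij)) (Ne.symm az)
  · exact absurd (e.injective (hgz.symm.trans gij)) (Ne.symm bz)
  · exact absurd (e.injective (smul_left_cancel g (gij.trans hgz.symm))) az
  · exact ⟨cj g, g0, g1, e.injective (by rw [hcj, gij]), hequiv g⟩
  · exact absurd (e.injective (smul_left_cancel g (gij.trans hgz.symm))) bz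
  · refine ⟨cj g⁻¹, e.injective ?_, e.injective ?_, e.injective ?_, hequiv g⁻¹⟩
    · rw [hcj, inv_smul_eq_iff, gx]
    · rw [hcj, inv_smul_eq_iff, gy]
    · rw [hcj, inv_smul_eq_iff, gij]

end CfsgLib.HalfBlocks
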