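import Mathlib

/-!
Manning's theorem: in an extremely primitive group the point stabilizer is faithful on each non-trivial suborbit.
-/

set_option autoImplicit false

namespace CfsgLib.Manning

open MulAction

variable {G : Type*} [Group G] {Ω : Type*} [MulAction G Ω]

/-- The pointwise stabilizer, inside the stabilizer of `a`, of the suborbit of `b`. -/
def ker (a b : Ω) : Subgroup G :=
  stabilizer G a ⊓ fixingSubgroup G (orbit (stabilizer G a) b)

theorem smul_mem_orbit {a b : Ω} {g : G} (hg : g ∈ stabilizer G a) :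
    g • b ∈ orbit (stabilizer G a) b := ⟨⟨g, hg⟩, rfl⟩

/-- The suborbit size is equivariant. -/
theorem card_orbit_smul (g : G) (a b : Ω) :
    Nat.card (orbit (stabilizer G (g • a)) (g • b)) = Nat.card (orbit (stabilizer G a) b) := by
  refine (Nat.card_congr (Equiv.subtypeEquiv (MulAction.toPerm g) fun x => ?_)).symm
  constructor
  · rintro ⟨⟨k, hk⟩, rfl⟩
    refine ⟨⟨g * k * g⁻¹, ?_⟩, ?_⟩
    · rw [mem_stabilizer_iff, mul_smul, mul_smul, inv_smul_smul, mem_stabilizer_iff.mp hk]
    · show (g * k * g⁻¹) • g • b = g • k • b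
      rw [mul_smul, mul_smul, inv_smul_smul]
  · rintro ⟨⟨k, hk⟩, e⟩
    refine ⟨⟨g⁻¹ * k * g, ?_⟩, ?_⟩
    · rw [mem_stabilizer_iff, mul_smul, mul_smul, mem_stabilizer_iff.mp hk, inv_smul_smul]
    · show (g⁻¹ * k * g) • b = x
      have e' : k • g • b = g • x := e
      rw [mul_smul, mul_smul, e', inv_smul_smul]

/-- Paired suborbits have the same size. -/
theorem card_orbit_comm [Finite G] [IsPretransitive G Ω] (a b : Ω) :
    Nat.card (orbit (stabilizer G a) b) = Nat.card (orbit (stabilizer G b) a) := by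
  have h1 : ∀ a b : Ω, Nat.card (orbit (stabilizer G a) b) *
      Nat.card ↥(stabilizer G a ⊓ stabilizer G b) = Nat.card (stabilizer G a) := by
    intro a b
    rw [← Nat.card_congr (orbitProdStabilizerEquivGroup (stabilizer G a) b), Nat.card_prod]
    congr 1
    exact Nat.card_congr
      { toFun := fun x => ⟨⟨x.1, x.2.1⟩, x.2.2⟩
        invFun := fun x => ⟨x.1.1, x.1.2, x.2⟩
        left_inv := fun _ => rfl
        right_inv := fun _ => rfl }
  have h2 : Nat.card (stabilizer G a) = Nat.card (stabilizer G b) := by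
    obtain ⟨g, rfl⟩ := exists_smul_eq G a b
    rw [stabilizer_smul_eq_stabilizer_map_conj, Subgroup.card_map_of_injective]
    exact (MulAut.conj g).injective
  refine Nat.eq_of_mul_eq_mul_right (Nat.card_pos (α := ↥(stabilizer G a ⊓ stabilizer G b))) ?_
  have h3 := h1 b a
  rw [inf_comm] at h3
  rw [h1, h2, h3]

/-- A normal subgroup of a point stabilizer that moves a point of a primitive suborbit is transitive on it. -/
theorem orbit_of_normal (hep : ∀ a b : Ω, IsPreprimitive (stabilizer G a) (orbit (stabilizer G a) b))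
    {a c : Ω} {K : Subgroup G} (hK : K ≤ stabilizer G a) (hn : stabilizer G a ≤ Subgroup.normalizer (K : Set G))
    (hmove : ∃ k ∈ K, k • c ≠ c) : ∀ x ∈ orbit (stabilizer G a) c, ∃ k ∈ K, k • c = x := by
  intro x hx
  haveI := hep a c
  haveI : (K.subgroupOf (stabilizer G a)).Normal := by
    refine ⟨fun k hk g => ?_⟩
    exact (Subgroup.mem_normalizer_iff.mp (hn g.2) k).mp hk
  have hne : fixedPoints (K.subgroupOf (stabilizer G a)) (orbit (stabilizer G a) c) ≠ Set.univ := by
    intro h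
    obtain ⟨k, hk, hkc⟩ := hmove
    exact hkc (congrArg Subtype.val ((Set.eq_univ_iff_forall.mp h ⟨c, mem_orbit_self _⟩) ⟨⟨k, hK hk⟩, hk⟩))
  haveI := IsQuasiPreprimitive.isPretransitive_of_normal (G := stabilizer G a) (X := orbit (stabilizer G a) c)
    (N := K.subgroupOf (stabilizer G a)) hne
  obtain ⟨k, hk⟩ := exists_smul_eq (K.subgroupOf (stabilizer G a)) (⟨c, mem_orbit_self _⟩ : orbit (stabilizer G a) c) ⟨x, hx⟩
  exact ⟨k.1.1, k.2, congrArg Subtype.val hk⟩

theorem ker_normal (a b : Ω) : stabilizer G a ≤ Subgroup.normalizer ((ker a b : Subgroup G) : Set G) := by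
  intro g hg
  have key : ∀ g ∈ stabilizer G a, ∀ k ∈ ker a b, g * k * g⁻¹ ∈ ker a b := by
    intro g hg k hk
    refine ⟨Subgroup.mul_mem _ (Subgroup.mul_mem _ hg hk.1) (Subgroup.inv_mem _ hg), (mem_fixingSubgroup_iff G).mpr fun y hy => ?_⟩
    obtain ⟨s, rfl⟩ := hy
    have : (g⁻¹ * (s : G)) • b ∈ orbit (stabilizer G a) b := smul_mem_orbit (mul_mem (inv_mem hg) s.2)
    have := (mem_fixingSubgroup_iff G).mp hk.2 _ this
    show (g * k * g⁻¹) • (s : G) • b = (s : G) • b
    rw [mul_smul, mul_smul, ← mul_smul g⁻¹, this, ← mul_smul, mul_inv_cancel_left]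
  refine Subgroup.mem_normalizer_iff.mpr fun k => ⟨key g hg k, fun hk => ?_⟩
  have := key g⁻¹ (inv_mem hg) _ hk
  rwa [show g⁻¹ * (g * k * g⁻¹) * g⁻¹⁻¹ = k by group] at this

variable [Finite G] [Finite Ω] [FaithfulSMul G Ω]

theorem eq_of_stabilizer_eq (hprim : IsPreprimitive G Ω) (hH : ∀ α : Ω, stabilizer G α ≠ ⊥) {a b : Ω}
    (h : stabilizer G a = stabilizer G b) : a = b := by
  by_contra hab
  haveI := hprim
  haveI : Nontrivial Ω := ⟨⟨a, b, hab⟩⟩
  obtain ⟨g, hg⟩ := exists_smul_eq G a b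
  have hmax := IsPreprimitive.isCoatom_stabilizer_of_isPreprimitive G a
  have hgn : g ∈ Subgroup.normalizer ((stabilizer G a : Subgroup G) : Set G) := by
    rw [Subgroup.mem_normalizer_iff]
    intro k
    constructor
    · intro hk
      rw [h, ← hg, mem_stabilizer_iff, mul_smul, mul_smul, inv_smul_smul, mem_stabilizer_iff.mp hk]
    · intro hk
      rw [h, ← hg, mem_stabilizer_iff, mul_smul, mul_smul, inv_smul_smul, smul_left_cancel_iff] at hk
      exact hk
  have htop : Subgroup.normalizer ((stabilizer G a : Subgroup G) : Set G) = ⊤ :=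
    hmax.2 _ (lt_of_le_of_ne Subgroup.le_normalizer fun e => hab (by
      rw [← e, mem_stabilizer_iff] at hgn; rw [← hg, hgn]))
  refine hH a (eq_bot_iff.mpr fun k hk => FaithfulSMul.eq_of_smul_eq_smul (α := Ω) fun x => ?_)
  obtain ⟨t, rfl⟩ := exists_smul_eq G a x
  have hn : t⁻¹ * k * t⁻¹⁻¹ ∈ stabilizer G a := (Subgroup.mem_normalizer_iff.mp (htop ▸ Subgroup.mem_top t⁻¹) k).mp hk
  rw [mem_stabilizer_iff, inv_inv, mul_smul, mul_smul, inv_smul_eq_iff] at hn
  rw [one_smul]; exact hn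

/-- **Manning.** -/
theorem ker_eq_bot (hprim : IsPreprimitive G Ω) (hH : ∀ α : Ω, stabilizer G α ≠ ⊥)
    (hep : ∀ a b : Ω, IsPreprimitive (stabilizer G a) (orbit (stabilizer G a) b)) {α ω : Ω} (hω : ω ≠ α) :
    ker (G := G) α ω = ⊥ := by
  classical
  haveI := hprim
  haveI : Nontrivial Ω := ⟨⟨ω, α, hω⟩⟩
  haveI := Fintype.ofFinite Ω
  obtain ⟨⟨m, hm⟩, hmax⟩ : ∃ m : {x : Ω // x ≠ α}, ∀ x : {x : Ω // x ≠ α},
      Nat.card (orbit (stabilizer G α) x.1) ≤ Nat.card (orbit (stabilizer G α) m.1) := by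
    haveI : Nonempty {x : Ω // x ≠ α} := ⟨⟨ω, hω⟩⟩
    exact Finite.exists_max fun x : {x : Ω // x ≠ α} => Nat.card (orbit (stabilizer G α) x.1)
  obtain ⟨M, hM⟩ : ∃ M, M = Nat.card (orbit (stabilizer G α) m) := ⟨_, rfl⟩
  have hle : ∀ a b : Ω, b ≠ a → Nat.card (orbit (stabilizer G a) b) ≤ M := by
    intro a b hab
    obtain ⟨g, rfl⟩ := exists_smul_eq G α a
    have := hmax ⟨g⁻¹ • b, fun e => hab (by rw [← e, smul_inv_smul])⟩
    rw [← card_orbit_smul g α (g⁻¹ • b), smul_inv_smul] at this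
    exact hM ▸ this
  -- a kernel fixes all large suborbits
  have step : ∀ a b c : Ω, b ≠ a → c ≠ a → Nat.card (orbit (stabilizer G a) c) = M →
      ∀ k ∈ ker (G := G) a b, k • c = c := by
    intro a b c hba hca hc k hk
    by_contra hkc
    have hb : ∀ k ∈ ker (G := G) a b, k • b = b := fun k hk => (mem_fixingSubgroup_iff G).mp hk.2 _ (mem_orbit_self _)
    have hsub : orbit (stabilizer G a) c ⊆ orbit (stabilizer G b) c := by
      intro x hx
      obtain ⟨j, hj, rfl⟩ := orbit_of_normal hep inf_le_left (ker_normal a b) ⟨k, hk, hkc⟩ x hx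
      exact smul_mem_orbit (mem_stabilizer_iff.mpr (hb j hj))
    have hcb : c ≠ b := fun e => hkc (e ▸ hb k hk)
    have heq : orbit (stabilizer G a) c = orbit (stabilizer G b) c := by
      refine Set.eq_of_subset_of_ncard_le hsub ?_ (Set.toFinite _)
      rw [← Nat.card_coe_set_eq, ← Nat.card_coe_set_eq, hc]
      exact hle b c hcb
    let S : Subgroup G :=
      { carrier := {g | ∀ x, x ∈ orbit (stabilizer G a) c ↔ g • x ∈ orbit (stabilizer G a) c}
        mul_mem' := fun {g h} hg hh x => by rw [mul_smul]; exact (hh x).trans (hg (h • x))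
        one_mem' := fun x => by rw [one_smul]
        inv_mem' := fun {g} hg x => by
          have := hg (g⁻¹ • x); rw [smul_inv_smul] at this; exact this.symm }
    have hS : ∀ d : Ω, orbit (stabilizer G a) c = orbit (stabilizer G d) c → stabilizer G d ≤ S := by
      intro d hd g hg x
      rw [hd]
      exact ⟨fun ⟨s, hs⟩ => ⟨⟨g, hg⟩ * s, by
          show (⟨g, hg⟩ * s : stabilizer G d) • c = _
          rw [mul_smul, show s • c = x from hs]; rfl⟩,
        fun ⟨s, hs⟩ => ⟨(⟨g, hg⟩ : stabilizer G d)⁻¹ * s, by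
          show ((⟨g, hg⟩ : stabilizer G d)⁻¹ * s) • c = _
          rw [mul_smul, show s • c = g • x from hs]; exact inv_smul_smul g x⟩⟩
    have htop : S = ⊤ := by
      by_contra hS'
      have h1 : S = stabilizer G a :=
        le_antisymm (((IsPreprimitive.isCoatom_stabilizer_of_isPreprimitive G a).le_iff.mp (hS a rfl)).resolve_left hS').le
          (hS a rfl)
      have h2 : stabilizer G b ≤ stabilizer G a := h1 ▸ hS b heq
      exact hba (eq_of_stabilizer_eq hprim hH
        (((IsPreprimitive.isCoatom_stabilizer_of_isPreprimitive G b).le_iff.mp h2).resolve_left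
          (IsPreprimitive.isCoatom_stabilizer_of_isPreprimitive G a).1)).symm
    obtain ⟨g, hg⟩ := exists_smul_eq G c a
    have ha : a ∈ orbit (stabilizer G a) c := hg ▸ ((show g ∈ S by rw [htop]; trivial) c).mp (mem_orbit_self _)
    obtain ⟨s, hs⟩ := ha
    refine hca ?_
    have : s⁻¹ • a = c := (congrArg (s⁻¹ • ·) hs.symm).trans (inv_smul_smul s c)
    exact this.symm.trans (mem_stabilizer_iff.mp (s⁻¹).2)
  -- the common kernel of the large suborbits
  let L : Ω → Subgroup G := fun a =>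
    stabilizer G a ⊓ fixingSubgroup G {x | x ≠ a ∧ Nat.card (orbit (stabilizer G a) x) = M}
  have hkerL : ∀ a b : Ω, b ≠ a → ker (G := G) a b ≤ L a := fun a b hba k hk =>
    ⟨hk.1, (mem_fixingSubgroup_iff G).mpr fun x hx => step a b x hba hx.1 hx.2 k hk⟩
  have hLn : ∀ a, stabilizer G a ≤ Subgroup.normalizer ((L a : Subgroup G) : Set G) := by
    intro a g hg
    have key : ∀ g ∈ stabilizer G a, ∀ k ∈ L a, g * k * g⁻¹ ∈ L a := by
      intro g hg k hk
      refine ⟨Subgroup.mul_mem _ (Subgroup.mul_mem _ hg hk.1) (Subgroup.inv_mem _ hg), (mem_fixingSubgroup_iff G).mpr fun x hx => ?_⟩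
      have h1 : g⁻¹ • a = a := mem_stabilizer_iff.mp (inv_mem hg)
      have h2 : g⁻¹ • x ≠ a := fun e => hx.1 (smul_left_cancel g⁻¹ (e.trans h1.symm))
      have h3 : Nat.card (orbit (stabilizer G a) (g⁻¹ • x)) = M := by
        rw [← hx.2, ← card_orbit_smul g⁻¹ a x, h1]
      rw [mul_smul, mul_smul, (mem_fixingSubgroup_iff G).mp hk.2 _ ⟨h2, h3⟩, smul_inv_smul]
    refine Subgroup.mem_normalizer_iff.mpr fun k => ⟨key g hg k, fun hk => ?_⟩
    have := key g⁻¹ (inv_mem hg) _ hk
    rwa [show g⁻¹ * (g * k * g⁻¹) * g⁻¹⁻¹ = k by group] at this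
  have hLcard : ∀ a b : Ω, Nat.card (L a) = Nat.card (L b) := by
    suffices ∀ a b : Ω, Nat.card (L a) ≤ Nat.card (L b) from fun a b => le_antisymm (this a b) (this b a)
    intro a b
    obtain ⟨g, rfl⟩ := exists_smul_eq G a b
    refine Nat.card_le_card_of_injective (fun k : L a => (⟨g * k.1 * g⁻¹, ?_, ?_⟩ : L (g • a))) ?_
    · show (g * k.1 * g⁻¹) • g • a = g • a
      rw [mul_smul, mul_smul, inv_smul_smul, mem_stabilizer_iff.mp k.2.1]
    · refine (mem_fixingSubgroup_iff G).mpr fun x hx => ?_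
      have h2 : g⁻¹ • x ≠ a := fun e => hx.1 (by rw [← e, smul_inv_smul])
      have h3 : Nat.card (orbit (stabilizer G a) (g⁻¹ • x)) = M := by
        rw [← hx.2, ← card_orbit_smul g a (g⁻¹ • x), smul_inv_smul]
      rw [mul_smul, mul_smul, (mem_fixingSubgroup_iff G).mp k.2.2 _ ⟨h2, h3⟩, smul_inv_smul]
    · intro k k' e
      exact Subtype.ext (mul_left_cancel (mul_right_cancel (congrArg Subtype.val e)))
  have hsame : ∀ a w : Ω, w ≠ a → Nat.card (orbit (stabilizer G a) w) = M → L a = L w := by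
    intro a w hwa hw
    have hw' : Nat.card (orbit (stabilizer G w) a) = M := by rw [← card_orbit_comm a w, hw]
    have haw : L a ≤ stabilizer G w := fun k hk => (mem_fixingSubgroup_iff G).mp hk.2 _ ⟨hwa, hw⟩
    have hwa' : L w ≤ stabilizer G a := fun k hk => (mem_fixingSubgroup_iff G).mp hk.2 _ ⟨hwa.symm, hw'⟩
    by_cases hfix : ∀ k ∈ L a, ∀ c, c ≠ w → Nat.card (orbit (stabilizer G w) c) = M → k • c = c
    · refine Subgroup.eq_of_le_of_card_ge (fun k hk => ⟨haw hk, ?_⟩) (hLcard w a).le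
      exact (mem_fixingSubgroup_iff G).mpr fun x hx => hfix k hk x hx.1 hx.2
    · push Not at hfix
      obtain ⟨k, hk, c, hcw, hc, hkc⟩ := hfix
      have hca : c ≠ a := fun e => hkc (e ▸ mem_stabilizer_iff.mp hk.1)
      refine (Subgroup.eq_of_le_of_card_ge (fun j hj => hkerL a c hca ⟨hwa' hj, ?_⟩) (hLcard a w).le).symm
      refine (mem_fixingSubgroup_iff G).mpr fun x hx => ?_
      obtain ⟨i, hi, rfl⟩ := orbit_of_normal hep inf_le_left (hLn a) ⟨k, hk, hkc⟩ x hx
      refine (mem_fixingSubgroup_iff G).mp hj.2 _ ⟨fun e => hcw ?_, ?_⟩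
      · exact smul_left_cancel i (e.trans (mem_stabilizer_iff.mp (haw hi)).symm)
      · have h := card_orbit_smul i w c
        rw [mem_stabilizer_iff.mp (haw hi), hc] at h
        exact h
  have h1 : L α = L m := hsame α m hm hM.symm
  have hne : ¬ stabilizer G m ≤ stabilizer G α := fun h2 => hm (eq_of_stabilizer_eq hprim hH
    (((IsPreprimitive.isCoatom_stabilizer_of_isPreprimitive G m).le_iff.mp h2).resolve_left
      (IsPreprimitive.isCoatom_stabilizer_of_isPreprimitive G α).1)).symm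
  have htop : Subgroup.normalizer ((L α : Subgroup G) : Set G) = ⊤ := by
    by_contra h
    have h2 := ((IsPreprimitive.isCoatom_stabilizer_of_isPreprimitive G α).le_iff.mp (hLn α)).resolve_left h
    exact hne (by rw [← h2, h1]; exact hLn m)
  rw [eq_bot_iff]
  intro k hk
  have hk' := hkerL α ω hω hk
  refine FaithfulSMul.eq_of_smul_eq_smul (α := Ω) fun x => ?_
  obtain ⟨t, rfl⟩ := exists_smul_eq G α x
  have hn : t⁻¹ * k * t⁻¹⁻¹ ∈ L α := (Subgroup.mem_normalizer_iff.mp (htop ▸ Subgroup.mem_top t⁻¹) k).mp hk'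
  have h3 := mem_stabilizer_iff.mp hn.1
  rw [inv_inv, mul_smul, mul_smul, inv_smul_eq_iff] at h3
  rw [one_smul]; exact h3

end CfsgLib.Manning
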