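/-
Largest abelian subgroups of symmetric and alternating groups.
-/
import Mathlib

set_option linter.unusedSimpArgs false

namespace CfsgLib.MaxAbelianPerm

open Equiv

/-- The largest product of a partition of `n`. -/
def mp (n : ℕ) : ℕ :=
  if n % 3 = 0 then 3 ^ (n / 3)
  else if n % 3 = 1 then (if n = 1 then 1 else 4 * 3 ^ (n / 3 - 1))
  else 2 * 3 ^ (n / 3)

theorem mp_three (j : ℕ) : mp (3 * j) = 3 ^ j := by
  rw [mp, if_pos (by omega)]; congr 1; omega

theorem mp_four (j : ℕ) : mp (3 * j + 4) = 4 * 3 ^ j := by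
  rw [mp, if_neg (by omega), if_pos (by omega), if_neg (by omega)]; congr 2; omega

theorem mp_two (j : ℕ) : mp (3 * j + 2) = 2 * 3 ^ j := by
  rw [mp, if_neg (by omega), if_neg (by omega)]; congr 2; omega

theorem mp_one : mp 1 = 1 := rfl

theorem mp_shape (n : ℕ) : (∃ j, n = 3 * j) ∨ n = 1 ∨ (∃ j, n = 3 * j + 4) ∨ ∃ j, n = 3 * j + 2 := by
  rcases (by omega : n % 3 = 0 ∨ n % 3 = 1 ∨ n % 3 = 2) with h | h | h
  · exact Or.inl ⟨n / 3, by omega⟩
  · by_cases h1 : n = 1
    · exact Or.inr (Or.inl h1)
    · exact Or.inr (Or.inr (Or.inl ⟨n / 3 - 1, by omega⟩))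
  · exact Or.inr (Or.inr (Or.inr ⟨n / 3, by omega⟩))

theorem mp_add_three (x : ℕ) : 2 * mp x ≤ mp (x + 3) := by
  rcases mp_shape x with ⟨j, rfl⟩ | rfl | ⟨j, rfl⟩ | ⟨j, rfl⟩
  · rw [show 3 * j + 3 = 3 * (j + 1) by ring, mp_three, mp_three, pow_succ]; omega
  · decide
  · rw [show 3 * j + 4 + 3 = 3 * (j + 1) + 4 by ring, mp_four, mp_four, pow_succ]; omega
  · rw [show 3 * j + 2 + 3 = 3 * (j + 1) + 2 by ring, mp_two, mp_two, pow_succ]; omega

/-- Removing a part of size at least three more costs at least as much. -/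
theorem shift_le {m x : ℕ} (hm : 3 ≤ m) : (m + 3) * mp x ≤ m * mp (x + 3) := by
  calc (m + 3) * mp x ≤ (2 * m) * mp x := Nat.mul_le_mul_right _ (by omega)
    _ = m * (2 * mp x) := by ring
    _ ≤ m * mp (x + 3) := Nat.mul_le_mul_left _ (mp_add_three x)

theorem mul_mp_sub_le : ∀ m n : ℕ, 1 ≤ m → m ≤ n → m * mp (n - m) ≤ mp n := by
  intro m
  induction m using Nat.strong_induction_on with
  | _ m ih =>
    intro n h1 hn
    by_cases h6 : 6 ≤ m
    · have h := shift_le (m := m - 3) (x := n - m) (by omega)
      rw [show m - 3 + 3 = m by omega, show n - m + 3 = n - (m - 3) by omega] at h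
      exact h.trans (ih (m - 3) (by omega) n (by omega) (by omega))
    · rcases mp_shape (n - m) with ⟨j, hj⟩ | hj | ⟨j, hj⟩ | ⟨j, hj⟩ <;>
        interval_cases m <;> rw [hj]
      · rw [mp_three, show n = 3 * j + 1 by omega]
        rcases j with _ | j
        · decide
        · rw [show 3 * (j + 1) + 1 = 3 * j + 4 by ring, mp_four, pow_succ]; omega
      · rw [mp_three, show n = 3 * j + 2 by omega, mp_two]
      · rw [mp_three, show n = 3 * (j + 1) by omega, mp_three, pow_succ]; omega
      · rw [mp_three, show n = 3 * j + 4 by omega, mp_four]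
      · rw [mp_three, show n = 3 * (j + 1) + 2 by omega, mp_two, pow_succ]; omega
      · rw [show n = 2 by omega]; decide
      · rw [show n = 3 by omega]; decide
      · rw [show n = 4 by omega]; decide
      · rw [show n = 5 by omega]; decide
      · rw [show n = 6 by omega]; decide
      · rw [mp_four, show n = 3 * (j + 1) + 2 by omega, mp_two, pow_succ]; omega
      · rw [mp_four, show n = 3 * (j + 2) by omega, mp_three, pow_succ, pow_succ]; omega
      · rw [mp_four, show n = 3 * (j + 1) + 4 by omega, mp_four, pow_succ]; omega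
      · rw [mp_four, show n = 3 * (j + 2) + 2 by omega, mp_two, pow_succ, pow_succ]; omega
      · rw [mp_four, show n = 3 * (j + 3) by omega, mp_three, pow_succ, pow_succ, pow_succ]; omega
      · rw [mp_two, show n = 3 * (j + 1) by omega, mp_three, pow_succ]; omega
      · rw [mp_two, show n = 3 * j + 4 by omega, mp_four]; omega
      · rw [mp_two, show n = 3 * (j + 1) + 2 by omega, mp_two, pow_succ]; omega
      · rw [mp_two, show n = 3 * (j + 2) by omega, mp_three, pow_succ, pow_succ]; omega
      · rw [mp_two, show n = 3 * (j + 1) + 4 by omega, mp_four, pow_succ]; omega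

/-- For `n = 3k + 2`, parts of size different from two and three give at most `16 * 3^(k-2)`. -/
theorem mul_mp_sub_le_even (k : ℕ) :
    ∀ m : ℕ, 1 ≤ m → m ≤ 3 * (k + 2) + 2 → m ≠ 2 → m ≠ 3 →
      m * mp (3 * (k + 2) + 2 - m) ≤ 16 * 3 ^ k := by
  intro m
  induction m using Nat.strong_induction_on with
  | _ m ih =>
    intro h1 hn h2 h3
    by_cases h7 : 7 ≤ m
    · have h := shift_le (m := m - 3) (x := 3 * (k + 2) + 2 - m) (by omega)
      rw [show m - 3 + 3 = m by omega,
        show 3 * (k + 2) + 2 - m + 3 = 3 * (k + 2) + 2 - (m - 3) by omega] at h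
      exact h.trans (ih (m - 3) (by omega) (by omega) (by omega) (by omega) (by omega))
    · interval_cases m
      · rw [show 3 * (k + 2) + 2 - 1 = 3 * (k + 1) + 4 by omega, mp_four, pow_succ]; omega
      · omega
      · omega
      · rw [show 3 * (k + 2) + 2 - 4 = 3 * k + 4 by omega, mp_four]; omega
      · rw [show 3 * (k + 2) + 2 - 5 = 3 * (k + 1) by omega, mp_three, pow_succ]; omega
      · rw [show 3 * (k + 2) + 2 - 6 = 3 * k + 2 by omega, mp_two]; omega

variable {α : Type*} [Fintype α] [DecidableEq α]

/-- The restriction of a permutation group to the points outside an orbit. -/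
noncomputable def offOrbit (A : Subgroup (Perm α)) (x : α) :
    A →* Perm {y : α // y ∉ MulAction.orbit A x} where
  toFun a := (a : Perm α).subtypePerm fun y => by
    have : (a : Perm α) y = a • y := rfl
    rw [this, ← MulAction.orbit_eq_iff, MulAction.orbit_smul, MulAction.orbit_eq_iff]
  map_one' := by ext; rfl
  map_mul' a b := by ext; rfl

theorem fixes_outside (A : Subgroup (Perm α)) (x : α) {a : A} (ha : a ∈ (offOrbit A x).ker)
    {y : α} (hy : y ∉ MulAction.orbit A x) : (a : Perm α) y = y := by
  have := congrArg (fun f : Perm {y : α // y ∉ MulAction.orbit A x} => ((f ⟨y, hy⟩ : _) : α))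
    (MonoidHom.mem_ker.mp ha)
  simpa [offOrbit] using this

theorem eq_one_of_fixes (A : Subgroup (Perm α)) [IsMulCommutative A] (x : α) {a : A}
    (ha : a ∈ (offOrbit A x).ker) (hx : (a : Perm α) x = x) : a = 1 := by
  apply Subtype.ext
  apply Equiv.ext
  intro y
  by_cases hy : y ∈ MulAction.orbit A x
  · obtain ⟨b, rfl⟩ := hy
    have hc : a * b = b * a := mul_comm' a b
    calc (a : Perm α) ((b : Perm α) x) = ((a * b : A) : Perm α) x := rfl
      _ = ((b * a : A) : Perm α) x := by rw [hc]
      _ = (b : Perm α) x := by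
          show (b : Perm α) ((a : Perm α) x) = _
          rw [hx]
  · simpa using fixes_outside A x ha hy

theorem card_ker_le (A : Subgroup (Perm α)) [IsMulCommutative A] (x : α) :
    Nat.card (offOrbit A x).ker ≤ Nat.card (MulAction.orbit A x) := by
  refine Nat.card_le_card_of_injective
    (fun a : (offOrbit A x).ker => (⟨(a : A) • x, MulAction.mem_orbit x _⟩ : MulAction.orbit A x)) ?_
  intro a b h
  have h' : ((a : A) : Perm α) x = ((b : A) : Perm α) x := congrArg Subtype.val h
  have hk : (b : A)⁻¹ * a ∈ (offOrbit A x).ker := mul_mem (inv_mem b.2) a.2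
  have h1 := eq_one_of_fixes A x hk (by simp [h'])
  apply Subtype.ext
  exact (inv_mul_eq_one.mp h1).symm

theorem card_off (A : Subgroup (Perm α)) (x : α) :
    Nat.card {y : α // y ∉ MulAction.orbit A x} = Fintype.card α - Nat.card (MulAction.orbit A x) := by
  classical
  rw [Nat.card_eq_fintype_card, Fintype.card_subtype_compl, Nat.card_eq_fintype_card]

theorem card_eq_ker_mul_range (A : Subgroup (Perm α)) (x : α) :
    Nat.card A = Nat.card (offOrbit A x).ker * Nat.card (offOrbit A x).range := by
  rw [← Subgroup.card_mul_index (offOrbit A x).ker, Subgroup.index_ker]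

/-- An abelian group of permutations of `n` points has order at most `mp n`. -/
theorem card_le_mp : ∀ (n : ℕ) {α : Type*} [Fintype α] [DecidableEq α], Fintype.card α = n →
    ∀ (A : Subgroup (Perm α)), IsMulCommutative A → Nat.card A ≤ mp n := by
  intro n
  induction n using Nat.strong_induction_on with
  | _ n ih =>
    intro α _ _ hn A hA
    rcases isEmpty_or_nonempty α with h | ⟨⟨x⟩⟩
    · have : Nat.card A = 1 := Nat.card_eq_one_iff_unique.mpr ⟨inferInstance, inferInstance⟩
      rw [this, ← hn, Fintype.card_eq_zero]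
      exact le_of_eq rfl
    · classical
      haveI : Nonempty (MulAction.orbit A x) := ⟨⟨x, MulAction.mem_orbit_self x⟩⟩
      have hpos : 0 < Nat.card (MulAction.orbit A x) := Nat.card_pos
      have hle : Nat.card (MulAction.orbit A x) ≤ n := by
        rw [← hn, ← Nat.card_eq_fintype_card]
        exact Finite.card_subtype_le _
      have hr : Nat.card (offOrbit A x).range ≤ mp (n - Nat.card (MulAction.orbit A x)) := by
        refine ih _ (by omega) ?_ _ inferInstance
        rw [← Nat.card_eq_fintype_card, card_off, hn]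
      rw [card_eq_ker_mul_range A x]
      exact (Nat.mul_le_mul (card_ker_le A x) hr).trans (mul_mp_sub_le _ _ (by omega) hle)

/-- An abelian group of even permutations of `3k + 8` points has order at most `16 * 3^k`. -/
theorem card_le_of_even (k : ℕ) (hn : Fintype.card α = 3 * (k + 2) + 2) (A : Subgroup (Perm α))
    [IsMulCommutative A] (hev : A ≤ alternatingGroup α) : Nat.card A ≤ 16 * 3 ^ k := by
  classical
  obtain ⟨x, hx⟩ : ∃ x : α, Nat.card (MulAction.orbit A x) ≠ 3 := by
    by_contra hcon
    push Not at hcon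
    have h := Nat.card_congr (MulAction.selfEquivSigmaOrbits A α)
    rw [Nat.card_sigma, Nat.card_eq_fintype_card, hn] at h
    simp only [hcon, Finset.sum_const, smul_eq_mul] at h
    omega
  haveI : Nonempty (MulAction.orbit A x) := ⟨⟨x, MulAction.mem_orbit_self x⟩⟩
  have hpos : 0 < Nat.card (MulAction.orbit A x) := Nat.card_pos
  have hle : Nat.card (MulAction.orbit A x) ≤ 3 * (k + 2) + 2 := by
    rw [← hn, ← Nat.card_eq_fintype_card]
    exact Finite.card_subtype_le _
  have hr : Nat.card (offOrbit A x).range ≤ mp (3 * (k + 2) + 2 - Nat.card (MulAction.orbit A x)) := by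
    refine card_le_mp _ ?_ _ inferInstance
    rw [← Nat.card_eq_fintype_card, card_off, hn]
  rw [card_eq_ker_mul_range A x]
  by_cases h2 : Nat.card (MulAction.orbit A x) = 2
  · have hk1 : (offOrbit A x).ker = ⊥ := by
      rw [Subgroup.eq_bot_iff_forall]
      intro a ha
      by_contra hne
      obtain ⟨y, hy, hy2⟩ : ∃ y, y ≠ x ∧ ∀ z ∈ MulAction.orbit A x, z = x ∨ z = y := by
        rw [Nat.card_eq_two_iff' (⟨x, MulAction.mem_orbit_self x⟩ : MulAction.orbit A x)] at h2
        obtain ⟨⟨y, hy⟩, hyne, huniq⟩ := h2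
        refine ⟨y, fun h => hyne (Subtype.ext h), fun z hz => ?_⟩
        by_cases hzx : z = x
        · exact Or.inl hzx
        · exact Or.inr (congrArg Subtype.val (huniq ⟨z, hz⟩ (fun h => hzx (congrArg Subtype.val h))))
      have hax : (a : Perm α) x ≠ x := fun h => hne (eq_one_of_fixes A x ha h)
      have haxy : (a : Perm α) x = y := (hy2 _ (MulAction.mem_orbit x a)).resolve_left hax
      have hsw : (a : Perm α) = Equiv.swap x y := by
        apply Equiv.ext
        intro z
        by_cases hz : z ∈ MulAction.orbit A x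
        · rcases hy2 z hz with rfl | rfl
          · rw [Equiv.swap_apply_left]; exact haxy
          · rw [Equiv.swap_apply_right]
            have hm : (a : Perm α) z ∈ MulAction.orbit A x := by
              rw [← MulAction.orbit_eq_iff] at hz
              have : a • z ∈ MulAction.orbit A x := by
                rw [← MulAction.orbit_eq_iff, MulAction.orbit_smul, hz]
              exact this
            rcases hy2 _ hm with h | h
            · exact h
            · exfalso
              exact hy ((a : Perm α).injective (h.trans haxy.symm))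
        · rw [fixes_outside A x ha hz, Equiv.swap_apply_of_ne_of_ne]
          · rintro rfl; exact hz (MulAction.mem_orbit_self _)
          · rintro rfl
            exact hz (haxy ▸ MulAction.mem_orbit x a)
      have hs := Equiv.Perm.mem_alternatingGroup.mp (hev a.2)
      rw [hsw, Equiv.Perm.sign_swap hy.symm] at hs
      exact absurd hs (by decide)
    rw [hk1, Subgroup.card_bot, one_mul]
    refine hr.trans ?_
    rw [h2, show 3 * (k + 2) + 2 - 2 = 3 * (k + 2) by omega, mp_three, pow_succ, pow_succ]
    omega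
  · exact (Nat.mul_le_mul (card_ker_le A x) hr).trans (mul_mp_sub_le_even k _ (by omega) hle h2 hx)

/-- The sign of a blockwise permutation. -/
theorem sign_sigma {ι : Type*} [Fintype ι] [DecidableEq ι] {β : ι → Type*} [∀ i, Fintype (β i)]
    [∀ i, DecidableEq (β i)] (σ : ∀ i, Perm (β i)) :
    Perm.sign (Equiv.sigmaCongrRight σ) = ∏ i, Perm.sign (σ i) := by
  let F : (∀ i, Perm (β i)) →* ℤˣ := Perm.sign.comp (Perm.sigmaCongrRightHom β)
  let G : (∀ i, Perm (β i)) →* ℤˣ :=
    { toFun := fun τ => ∏ i, Perm.sign (τ i)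
      map_one' := by simp
      map_mul' := fun a b => by simp [Finset.prod_mul_distrib] }
  suffices h : F = G from DFunLike.congr_fun h σ
  refine MonoidHom.pi_ext (fun i g => ?_)
  show Perm.sign (Equiv.sigmaCongrRight (Pi.mulSingle i g)) = ∏ j, Perm.sign ((Pi.mulSingle i g : ∀ j, Perm (β j)) j)
  rw [Finset.prod_eq_single i (fun j _ hj => by rw [Pi.mulSingle_eq_of_ne hj, Perm.sign_one])
    (fun h => absurd (Finset.mem_univ i) h), Pi.mulSingle_eq_same]
  let f : β i ≃ {x : Σ j, β j // x.1 = i} :=
    { toFun := fun b => ⟨⟨i, b⟩, rfl⟩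
      invFun := fun x => x.2 ▸ x.1.2
      left_inv := fun _ => rfl
      right_inv := by rintro ⟨⟨j, b⟩, h⟩; subst h; rfl }
  have : Equiv.sigmaCongrRight (Pi.mulSingle i g) = g.extendDomain f := by
    apply Equiv.ext
    rintro ⟨j, b⟩
    by_cases h : j = i
    · subst h
      have h1 := Perm.extendDomain_apply_image g f b
      simp only [f, Equiv.coe_fn_mk] at h1
      rw [h1]
      simp [Equiv.sigmaCongrRight]
    · rw [Perm.extendDomain_apply_not_subtype g f (show ¬ (Sigma.fst ⟨j, b⟩ = i) from h)]
      simp [Equiv.sigmaCongrRight, Pi.mulSingle_eq_of_ne h]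
  rw [this, Perm.sign_extendDomain]

/-- Regular pieces placed side by side. -/
theorem exists_abelian {r : ℕ} (H : Fin r → Type) [∀ i, CommGroup (H i)] [∀ i, Fintype (H i)]
    [∀ i, DecidableEq (H i)] (n : ℕ) (hn : ∑ i, Fintype.card (H i) = n) :
    ∃ A : Subgroup (Perm (Fin n)), IsMulCommutative A ∧ Nat.card A = ∏ i, Fintype.card (H i) ∧
      ((∀ i, ∀ h : H i, Perm.sign (MulAction.toPerm h : Perm (H i)) = 1) → A ≤ alternatingGroup (Fin n)) := by
  let e : (Σ i, H i) ≃ Fin n := Fintype.equivFinOfCardEq (by rw [Fintype.card_sigma, hn])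
  let f : (∀ i, H i) →* Perm (Fin n) :=
    (e.permCongrHom.toMonoidHom).comp ((Perm.sigmaCongrRightHom H).comp
      (MonoidHom.piMap fun i => MulAction.toPermHom (H i) (H i)))
  have hf : Function.Injective f := by
    intro a b hab
    have h1 := Perm.sigmaCongrRightHom_injective (e.permCongrHom.injective hab)
    funext i
    have h2 := congrFun h1 i
    exact MulAction.toPerm_injective h2
  refine ⟨f.range, inferInstance, ?_, ?_⟩
  · rw [← Nat.card_congr (MonoidHom.ofInjective hf).toEquiv, Nat.card_eq_fintype_card,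
      Fintype.card_pi]
  · rintro hs _ ⟨a, rfl⟩
    rw [Equiv.Perm.mem_alternatingGroup]
    show Perm.sign (e.permCongr (Equiv.sigmaCongrRight fun i => MulAction.toPerm (a i))) = 1
    rw [Perm.sign_permCongr, sign_sigma]
    simp [hs]

theorem sign_twotwo : ∀ h : Multiplicative (ZMod 2 × ZMod 2),
    Perm.sign (MulAction.toPerm h : Perm (Multiplicative (ZMod 2 × ZMod 2))) = 1 := by
  decide +kernel

theorem sign_four (a b : ℕ) [NeZero a] [NeZero b] (ha : a = 2) (hb : b = 2)
    (h : Multiplicative (ZMod a × ZMod b)) :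
    Perm.sign (MulAction.toPerm h : Perm (Multiplicative (ZMod a × ZMod b))) = 1 := by
  subst ha hb
  exact sign_twotwo h

/-- Piece orders as products of two cyclic groups. -/
theorem exists_pieces {r : ℕ} (d e : Fin r → ℕ) [∀ i, NeZero (d i)] [∀ i, NeZero (e i)] (n : ℕ)
    (hn : ∑ i, d i * e i = n) :
    ∃ A : Subgroup (Perm (Fin n)), IsMulCommutative A ∧ Nat.card A = ∏ i, d i * e i ∧
      ((∀ i, (Odd (d i * e i)) ∨ (d i = 2 ∧ e i = 2)) → A ≤ alternatingGroup (Fin n)) := by
  obtain ⟨A, h1, h2, h3⟩ := exists_abelian (fun i => Multiplicative (ZMod (d i) × ZMod (e i))) n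
    (by simpa [Fintype.card_prod] using hn)
  refine ⟨A, h1, by simpa [Fintype.card_prod] using h2, fun hc => h3 fun i h => ?_⟩
  rcases hc i with ho | ⟨hd, he⟩
  · have hp : h ^ (d i * e i) = 1 := by
      have := pow_card_eq_one (x := h)
      simpa [Fintype.card_prod] using this
    have : (Perm.sign (MulAction.toPerm h : Perm (Multiplicative (ZMod (d i) × ZMod (e i))))) ^ (d i * e i) = 1 := by
      rw [← map_pow, ← MulAction.toPermHom_apply, ← map_pow, hp, map_one, map_one]
    rcases Int.units_eq_one_or (Perm.sign (MulAction.toPerm h : Perm (Multiplicative (ZMod (d i) × ZMod (e i))))) with h0 | h0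
    · exact h0
    · rw [h0, ho.neg_one_pow] at this
      rw [h0]
      exact this
  · exact sign_four (d i) (e i) hd he h

end CfsgLib.MaxAbelianPerm
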