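/-
Checking sharply transitive subgroups of GL(2, p) from a list of words.
-/
import Mathlib

set_option autoImplicit false

namespace CfsgLib.SharpGL2

/-- Two by two matrices modulo `p` as quadruples of natural numbers. -/
abbrev M4 := ℕ × ℕ × ℕ × ℕ

def mul4 (p : ℕ) (a b : M4) : M4 :=
  ((a.1 * b.1 + a.2.1 * b.2.2.1) % p, (a.1 * b.2.1 + a.2.1 * b.2.2.2) % p,
    (a.2.2.1 * b.1 + a.2.2.2 * b.2.2.1) % p, (a.2.2.1 * b.2.1 + a.2.2.2 * b.2.2.2) % p)

def one4 : M4 := (1, 0, 0, 1)

def build (p : ℕ) (gens : List M4) : List (ℕ × ℕ) → List M4 → List M4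
  | [], acc => acc
  | s :: ss, acc => build p gens ss (acc ++ [mul4 p (gens.getD s.1 one4) (acc.getD s.2 one4)])

def col (a : M4) : ℕ × ℕ := (a.1, a.2.2.1)

variable (p : ℕ)

def toMat (a : M4) : Matrix (Fin 2) (Fin 2) (ZMod p) :=
  !![(a.1 : ZMod p), (a.2.1 : ZMod p); (a.2.2.1 : ZMod p), (a.2.2.2 : ZMod p)]

theorem toMat_mul (a b : M4) : toMat p (mul4 p a b) = toMat p a * toMat p b := by
  ext i j
  fin_cases i <;> fin_cases j <;> simp [toMat, mul4, Matrix.mul_apply, Fin.sum_univ_two]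

theorem toMat_one : toMat p one4 = 1 := by
  ext i j
  fin_cases i <;> fin_cases j <;> simp [toMat, one4]

theorem main [Fact p.Prime] {ι : Type} [Fintype ι] (gm : ι → Matrix.GeneralLinearGroup (Fin 2) (ZMod p)) (g4 : ι → M4)
    (hg : ∀ i, (gm i : Matrix (Fin 2) (Fin 2) (ZMod p)) = toMat p (g4 i))
    (gens : List M4) (steps : List (ℕ × ℕ)) (n : ℕ)
    (hgens : ∀ g ∈ gens, ∃ i, g4 i = g)
    (hclosed : ∀ i, ∀ a ∈ build p gens steps [one4], mul4 p (g4 i) a ∈ build p gens steps [one4])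
    (hlen : (build p gens steps [one4]).length = n)
    (hsize : n + 1 = p * p)
    (hsmall : ∀ a ∈ build p gens steps [one4], a.1 < p ∧ a.2.2.1 < p ∧ col a ≠ (0, 0))
    (hnodup : ((build p gens steps [one4]).map col).Nodup) :
    Nat.card (Subgroup.closure (Set.range gm)) = n ∧
      ∀ v w : Fin 2 → ZMod p, v ≠ 0 → w ≠ 0 → ∃! h : Subgroup.closure (Set.range gm),
        Matrix.mulVec ((h : Matrix.GeneralLinearGroup (Fin 2) (ZMod p)) : Matrix (Fin 2) (Fin 2) (ZMod p)) v = w := by
  classical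
  set H := Subgroup.closure (Set.range gm) with hH
  set L := build p gens steps [one4] with hL
  -- every listed matrix comes from the closure
  have hbuild : ∀ (ss : List (ℕ × ℕ)) (acc : List M4),
      (∀ a ∈ acc, ∃ h ∈ H, (h : Matrix (Fin 2) (Fin 2) (ZMod p)) = toMat p a) →
      ∀ a ∈ build p gens ss acc, ∃ h ∈ H, (h : Matrix (Fin 2) (Fin 2) (ZMod p)) = toMat p a := by
    intro ss
    induction ss with
    | nil => exact fun acc h => h
    | cons s ss ih =>
      intro acc hacc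
      refine ih _ fun a ha => ?_
      rcases List.mem_append.mp ha with ha | ha
      · exact hacc a ha
      · rw [List.mem_singleton] at ha
        subst ha
        have hdef : ∀ (l : List M4) (i : ℕ), (∀ b ∈ l, ∃ h ∈ H, (h : Matrix (Fin 2) (Fin 2) (ZMod p)) = toMat p b) →
            ∃ h ∈ H, (h : Matrix (Fin 2) (Fin 2) (ZMod p)) = toMat p (l.getD i one4) := by
          intro l i hl
          by_cases hi : i < l.length
          · rw [List.getD_eq_getElem _ _ hi]; exact hl _ (List.getElem_mem hi)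
          · rw [List.getD_eq_default _ _ (not_lt.mp hi)]
            exact ⟨1, H.one_mem, by rw [Units.val_one, toMat_one]⟩
        obtain ⟨x, hx, hxe⟩ := hdef gens s.1 fun b hb => by
          obtain ⟨i, rfl⟩ := hgens b hb
          exact ⟨gm i, Subgroup.subset_closure ⟨i, rfl⟩, hg i⟩
        obtain ⟨y, hy, hye⟩ := hdef acc s.2 hacc
        exact ⟨x * y, H.mul_mem hx hy, by rw [Units.val_mul, hxe, hye, toMat_mul]⟩
  have hin : ∀ a ∈ L, ∃ h ∈ H, (h : Matrix (Fin 2) (Fin 2) (ZMod p)) = toMat p a :=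
    hbuild steps [one4] fun a ha => ⟨1, H.one_mem, by
      rw [List.mem_singleton] at ha; rw [Units.val_one, ha, toMat_one]⟩
  have hone : one4 ∈ L := by
    have key : ∀ (ss : List (ℕ × ℕ)) (acc : List M4), one4 ∈ acc → one4 ∈ build p gens ss acc := by
      intro ss
      induction ss with
      | nil => exact fun acc h => h
      | cons s ss ih => exact fun acc h => ih _ (List.mem_append_left _ h)
    exact key _ _ (List.mem_singleton_self _)
  -- the closure is inside the list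
  have hout : ∀ h ∈ H, ∃ a ∈ L, (h : Matrix (Fin 2) (Fin 2) (ZMod p)) = toMat p a := by
    intro h hh
    suffices key : ∀ a ∈ L, ∃ b ∈ L, (h : Matrix (Fin 2) (Fin 2) (ZMod p)) * toMat p a = toMat p b by
      obtain ⟨b, hb, e⟩ := key one4 hone
      exact ⟨b, hb, by rwa [toMat_one, mul_one] at e⟩
    rw [hH, ← Subgroup.mem_toSubmonoid, Subgroup.closure_toSubmonoid_of_finite] at hh
    refine Submonoid.closure_induction (fun z hz a ha => ?_) (fun a ha => ⟨a, ha, by rw [Units.val_one, one_mul]⟩)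
      (fun u v _ _ hu hv a ha => ?_) hh
    · obtain ⟨i, rfl⟩ := hz
      exact ⟨_, hclosed i a ha, by rw [hg, toMat_mul]⟩
    · obtain ⟨b, hb, e⟩ := hv a ha
      obtain ⟨c, hc, e'⟩ := hu b hb
      exact ⟨c, hc, by rw [Units.val_mul, mul_assoc, e, e']⟩
  have hp : p.Prime := Fact.out
  let e1 : Fin 2 → ZMod p := ![1, 0]
  have hcolv : ∀ a, Matrix.mulVec (toMat p a) e1 = ![((col a).1 : ZMod p), ((col a).2 : ZMod p)] := by
    intro a
    ext i
    fin_cases i <;> simp [toMat, e1, col]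
  let ev : H → (Fin 2 → ZMod p) := fun h =>
    Matrix.mulVec ((h : Matrix.GeneralLinearGroup (Fin 2) (ZMod p)) : Matrix (Fin 2) (Fin 2) (ZMod p)) e1
  have hinj : Function.Injective ev := by
    rintro ⟨u, hu⟩ ⟨v, hv⟩ e
    obtain ⟨a, ha, hae⟩ := hout u hu
    obtain ⟨b, hb, hbe⟩ := hout v hv
    have e' : Matrix.mulVec (toMat p a) e1 = Matrix.mulVec (toMat p b) e1 := by rw [← hae, ← hbe]; exact e
    rw [hcolv, hcolv] at e'
    have h0 := congrFun e' 0
    have h1 := congrFun e' 1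
    simp only [Matrix.cons_val_zero, Matrix.cons_val_one] at h0 h1
    obtain ⟨ha1, ha2, -⟩ := hsmall a ha
    obtain ⟨hb1, hb2, -⟩ := hsmall b hb
    have hab : col a = col b := Prod.ext
      (by simpa [col, ZMod.val_natCast, Nat.mod_eq_of_lt ha1, Nat.mod_eq_of_lt hb1] using congrArg ZMod.val h0)
      (by simpa [col, ZMod.val_natCast, Nat.mod_eq_of_lt ha2, Nat.mod_eq_of_lt hb2] using congrArg ZMod.val h1)
    have := List.inj_on_of_nodup_map hnodup ha hb hab
    subst this
    exact Subtype.ext (Units.ext (hae.trans hbe.symm))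
  have hLnd : L.Nodup := List.Nodup.of_map _ hnodup
  have hcard : Nat.card H = n := by
    rw [← hlen, ← List.toFinset_card_of_nodup hLnd, ← Nat.card_eq_finsetCard]
    choose f hf hfe using fun h : H => hout h h.2
    refine Nat.card_eq_of_bijective (fun h => (⟨f h, List.mem_toFinset.mpr (hf h)⟩ : L.toFinset)) ⟨fun u v e => ?_, ?_⟩
    · exact Subtype.ext (Units.ext (by rw [hfe u, hfe v, show f u = f v from congrArg Subtype.val e]))
    · rintro ⟨a, ha⟩
      obtain ⟨h, hh, he⟩ := hin a (List.mem_toFinset.mp ha)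
      refine ⟨⟨h, hh⟩, Subtype.ext ?_⟩
      show f ⟨h, hh⟩ = a
      have e : ev ⟨h, hh⟩ = Matrix.mulVec (toMat p (f ⟨h, hh⟩)) e1 := by rw [← hfe]
      have e2 : ev ⟨h, hh⟩ = Matrix.mulVec (toMat p a) e1 := by rw [← he]
      rw [e, hcolv, hcolv] at e2
      have h0 := congrFun e2 0
      have h1 := congrFun e2 1
      simp only [Matrix.cons_val_zero, Matrix.cons_val_one] at h0 h1
      obtain ⟨ha1, ha2, -⟩ := hsmall a (List.mem_toFinset.mp ha)
      obtain ⟨hb1, hb2, -⟩ := hsmall (f ⟨h, hh⟩) (hf _)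
      refine List.inj_on_of_nodup_map hnodup (hf _) (List.mem_toFinset.mp ha) (Prod.ext ?_ ?_)
      · simpa [col, ZMod.val_natCast, Nat.mod_eq_of_lt ha1, Nat.mod_eq_of_lt hb1] using congrArg ZMod.val h0
      · simpa [col, ZMod.val_natCast, Nat.mod_eq_of_lt ha2, Nat.mod_eq_of_lt hb2] using congrArg ZMod.val h1
  refine ⟨hcard, fun v w hv hw => ?_⟩
  have hev : ∀ h, ev h ≠ 0 := by
    intro h e
    obtain ⟨a, ha, hae⟩ := hout h h.2
    obtain ⟨ha1, ha2, ha3⟩ := hsmall a ha
    have e' : Matrix.mulVec (toMat p a) e1 = 0 := by rw [← hae]; exact e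
    rw [hcolv] at e'
    have h0 := congrFun e' 0
    have h1 := congrFun e' 1
    simp only [Matrix.cons_val_zero, Matrix.cons_val_one, Pi.zero_apply] at h0 h1
    refine ha3 (Prod.ext ?_ ?_)
    · simpa [col, ZMod.val_natCast, Nat.mod_eq_of_lt ha1] using congrArg ZMod.val h0
    · simpa [col, ZMod.val_natCast, Nat.mod_eq_of_lt ha2] using congrArg ZMod.val h1
  have hsurj : ∀ u : Fin 2 → ZMod p, u ≠ 0 → ∃ h, ev h = u := by
    intro u hu
    have hb : Function.Bijective (fun h : H => (⟨ev h, hev h⟩ : {u : Fin 2 → ZMod p // u ≠ 0})) := by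
      refine (Nat.bijective_iff_injective_and_card _).mpr ⟨fun a b e => hinj (congrArg Subtype.val e), ?_⟩
      rw [hcard, Nat.card_eq_fintype_card, Fintype.card_subtype_compl, Fintype.card_subtype_eq]
      simp only [Fintype.card_pi, ZMod.card, Finset.prod_const, Finset.card_univ, Fintype.card_fin]
      rw [sq]; omega
    obtain ⟨h, hh⟩ := hb.2 ⟨u, hu⟩
    exact ⟨h, congrArg Subtype.val hh⟩
  obtain ⟨a, rfl⟩ := hsurj v hv
  obtain ⟨b, rfl⟩ := hsurj w hw
  refine ⟨b * a⁻¹, ?_, fun h hh => ?_⟩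
  · show Matrix.mulVec _ (Matrix.mulVec _ e1) = Matrix.mulVec _ e1
    rw [Matrix.mulVec_mulVec, ← Units.val_mul, ← Subgroup.coe_mul, inv_mul_cancel_right]
  · have h2 : ev (h * a) = ev b := by
      show Matrix.mulVec _ e1 = Matrix.mulVec _ e1
      rw [Subgroup.coe_mul, Units.val_mul, ← Matrix.mulVec_mulVec]
      exact hh
    rw [← hinj h2, mul_inv_cancel_right]

end CfsgLib.SharpGL2
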