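/-
Centralisers of maximal normal abelian subgroups of solvable groups in which a cyclic normal subgroup
contains all roots of unity of its own elements.
-/
import Mathlib

set_option autoImplicit false

namespace CfsgLib.SharpSolvable

open scoped Pointwise

variable {H : Type*} [Group H] [Finite H]

/-- The abstract hypotheses. -/
structure Hyp (A : Subgroup H) : Prop where
  normal : A.Normal
  cyclic : IsCyclic A
  max : ∀ B : Subgroup H, B.Normal → (∀ a ∈ B, ∀ b ∈ B, a * b = b * a) → A ≤ B → B = A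
  root : ∀ u ∈ Subgroup.centralizer (A : Set H), ∀ q : ℕ, q.Prime → ∀ z ∈ A, orderOf z = q → u ^ q = 1 → u ∈ A

theorem pow_mul_eq {y x d : H} (hxy : x * y = d * (y * x)) (hdx : Commute d x) (hdy : Commute d y) (n : ℕ) :
    (y * x) ^ n = d ^ n.choose 2 * (y ^ n * x ^ n) := by
  have hxn : ∀ n : ℕ, x ^ n * y = d ^ n * (y * x ^ n) := by
    intro n
    induction n with
    | zero => simp
    | succ n ih =>
      calc x ^ (n + 1) * y = x ^ n * (x * y) := by rw [pow_succ]; group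
        _ = x ^ n * d * (y * x) := by rw [hxy]; group
        _ = d * x ^ n * (y * x) := by rw [(hdx.symm.pow_left n).eq]
        _ = d * (x ^ n * y) * x := by group
        _ = d ^ (n + 1) * (y * x ^ (n + 1)) := by rw [ih, pow_succ' d, pow_succ x]; group
  induction n with
  | zero => simp
  | succ n ih =>
    calc (y * x) ^ (n + 1) = d ^ n.choose 2 * y ^ n * (x ^ n * y) * x := by rw [pow_succ, ih]; group
      _ = d ^ n.choose 2 * (y ^ n * d ^ n) * (y * x ^ n) * x := by rw [hxn]; group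
      _ = d ^ n.choose 2 * (d ^ n * y ^ n) * (y * x ^ n) * x := by rw [((hdy.symm.pow_left n).pow_right n).eq]
      _ = d ^ (n + 1).choose 2 * (y ^ (n + 1) * x ^ (n + 1)) := by
        rw [Nat.choose_succ_succ', Nat.choose_one_right, add_comm, pow_add, pow_succ y, pow_succ x]; group

theorem mem_zpowers_of_orderOf_dvd {A : Subgroup H} (hA : IsCyclic A) {a b : H} (ha : a ∈ A) (hb : b ∈ A)
    (h : orderOf b ∣ orderOf a) : b ∈ Subgroup.zpowers a := by
  classical
  haveI := hA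
  haveI := Fintype.ofFinite A
  set a' : A := ⟨a, ha⟩ with ha'
  have hn : orderOf a' = orderOf a := Subgroup.orderOf_mk a ha
  have hsub : (Subgroup.zpowers a' : Set A).toFinset ⊆ Finset.univ.filter (fun x => x ^ orderOf a = 1) := fun x hx => by
    simp only [Set.mem_toFinset, SetLike.mem_coe] at hx
    obtain ⟨k, rfl⟩ := hx
    simp only [Finset.mem_filter, Finset.mem_univ, true_and]
    rw [← zpow_natCast, ← zpow_mul, mul_comm, zpow_mul, zpow_natCast, ← hn, pow_orderOf_eq_one, one_zpow]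
  have heq := Finset.eq_of_subset_of_card_le hsub (by
    refine (IsCyclic.card_pow_eq_one_le (orderOf_pos a)).trans ?_
    rw [Set.toFinset_card, ← Nat.card_eq_fintype_card, SetLike.coe_sort_coe, Nat.card_zpowers, hn])
  have hb' : (⟨b, hb⟩ : A) ∈ Finset.univ.filter (fun x : A => x ^ orderOf a = 1) := by
    simp only [Finset.mem_filter, Finset.mem_univ, true_and]
    exact orderOf_dvd_iff_pow_eq_one.mp (by rwa [Subgroup.orderOf_mk])
  rw [← heq, Set.mem_toFinset, SetLike.mem_coe] at hb'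
  obtain ⟨k, hk⟩ := hb'
  exact ⟨k, by simpa [a'] using congrArg Subtype.val hk⟩

variable {A : Subgroup H}

/-- A normal subgroup over `A`, elementary modulo `A`. -/
structure Layer (A B : Subgroup H) (q : ℕ) : Prop where
  normal : B.Normal
  le : A ≤ B
  lt : ¬ B ≤ A
  central : B ≤ Subgroup.centralizer (A : Set H)
  prime : q.Prime
  pow : ∀ w ∈ B, w ^ q ∈ A
  comm : ∀ u ∈ B, ∀ v ∈ B, u * v * u⁻¹ * v⁻¹ ∈ A

theorem exists_layer [hA : A.Normal] (hsolv : Group.IsSolvable H) {D : Subgroup H} (hD : D.Normal) (hAD : A ≤ D)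
    (hlt : ¬ D ≤ A) (hDC : D ≤ Subgroup.centralizer (A : Set H)) : ∃ B q, B ≤ D ∧ Layer A B q := by
  classical
  let π := QuotientGroup.mk' A
  have hπ : Function.Surjective π := QuotientGroup.mk'_surjective A
  let E : ℕ → Subgroup (H ⧸ A) := fun n => Nat.rec (motive := fun _ => Subgroup (H ⧸ A)) (D.map π) (fun _ K => ⁅K, K⁆) n
  have hEn : ∀ n, (E n).Normal := by
    intro n
    induction n with
    | zero => exact hD.map π hπ
    | succ n ih => exact @Subgroup.commutator_normal _ _ _ _ ih ih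
  have hEd : ∀ n, E n ≤ derivedSeries (H ⧸ A) n := by
    intro n
    induction n with
    | zero => simp [derivedSeries_zero]
    | succ n ih => rw [derivedSeries_succ]; exact Subgroup.commutator_mono ih ih
  have hEle : ∀ n, E n ≤ D.map π := by
    intro n
    induction n with
    | zero => exact le_rfl
    | succ n ih => exact le_trans (@Subgroup.commutator_le_right _ _ _ _ (hEn n)) ih
  haveI : Group.IsSolvable (H ⧸ A) := Group.isSolvable_of_surjective hπ
  obtain ⟨m, hm⟩ := (Group.isSolvable_def (H ⧸ A)).mp inferInstance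
  have hex : ∃ n : ℕ, E n = (⊥ : Subgroup (H ⧸ A)) := ⟨m, le_bot_iff.mp (hm ▸ hEd m)⟩
  have h0 : E 0 ≠ ⊥ := fun e => hlt fun d hd => by
    have : π d ∈ (⊥ : Subgroup (H ⧸ A)) := e ▸ Subgroup.mem_map_of_mem π hd
    exact (QuotientGroup.eq_one_iff d).mp this
  haveI : DecidablePred (fun n : ℕ => E n = (⊥ : Subgroup (H ⧸ A))) := Classical.decPred _
  obtain ⟨n, hn⟩ : ∃ n : ℕ, Nat.find hex = n + 1 := ⟨Nat.find hex - 1, by
    have : Nat.find hex ≠ 0 := fun e => h0 (e ▸ Nat.find_spec hex)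
    omega⟩
  have hbot : E (n + 1) = ⊥ := hn ▸ Nat.find_spec hex
  have hne : E n ≠ ⊥ := Nat.find_min hex (by omega)
  have hab : ∀ u ∈ E n, ∀ v ∈ E n, u * v = v * u := fun u hu v hv => by
    have := Subgroup.commutator_mem_commutator hu hv
    rw [show ⁅E n, E n⁆ = E (n + 1) from rfl, hbot, Subgroup.mem_bot] at this
    exact commutatorElement_eq_one_iff_mul_comm.mp this
  obtain ⟨q, hq, hqd⟩ := Nat.exists_prime_and_dvd (n := Nat.card (E n)) (fun e => hne (Subgroup.eq_bot_of_card_eq _ e))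
  haveI := Fact.mk hq
  let M : Subgroup (H ⧸ A) :=
    { carrier := {u | u ∈ E n ∧ u ^ q = 1}
      one_mem' := ⟨one_mem _, one_pow q⟩
      mul_mem' := fun {u v} hu hv => ⟨mul_mem hu.1 hv.1, by
        rw [(show Commute u v from hab u hu.1 v hv.1).mul_pow, hu.2, hv.2, one_mul]⟩
      inv_mem' := fun {u} hu => ⟨inv_mem hu.1, by rw [inv_pow, hu.2, inv_one]⟩ }
  refine ⟨M.comap π, q, fun b hb => ?_, ⟨⟨fun b hb g => ?_⟩, fun a ha => ?_, fun hle => ?_, fun b hb => ?_, hq,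
    fun w hw => ?_, fun u hu v hv => ?_⟩⟩
  · obtain ⟨d, hd, hdb⟩ := hEle n hb.1
    have : d⁻¹ * b ∈ A := QuotientGroup.eq.mp hdb
    simpa using mul_mem hd (hAD this)
  · refine ⟨by rw [map_mul, map_mul, map_inv]; exact (hEn n).conj_mem _ hb.1 _, ?_⟩
    rw [map_mul, map_mul, map_inv, conj_pow, hb.2, mul_one, mul_inv_cancel]
  · show π a ∈ M
    rw [show π a = 1 from (QuotientGroup.eq_one_iff a).mpr ha]
    exact one_mem M
  · obtain ⟨u, hu⟩ := exists_prime_orderOf_dvd_card' q hqd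
    obtain ⟨b, hb⟩ := hπ (u : H ⧸ A)
    have huq : (u : H ⧸ A) ^ q = 1 := by rw [← Subgroup.coe_pow, ← hu, pow_orderOf_eq_one, Subgroup.coe_one]
    have hbA : b ∈ A := hle (show π b ∈ M from ⟨hb ▸ u.2, hb ▸ huq⟩)
    rw [show π b = 1 from (QuotientGroup.eq_one_iff b).mpr hbA] at hb
    rw [show u = 1 from Subtype.ext hb.symm, orderOf_one] at hu
    exact hq.one_lt.ne hu
  · obtain ⟨d, hd, hdb⟩ := hEle n hb.1
    have : d⁻¹ * b ∈ A := QuotientGroup.eq.mp hdb
    exact hDC (by simpa using mul_mem hd (hAD this))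
  · exact (QuotientGroup.eq_one_iff _).mp (by rw [QuotientGroup.mk_pow]; exact hw.2)
  · refine (QuotientGroup.eq_one_iff _).mp ?_
    show π (u * v * u⁻¹ * v⁻¹) = 1
    rw [map_mul, map_mul, map_mul, map_inv, map_inv, hab _ hu.1 _ hv.1]
    group

/-- Elements of prime-power order `q ^ k`. -/
def IsQElem (q : ℕ) (x : H) : Prop := ∃ k : ℕ, x ^ q ^ k = 1

theorem exists_qpart (q : ℕ) (hq : q.Prime) (x : H) : ∃ m : ℕ, m.Coprime q ∧ IsQElem q (x ^ m) := by
  obtain ⟨k, m, hm, e⟩ := Nat.exists_eq_pow_mul_and_not_dvd (orderOf_pos x).ne' q hq.ne_one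
  exact ⟨m, ((Nat.Prime.coprime_iff_not_dvd hq).mpr hm).symm, k, by rw [← pow_mul, mul_comm m, ← e, pow_orderOf_eq_one]⟩

variable (h : Hyp A)

include h

theorem Hyp.comm_A {a b : H} (ha : a ∈ A) (hb : b ∈ Subgroup.centralizer (A : Set H)) : a * b = b * a :=
  (Subgroup.mem_centralizer_iff.mp hb a ha)

theorem Hyp.comm_pow {x y c : H} (hcx : Commute c x) (hc : x * y = c * (y * x)) (n : ℕ) :
    x ^ n * y = c ^ n * (y * x ^ n) := by
  induction n with
  | zero => simp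
  | succ n ih =>
    calc x ^ (n + 1) * y = x ^ n * (x * y) := by rw [pow_succ]; group
      _ = x ^ n * c * (y * x) := by rw [hc]; group
      _ = c * x ^ n * (y * x) := by rw [(hcx.symm.pow_left n).eq]
      _ = c * (x ^ n * y) * x := by group
      _ = c ^ (n + 1) * (y * x ^ (n + 1)) := by rw [ih, pow_succ' c, pow_succ x]; group

variable {B : Subgroup H} {q : ℕ} (L : Layer A B q)

include L

theorem Hyp.commutator_order {x y : H} (hx : x ∈ B) (hy : y ∈ B) (hne : x * y ≠ y * x) :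
    orderOf (x * y * x⁻¹ * y⁻¹) = q := by
  haveI := Fact.mk L.prime
  have hc := L.comm x hx y hy
  refine orderOf_eq_prime ?_ (fun e => hne ?_)
  · have := h.comm_pow (x := x) (y := y) (c := x * y * x⁻¹ * y⁻¹) (h.comm_A hc (L.central hx)) (by group) q
    rw [show x ^ q * y = y * x ^ q from h.comm_A (L.pow x hx) (L.central hy)] at this
    exact (mul_eq_right.mp this.symm)
  · calc x * y = x * y * x⁻¹ * y⁻¹ * (y * x) := by group
      _ = y * x := by rw [e, one_mul]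

theorem Hyp.coprime_pow_ne {x y : H} (hx : x ∈ B) (hy : y ∈ B) (hne : x * y ≠ y * x) {m : ℕ} (hm : m.Coprime q) :
    x ^ m * y ≠ y * x ^ m := by
  intro e
  have hc := L.comm x hx y hy
  have := h.comm_pow (x := x) (y := y) (c := x * y * x⁻¹ * y⁻¹) (h.comm_A hc (L.central hx)) (by group) m
  rw [e] at this
  have h1 : (x * y * x⁻¹ * y⁻¹) ^ m = 1 := mul_eq_right.mp this.symm
  have h2 := Nat.dvd_gcd (orderOf_dvd_of_pow_eq_one h1) (dvd_of_eq (h.commutator_order L hx hy hne))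
  rw [hm.gcd_eq_one, Nat.dvd_one, h.commutator_order L hx hy hne] at h2
  exact L.prime.ne_one h2

/-- The basic step: the exponent must be `2`, and the difference squares to the commutator. -/
theorem Hyp.step {x y : H} (hx : x ∈ B) (hy : y ∈ B) (hne : x * y ≠ y * x) {k : ℕ} (hk : y ^ q = (x ^ q) ^ k) :
    q = 2 ∧ Odd k := by
  set c := x * y * x⁻¹ * y⁻¹ with hcdef
  have hc := L.comm x hx y hy
  have hoc := h.commutator_order L hx hy hne
  have hcx : Commute c x := h.comm_A hc (L.central hx)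
  have hcy : Commute c y := h.comm_A hc (L.central hy)
  set x' := (x ^ k)⁻¹ with hx'
  set d := (c ^ k)⁻¹ with hd
  have hxy : x' * y = d * (y * x') := by
    have e := h.comm_pow hcx (show x * y = c * (y * x) by rw [hcdef]; group) k
    have e1 : (c ^ k)⁻¹ * (x ^ k * y) = y * x ^ k := by rw [e]; group
    calc x' * y = (x ^ k)⁻¹ * (y * x ^ k) * (x ^ k)⁻¹ := by rw [hx']; group
      _ = (x ^ k)⁻¹ * ((c ^ k)⁻¹ * (x ^ k * y)) * (x ^ k)⁻¹ := by rw [e1]
      _ = (x ^ k)⁻¹ * ((c ^ k)⁻¹ * x ^ k) * y * (x ^ k)⁻¹ := by group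
      _ = (x ^ k)⁻¹ * (x ^ k * (c ^ k)⁻¹) * y * (x ^ k)⁻¹ := by rw [((hcx.pow_pow k k).inv_left).eq]
      _ = d * (y * x') := by rw [hd, hx']; group
  have hdx : Commute d x' := ((hcx.pow_pow k k).inv_left).inv_right
  have hdy : Commute d y := ((hcy.pow_left k).inv_left)
  have hw := pow_mul_eq hxy hdx hdy q
  have hyx : y ^ q * x' ^ q = 1 := by rw [hx', inv_pow, hk, ← pow_mul, ← pow_mul, mul_comm k q, mul_inv_cancel]
  rw [hyx, mul_one] at hw
  have hwB : y * x' ∈ Subgroup.centralizer (A : Set H) :=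
    mul_mem (L.central hy) (inv_mem (pow_mem (L.central hx) k))
  have hcz : c ^ q = 1 := by rw [← hoc, pow_orderOf_eq_one]
  have notone : d ^ q.choose 2 ≠ 1 := fun e => by
    rw [e] at hw
    have hA := h.root _ hwB q L.prime c hc hoc hw
    have hcomm : (y * x') * x = x * (y * x') := h.comm_A hA (L.central hx)
    refine hne ?_
    calc x * y = x * (y * x') * x ^ k := by rw [hx']; group
      _ = y * x' * x * x ^ k := by rw [← hcomm]
      _ = y * x := by rw [hx']; group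
  have h2 : q = 2 := by
    by_contra h2
    refine notone ?_
    obtain ⟨r, hr⟩ := L.prime.dvd_choose_self (k := 2) (by norm_num) (lt_of_le_of_ne L.prime.two_le (Ne.symm h2))
    rw [hr, hd, inv_pow, ← pow_mul, mul_left_comm, pow_mul, hcz, one_pow, inv_one]
  refine ⟨h2, ?_⟩
  rcases Nat.even_or_odd k with ⟨r, hr⟩ | ho
  · exfalso
    refine notone ?_
    rw [h2] at hcz
    rw [hd, hr, ← two_mul, pow_mul, hcz, one_pow, inv_one, one_pow]
  · exact ho

theorem Hyp.two {x y : H} (hx : x ∈ B) (hy : y ∈ B) (hne : x * y ≠ y * x) : q = 2 := by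
  obtain ⟨m, hm, hxm⟩ := exists_qpart q L.prime x
  have hne1 := h.coprime_pow_ne L hx hy hne hm
  obtain ⟨n, hn, hyn⟩ := exists_qpart q L.prime y
  have hne2 := h.coprime_pow_ne L hy (pow_mem hx m) hne1.symm hn
  obtain ⟨i, hi⟩ := hxm
  obtain ⟨j, hj⟩ := hyn
  obtain ⟨i', -, hi'⟩ := (Nat.dvd_prime_pow L.prime).mp (orderOf_dvd_of_pow_eq_one
    (show ((x ^ m) ^ q) ^ q ^ i = 1 by rw [← pow_mul, mul_comm, pow_mul, hi, one_pow]))
  obtain ⟨j', -, hj'⟩ := (Nat.dvd_prime_pow L.prime).mp (orderOf_dvd_of_pow_eq_one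
    (show ((y ^ n) ^ q) ^ q ^ j = 1 by rw [← pow_mul, mul_comm, pow_mul, hj, one_pow]))
  rcases le_total i' j' with hle | hle
  · have := mem_zpowers_of_orderOf_dvd h.cyclic (L.pow _ (pow_mem hy n)) (L.pow _ (pow_mem hx m))
      (by rw [hi', hj']; exact pow_dvd_pow q hle)
    obtain ⟨k, hk⟩ := mem_powers_iff_mem_zpowers.mpr this
    exact (h.step L (pow_mem hy n) (pow_mem hx m) hne2 hk.symm).1
  · have := mem_zpowers_of_orderOf_dvd h.cyclic (L.pow _ (pow_mem hx m)) (L.pow _ (pow_mem hy n))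
      (by rw [hi', hj']; exact pow_dvd_pow q hle)
    obtain ⟨k, hk⟩ := mem_powers_iff_mem_zpowers.mpr this
    exact (h.step L (pow_mem hx m) (pow_mem hy n) hne2.symm hk.symm).1

theorem Hyp.square (h2 : q = 2) {x y : H} (hx : x ∈ B) (hy : y ∈ B) (hne : x * y ≠ y * x)
    (hxq : IsQElem 2 x) (hyq : IsQElem 2 y) : x ^ 2 = x * y * x⁻¹ * y⁻¹ := by
  subst h2
  haveI := Fact.mk Nat.prime_two
  -- one square is a power of the other
  have aux : ∀ {u v : H}, u ∈ B → v ∈ B → u * v ≠ v * u → IsQElem 2 u → IsQElem 2 v → ∀ k : ℕ, v ^ 2 = (u ^ 2) ^ k →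
      u ^ 2 = u * v * u⁻¹ * v⁻¹ ∧ v ^ 2 = u * v * u⁻¹ * v⁻¹ := by
    intro u v hu hv huv huq hvq k hk
    set c := u * v * u⁻¹ * v⁻¹ with hcdef
    have hc := L.comm u hu v hv
    have hoc := h.commutator_order L hu hv huv
    have hodd := (h.step L hu hv huv hk).2
    have hcu : Commute c u := h.comm_A hc (L.central hu)
    have hcv : Commute c v := h.comm_A hc (L.central hv)
    have hinv : c⁻¹ = c := by
      rw [inv_eq_iff_mul_eq_one, ← sq, ← hoc, pow_orderOf_eq_one]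
    set w := v * (u ^ k)⁻¹ with hw
    have hck : c ^ k = c := by rw [← pow_mod_orderOf, hoc, Nat.odd_iff.mp hodd, pow_one]
    have e : u ^ k * v = c * (v * u ^ k) := by
      have := h.comm_pow hcu (show u * v = c * (v * u) by rw [hcdef]; group) k
      rwa [hck] at this
    have hww : w ^ 2 = c := by
      have e1 : (u ^ k)⁻¹ * v = c * (v * (u ^ k)⁻¹) := by
        calc (u ^ k)⁻¹ * v = (u ^ k)⁻¹ * (c⁻¹ * (u ^ k * v)) * (u ^ k)⁻¹ := by rw [e]; group
          _ = (u ^ k)⁻¹ * (c⁻¹ * u ^ k) * v * (u ^ k)⁻¹ := by group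
          _ = (u ^ k)⁻¹ * (u ^ k * c⁻¹) * v * (u ^ k)⁻¹ := by rw [((hcu.pow_right k).inv_left).eq]
          _ = c * (v * (u ^ k)⁻¹) := by rw [hinv]; group
      have := pow_mul_eq e1 ((hcu.pow_right k).inv_right) hcv 2
      rw [show Nat.choose 2 2 = 1 from rfl, pow_one, inv_pow, hk, ← pow_mul, ← pow_mul, mul_comm k 2, mul_inv_cancel,
        mul_one] at this
      exact this
    have hne' : u * w ≠ w * u := fun e' => huv (by
      calc u * v = u * w * u ^ k := by rw [hw]; group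
        _ = w * u * u ^ k := by rw [e']
        _ = v * u := by rw [hw]; group)
    have hu1 : u ^ 2 ≠ 1 := fun e' => huv (h.comm_A (h.root u (L.central hu) 2 Nat.prime_two c hc hoc e') (L.central hv))
    obtain ⟨i, hi⟩ := huq
    obtain ⟨i', -, hi'⟩ := (Nat.dvd_prime_pow Nat.prime_two).mp (orderOf_dvd_of_pow_eq_one
      (show (u ^ 2) ^ 2 ^ i = 1 by rw [← pow_mul, mul_comm, pow_mul, hi, one_pow]))
    have hi0 : i' ≠ 0 := fun e' => by rw [e', pow_zero, orderOf_eq_one_iff] at hi'; exact hu1 hi'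
    have hmem := mem_zpowers_of_orderOf_dvd h.cyclic (L.pow u hu) hc (by rw [hoc, hi']; exact dvd_pow_self 2 hi0)
    obtain ⟨j, hj⟩ := mem_powers_iff_mem_zpowers.mpr hmem
    simp only at hj
    have hwB : w ∈ B := mul_mem hv (inv_mem (pow_mem hu k))
    have hjo := (h.step L hu hwB hne' (k := j) (by rw [hww]; exact hj.symm)).2
    have hu2 : u ^ 2 = c := by
      have h4 : orderOf (u ^ 2) ∣ 2 := by
        have h1 : (u ^ 2) ^ (j * 2) = 1 := by rw [pow_mul, hj, ← hoc, pow_orderOf_eq_one]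
        have h2 := orderOf_dvd_of_pow_eq_one h1
        rw [hi'] at h2 ⊢
        exact (Nat.Coprime.pow_left i' (Nat.coprime_two_left.mpr hjo)).dvd_of_dvd_mul_left h2
      refine Eq.trans ?_ hj
      rw [← pow_mod_orderOf (u ^ 2) j,
        ((Nat.dvd_prime Nat.prime_two).mp h4).resolve_left (fun e' => hu1 (orderOf_eq_one_iff.mp e')),
        Nat.odd_iff.mp hjo, pow_one]
    exact ⟨hu2, by rw [hk, hu2, hck]⟩
  obtain ⟨i, hi⟩ := hxq
  obtain ⟨j, hj⟩ := hyq
  obtain ⟨i', -, hi'⟩ := (Nat.dvd_prime_pow Nat.prime_two).mp (orderOf_dvd_of_pow_eq_one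
    (show (x ^ 2) ^ 2 ^ i = 1 by rw [← pow_mul, mul_comm, pow_mul, hi, one_pow]))
  obtain ⟨j', -, hj'⟩ := (Nat.dvd_prime_pow Nat.prime_two).mp (orderOf_dvd_of_pow_eq_one
    (show (y ^ 2) ^ 2 ^ j = 1 by rw [← pow_mul, mul_comm, pow_mul, hj, one_pow]))
  rcases le_total i' j' with hle | hle
  · have := mem_zpowers_of_orderOf_dvd h.cyclic (L.pow y hy) (L.pow x hx) (by rw [hi', hj']; exact pow_dvd_pow 2 hle)
    obtain ⟨k, hk⟩ := mem_powers_iff_mem_zpowers.mpr this
    have e := (aux hy hx hne.symm ⟨j, hj⟩ ⟨i, hi⟩ k hk.symm).2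
    have ho := h.commutator_order L hy hx hne.symm
    rw [e, show y * x * y⁻¹ * x⁻¹ = (x * y * x⁻¹ * y⁻¹)⁻¹ by group, inv_eq_iff_mul_eq_one, ← sq,
      ← h.commutator_order L hx hy hne, pow_orderOf_eq_one]
  · have := mem_zpowers_of_orderOf_dvd h.cyclic (L.pow x hx) (L.pow y hy) (by rw [hi', hj']; exact pow_dvd_pow 2 hle)
    obtain ⟨k, hk⟩ := mem_powers_iff_mem_zpowers.mpr this
    exact (aux hx hy hne ⟨i, hi⟩ ⟨j, hj⟩ k hk.symm).1

/-- A layer contains a pair of noncommuting `2`-elements squaring to their commutator. -/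
theorem Hyp.pair : q = 2 ∧ ∃ x y : H, x ∈ B ∧ y ∈ B ∧ x * y ≠ y * x ∧ IsQElem 2 x ∧
      IsQElem 2 y ∧ orderOf (x * y * x⁻¹ * y⁻¹) = 2 ∧ x ^ 2 = x * y * x⁻¹ * y⁻¹ ∧ y ^ 2 = x * y * x⁻¹ * y⁻¹ := by
  obtain ⟨x, hx, y, hy, hne⟩ : ∃ x ∈ B, ∃ y ∈ B, x * y ≠ y * x := by
    by_contra hall
    push_neg at hall
    exact L.lt (h.max B L.normal hall L.le).le
  have h2 := h.two L hx hy hne
  subst h2
  obtain ⟨m, hm, hxm⟩ := exists_qpart 2 Nat.prime_two x
  have hne1 := h.coprime_pow_ne L hx hy hne hm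
  obtain ⟨n, hn, hyn⟩ := exists_qpart 2 Nat.prime_two y
  have hne2 := h.coprime_pow_ne L hy (pow_mem hx m) hne1.symm hn
  have hX := pow_mem hx m
  have hY := pow_mem hy n
  have ho := h.commutator_order L hX hY hne2.symm
  refine ⟨rfl, x ^ m, y ^ n, hX, hY, hne2.symm, hxm, hyn, ho, h.square L rfl hX hY hne2.symm hxm hyn, ?_⟩
  rw [h.square L rfl hY hX hne2 hyn hxm, show y ^ n * x ^ m * (y ^ n)⁻¹ * (x ^ m)⁻¹ =
    (x ^ m * y ^ n * (x ^ m)⁻¹ * (y ^ n)⁻¹)⁻¹ by group, inv_eq_iff_mul_eq_one, ← sq, ← ho, pow_orderOf_eq_one]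

/-- The frame given by such a pair. -/
theorem Hyp.frame (h2 : q = 2) {x y : H} (hx : x ∈ B) (hy : y ∈ B) (hne : x * y ≠ y * x) (hxq : IsQElem 2 x)
    (hyq : IsQElem 2 y) (hoz : orderOf (x * y * x⁻¹ * y⁻¹) = 2) (hx2 : x ^ 2 = x * y * x⁻¹ * y⁻¹) :
    (∀ a ∈ A, a * a = 1 → a = 1 ∨ a = x * y * x⁻¹ * y⁻¹) ∧
    (∀ a ∈ A, IsQElem 2 a → a = 1 ∨ a = x * y * x⁻¹ * y⁻¹) ∧
    (∀ v : H, v ∈ Subgroup.centralizer (A : Set H) → v ^ 2 = x * y * x⁻¹ * y⁻¹ → v * x = x * v → v * y = y * v → False) ∧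
    ∀ w ∈ B, ∃ a ∈ A, w = a ∨ w = a * x⁻¹ ∨ w = a * y⁻¹ ∨ w = a * (y * x)⁻¹ := by
  subst h2
  haveI := h.normal
  haveI := Fact.mk Nat.prime_two
  set C := Subgroup.centralizer (A : Set H) with hC
  set z := x * y * x⁻¹ * y⁻¹ with hzdef
  have hz : z ∈ A := L.comm x hx y hy
  have hz2 : z * z = 1 := by rw [← sq, ← hoz, pow_orderOf_eq_one]
  have hinv1 : ∀ a ∈ A, a * a = 1 → a = 1 ∨ a = z := by
    intro a ha ha2
    obtain ⟨k, hk⟩ := mem_powers_iff_mem_zpowers.mpr (mem_zpowers_of_orderOf_dvd h.cyclic hz ha (by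
      rw [hoz]; exact orderOf_dvd_of_pow_eq_one (by rw [sq, ha2])))
    simp only at hk
    rw [← pow_mod_orderOf, hoz] at hk
    rcases Nat.mod_two_eq_zero_or_one k with e | e <;> rw [e] at hk
    · left; rw [← hk, pow_zero]
    · right; rw [← hk, pow_one]
  -- the `2`-part of `A`
  have hA2 : ∀ a ∈ A, IsQElem 2 a → a = 1 ∨ a = z := by
    intro a ha ⟨i, hi⟩
    have hay : a * y = y * a := h.comm_A ha (L.central hy)
    have hax : Commute x a := (h.comm_A ha (L.central hx)).symm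
    have hne' : x * a * y ≠ y * (x * a) := fun e => hne (by
      refine mul_right_cancel (b := a) ?_
      rw [mul_assoc, ← hay, ← mul_assoc, e, mul_assoc])
    obtain ⟨j, hj⟩ := hxq
    have hq : IsQElem 2 (x * a) := ⟨j + i, by
      rw [hax.mul_pow, pow_add, pow_mul, hj, one_pow, one_mul, mul_comm, pow_mul, hi, one_pow]⟩
    have e := h.square L rfl (mul_mem hx (L.le ha)) hy hne' hq hyq
    rw [hax.mul_pow, hx2, show x * a * y * (x * a)⁻¹ * y⁻¹ = x * (a * y) * a⁻¹ * x⁻¹ * y⁻¹ by group, hay,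
      show x * (y * a) * a⁻¹ * x⁻¹ * y⁻¹ = z by rw [hzdef]; group] at e
    exact hinv1 a ha (by rw [← sq]; exact mul_eq_left.mp e)
  -- a square root of `z` commuting with `x` is `x` modulo `A`
  have hkill : ∀ v : H, v ∈ C → v ^ 2 = z → v * x = x * v → v * y = y * v → False := by
    intro v hv hv2 hvx hvy
    have h1 : (v * x) ^ 2 = 1 := by rw [(show Commute v x from hvx).mul_pow, hv2, hx2, hz2]
    have hA := h.root _ (mul_mem hv (L.central hx)) 2 Nat.prime_two z hz hoz h1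
    have e : v * x * y = y * (v * x) := h.comm_A hA (L.central hy)
    refine hne (mul_left_cancel (a := v) ?_)
    rw [← mul_assoc, e, ← mul_assoc, ← hvy, mul_assoc]
  have hPB : ∀ v ∈ B, v * x = x * v → v * y = y * v → v ∈ A := by
    intro v hv hvx hvy
    obtain ⟨m, hm, hvm⟩ := exists_qpart 2 Nat.prime_two v
    obtain ⟨r, hr⟩ := Nat.coprime_two_right.mp hm
    have hvm' : v ^ m ∈ A → v ∈ A := fun hin => by
      rw [hr, pow_add, pow_mul, pow_one] at hin
      simpa using mul_mem (inv_mem (pow_mem (L.pow v hv) r)) hin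
    refine hvm' ?_
    by_contra hnot
    have hZ : (B ⊓ Subgroup.centralizer (B : Set H)) = A := by
      haveI := L.normal
      refine h.max _ inferInstance (fun a ha b hb => (Subgroup.mem_centralizer_iff.mp hb.2 a ha.1)) ?_
      exact fun a ha => ⟨L.le ha, Subgroup.mem_centralizer_iff.mpr fun b hb => (h.comm_A ha (L.central hb)).symm⟩
    obtain ⟨w, hw, hvw⟩ : ∃ w ∈ B, v ^ m * w ≠ w * v ^ m := by
      by_contra hall
      push_neg at hall
      refine hnot ?_
      rw [← hZ]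
      exact ⟨pow_mem hv m, Subgroup.mem_centralizer_iff.mpr fun b hb => (hall b hb).symm⟩
    obtain ⟨n, hn, hwn⟩ := exists_qpart 2 Nat.prime_two w
    have hne' := h.coprime_pow_ne L hw (pow_mem hv m) hvw.symm hn
    have e := h.square L rfl (pow_mem hv m) (pow_mem hw n) hne'.symm hvm hwn
    have ho := h.commutator_order L (pow_mem hv m) (pow_mem hw n) hne'.symm
    have hcc : ((v ^ m) * w ^ n * (v ^ m)⁻¹ * (w ^ n)⁻¹) * ((v ^ m) * w ^ n * (v ^ m)⁻¹ * (w ^ n)⁻¹) = 1 := by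
      rw [← sq]; conv_lhs => rw [← ho]
      exact pow_orderOf_eq_one _
    rcases hinv1 _ (L.comm _ (pow_mem hv m) _ (pow_mem hw n)) hcc with e' | e'
    · rw [e', orderOf_one] at ho; omega
    · rw [e'] at e
      exact hkill _ (L.central (pow_mem hv m)) e ((show Commute v x from hvx).pow_left m).eq ((show Commute v y from hvy).pow_left m).eq
  -- commutators with `x` and `y` in `B`
  have hcom : ∀ u ∈ B, ∀ w ∈ B, u * w = w * u ∨ u * w = z * (w * u) := fun u hu w hw => by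
    by_cases e : u * w = w * u
    · exact Or.inl e
    · have ho := h.commutator_order L hu hw e
      rcases hinv1 _ (L.comm u hu w hw) (by rw [← sq]; conv_lhs => rw [← ho]
                                            exact pow_orderOf_eq_one _) with e' | e'
      · rw [e', orderOf_one] at ho; omega
      · right; rw [← e']; group
  have hzB : ∀ w ∈ B, z * w = w * z := fun w hw => h.comm_A hz (L.central hw)
  have hxy : x * y = z * (y * x) := by rw [hzdef]; group
  have hyx : y * x = z * (x * y) := by rw [hxy, ← mul_assoc, hz2, one_mul]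
  have hcover : ∀ w ∈ B, ∃ a ∈ A, w = a ∨ w = a * x⁻¹ ∨ w = a * y⁻¹ ∨ w = a * (y * x)⁻¹ := by
    intro w hw
    obtain ⟨w', hw', hwx', hshift⟩ : ∃ w' ∈ B, w' * x = x * w' ∧ (w' = w ∨ w' = w * y) := by
      rcases hcom x hx w hw with e | e
      · exact ⟨w, hw, e.symm, Or.inl rfl⟩
      · refine ⟨w * y, mul_mem hw hy, ?_, Or.inr rfl⟩
        calc w * y * x = w * (z * (x * y)) := by rw [mul_assoc, hyx]
          _ = z * (w * x) * y := by rw [← mul_assoc w z, ← hzB w hw]; group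
          _ = x * (w * y) := by rw [← e]; group
    rcases hcom y hy w' hw' with e | e
    · have hA := hPB w' hw' hwx' e.symm
      rcases hshift with rfl | rfl
      · exact ⟨_, hA, Or.inl rfl⟩
      · exact ⟨_, hA, Or.inr (Or.inr (Or.inl (by group)))⟩
    · have hA := hPB (w' * x) (mul_mem hw' hx) (by rw [hwx', mul_assoc, hwx'])
        (by
          calc w' * x * y = w' * (z * (y * x)) := by rw [mul_assoc, hxy]
            _ = z * (w' * y) * x := by rw [← mul_assoc w' z, ← hzB w' hw']; group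
            _ = y * (w' * x) := by rw [← e]; group)
      rcases hshift with rfl | rfl
      · exact ⟨_, hA, Or.inr (Or.inl (by group))⟩
      · exact ⟨_, hA, Or.inr (Or.inr (Or.inr (by group)))⟩
  exact ⟨hinv1, hA2, hkill, hcover⟩

omit L in
/-- The index of `A` in its centraliser divides `24`, and some element there has order four. -/
theorem Hyp.main (hsolv : Group.IsSolvable H) (hlt : ¬ Subgroup.centralizer (A : Set H) ≤ A) :
    A.relIndex (Subgroup.centralizer (A : Set H)) ∣ 24 ∧ ∃ x : H, orderOf x = 4 := by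
  classical
  haveI := h.normal
  haveI := Fact.mk Nat.prime_two
  set C := Subgroup.centralizer (A : Set H) with hC
  have hAC : A ≤ C := fun a ha => Subgroup.mem_centralizer_iff.mpr fun b hb => by
    haveI := h.cyclic
    letI := IsCyclic.commGroup (α := A)
    exact congrArg Subtype.val (mul_comm (⟨b, hb⟩ : A) ⟨a, ha⟩)
  haveI hCn : C.Normal := Subgroup.normal_centralizer
  have pair : ∀ {B : Subgroup H} {q : ℕ}, Layer A B q → q = 2 ∧ ∃ x y : H, x ∈ B ∧ y ∈ B ∧ x * y ≠ y * x ∧ IsQElem 2 x ∧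
      IsQElem 2 y ∧ orderOf (x * y * x⁻¹ * y⁻¹) = 2 ∧ x ^ 2 = x * y * x⁻¹ * y⁻¹ ∧ y ^ 2 = x * y * x⁻¹ * y⁻¹ :=
    fun L => h.pair L
  obtain ⟨B, q, hBC, L⟩ := exists_layer hsolv hCn hAC hlt le_rfl
  obtain ⟨rfl, x, y, hx, hy, hne, hxq, hyq, hoz, hx2, hy2⟩ := pair L
  set z := x * y * x⁻¹ * y⁻¹ with hzdef
  have hz : z ∈ A := L.comm x hx y hy
  have hz2 : z * z = 1 := by rw [← sq, ← hoz, pow_orderOf_eq_one]
  obtain ⟨hinv1, hA2, hkill, hcover⟩ := h.frame L rfl hx hy hne hxq hyq hoz hx2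
  have hD : ∀ u ∈ C, u * x = x * u → u * y = y * u → u ∈ A := by
    have hDA : C ⊓ Subgroup.centralizer (B : Set H) ≤ A := by
      by_contra hnle
      haveI := L.normal
      obtain ⟨B₁, q₁, hB₁, L₁⟩ := exists_layer hsolv (D := C ⊓ Subgroup.centralizer (B : Set H)) inferInstance
        (fun a ha => ⟨hAC ha, Subgroup.mem_centralizer_iff.mpr fun b hb => (h.comm_A ha (L.central hb)).symm⟩) hnle inf_le_left
      obtain ⟨rfl, x₁, y₁, hx₁, hy₁, hne₁, -, -, ho₁, hx₁2, -⟩ := pair L₁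
      rcases hinv1 _ (L₁.comm x₁ hx₁ y₁ hy₁) (by rw [← sq]; conv_lhs => rw [← ho₁]
                                                 exact pow_orderOf_eq_one _) with e' | e'
      · rw [e', orderOf_one] at ho₁; omega
      · rw [e'] at hx₁2
        exact hkill x₁ (hB₁ hx₁).1 hx₁2 (Subgroup.mem_centralizer_iff.mp (hB₁ hx₁).2 x hx).symm
          (Subgroup.mem_centralizer_iff.mp (hB₁ hx₁).2 y hy).symm
    intro u hu hux huy
    refine hDA ⟨hu, Subgroup.mem_centralizer_iff.mpr fun w hw => ?_⟩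
    obtain ⟨a, ha, hw'⟩ := hcover w hw
    have hua : Commute u a := (h.comm_A ha hu).symm
    have c1 : Commute u x⁻¹ := Commute.inv_right hux
    have c2 : Commute u y⁻¹ := Commute.inv_right huy
    have c3 : Commute u (y * x)⁻¹ := (Commute.mul_right huy hux).inv_right
    rcases hw' with rfl | rfl | rfl | rfl
    · exact hua.eq.symm
    · exact (hua.mul_right c1).eq.symm
    · exact (hua.mul_right c2).eq.symm
    · exact (hua.mul_right c3).eq.symm
  refine ⟨?_, x, ?_⟩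
  swap
  · have h2 : ¬ x ^ 2 ^ 1 = 1 := fun e => by
      rw [pow_one, hx2] at e; rw [e, orderOf_one] at hoz; omega
    exact orderOf_eq_prime_pow (p := 2) (n := 1) h2 (by
      rw [show (2 : ℕ) ^ (1 + 1) = 2 * 2 from rfl, pow_mul, hx2, sq, hz2])
  -- the action on the cosets
  haveI := L.normal
  let π := QuotientGroup.mk' A
  let M := B.map π
  haveI : M.Normal := L.normal.map π (QuotientGroup.mk'_surjective A)
  let P := {b : M // b ≠ 1}
  let ψ : MulAut M →* Equiv.Perm P :=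
    { toFun := fun e => e.toEquiv.subtypeEquiv (fun b => (MulEquiv.map_eq_one_iff e).not.symm)
      map_one' := by ext b; rfl
      map_mul' := fun e e' => by ext b; rfl }
  let θ : C →* Equiv.Perm P := ψ.comp ((MulAut.conjNormal (H := M)).comp (π.comp C.subtype))
  have hθ : ∀ c : C, θ c = 1 → ∀ w ∈ B, w⁻¹ * ((c : H) * w * (c : H)⁻¹) ∈ A := by
    intro c hc w hw
    rw [← QuotientGroup.eq_one_iff]
    show π (w⁻¹ * ((c : H) * w * (c : H)⁻¹)) = 1
    by_cases hb : π w = 1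
    · simp only [map_mul, map_inv, hb]; group
    · have e := congrArg Subtype.val (Equiv.ext_iff.mp hc ⟨⟨π w, Subgroup.mem_map_of_mem π hw⟩, fun e => hb (congrArg Subtype.val e)⟩)
      have e' : π c * π w * (π c)⁻¹ = π w := congrArg Subtype.val e
      rw [map_mul, map_inv, map_mul, map_mul, map_inv, e', inv_mul_cancel]
  have hP : Nat.card P ≤ 3 := by
    have hsurj : ∀ b : P, ∃ i : Fin 3, (b.1 : H ⧸ A) = π (![x⁻¹, y⁻¹, (y * x)⁻¹] i) := by
      rintro ⟨⟨b, w, hw, rfl⟩, hb⟩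
      obtain ⟨a, ha, e⟩ := hcover w hw
      have ha1 : π a = 1 := (QuotientGroup.eq_one_iff a).mpr ha
      rcases e with rfl | rfl | rfl | rfl
      · exact absurd (Subtype.ext ha1) hb
      · exact ⟨0, by simp [map_mul, ha1]⟩
      · exact ⟨1, by simp [map_mul, ha1]⟩
      · exact ⟨2, by simp [map_mul, ha1]⟩
    choose f hf using hsurj
    have := Nat.card_le_card_of_injective f (fun a b e => Subtype.ext (Subtype.ext (by rw [hf a, hf b, e])))
    simpa using this
  have hA_le : A.subgroupOf C ≤ θ.ker := fun c hc => by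
    rw [MonoidHom.mem_ker]
    have : π (c : H) = 1 := (QuotientGroup.eq_one_iff _).mpr hc
    simp [θ, this]
  have h6 : θ.ker.index ∣ 6 := by
    rw [Subgroup.index_ker]
    refine (Subgroup.card_subgroup_dvd_card _).trans ?_
    rw [Nat.card_perm]
    exact (Nat.factorial_dvd_factorial hP).trans (dvd_refl 6)
  have hφmem : ∀ (c : θ.ker) (w : H), w ∈ B → IsQElem 2 w → w⁻¹ * ((c.1 : H) * w * (c.1 : H)⁻¹) ∈ Subgroup.zpowers z := by
    intro c w hw ⟨i, hi⟩
    have hA := hθ c.1 c.2 w hw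
    set a := w⁻¹ * ((c.1 : H) * w * (c.1 : H)⁻¹) with ha
    have hwa : Commute w a := (h.comm_A hA (L.central hw)).symm
    have hpow : a ^ 2 ^ i = 1 := by
      have : (w * a) ^ 2 ^ i = 1 := by rw [ha, mul_inv_cancel_left, conj_pow, hi, mul_one, mul_inv_cancel]
      rwa [hwa.mul_pow, hi, one_mul] at this
    rcases hA2 a hA ⟨i, hpow⟩ with e | e <;> rw [e]
    · exact one_mem _
    · exact Subgroup.mem_zpowers z
  let φ : θ.ker →* H × H := MonoidHom.mk' (fun c => (x⁻¹ * ((c.1 : H) * x * (c.1 : H)⁻¹), y⁻¹ * ((c.1 : H) * y * (c.1 : H)⁻¹)))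
    fun c d => by
      have key : ∀ w : H, w ∈ B → w⁻¹ * ((d.1 : H) * w * (d.1 : H)⁻¹) ∈ A →
          w⁻¹ * (((c.1 : H) * d.1) * w * ((c.1 : H) * d.1)⁻¹) =
            (w⁻¹ * ((c.1 : H) * w * (c.1 : H)⁻¹)) * (w⁻¹ * ((d.1 : H) * w * (d.1 : H)⁻¹)) := fun w hw hd => by
        set a := w⁻¹ * ((d.1 : H) * w * (d.1 : H)⁻¹) with ha
        have hca : a * (c.1 : H) = (c.1 : H) * a := h.comm_A hd c.1.2
        calc w⁻¹ * (((c.1 : H) * d.1) * w * ((c.1 : H) * d.1)⁻¹) = w⁻¹ * ((c.1 : H) * (w * a) * (c.1 : H)⁻¹) := by rw [ha]; group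
          _ = w⁻¹ * ((c.1 : H) * w) * (a * (c.1 : H)⁻¹) := by group
          _ = w⁻¹ * ((c.1 : H) * w) * ((c.1 : H)⁻¹ * a) := by rw [(Commute.inv_right hca).eq]
          _ = _ := by group
      exact Prod.ext (key x hx (hθ d.1 d.2 x hx)) (key y hy (hθ d.1 d.2 y hy))
  have h4 : φ.ker.index ∣ 4 := by
    rw [Subgroup.index_ker]
    refine (Subgroup.card_dvd_of_le (K := (Subgroup.zpowers z).prod (Subgroup.zpowers z)) ?_).trans ?_
    · rintro _ ⟨c, rfl⟩
      exact ⟨hφmem c x hx hxq, hφmem c y hy hyq⟩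
    · rw [Nat.card_congr (Subgroup.prodEquiv _ _).toEquiv, Nat.card_prod, Nat.card_zpowers, hoz]
  have hker : φ.ker ≤ (A.subgroupOf C).subgroupOf θ.ker := fun c hc => by
    rw [MonoidHom.mem_ker] at hc
    have e1 := congrArg Prod.fst hc
    have e2 := congrArg Prod.snd hc
    simp only [φ, MonoidHom.mk'_apply, Prod.fst_one, Prod.snd_one, inv_mul_eq_one] at e1 e2
    exact hD _ c.1.2 (mul_inv_eq_iff_eq_mul.mp e1.symm) (mul_inv_eq_iff_eq_mul.mp e2.symm)
  show (A.subgroupOf C).index ∣ 24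
  rw [← Subgroup.relIndex_mul_index hA_le, show (24 : ℕ) = 4 * 6 from rfl]
  exact Nat.mul_dvd_mul ((Subgroup.index_dvd_of_le hker).trans h4) h6

omit L in
/-- A minimal nonabelian normal subgroup centralising `A` is generated by a quaternion pair. -/
theorem Hyp.quat (hsolv : Group.IsSolvable H) {N : Subgroup H} (hNn : N.Normal) (hN : N ≤ Subgroup.centralizer (A : Set H))
    (hna : ¬ ∀ a ∈ N, ∀ b ∈ N, a * b = b * a)
    (hmin : ∀ M : Subgroup H, M.Normal → M ≤ N → (¬ ∀ a ∈ M, ∀ b ∈ M, a * b = b * a) → M = N) :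
    ∃ x y : H, orderOf x = 4 ∧ y * y = x ^ 2 ∧ y * x * y⁻¹ = x⁻¹ ∧ y ∉ Subgroup.zpowers x ∧ Subgroup.closure {x, y} = N := by
  classical
  haveI := h.normal
  haveI := hNn
  haveI := Fact.mk Nat.prime_two
  have hAC : A ≤ Subgroup.centralizer (A : Set H) := fun a ha => Subgroup.mem_centralizer_iff.mpr fun b hb => by
    haveI := h.cyclic
    letI := IsCyclic.commGroup (α := A)
    exact congrArg Subtype.val (mul_comm (⟨b, hb⟩ : A) ⟨a, ha⟩)
  have hNA : ¬ N ⊔ A ≤ A := fun hle => hna fun a ha b hb => by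
    haveI := h.cyclic
    letI := IsCyclic.commGroup (α := A)
    exact congrArg Subtype.val (mul_comm (⟨a, hle (Subgroup.mem_sup_left ha)⟩ : A) ⟨b, hle (Subgroup.mem_sup_left hb)⟩)
  obtain ⟨B, q, hBD, L⟩ := exists_layer hsolv (D := N ⊔ A) inferInstance le_sup_right hNA (sup_le hN hAC)
  obtain ⟨rfl, x₀, y₀, hx₀, hy₀, hne₀, -, -, -, -, -⟩ := h.pair L
  obtain ⟨x₁, hx₁, a, ha, hxa⟩ := Subgroup.mem_sup_of_normal_left.mp (hBD hx₀)
  obtain ⟨y₁, hy₁, b, hb, hyb⟩ := Subgroup.mem_sup_of_normal_left.mp (hBD hy₀)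
  subst hxa hyb
  have hx₁B : x₁ ∈ B := by simpa using mul_mem hx₀ (L.le (inv_mem ha))
  have hy₁B : y₁ ∈ B := by simpa using mul_mem hy₀ (L.le (inv_mem hb))
  have hne₁ : x₁ * y₁ ≠ y₁ * x₁ := fun e => hne₀ (by
    have ca : Commute a y₁ := h.comm_A ha (L.central hy₁B)
    have cb : Commute b x₁ := h.comm_A hb (L.central hx₁B)
    have cab : Commute a b := h.comm_A ha (hAC hb)
    exact ((Commute.mul_right e cb.symm).mul_left (ca.mul_right cab)).eq)
  obtain ⟨m, hm, hxm⟩ := exists_qpart 2 Nat.prime_two x₁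
  have hne2 := h.coprime_pow_ne L hx₁B hy₁B hne₁ hm
  obtain ⟨n, hn, hyn⟩ := exists_qpart 2 Nat.prime_two y₁
  have hne3 := (h.coprime_pow_ne L hy₁B (pow_mem hx₁B m) hne2.symm hn).symm
  set x := x₁ ^ m
  set y := y₁ ^ n
  have hxN : x ∈ N := pow_mem hx₁ m
  have hyN : y ∈ N := pow_mem hy₁ n
  have hxB : x ∈ B := pow_mem hx₁B m
  have hyB : y ∈ B := pow_mem hy₁B n
  have hoz := h.commutator_order L hxB hyB hne3
  have hx2 := h.square L rfl hxB hyB hne3 hxm hyn
  have hz2 : (x * y * x⁻¹ * y⁻¹) * (x * y * x⁻¹ * y⁻¹) = 1 := by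
    rw [← sq]; conv_lhs => rw [← hoz]
    exact pow_orderOf_eq_one _
  have hy2 : y ^ 2 = x * y * x⁻¹ * y⁻¹ := by
    rw [h.square L rfl hyB hxB hne3.symm hyn hxm, show y * x * y⁻¹ * x⁻¹ = (x * y * x⁻¹ * y⁻¹)⁻¹ by group]
    exact inv_eq_of_mul_eq_one_right hz2
  obtain ⟨-, hA2, -, hcover⟩ := h.frame L rfl hxB hyB hne3 hxm hyn hoz hx2
  have hx4 : orderOf x = 4 := orderOf_eq_prime_pow (p := 2) (n := 1) (by
      rw [pow_one, hx2]; intro e; rw [e, orderOf_one] at hoz; omega)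
    (by rw [show (2 : ℕ) ^ (1 + 1) = 2 * 2 from rfl, pow_mul, hx2, sq, hz2])
  have hxi : x⁻¹ = x * (x * y * x⁻¹ * y⁻¹) := by
    rw [inv_eq_iff_mul_eq_one, ← mul_assoc, ← sq, hx2, hz2]
  have hconj : y * x * y⁻¹ = x⁻¹ := by
    rw [hxi, ← h.comm_A (L.comm x hxB y hyB) (L.central hxB)]
    calc y * x * y⁻¹ = (x * y * x⁻¹ * y⁻¹)⁻¹ * x := by group
      _ = _ := by rw [inv_eq_of_mul_eq_one_right hz2]
  have hnm : y ∉ Subgroup.zpowers x := fun ⟨k, hk⟩ => hne3 (by
    rw [← hk]; exact ((Commute.refl x).zpow_right k).eq)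
  set Q := Subgroup.closure ({x, y} : Set H) with hQ
  have hxQ : x ∈ Q := Subgroup.subset_closure (Or.inl rfl)
  have hyQ : y ∈ Q := Subgroup.subset_closure (Or.inr rfl)
  have hmemQ : ∀ w ∈ B, IsQElem 2 w → w ∈ Q := by
    intro w hw ⟨i, hi⟩
    obtain ⟨a, ha, hcases⟩ := hcover w hw
    have e4 : (y * x) ^ 4 = 1 := by
      have hzx : Commute (x * y * x⁻¹ * y⁻¹) x := h.comm_A (L.comm x hxB y hyB) (L.central hxB)
      have hzy : Commute (x * y * x⁻¹ * y⁻¹) y := h.comm_A (L.comm x hxB y hyB) (L.central hyB)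
      rw [pow_mul_eq (d := x * y * x⁻¹ * y⁻¹) (by group) hzx hzy 4, show Nat.choose 4 2 = 2 * 3 from rfl, pow_mul, sq,
        hz2, one_pow, one_mul, show (4 : ℕ) = 2 * 2 from rfl, pow_mul, pow_mul, hx2, hy2, sq, hz2, one_mul]
    have p4 : ∀ v : H, v ^ 2 = x * y * x⁻¹ * y⁻¹ → v⁻¹ ^ 4 = 1 := fun v hv => by
      rw [inv_pow, show (4 : ℕ) = 2 * 2 from rfl, pow_mul, hv, sq, hz2, inv_one]
    obtain ⟨t, ht, hwt, htB, ht4⟩ : ∃ t ∈ Q, w = a * t ∧ t ∈ B ∧ t ^ 4 = 1 := by
      rcases hcases with e | e | e | e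
      · exact ⟨1, one_mem _, by rw [mul_one, e], one_mem _, one_pow 4⟩
      · exact ⟨_, inv_mem hxQ, e, inv_mem hxB, p4 x hx2⟩
      · exact ⟨_, inv_mem hyQ, e, inv_mem hyB, p4 y hy2⟩
      · exact ⟨_, inv_mem (mul_mem hyQ hxQ), e, inv_mem (mul_mem hyB hxB), by rw [inv_pow, e4, inv_one]⟩
    have hz : x * y * x⁻¹ * y⁻¹ ∈ Q := mul_mem (mul_mem (mul_mem hxQ hyQ) (inv_mem hxQ)) (inv_mem hyQ)
    have hat : Commute a t := h.comm_A ha (L.central htB)
    have haq : IsQElem 2 a := ⟨i + 2, by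
      have : (a * t) ^ 2 ^ (i + 2) = 1 := by rw [← hwt, pow_add, pow_mul, hi, one_pow]
      rwa [hat.mul_pow, pow_add 2 i 2, mul_comm (2 ^ i), pow_mul t, show (2 : ℕ) ^ 2 = 4 from rfl, ht4, one_pow, mul_one,
        mul_comm 4, show 2 ^ i * 4 = 2 ^ (i + 2) by rw [pow_add]; rfl] at this⟩
    rw [hwt]
    rcases hA2 a ha haq with e | e <;> rw [e]
    · simpa using ht
    · exact mul_mem hz ht
  have hQn : Q.Normal := ⟨fun w hw g => by
    have hle : Q ≤ Q.comap (MulAut.conj g).toMonoidHom := by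
      rw [hQ, Subgroup.closure_le]
      rintro v (rfl | rfl)
      · obtain ⟨i, hi⟩ := hxm
        exact hmemQ _ (L.normal.conj_mem x hxB g) ⟨i, by simp [MulAut.conj_apply, conj_pow, hi]⟩
      · obtain ⟨i, hi⟩ := hyn
        exact hmemQ _ (L.normal.conj_mem y hyB g) ⟨i, by simp [MulAut.conj_apply, conj_pow, hi]⟩
    exact hle hw⟩
  refine ⟨x, y, hx4, by rw [← sq, hy2, hx2], hconj, hnm, hmin Q hQn ?_ fun hc => hne3 (hc x hxQ y hyQ)⟩
  rw [hQ, Subgroup.closure_le]
  rintro v (rfl | rfl)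
  · exact hxN
  · exact hyN

end CfsgLib.SharpSolvable
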