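/-
Any two Sylow 2-subgroups of the full automorphism group of the alternating group on six points
share a nontrivial element.
-/
import Mathlib
import Cfsg.Agent.Lib.Elementary

set_option linter.style.haveILetI false
set_option linter.unusedSectionVars false

open scoped Pointwise

namespace CfsgLib.SixSylowMeet

/-- Which small powers of an element are trivial. -/
def sig {M : Type*} [Monoid M] [DecidableEq M] (g : M) : Bool × Bool × Bool :=
  (decide (g ^ 2 = 1), decide (g ^ 3 = 1), decide (g ^ 4 = 1))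

theorem sig_map {M M' : Type*} [Monoid M] [DecidableEq M] [Monoid M'] [DecidableEq M'] (f : M →* M')
    (hf : Function.Injective f) (g : M) : sig (f g) = sig g := by
  simp only [sig, ← map_pow, map_eq_one_iff f hf]

/-- The even involutions of six points. -/
def invols : Finset (Equiv.Perm (Fin 6)) :=
  Finset.univ.filter fun s => s * s = 1 ∧ s ≠ 1 ∧ Equiv.Perm.sign s = 1

theorem commute_card_dvd {z : Equiv.Perm (Fin 6)} (hz : z ∈ invols) :
    Nat.card {u : Equiv.Perm (Fin 6) // Equiv.Perm.sign u = 1 ∧ u * z = z * u} ∣ 8 := by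
  classical
  obtain ⟨-, hz2, hz1, hzs⟩ := Finset.mem_filter.mp hz
  have hord : orderOf z = 2 := orderOf_eq_prime (by rw [sq, hz2]) hz1
  obtain ⟨k, hk⟩ := Equiv.Perm.cycleType_prime_order (σ := z) (hord ▸ Nat.prime_two)
  rw [hord] at hk
  have hsum : (Multiset.replicate (k + 1) 2).sum ≤ 6 := by
    rw [← hk, Equiv.Perm.sum_cycleType]
    simpa using z.support.card_le_univ
  rw [Equiv.Perm.sign_of_cycleType, hk] at hzs
  simp only [Multiset.sum_replicate, Multiset.card_replicate, smul_eq_mul] at hsum hzs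
  have hk1 : k = 1 := by
    have hk3 : k ≤ 2 := by omega
    interval_cases k
    · revert hzs; decide
    · rfl
    · revert hzs; decide
  subst hk1
  have h16 : Nat.card (Subgroup.centralizer ({z} : Set (Equiv.Perm (Fin 6)))) = 16 := by
    rw [Equiv.Perm.nat_card_centralizer, hk]
    decide
  let K : Subgroup (Equiv.Perm (Fin 6)) := Subgroup.centralizer {z} ⊓ alternatingGroup (Fin 6)
  have hK : Nat.card {u : Equiv.Perm (Fin 6) // Equiv.Perm.sign u = 1 ∧ u * z = z * u} = Nat.card K :=
    Nat.card_congr (Equiv.subtypeEquivRight fun u => by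
      rw [Subgroup.mem_inf, Equiv.Perm.mem_alternatingGroup, Subgroup.mem_centralizer_singleton_iff]
      exact and_comm)
  have h1 : Nat.card K ∣ 16 := h16 ▸ Subgroup.card_dvd_of_le inf_le_left
  have h2 : Nat.card K ∣ 360 := by
    have := Subgroup.card_dvd_of_le (inf_le_right : K ≤ alternatingGroup (Fin 6))
    rw [nat_card_alternatingGroup, Nat.card_fin] at this
    exact this
  rw [hK, show (8 : ℕ) = Nat.gcd 16 360 from rfl]
  exact Nat.dvd_gcd h1 h2

/-- The list of images. -/
def code (s : Equiv.Perm (Fin 6)) : List ℕ := List.ofFn fun i => (s i : ℕ)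

/-- Composition of lists of images. -/
def comp (l m : List ℕ) : List ℕ := m.map fun x => l.getD x 0

theorem code_mul (s t : Equiv.Perm (Fin 6)) : code (s * t) = comp (code s) (code t) := by
  unfold code comp
  rw [List.map_ofFn]
  refine congrArg List.ofFn (funext fun i => ?_)
  show ((s (t i) : Fin 6) : ℕ) = _
  generalize hj : t i = j
  simp only [Function.comp_apply, hj]
  fin_cases j <;> rfl

theorem code_injective : Function.Injective code := fun s t h => by
  apply Equiv.ext
  intro i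
  exact Fin.ext (congrFun (List.ofFn_injective h) i)

theorem code_eq_iff (s : Equiv.Perm (Fin 6)) : code s = List.range 6 ↔ s = 1 := by
  rw [show List.range 6 = code 1 from by decide]
  exact code_injective.eq_iff

/-- Which small powers of a list of images are trivial. -/
def sigL (l : List ℕ) : Bool × Bool × Bool :=
  (comp l l == List.range 6, comp (comp l l) l == List.range 6, comp (comp l l) (comp l l) == List.range 6)

theorem sig_code (s : Equiv.Perm (Fin 6)) : sigL (code s) = sig s := by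
  simp only [sigL, sig, ← code_mul, beq_eq_decide, code_eq_iff]
  simp only [show s ^ 2 = s * s from sq s, show s ^ 3 = s * s * s by simp [pow_succ],
    show s ^ 4 = s * s * (s * s) by simp [pow_succ, mul_assoc]]

/-- The images of the even involutions. -/
def involL : List (List ℕ) :=
  [[0, 1, 3, 2, 5, 4], [0, 1, 4, 5, 2, 3], [0, 1, 5, 4, 3, 2], [0, 2, 1, 3, 5, 4],
   [0, 2, 1, 4, 3, 5], [0, 2, 1, 5, 4, 3], [0, 3, 2, 1, 5, 4], [0, 3, 4, 1, 2, 5],
   [0, 3, 5, 1, 4, 2], [0, 4, 2, 5, 1, 3], [0, 4, 3, 2, 1, 5], [0, 4, 5, 3, 1, 2],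
   [0, 5, 2, 4, 3, 1], [0, 5, 3, 2, 4, 1], [0, 5, 4, 3, 2, 1], [1, 0, 2, 3, 5, 4],
   [1, 0, 2, 4, 3, 5], [1, 0, 2, 5, 4, 3], [1, 0, 3, 2, 4, 5], [1, 0, 4, 3, 2, 5],
   [1, 0, 5, 3, 4, 2], [2, 1, 0, 3, 5, 4], [2, 1, 0, 4, 3, 5], [2, 1, 0, 5, 4, 3],
   [2, 3, 0, 1, 4, 5], [2, 4, 0, 3, 1, 5], [2, 5, 0, 3, 4, 1], [3, 1, 2, 0, 5, 4],
   [3, 1, 4, 0, 2, 5], [3, 1, 5, 0, 4, 2], [3, 2, 1, 0, 4, 5], [3, 4, 2, 0, 1, 5],
   [3, 5, 2, 0, 4, 1], [4, 1, 2, 5, 0, 3], [4, 1, 3, 2, 0, 5], [4, 1, 5, 3, 0, 2],
   [4, 2, 1, 3, 0, 5], [4, 3, 2, 1, 0, 5], [4, 5, 2, 3, 0, 1], [5, 1, 2, 4, 3, 0],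
   [5, 1, 3, 2, 4, 0], [5, 1, 4, 3, 2, 0], [5, 2, 1, 3, 4, 0], [5, 3, 2, 1, 4, 0],
   [5, 4, 2, 3, 1, 0]]

set_option maxRecDepth 100000 in
theorem invols_code : invols.val.map code = (involL : Multiset (List ℕ)) := by decide +kernel

set_option maxRecDepth 100000 in
theorem sigL_count : ∀ a ∈ involL, ∀ s ∈
    ([(true, true, true), (true, false, true), (false, true, false), (false, false, true),
      (false, false, false)] : List (Bool × Bool × Bool)),
    (involL : Multiset (List ℕ)).countP (fun l => sigL (comp a l) = s) < 32 := by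
  decide +kernel

theorem sig_count (z : Equiv.Perm (Fin 6)) (hz : z ∈ invols) (s : Bool × Bool × Bool) (hs : s ∈
    ([(true, true, true), (true, false, true), (false, true, false), (false, false, true),
      (false, false, false)] : List (Bool × Bool × Bool))) :
    (invols.filter fun w => sig (z * w) = s).card < 32 := by
  have hzm : code z ∈ involL := by
    have : code z ∈ invols.val.map code := Multiset.mem_map.mpr ⟨z, hz, rfl⟩
    rw [invols_code] at this
    simpa using this
  refine lt_of_eq_of_lt ?_ (sigL_count _ hzm s hs)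
  rw [← invols_code, Multiset.countP_map, Finset.card_def, Finset.filter_val]
  simp only [← code_mul, sig_code]

theorem sig_cases {M : Type*} [Monoid M] [DecidableEq M] (g : M) :
    sig g ∈ ([(true, true, true), (true, false, true), (false, true, false), (false, false, true),
      (false, false, false)] : List (Bool × Bool × Bool)) := by
  by_cases h2 : g ^ 2 = 1
  · have h4 : g ^ 4 = 1 := by rw [show (4 : ℕ) = 2 * 2 from rfl, pow_mul, h2, one_pow]
    by_cases h3 : g ^ 3 = 1 <;> simp [sig, h2, h3, h4]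
  · by_cases h3 : g ^ 3 = 1
    · have h4 : g ^ 4 ≠ 1 := by
        intro h4
        have h1 : g = 1 := by rw [pow_succ, h3, one_mul] at h4; exact h4
        exact h2 (by rw [h1, one_pow])
      simp [sig, h2, h3, h4]
    · by_cases h4 : g ^ 4 = 1 <;> simp [sig, h2, h3, h4]

theorem centralizer_card_le {G : Type*} [Group G] [Finite G] (N : Subgroup G) [N.Normal]
    (e : N ≃* alternatingGroup (Fin 6)) (hidx : N.index = 4) (z : N) (hz : (e z : Equiv.Perm (Fin 6)) ∈ invols) :
    Nat.card (Subgroup.centralizer ({(z : G)} : Set G)) ≤ 32 := by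
  set C := Subgroup.centralizer ({(z : G)} : Set G)
  have h1 : Nat.card (N.subgroupOf C) ≤ 8 := by
    refine (le_of_eq ?_).trans (Nat.le_of_dvd (by norm_num) (commute_card_dvd hz))
    exact Nat.card_congr
      { toFun := fun u => ⟨(e ⟨((u : C) : G), Subgroup.mem_subgroupOf.mp u.2⟩ : Equiv.Perm (Fin 6)),
          Equiv.Perm.mem_alternatingGroup.mp (e _).2, by
            rw [← Subgroup.coe_mul, ← Subgroup.coe_mul, ← map_mul, ← map_mul]
            congr 2
            exact Subtype.ext (Subgroup.mem_centralizer_singleton_iff.mp u.1.2)⟩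
        invFun := fun s => ⟨⟨(e.symm ⟨s.1, Equiv.Perm.mem_alternatingGroup.mpr s.2.1⟩ : G), by
            rw [Subgroup.mem_centralizer_singleton_iff]
            have : (⟨s.1, Equiv.Perm.mem_alternatingGroup.mpr s.2.1⟩ : alternatingGroup (Fin 6)) * e z =
                e z * ⟨s.1, Equiv.Perm.mem_alternatingGroup.mpr s.2.1⟩ := Subtype.ext s.2.2
            have := congrArg (fun w => ((e.symm w : N) : G)) this
            simpa using this⟩, Subgroup.mem_subgroupOf.mpr (SetLike.coe_mem _)⟩
        left_inv := fun u => by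
          apply Subtype.ext; apply Subtype.ext
          simp
        right_inv := fun s => by
          apply Subtype.ext
          simp }
  have h2 : N.relIndex C ≤ 4 := hidx ▸ Nat.le_of_dvd (by rw [hidx]; norm_num) (Subgroup.relIndex_dvd_index_of_normal N C)
  calc Nat.card C = Nat.card (N.subgroupOf C) * (N.subgroupOf C).index := (Subgroup.card_mul_index _).symm
    _ ≤ 8 * 4 := Nat.mul_le_mul h1 h2
    _ = 32 := by norm_num

theorem sylow_inf_ne_bot {G : Type*} [Group G] [Finite G] (N : Subgroup G) [N.Normal]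
    (e : N ≃* alternatingGroup (Fin 6)) (hidx : N.index = 4) (H : Sylow 2 G) (x : G) :
    (H : Subgroup G) ⊓ MulAut.conj x • (H : Subgroup G) ≠ ⊥ := by
  classical
  haveI : Fact (Nat.Prime 2) := ⟨Nat.prime_two⟩
  have hN : Nat.card N = 360 := by
    rw [Nat.card_congr e.toEquiv, nat_card_alternatingGroup, Nat.card_eq_fintype_card, Fintype.card_fin]
    rfl
  have hG : Nat.card G = 1440 := by rw [← N.card_mul_index, hN, hidx]
  have hH : Nat.card (H : Subgroup G) = 32 := by
    rw [Sylow.card_eq_multiplicity, hG]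
    have h5 : (2 : ℕ) ^ 5 ∣ 1440 := by norm_num
    have h6 : ¬ (2 : ℕ) ^ 6 ∣ 1440 := by norm_num
    have : (1440 : ℕ).factorization 2 = 5 := by
      have a := (Nat.Prime.pow_dvd_iff_le_factorization Nat.prime_two (by norm_num : (1440 : ℕ) ≠ 0)).mp h5
      have b := mt (Nat.Prime.pow_dvd_iff_le_factorization Nat.prime_two (by norm_num : (1440 : ℕ) ≠ 0)).mpr h6
      omega
    rw [this]; norm_num
  -- an involution of `N` central in the Sylow subgroup
  haveI hnorm : (N.subgroupOf (H : Subgroup G)).Normal := inferInstance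
  have hne : Nontrivial (N.subgroupOf (H : Subgroup G)) := by
    rw [← Finite.one_lt_card_iff_nontrivial]
    have h1 := Subgroup.card_mul_index (N.subgroupOf (H : Subgroup G))
    have h2 : (N.subgroupOf (H : Subgroup G)).index ≤ 4 :=
      hidx ▸ Nat.le_of_dvd (by rw [hidx]; norm_num) (Subgroup.relIndex_dvd_index_of_normal N H)
    rw [hH] at h1
    by_contra h
    have : Nat.card (N.subgroupOf (H : Subgroup G)) = 1 := le_antisymm (by omega) Nat.card_pos
    rw [this] at h1
    omega
  set A := Subgroup.center (H : Subgroup G) ⊓ N.subgroupOf (H : Subgroup G) with hA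
  have hAne : A ≠ ⊥ := by
    haveI : Group.IsNilpotent (H : Subgroup G) := H.2.isNilpotent
    rw [hA, inf_comm]
    exact CfsgLib.inf_center_ne_bot_of_nilpotent ((Subgroup.nontrivial_iff_ne_bot _).mp hne)
  obtain ⟨z₀, hz₀⟩ : ∃ z₀ : A, orderOf z₀ = 2 := by
    refine exists_prime_orderOf_dvd_card' 2 ?_
    obtain ⟨k, hk⟩ := (H.2.to_subgroup A).exists_card_eq
    rw [hk]
    refine dvd_pow_self 2 fun h => hAne (Subgroup.eq_bot_of_card_eq _ ?_)
    rw [hk, h, pow_zero]
  let z : N := ⟨((z₀ : (H : Subgroup G)) : G), Subgroup.mem_subgroupOf.mp z₀.2.2⟩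
  have hzord : orderOf (z : G) = 2 := by
    show orderOf (((z₀ : (H : Subgroup G))) : G) = 2
    rw [Subgroup.orderOf_coe, Subgroup.orderOf_coe, hz₀]
  have hz2 : (z : G) * z = 1 := by rw [← sq, ← hzord]; exact pow_orderOf_eq_one _
  have hzi : ∀ w : N, (w : G) * w = 1 → (w : G) ≠ 1 → (e w : Equiv.Perm (Fin 6)) ∈ invols := by
    intro w hw hw1
    rw [invols, Finset.mem_filter]
    refine ⟨Finset.mem_univ _, ?_, ?_, Equiv.Perm.mem_alternatingGroup.mp (e w).2⟩
    · rw [← Subgroup.coe_mul, ← map_mul, show w * w = 1 from Subtype.ext hw, map_one, Subgroup.coe_one]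
    · intro h
      exact hw1 (congrArg Subtype.val (e.map_eq_one_iff.mp (Subtype.ext h)))
  have hz1 : (z : G) ≠ 1 := fun h => by rw [h, orderOf_one] at hzord; omega
  let C := Subgroup.centralizer ({(z : G)} : Set G)
  have hHC : (H : Subgroup G) = C := by
    refine Subgroup.eq_of_le_of_card_ge ?_ ((centralizer_card_le N e hidx z (hzi z hz2 hz1)).trans hH.ge)
    intro h hh
    rw [Subgroup.mem_centralizer_singleton_iff]
    exact congrArg Subtype.val (Subgroup.mem_center_iff.mp z₀.2.1 ⟨h, hh⟩)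
  let w : N := ⟨x * z * x⁻¹, Subgroup.Normal.conj_mem inferInstance _ z.2 x⟩
  have hw2 : (w : G) * w = 1 := by
    show x * (z : G) * x⁻¹ * (x * z * x⁻¹) = 1
    rw [show x * (z : G) * x⁻¹ * (x * z * x⁻¹) = x * (z * z) * x⁻¹ by group, hz2]
    group
  have hw1 : (w : G) ≠ 1 := fun h => hz1 (conj_eq_one_iff.mp h)
  let T : Set G := {v | ∃ u : N, (u : G) = v ∧ v * v = 1 ∧ v ≠ 1 ∧ sig ((z : G) * v) = sig ((z : G) * w)}
  have hT : T.ncard < 32 := by
    refine lt_of_le_of_lt ?_ (sig_count _ (hzi z hz2 hz1) _ (sig_cases ((e z : Equiv.Perm (Fin 6)) * (e w : Equiv.Perm (Fin 6)))))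
    rw [← Set.ncard_coe_finset]
    have hsig : ∀ u : N, sig ((e z : Equiv.Perm (Fin 6)) * (e u : Equiv.Perm (Fin 6))) = sig ((z : G) * u) := by
      intro u
      rw [← Subgroup.coe_mul, ← map_mul, ← Subgroup.coe_mul]
      exact (sig_map (alternatingGroup (Fin 6)).subtype Subtype.val_injective (e (z * u))).trans
        ((sig_map e.toMonoidHom e.injective (z * u)).trans (sig_map N.subtype Subtype.val_injective (z * u)).symm)
    refine Set.ncard_le_ncard_of_injOn (fun v => if h : v ∈ N then (e ⟨v, h⟩ : Equiv.Perm (Fin 6)) else 1) ?_ ?_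
      (Finset.finite_toSet _)
    · rintro _ ⟨u, rfl, h1, h2, h3⟩
      simp only [SetLike.coe_mem, dite_true, Finset.coe_filter, Set.mem_setOf_eq, Subtype.coe_eta]
      exact ⟨hzi u h1 h2, by rw [hsig, hsig, h3]⟩
    · rintro _ ⟨u, rfl, -⟩ _ ⟨u', rfl, -⟩ h
      simpa using h
  -- the Sylow subgroup permutes these involutions
  have hinv : ∀ (c : (H : Subgroup G)) (v : G), v ∈ T → (c : G) * v * (c : G)⁻¹ ∈ T := by
    rintro c _ ⟨u, rfl, h1, h2, h3⟩
    refine ⟨⟨_, Subgroup.Normal.conj_mem inferInstance _ u.2 c⟩, rfl, ?_, fun h => h2 (conj_eq_one_iff.mp h), ?_⟩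
    · rw [show (c : G) * u * (c : G)⁻¹ * (c * u * (c : G)⁻¹) = c * (u * u) * (c : G)⁻¹ by group, h1]
      group
    · rw [← h3, ← sig_map (MulAut.conj (c : G)).toMonoidHom (MulAut.conj (c : G)).injective ((z : G) * u)]
      congr 1
      have hc : (c : G) * z = z * c := Subgroup.mem_centralizer_singleton_iff.mp (hHC.le c.2)
      simp only [MulEquiv.coe_toMonoidHom, MulAut.conj_apply]
      rw [← mul_assoc (c : G) (z : G), hc]
      group
  intro hbot
  have hwT : (w : G) ∈ T := ⟨w, rfl, hw2, hw1, rfl⟩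
  let F : ↥(H : Subgroup G) → T := fun c => ⟨(c : G) * w * (c : G)⁻¹, hinv c _ hwT⟩
  have hF : Function.Injective F := by
    intro a b hab
    have h := congrArg Subtype.val hab
    have hmem : (b : G)⁻¹ * a ∈ (H : Subgroup G) ⊓ MulAut.conj x • (H : Subgroup G) := by
      refine Subgroup.mem_inf.mpr ⟨mul_mem (inv_mem b.2) a.2, ?_⟩
      rw [Subgroup.mem_pointwise_smul_iff_inv_smul_mem]
      apply hHC.ge
      rw [MulAut.smul_def, Subgroup.mem_centralizer_singleton_iff]
      have h' : (a : G) * (x * z * x⁻¹) * (a : G)⁻¹ = b * (x * z * x⁻¹) * (b : G)⁻¹ := h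
      simp only [MulAut.conj_inv_apply]
      calc x⁻¹ * ((b : G)⁻¹ * a) * x * (z : G)
          = x⁻¹ * (b : G)⁻¹ * (a * (x * z * x⁻¹) * (a : G)⁻¹) * (a * x) := by group
        _ = x⁻¹ * (b : G)⁻¹ * (b * (x * z * x⁻¹) * (b : G)⁻¹) * (a * x) := by rw [h']
        _ = (z : G) * (x⁻¹ * ((b : G)⁻¹ * a) * x) := by group
    rw [hbot, Subgroup.mem_bot, inv_mul_eq_one] at hmem
    exact Subtype.ext hmem.symm
  have := Nat.card_le_card_of_injective F hF
  rw [Nat.card_coe_set_eq, hH] at this
  omega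

end CfsgLib.SixSylowMeet
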