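/-
Five times transitive groups of prime degree 2r+3 or 3r+4 (r a prime) contain the alternating group:
a centraliser of a Sylow r-subgroup yields a small Jordan set.
-/
import Cfsg.Agent.S0713
import Cfsg.Agent.S3620
import Mathlib

set_option autoImplicit false

namespace CfsgLib.TwinAlt

variable {G α : Type*} [Group G] [MulAction G α]

/-- A small set with a nontrivial element supported on it, on which the setwise stabiliser is doubly
transitive, forces all even permutations. -/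
theorem jordan_set [Finite G] [FaithfulSMul G α] [Fintype α] [DecidableEq α]
    [MulAction.IsPretransitive G α] (hp : (Fintype.card α).Prime) (Φ : Finset α) (hΦ1 : 1 < Φ.card)
    (hΦ2 : 2 * Φ.card < Fintype.card α)
    (hX : ∀ a ∈ Φ, ∀ b ∈ Φ, ∀ a' ∈ Φ, ∀ b' ∈ Φ, a ≠ b → a' ≠ b' →
      ∃ n : G, (∀ z, n • z ∈ Φ ↔ z ∈ Φ) ∧ n • a = a' ∧ n • b = b')
    (x : G) (hx : ∀ z, z ∉ Φ → x • z = z) (hx1 : x ≠ 1) :
    alternatingGroup α ≤ (MulAction.toPermHom G α).range := by
  obtain ⟨a₀, ha₀⟩ : ∃ a, x • a ≠ a := by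
    by_contra h
    push Not at h
    exact hx1 (eq_of_smul_eq_smul (α := α) fun a => by rw [h, one_smul])
  have ha : a₀ ∈ Φ := by_contra fun h => ha₀ (hx a₀ h)
  have hxa : x • a₀ ∈ Φ := by_contra fun h => ha₀ (smul_left_cancel x (hx _ h))
  have hK : ∀ a ∈ Φ, ∀ b ∈ Φ, ∃ k : G, (∀ z, z ∉ Φ → k • z = z) ∧ k • a = b := by
    intro a h1 b h2
    by_cases hab : a = b
    · exact ⟨1, fun z _ => one_smul _ _, by rw [one_smul, hab]⟩
    obtain ⟨n, hn, n1, n2⟩ := hX a₀ ha _ hxa a h1 b h2 (Ne.symm ha₀) hab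
    refine ⟨n * x * n⁻¹, fun z hz => ?_, ?_⟩
    · have : n⁻¹ • z ∉ Φ := fun h => hz (by simpa using (hn (n⁻¹ • z)).2 h)
      rw [mul_smul, mul_smul, hx _ this, smul_inv_smul]
    · rw [← n1, mul_smul, mul_smul, inv_smul_smul, n2]
  haveI : Nontrivial α := Fintype.one_lt_card_iff_nontrivial.1 hp.one_lt
  haveI := MulAction.IsPreprimitive.of_prime_card (G := G) (X := α) (by rwa [Nat.card_eq_fintype_card])
  have hqp : ∀ N : Subgroup G, N.Normal → N ≠ ⊥ → MulAction.IsPretransitive ↥N α := by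
    intro N hN hne
    refine ⟨fun u v => ?_⟩
    rcases MulAction.IsPreprimitive.isTrivialBlock_of_isBlock
      (MulAction.IsBlock.orbit_of_normal (G := G) (N := N) u) with h | h
    · exfalso
      apply hne
      refine (Subgroup.eq_bot_iff_forall _).2 fun a hamem => ?_
      refine eq_of_smul_eq_smul (α := α) fun z => ?_
      obtain ⟨g, rfl⟩ := MulAction.exists_smul_eq G u z
      have h1 : (g⁻¹ * a * g) • u = u :=
        h ⟨⟨g⁻¹ * a * g, by simpa using hN.conj_mem a hamem g⁻¹⟩, rfl⟩ (MulAction.mem_orbit_self u)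
      rw [one_smul, ← mul_smul]
      calc (a * g) • u = g • (g⁻¹ * a * g) • u := by rw [← mul_smul]; congr 1; group
        _ = g • u := by rw [h1]
    · exact (h.ge (Set.mem_univ v) : v ∈ MulAction.orbit N u)
  have hJ : MulAction.IsPretransitive ↥(fixingSubgroup G ((Φ : Set α))ᶜ)
      ↥(SubMulAction.ofFixingSubgroup G ((Φ : Set α))ᶜ) := by
    refine ⟨fun u v => ?_⟩
    have hu : (u : α) ∈ Φ := by_contra fun h => u.2 h
    have hv : (v : α) ∈ Φ := by_contra fun h => v.2 h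
    obtain ⟨k, hk, hkuv⟩ := hK _ hu _ hv
    exact ⟨⟨k, (mem_fixingSubgroup_iff G).2 fun z hz => hk z hz⟩, Subtype.ext hkuv⟩
  intro σ hσ
  obtain ⟨g, hg⟩ := Cfsg.Agent.S3620.result hqp (Φ : Set α) (by rwa [Set.ncard_coe_finset])
    (by rwa [Set.ncard_coe_finset]) hJ σ (Equiv.Perm.mem_alternatingGroup.1 hσ)
  exact ⟨g, hg⟩

/-- An element of prime order moving fewer than twice as many points is a cycle, so Jordan applies. -/
theorem jordan_cycle [Finite G] [FaithfulSMul G α] [Fintype α] [DecidableEq α]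
    [MulAction.IsPretransitive G α] (hp : (Fintype.card α).Prime) {r : ℕ} (hr : r.Prime)
    (hrn : r + 3 ≤ Fintype.card α) (g : G) (hg1 : g ≠ 1) (hgr : g ^ r = 1) (S : Finset α)
    (hS : ∀ z, z ∉ S → g • z = z) (hSc : S.card < 2 * r) :
    alternatingGroup α ≤ (MulAction.toPermHom G α).range := by
  haveI := Fact.mk hr
  set φ := MulAction.toPermHom G α
  haveI : MulAction.IsPretransitive φ.range α := ⟨fun x y => by
    obtain ⟨h, hh⟩ := MulAction.exists_smul_eq G x y
    exact ⟨⟨φ h, h, rfl⟩, hh⟩⟩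
  have hprim : MulAction.IsPreprimitive φ.range α :=
    MulAction.IsPreprimitive.of_prime_card (by rwa [Nat.card_eq_fintype_card])
  have hord : orderOf (φ g) = r := by
    rw [orderOf_injective φ MulAction.toPerm_injective, orderOf_eq_prime hgr hg1]
  have hsupp : (φ g).support.card < 2 * r := by
    refine lt_of_le_of_lt (Finset.card_le_card fun z hz => ?_) hSc
    by_contra h
    exact (Equiv.Perm.mem_support.1 hz) (hS z h)
  have hc : (φ g).IsCycle := Equiv.Perm.isCycle_of_prime_order (hord.symm ▸ hr) (by rw [hord]; exact hsupp)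
  exact Cfsg.Agent.S0713.result φ.range hprim hr (by have := hr.two_le; omega) hrn hc
    (by rw [← hc.orderOf, hord]) ⟨g, rfl⟩

/-- In an elementwise sense, two maps permuting two classes commute. -/
theorem bool_inj_comm : ∀ a b : Bool → Bool, (a false ≠ a true) → (b false ≠ b true) →
    ∀ i, a (b i) = b (a i) := by decide

/-- Few permutations of four letters have a large centraliser. -/
theorem few_large_centralisers :
    (Finset.univ.filter fun x : Equiv.Perm (Fin 4) =>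
      8 ≤ (Finset.univ.filter fun y => x * y = y * x).card).card = 4 := by decide +kernel

theorem alt_le [Finite G] [FaithfulSMul G α] [Fintype α] [DecidableEq α] {r m₀ f : ℕ}
    (hp : (Fintype.card α).Prime) (hr : r.Prime) (hr5 : 5 ≤ r) (hn : Fintype.card α = m₀ * r + f)
    (hcase : (f = 3 ∧ m₀ = 2) ∨ (f = 4 ∧ m₀ = 3))
    (h5 : MulAction.IsMultiplyPretransitive G α 5) :
    alternatingGroup α ≤ (MulAction.toPermHom G α).range := by
  classical
  haveI := Fact.mk hr
  have hn5 : 5 ≤ Fintype.card α := by rcases hcase with ⟨rfl, rfl⟩ | ⟨rfl, rfl⟩ <;> omega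
  have htk : ∀ k, k ≤ 5 → MulAction.IsMultiplyPretransitive G α k := fun k hk =>
    haveI := h5
    MulAction.isMultiplyPretransitive_of_le (n := 5) hk (by rw [Nat.card_eq_fintype_card]; exact hn5)
  haveI : MulAction.IsPretransitive G α := by
    haveI := htk 2 (by norm_num)
    exact MulAction.isPretransitive_of_is_two_pretransitive
  by_contra hnot
  -- a Sylow `r`-subgroup
  let R : Sylow r G := default
  set Rs : Subgroup G := (R : Subgroup G) with hRs
  have hrG : r ∣ Nat.card G := by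
    obtain ⟨i⟩ : Nonempty (Fin 5 ↪ α) := Function.Embedding.nonempty_of_card_le (by
      rw [Fintype.card_fin]; exact hn5)
    have h := (MulAction.stabilizer G i).index_dvd_card
    haveI := h5
    rw [MulAction.index_stabilizer_of_transitive, Nat.card_eq_fintype_card, Fintype.card_embedding_eq,
      Fintype.card_fin] at h
    refine Nat.dvd_trans ?_ h
    simp only [Nat.descFactorial_succ, Nat.descFactorial_zero, mul_one]
    rcases hcase with ⟨rfl, rfl⟩ | ⟨rfl, rfl⟩
    · rw [show Fintype.card α - 3 = 2 * r by omega]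
      exact Dvd.dvd.mul_left (Dvd.dvd.mul_right (Dvd.intro_left 2 rfl) _) _
    · rw [show Fintype.card α - 4 = 3 * r by omega]
      exact Dvd.dvd.mul_right (Dvd.intro_left 3 rfl) _
  obtain ⟨g₁, hg₁R, hg₁1⟩ : ∃ g ∈ Rs, g ≠ 1 := by
    have h := R.dvd_card_of_dvd_card hrG
    by_contra hall
    push Not at hall
    have : Rs = ⊥ := (Subgroup.eq_bot_iff_forall _).2 hall
    rw [show (R : Subgroup G) = ⊥ from this, Subgroup.card_bot] at h
    exact hr.not_dvd_one h
  -- orbits of the Sylow subgroup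
  let O : α → Finset α := fun x => Finset.univ.filter fun y => ∃ a ∈ Rs, a • x = y
  have hOmem : ∀ {x y}, y ∈ O x ↔ ∃ a ∈ Rs, a • x = y := by intro x y; simp [O]
  have hOself : ∀ x, x ∈ O x := fun x => hOmem.2 ⟨1, one_mem _, one_smul _ _⟩
  have hOeq : ∀ {x y}, y ∈ O x → O y = O x := by
    intro x y h
    obtain ⟨a, ha, rfl⟩ := hOmem.1 h
    ext z
    simp only [hOmem]
    constructor
    · rintro ⟨b, hb, rfl⟩; exact ⟨b * a, mul_mem hb ha, mul_smul _ _ _⟩
    · rintro ⟨b, hb, rfl⟩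
      exact ⟨b * a⁻¹, mul_mem hb (inv_mem ha), by rw [mul_smul, inv_smul_smul]⟩
  have hOdisj : ∀ {x y}, y ∉ O x → Disjoint (O x) (O y) := by
    intro x y h
    rw [Finset.disjoint_left]
    intro z hz hz'
    exact h (by rw [← hOeq hz, hOeq hz']; exact hOself y)
  let Φ : Finset α := Finset.univ.filter fun x => ∀ a ∈ Rs, a • x = x
  have hΦmem : ∀ {x}, x ∈ Φ ↔ ∀ a ∈ Rs, a • x = x := by intro x; simp [Φ]
  obtain ⟨k, hk⟩ := IsPGroup.iff_card.1 R.2
  have hsmall : Fintype.card α < r * r := by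
    have h1 : 5 * r ≤ r * r := Nat.mul_le_mul_right r hr5
    rcases hcase with ⟨rfl, rfl⟩ | ⟨rfl, rfl⟩ <;> omega
  have horb : ∀ x, x ∉ Φ → (O x).card = r ∧
      ((MulAction.stabilizer G x).subgroupOf Rs).Normal ∧ ((MulAction.stabilizer G x).subgroupOf Rs).index = r := by
    intro x hx
    have hidx : ((MulAction.stabilizer G x).subgroupOf Rs).index = (O x).card := by
      have hst : (MulAction.stabilizer G x).subgroupOf Rs = MulAction.stabilizer Rs x := by
        ext a; simp [Subgroup.mem_subgroupOf, Subgroup.smul_def]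
      rw [hst, MulAction.index_stabilizer, ← Set.ncard_coe_finset]
      congr 1
      ext y
      simp only [MulAction.mem_orbit_iff, Finset.mem_coe, hOmem, Subtype.exists, exists_prop, Subgroup.mk_smul]
    have hdvd := ((MulAction.stabilizer G x).subgroupOf Rs).index_dvd_card
    rw [hidx, hk] at hdvd
    obtain ⟨j, hjk, hj⟩ := (Nat.dvd_prime_pow hr).1 hdvd
    have hj2 : j < 2 := by
      by_contra h
      push Not at h
      have h1 : r ^ 2 ≤ r ^ j := Nat.pow_le_pow_right hr.pos h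
      have h2 := Finset.card_le_univ (O x)
      rw [sq] at h1
      omega
    have hj1 : j = 1 := by
      by_contra h
      have hj0 : j = 0 := by omega
      rw [hj0, pow_zero, Finset.card_eq_one] at hj
      obtain ⟨z, hz⟩ := hj
      refine hx (hΦmem.2 fun a ha => ?_)
      have h1 : a • x ∈ O x := hOmem.2 ⟨a, ha, rfl⟩
      have h2 := hOself x
      rw [hz, Finset.mem_singleton] at h1 h2
      rw [h1, ← h2]
    rw [hj1, pow_one] at hj
    refine ⟨hj, Subgroup.normal_of_index_eq_minFac_card ?_, hidx.trans hj⟩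
    rw [hk, Nat.Prime.pow_minFac hr (by
      intro h0
      rw [h0] at hjk
      omega), hidx, hj]
  have hker : ∀ x a, x ∉ Φ → a ∈ Rs → a • x = x → ∀ y ∈ O x, a • y = y := by
    intro x a hx ha hax y hy
    obtain ⟨b, hb, rfl⟩ := hOmem.1 hy
    have h := (horb x hx).2.1.conj_mem ⟨a, ha⟩ hax ⟨b, hb⟩⁻¹
    rw [inv_inv] at h
    have h' : (b⁻¹ * a * b) • x = x := h
    calc a • b • x = b • (b⁻¹ * a * b) • x := by rw [← mul_smul, ← mul_smul]; congr 1; group
      _ = b • x := by rw [h']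
  have hpow : ∀ a ∈ Rs, a ^ r = 1 := by
    intro a ha
    refine eq_of_smul_eq_smul (α := α) fun x => ?_
    rw [one_smul]
    by_cases hx : x ∈ Φ
    · exact hΦmem.1 hx _ (pow_mem ha r)
    · haveI := (horb x hx).2.1
      have h := Subgroup.pow_index_mem ((MulAction.stabilizer G x).subgroupOf Rs) ⟨a, ha⟩
      rw [(horb x hx).2.2] at h
      exact h
  have hgen : ∀ g ∈ Rs, ∀ x, g • x ≠ x → ∀ y ∈ O x, ∃ i : ℕ, g ^ i • x = y := by
    intro g hg x hgx
    have hx : x ∉ Φ := fun h => hgx (hΦmem.1 h g hg)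
    have hord : orderOf g = r := orderOf_eq_prime (hpow g hg) fun h => hgx (by rw [h, one_smul])
    let S := (Finset.range r).image fun i => g ^ i • x
    have hS : S = O x := by
      refine Finset.eq_of_subset_of_card_le (fun y hy => ?_) ?_
      · obtain ⟨i, -, rfl⟩ := Finset.mem_image.1 hy
        exact hOmem.2 ⟨_, pow_mem hg i, rfl⟩
      · rw [(horb x hx).1, Finset.card_image_of_injOn, Finset.card_range]
        intro i hi j hj hij
        simp only [Finset.coe_range, Set.mem_Iio] at hi hj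
        have key : ∀ d, 0 < d → d < r → g ^ d • x ≠ x := by
          intro d hd0 hdr h
          apply hgx
          obtain ⟨e, he⟩ := exists_pow_eq_self_of_coprime (x := g) (n := d) (by
            rw [hord, Nat.coprime_comm, hr.coprime_iff_not_dvd]
            exact fun h => by have := Nat.le_of_dvd hd0 h; omega)
          rw [← he]
          have : ∀ e : ℕ, (g ^ d) ^ e • x = x := fun e => by
            induction e with
            | zero => rw [pow_zero, one_smul]
            | succ e ih => rw [pow_succ, mul_smul, h, ih]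
          exact this e
        rcases Nat.lt_trichotomy i j with h | h | h
        · refine absurd ?_ (key (j - i) (by omega) (by omega))
          refine smul_left_cancel (g ^ i) ?_
          rw [← mul_smul, ← pow_add, show i + (j - i) = j by omega]
          exact hij.symm
        · exact h
        · refine absurd ?_ (key (i - j) (by omega) (by omega))
          refine smul_left_cancel (g ^ j) ?_
          rw [← mul_smul, ← pow_add, show j + (i - j) = i by omega]
          exact hij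
    intro y hy
    rw [← hS] at hy
    obtain ⟨i, -, hi⟩ := Finset.mem_image.1 hy
    exact ⟨i, hi⟩
  have hsingle : ∀ a ∈ Rs, ∀ x, x ∉ Φ → (∀ z, z ∉ Φ → z ∉ O x → a • z = z) → a = 1 := by
    intro a ha x hx h
    by_contra ha1
    refine hnot (jordan_cycle hp hr ?_ a ha1 (hpow a ha) (O x) (fun z hz => ?_) ?_)
    · rcases hcase with ⟨rfl, rfl⟩ | ⟨rfl, rfl⟩ <;> omega
    · by_cases hzΦ : z ∈ Φ
      · exact hΦmem.1 hzΦ a ha
      · exact h z hzΦ hz
    · rw [(horb x hx).1]; omega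
  -- the orbits and their number
  obtain ⟨x₁, hx₁⟩ : ∃ x, x ∉ Φ := by
    by_contra h
    push Not at h
    exact hg₁1 (eq_of_smul_eq_smul (α := α) fun x => by rw [one_smul, hΦmem.1 (h x) g₁ hg₁R])
  obtain ⟨x₂, hx₂, hx₂₁⟩ : ∃ x, x ∉ Φ ∧ x ∉ O x₁ := by
    by_contra h
    push Not at h
    exact hg₁1 (hsingle g₁ hg₁R x₁ hx₁ fun z hz hz' => absurd (h z hz) hz')
  have hOΦ : ∀ x, x ∉ Φ → Disjoint Φ (O x) := fun x hx => Finset.disjoint_left.2 fun z hz hz' => hx (by
    obtain ⟨a, ha, rfl⟩ := hOmem.1 hz'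
    refine hΦmem.2 fun b hb => ?_
    have h1 := hΦmem.1 hz
    have : b • x = x := by
      have e1 : a⁻¹ • a • x = a • x := h1 _ (inv_mem ha)
      rw [inv_smul_smul] at e1
      rw [e1]; exact h1 b hb
    exact this)
  -- Witt
  let N : Subgroup G := Subgroup.normalizer ((Rs : Subgroup G) : Set G)
  have hW : ∀ (k : ℕ), k ≤ 5 → ∀ i j : Fin k ↪ α, (∀ l, i l ∈ Φ) → (∀ l, j l ∈ Φ) →
      ∃ n ∈ N, ∀ l, n • i l = j l := by
    intro k hk i j hi hj
    haveI := htk k hk
    obtain ⟨g, hg⟩ := MulAction.exists_smul_eq G i j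
    let S := MulAction.stabilizer G j
    have hR1 : (R : Subgroup G) ≤ S := fun a ha => DFunLike.ext _ _ fun l => hΦmem.1 (hj l) a ha
    have hR2 : ((g • R : Sylow r G) : Subgroup G) ≤ S := by
      intro a ha
      rw [Sylow.coe_subgroup_smul, Subgroup.mem_pointwise_smul_iff_inv_smul_mem] at ha
      refine DFunLike.ext _ _ fun l => ?_
      have e1 : g • i l = j l := congrArg (fun f : Fin k ↪ α => f l) hg
      have h2 := hΦmem.1 (hi l) _ ha
      rw [MulAut.smul_def, MulAut.conj_inv_apply, mul_smul, mul_smul, inv_smul_eq_iff, e1] at h2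
      exact h2
    obtain ⟨s, hs⟩ := MulAction.exists_smul_eq S ((g • R).subtype hR2) (R.subtype hR1)
    rw [Sylow.smul_subtype] at hs
    have h3 := Sylow.subtype_injective hs
    refine ⟨(s : G) * g, ?_, fun l => ?_⟩
    · have h4 : ((s : G) * g) • R = R := by rw [mul_smul]; exact h3
      exact Sylow.smul_eq_iff_mem_normalizer.1 h4
    · rw [mul_smul, show g • i l = j l from congrArg (fun f : Fin k ↪ α => f l) hg]
      exact congrArg (fun f : Fin k ↪ α => f l) s.2
  have hNconj : ∀ n ∈ N, ∀ a, a ∈ Rs → n * a * n⁻¹ ∈ Rs := fun n hn a ha =>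
    (Subgroup.mem_normalizer_iff.1 hn a).1 ha
  have hNinv : ∀ n ∈ N, ∀ a, a ∈ Rs → n⁻¹ * a * n ∈ Rs := fun n hn a ha => by
    simpa using hNconj n⁻¹ (inv_mem hn) a ha
  have hNΦ : ∀ n ∈ N, ∀ z, n • z ∈ Φ ↔ z ∈ Φ := by
    intro n hn z
    simp only [hΦmem]
    constructor
    · intro h a ha
      have := h _ (hNconj n hn a ha)
      rw [mul_smul, mul_smul, inv_smul_smul] at this
      exact smul_left_cancel n this
    · intro h a ha
      have := h _ (hNinv n hn a ha)
      rw [mul_smul, mul_smul, inv_smul_eq_iff] at this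
      exact this
  have hNO : ∀ n ∈ N, ∀ x y, y ∈ O x → n • y ∈ O (n • x) := by
    intro n hn x y hy
    obtain ⟨a, ha, rfl⟩ := hOmem.1 hy
    exact hOmem.2 ⟨n * a * n⁻¹, hNconj n hn a ha, by rw [mul_smul, mul_smul, inv_smul_smul]⟩
  have hNO' : ∀ n ∈ N, ∀ x y, n • y ∈ O (n • x) → y ∈ O x := fun n hn x y h => by
    simpa using hNO n⁻¹ (inv_mem hn) _ _ h
  have hX : ∀ a ∈ Φ, ∀ b ∈ Φ, ∀ a' ∈ Φ, ∀ b' ∈ Φ, a ≠ b → a' ≠ b' →
      ∃ n : G, n ∈ N ∧ n • a = a' ∧ n • b = b' := by
    intro a ha b hb a' ha' b' hb' h h'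
    obtain ⟨n, hn, e⟩ := hW 2 (by norm_num)
      ⟨![a, b], fun u v => by fin_cases u <;> fin_cases v <;> simp [h, h.symm]⟩
      ⟨![a', b'], fun u v => by fin_cases u <;> fin_cases v <;> simp [h', h'.symm]⟩
      (fun l => by fin_cases l <;> simpa) (fun l => by fin_cases l <;> simpa)
    exact ⟨n, hn, e 0, e 1⟩
  -- powers on an orbit
  have htrans_pow : ∀ (c : G) (x : α) (h : G), h ∈ Rs → h • x ≠ x → c • x ∈ O x →
      (∀ y ∈ O x, c • h • y = h • c • y) → ∀ y ∈ O x, (c ^ r) • y = y := by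
    intro c x h hh hhx hcx hcomm
    obtain ⟨i, hi⟩ := hgen h hh x hhx _ hcx
    have hin : ∀ j : ℕ, ∀ y ∈ O x, h ^ j • y ∈ O x := fun j y hy => by
      obtain ⟨a, ha, rfl⟩ := hOmem.1 hy
      exact hOmem.2 ⟨h ^ j * a, mul_mem (pow_mem hh j) ha, mul_smul _ _ _⟩
    have hcj : ∀ j : ℕ, ∀ y ∈ O x, c • h ^ j • y = h ^ j • c • y := by
      intro j
      induction j with
      | zero => intro y _; simp
      | succ j ih =>
        intro y hy
        have hy1 : h • y ∈ O x := by simpa using hin 1 y hy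
        rw [pow_succ, mul_smul, mul_smul, ih _ hy1, hcomm y hy]
    have hc : ∀ y ∈ O x, c • y = h ^ i • y := by
      intro y hy
      obtain ⟨j, rfl⟩ := hgen h hh x hhx y hy
      rw [hcj j x (hOself x), ← hi, ← mul_smul, ← mul_smul, ← pow_add, ← pow_add, add_comm]
    intro y hy
    have hm : ∀ m : ℕ, (c ^ m) • y = h ^ (i * m) • y := by
      intro m
      induction m with
      | zero => simp
      | succ m ih => rw [pow_succ', mul_smul, ih, hc _ (hin _ y hy), ← mul_smul, ← pow_add,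
          show i + i * m = i * (m + 1) by ring]
    rw [hm, pow_mul']
    rw [hpow h hh, one_pow, one_smul]
  -- commutators and centralising
  have hcentr : ∀ u v g : G, g ∈ Rs → (∃ i : ℕ, u * g * u⁻¹ = g ^ i) → (∃ j : ℕ, v * g * v⁻¹ = g ^ j) →
      ((v * u)⁻¹ * (u * v)) * g = g * ((v * u)⁻¹ * (u * v)) := by
    intro u v g _ ⟨i, hi⟩ ⟨j, hj⟩
    have e1 : (u * v) * g * (u * v)⁻¹ = g ^ (i * j) := by
      rw [show (u * v) * g * (u * v)⁻¹ = u * (v * g * v⁻¹) * u⁻¹ by group, hj, ← conj_pow, hi, ← pow_mul]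
    have e2 : (v * u) * g * (v * u)⁻¹ = g ^ (i * j) := by
      rw [show (v * u) * g * (v * u)⁻¹ = v * (u * g * u⁻¹) * v⁻¹ by group, hi, ← conj_pow, hj, ← pow_mul,
        mul_comm j i]
    calc (v * u)⁻¹ * (u * v) * g = (v * u)⁻¹ * ((u * v) * g * (u * v)⁻¹) * (u * v) := by group
      _ = (v * u)⁻¹ * ((v * u) * g * (v * u)⁻¹) * (u * v) := by rw [e1, e2]
      _ = g * ((v * u)⁻¹ * (u * v)) := by group
  have hpairswap : ∀ (x y : α), x ∉ O y → ∀ u v : G, u ∈ N → v ∈ N →
      (∀ n : G, n = u ∨ n = v → ∀ z, (z = x ∨ z = y) → n • z ∈ O x ∨ n • z ∈ O y) →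
      ∀ z, (z = x ∨ z = y) → ((v * u)⁻¹ * (u * v)) • z ∈ O z := by
    intro x y hxy u v hu hv hperm z hz
    let pt : Bool → α := fun b => if b then y else x
    have hptO : ∀ a b, pt a ∈ O (pt b) → a = b := by
      intro a b h
      cases a <;> cases b <;> simp [pt] at h ⊢
      · exact hxy h
      · exact hxy (by rw [hOeq h]; exact hOself x)
    have hlab : ∀ n : G, n ∈ N → n = u ∨ n = v →
        ∃ π : Bool → Bool, π false ≠ π true ∧ ∀ b, n • pt b ∈ O (pt (π b)) := by
      intro n hn hnuv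
      have hb : ∀ b, ∃ b', n • pt b ∈ O (pt b') := fun b => by
        rcases hperm n hnuv (pt b) (by cases b <;> simp [pt]) with h | h
        · exact ⟨false, h⟩
        · exact ⟨true, h⟩
      choose π hπ using hb
      refine ⟨π, fun e => ?_, hπ⟩
      have h1 := hπ false
      have h2 := hπ true
      rw [e] at h1
      rw [← hOeq h2] at h1
      exact absurd (hptO _ _ (hNO' n hn _ _ h1)) (by simp)
    obtain ⟨a, ha, ha'⟩ := hlab u hu (Or.inl rfl)
    obtain ⟨b, hb, hb'⟩ := hlab v hv (Or.inr rfl)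
    obtain ⟨i, rfl⟩ : ∃ i, pt i = z := by
      rcases hz with h | h
      · exact ⟨false, h.symm⟩
      · exact ⟨true, h.symm⟩
    have e1 : (u * v) • pt i ∈ O (pt (a (b i))) := by
      rw [mul_smul, ← hOeq (ha' (b i))]; exact hNO u hu _ _ (hb' i)
    have e2 : (v * u) • pt i ∈ O (pt (a (b i))) := by
      rw [mul_smul, bool_inj_comm a b ha hb i, ← hOeq (hb' (a i))]; exact hNO v hv _ _ (ha' i)
    rw [← hOeq e2] at e1
    have := hNO (v * u)⁻¹ (inv_mem (mul_mem hv hu)) _ _ e1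
    rwa [inv_smul_smul, ← mul_smul] at this
  by_cases hm : ∀ z, z ∉ Φ → z ∈ O x₁ ∨ z ∈ O x₂
  · -- two orbits
    have hx12 : x₁ ∉ O x₂ := fun h => hx₂₁ (by rw [hOeq h]; exact hOself x₂)
    obtain ⟨g, hg, hg1⟩ : ∃ g ∈ Rs, g ≠ 1 := ⟨g₁, hg₁R, hg₁1⟩
    have hinj : ∀ a ∈ Rs, a • x₁ = x₁ → a = 1 := fun a ha h => hsingle a ha x₂ hx₂ fun z hz hz' =>
      hker x₁ a hx₁ ha h z ((hm z hz).resolve_right hz')
    have hinj2 : ∀ a ∈ Rs, a • x₂ = x₂ → a = 1 := fun a ha h => hsingle a ha x₁ hx₁ fun z hz hz' =>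
      hker x₂ a hx₂ ha h z ((hm z hz).resolve_left hz')
    have hgx : g • x₁ ≠ x₁ := fun h => hg1 (hinj g hg h)
    have hgx2 : g • x₂ ≠ x₂ := fun h => hg1 (hinj2 g hg h)
    have hcyc : ∀ a ∈ Rs, ∃ i : ℕ, a = g ^ i := by
      intro a ha
      obtain ⟨i, hi⟩ := hgen g hg x₁ hgx _ (hOmem.2 ⟨a, ha, rfl⟩)
      refine ⟨i, ?_⟩
      have := hinj ((g ^ i)⁻¹ * a) (mul_mem (inv_mem (pow_mem hg i)) ha) (by
        rw [mul_smul, ← hi, inv_smul_smul])
      exact (inv_mul_eq_one.1 this).symm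
    have hcardΦ : Φ.card + (2 * r) = Fintype.card α := by
      have hun : Φ ∪ (O x₁ ∪ O x₂) = Finset.univ := by
        ext z
        simp only [Finset.mem_union, Finset.mem_univ, iff_true]
        by_cases hz : z ∈ Φ
        · exact Or.inl hz
        · exact Or.inr (hm z hz)
      rw [← Finset.card_univ, ← hun, Finset.card_union_of_disjoint, Finset.card_union_of_disjoint (hOdisj hx₂₁),
        (horb x₁ hx₁).1, (horb x₂ hx₂).1]
      · ring
      · exact Finset.disjoint_union_right.2 ⟨hOΦ x₁ hx₁, hOΦ x₂ hx₂⟩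
    obtain ⟨hΦ3, hΦlt, hΦr⟩ : 3 ≤ Φ.card ∧ 2 * Φ.card < Fintype.card α ∧ ¬ r ∣ Φ.card := by
      rcases hcase with ⟨rfl, rfl⟩ | ⟨rfl, rfl⟩
      · have : Φ.card = 3 := by omega
        refine ⟨by omega, by omega, fun h => ?_⟩
        rw [this] at h
        have := Nat.le_of_dvd (by norm_num) h; omega
      · have : Φ.card = r + 4 := by omega
        refine ⟨by omega, by omega, fun h => ?_⟩
        rw [this, Nat.dvd_add_right dvd_rfl] at h
        have := Nat.le_of_dvd (by norm_num) h; omega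
    -- the good elements
    let D : G → Prop := fun c => c ∈ N ∧ c * g = g * c ∧ ∀ z, z ∉ Φ → c • z ∈ O z
    have hDmul : ∀ c d, D c → D d → D (c * d) := by
      rintro c d ⟨c1, c2, c3⟩ ⟨d1, d2, d3⟩
      refine ⟨mul_mem c1 d1, by rw [mul_assoc, d2, ← mul_assoc, c2, mul_assoc], fun z hz => ?_⟩
      rw [mul_smul]
      have hdz : d • z ∉ Φ := fun h => hz ((hNΦ d d1 z).1 h)
      rw [← hOeq (d3 z hz)]
      exact c3 _ hdz
    have hD1 : D 1 := ⟨one_mem _, by simp, fun z _ => by rw [one_smul]; exact hOself z⟩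
    have hDpow : ∀ c, D c → ∀ n : ℕ, D (c ^ n) := fun c hc n => by
      induction n with
      | zero => simpa using hD1
      | succ n ih => rw [pow_succ]; exact hDmul _ _ ih hc
    let Dg : Subgroup G :=
      { carrier := {c | D c}
        one_mem' := hD1
        mul_mem' := fun {c d} hc hd => hDmul c d hc hd
        inv_mem' := fun {c} hc => by
          obtain ⟨n, hn⟩ : ∃ n : ℕ, c⁻¹ = c ^ n := ⟨orderOf c - 1, by
            rw [inv_eq_iff_mul_eq_one, ← pow_succ', Nat.sub_add_cancel (orderOf_pos c), pow_orderOf_eq_one]⟩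
          show D c⁻¹
          rw [hn]; exact hDpow c hc n }
    have hNg : ∀ n ∈ N, ∃ i : ℕ, n * g * n⁻¹ = g ^ i := fun n hn => hcyc _ (hNconj n hn g hg)
    -- a commutator moving a point of `Φ`
    obtain ⟨a, ha, b, hb, c, hc, hab, hac, hbc⟩ := Finset.two_lt_card.1 hΦ3
    obtain ⟨u, hu, eu⟩ := hW 3 (by norm_num)
      ⟨![a, b, c], fun s t => by fin_cases s <;> fin_cases t <;> simp [hab, hac, hbc, hab.symm, hac.symm, hbc.symm]⟩
      ⟨![b, a, c], fun s t => by fin_cases s <;> fin_cases t <;> simp [hab, hac, hbc, hab.symm, hac.symm, hbc.symm]⟩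
      (fun l => by fin_cases l <;> simpa) (fun l => by fin_cases l <;> simpa)
    obtain ⟨v, hv, ev⟩ := hW 3 (by norm_num)
      ⟨![a, b, c], fun s t => by fin_cases s <;> fin_cases t <;> simp [hab, hac, hbc, hab.symm, hac.symm, hbc.symm]⟩
      ⟨![b, c, a], fun s t => by fin_cases s <;> fin_cases t <;> simp [hab, hac, hbc, hab.symm, hac.symm, hbc.symm]⟩
      (fun l => by fin_cases l <;> simpa) (fun l => by fin_cases l <;> simpa)
    have u0 : u • a = b := eu 0
    have u1 : u • b = a := eu 1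
    have v0 : v • a = b := ev 0
    have v1 : v • b = c := ev 1
    set c₀ := (v * u)⁻¹ * (u * v) with hc₀
    have hc₀D : D c₀ := by
      refine ⟨mul_mem (inv_mem (mul_mem hv hu)) (mul_mem hu hv), hcentr u v g hg (hNg u hu) (hNg v hv), ?_⟩
      have hps := hpairswap x₁ x₂ hx12 u v hu hv (fun n hn z hz => hm _ (fun h => ?_))
      · intro z hz
        have hN0 : c₀ ∈ N := mul_mem (inv_mem (mul_mem hv hu)) (mul_mem hu hv)
        rcases hm z hz with h | h
        · rw [hOeq h, ← hOeq (hps x₁ (Or.inl rfl))]; exact hNO c₀ hN0 _ _ h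
        · rw [hOeq h, ← hOeq (hps x₂ (Or.inr rfl))]; exact hNO c₀ hN0 _ _ h
      · have hz' := (hNΦ n (hn.elim (fun e => e ▸ hu) (fun e => e ▸ hv)) z).1 h
        rcases hz with rfl | rfl
        · exact hx₁ hz'
        · exact hx₂ hz'
    have hc₀a : c₀ • a ≠ a := by
      intro h
      rw [hc₀, mul_smul, inv_smul_eq_iff, mul_smul, mul_smul, v0, u1, u0, v1] at h
      exact hac h
    -- some power moves a point of `Φ`
    obtain ⟨d, hd, z₀, hz₀, hdz⟩ : ∃ d, D d ∧ ∃ z ∈ Φ, (d ^ r) • z ≠ z := by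
      by_contra hall
      push Not at hall
      let ψ : Dg →* Equiv.Perm {z : α // z ∈ Φ} :=
        { toFun := fun d => Equiv.Perm.subtypePerm (MulAction.toPerm (d : G)) fun z => hNΦ _ d.2.1 z
          map_one' := Equiv.ext fun z => Subtype.ext (one_smul G (z : α))
          map_mul' := fun d e => Equiv.ext fun z => Subtype.ext (mul_smul (d : G) (e : G) (z : α)) }
      have hψ : ∀ (d : Dg) (z : {z : α // z ∈ Φ}), ((ψ d z : {z : α // z ∈ Φ}) : α) = (d : G) • (z : α) :=
        fun d z => rfl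
      have hY : IsPGroup r ψ.range := by
        rintro ⟨_, d, rfl⟩
        refine ⟨1, Subtype.ext ?_⟩
        rw [pow_one, Subgroup.coe_pow, Subgroup.coe_one, ← map_pow]
        refine Equiv.ext fun z => Subtype.ext ?_
        rw [hψ, Subgroup.coe_pow, hall _ d.2 _ z.2]
        rfl
      have htr : MulAction.orbit ψ.range (⟨a, ha⟩ : {z : α // z ∈ Φ}) = Set.univ := by
        refine Set.eq_univ_of_forall fun z => ?_
        by_cases hza : (z : α) = a
        · exact ⟨1, by rw [Subtype.ext_iff]; simp [hza]⟩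
        obtain ⟨n, hn, n1, n2⟩ := hX a ha (c₀ • a) ((hNΦ c₀ hc₀D.1 a).2 ha) a ha (z : α) z.2
          (Ne.symm hc₀a) (Ne.symm hza)
        have hDn : D (n * c₀ * n⁻¹) := by
          refine ⟨mul_mem (mul_mem hn hc₀D.1) (inv_mem hn), ?_, fun w hw => ?_⟩
          · obtain ⟨i, hi⟩ := hcyc _ (hNinv n hn g hg)
            have hci : c₀ * g ^ i = g ^ i * c₀ := ((show Commute c₀ g from hc₀D.2.1).pow_right i).eq
            calc n * c₀ * n⁻¹ * g = n * (c₀ * (n⁻¹ * g * n)) * n⁻¹ := by group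
              _ = n * ((n⁻¹ * g * n) * c₀) * n⁻¹ := by rw [hi, hci]
              _ = g * (n * c₀ * n⁻¹) := by group
          · rw [mul_smul, mul_smul]
            have hw' : n⁻¹ • w ∉ Φ := fun h => hw (by simpa using (hNΦ n hn (n⁻¹ • w)).2 h)
            have := hNO n hn _ _ (hc₀D.2.2 _ hw')
            rwa [smul_inv_smul] at this
        refine ⟨⟨ψ ⟨n * c₀ * n⁻¹, hDn⟩, _, rfl⟩, Subtype.ext ?_⟩
        show ((ψ ⟨n * c₀ * n⁻¹, hDn⟩ ⟨a, ha⟩ : {z : α // z ∈ Φ}) : α) = (z : α)
        rw [hψ]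
        show (n * c₀ * n⁻¹) • a = (z : α)
        rw [mul_smul, mul_smul, show n⁻¹ • a = a by rw [inv_smul_eq_iff, n1], n2]
      obtain ⟨e, he⟩ := hY.card_orbit (⟨a, ha⟩ : {z : α // z ∈ Φ})
      rw [htr, Nat.card_coe_set_eq, Set.ncard_univ, Nat.card_eq_fintype_card, Fintype.card_coe] at he
      rcases Nat.eq_zero_or_pos e with h0 | h0
      · rw [h0, pow_zero] at he; omega
      · exact hΦr (he ▸ dvd_pow_self r h0.ne')
    refine hnot (jordan_set hp Φ (by omega) hΦlt (fun a ha b hb a' ha' b' hb' h h' => ?_) (d ^ r) ?_ ?_)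
    · obtain ⟨n, hn, e1, e2⟩ := hX a ha b hb a' ha' b' hb' h h'
      exact ⟨n, hNΦ n hn, e1, e2⟩
    · intro z hz
      have hgz : g • z ≠ z := by
        intro h
        rcases hm z hz with hz' | hz'
        · exact hgx (hker z g hz hg h x₁ (by rw [hOeq hz']; exact hOself x₁))
        · exact hgx2 (hker z g hz hg h x₂ (by rw [hOeq hz']; exact hOself x₂))
      exact htrans_pow d z g hg hgz (hd.2.2 z hz) (fun y _ => by rw [← mul_smul, hd.2.1, mul_smul]) z (hOself z)
    · intro h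
      exact hdz (by rw [h, one_smul])
  · -- three orbits and four fixed points
    push Not at hm
    obtain ⟨x₃, hx₃, hx₃₁, hx₃₂⟩ := hm
    have hcard3 : Φ.card + 3 * r ≤ Fintype.card α := by
      have hle := Finset.card_le_univ (Φ ∪ (O x₁ ∪ (O x₂ ∪ O x₃)))
      rw [Finset.card_union_of_disjoint, Finset.card_union_of_disjoint, Finset.card_union_of_disjoint (hOdisj hx₃₂),
        (horb x₁ hx₁).1, (horb x₂ hx₂).1, (horb x₃ hx₃).1] at hle
      · omega
      · exact Finset.disjoint_union_right.2 ⟨hOdisj hx₂₁, hOdisj hx₃₁⟩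
      · simp only [Finset.disjoint_union_right]
        exact ⟨hOΦ x₁ hx₁, hOΦ x₂ hx₂, hOΦ x₃ hx₃⟩
    obtain ⟨rfl, rfl⟩ : f = 4 ∧ m₀ = 3 := by
      rcases hcase with ⟨rfl, rfl⟩ | h
      · omega
      · exact h
    -- no fourth orbit
    have hm3 : ∀ z, z ∉ Φ → z ∈ O x₁ ∨ z ∈ O x₂ ∨ z ∈ O x₃ := by
      intro z hz
      by_contra h
      push Not at h
      obtain ⟨z1, z2, z3⟩ := h
      have hle := Finset.card_le_univ (O x₁ ∪ (O x₂ ∪ (O x₃ ∪ O z)))
      rw [Finset.card_union_of_disjoint, Finset.card_union_of_disjoint, Finset.card_union_of_disjoint (hOdisj z3),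
        (horb x₁ hx₁).1, (horb x₂ hx₂).1, (horb x₃ hx₃).1, (horb z hz).1] at hle
      · omega
      · exact Finset.disjoint_union_right.2 ⟨hOdisj hx₃₂, hOdisj z2⟩
      · simp only [Finset.disjoint_union_right]
        exact ⟨hOdisj hx₂₁, hOdisj hx₃₁, hOdisj z1⟩
    have hΦ4 : Φ.card = 4 := by
      have hun : Φ ∪ (O x₁ ∪ (O x₂ ∪ O x₃)) = Finset.univ := by
        ext z
        simp only [Finset.mem_union, Finset.mem_univ, iff_true]
        by_cases hz : z ∈ Φ
        · exact Or.inl hz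
        · exact Or.inr (hm3 z hz)
      have hc := congrArg Finset.card hun
      rw [Finset.card_union_of_disjoint, Finset.card_union_of_disjoint, Finset.card_union_of_disjoint (hOdisj hx₃₂),
        (horb x₁ hx₁).1, (horb x₂ hx₂).1, (horb x₃ hx₃).1, Finset.card_univ] at hc
      · omega
      · exact Finset.disjoint_union_right.2 ⟨hOdisj hx₂₁, hOdisj hx₃₁⟩
      · simp only [Finset.disjoint_union_right]
        exact ⟨hOΦ x₁ hx₁, hOΦ x₂ hx₂, hOΦ x₃ hx₃⟩
    -- an element fixing no point of two of the orbits, normalised by the stabiliser of the remaining one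
    obtain ⟨y₁, y₂, y₃, hy₁, hy₂, hy₃, hy21, hy31, hy32, hy, g, hg, hg2, hg3, hgn⟩ :
        ∃ y₁ y₂ y₃, y₁ ∉ Φ ∧ y₂ ∉ Φ ∧ y₃ ∉ Φ ∧ y₂ ∉ O y₁ ∧ y₃ ∉ O y₁ ∧ y₃ ∉ O y₂ ∧
          (∀ z, z ∉ Φ → z ∈ O y₁ ∨ z ∈ O y₂ ∨ z ∈ O y₃) ∧ ∃ g ∈ Rs, g • y₂ ≠ y₂ ∧ g • y₃ ≠ y₃ ∧
            ∀ n ∈ N, n • y₁ ∈ O y₁ → ∃ i : ℕ, n * g * n⁻¹ = g ^ i := by
      have hne : ∀ x y, y ∉ O x → x ∉ O y := fun x y h h' => h (by rw [hOeq h']; exact hOself y)
      by_cases hE : ∃ g ∈ Rs, g ≠ 1 ∧ ∃ x, x ∉ Φ ∧ g • x = x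
      · obtain ⟨g, hg, hg1, x, hx, hgx⟩ := hE
        obtain ⟨y₁, y₂, y₃, hy₁, hy₂, hy₃, h21, h31, h32, hy, hgy⟩ : ∃ y₁ y₂ y₃, y₁ ∉ Φ ∧ y₂ ∉ Φ ∧ y₃ ∉ Φ ∧
            y₂ ∉ O y₁ ∧ y₃ ∉ O y₁ ∧ y₃ ∉ O y₂ ∧
            (∀ z, z ∉ Φ → z ∈ O y₁ ∨ z ∈ O y₂ ∨ z ∈ O y₃) ∧ g • y₁ = y₁ := by
          rcases hm3 x hx with h | h | h
          · exact ⟨x₁, x₂, x₃, hx₁, hx₂, hx₃, hx₂₁, hx₃₁, hx₃₂, hm3,
              hker x g hx hg hgx x₁ (by rw [hOeq h]; exact hOself x₁)⟩
          · exact ⟨x₂, x₁, x₃, hx₂, hx₁, hx₃, hne _ _ hx₂₁, hx₃₂, hx₃₁, fun z hz => (hm3 z hz).elim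
              (fun h => Or.inr (Or.inl h)) (fun h => h.elim Or.inl (fun h => Or.inr (Or.inr h))),
              hker x g hx hg hgx x₂ (by rw [hOeq h]; exact hOself x₂)⟩
          · exact ⟨x₃, x₁, x₂, hx₃, hx₁, hx₂, hne _ _ hx₃₁, hne _ _ hx₃₂, hx₂₁, fun z hz => (hm3 z hz).elim
              (fun h => Or.inr (Or.inl h)) (fun h => h.elim (fun h => Or.inr (Or.inr h)) Or.inl),
              hker x g hx hg hgx x₃ (by rw [hOeq h]; exact hOself x₃)⟩
        have two : ∀ a ∈ Rs, a • y₁ = y₁ → a • y₂ = y₂ → a = 1 := fun a ha e1 e2 =>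
          hsingle a ha y₃ hy₃ fun z hz hz' => by
            rcases hy z hz with h | h | h
            · exact hker y₁ a hy₁ ha e1 z h
            · exact hker y₂ a hy₂ ha e2 z h
            · exact absurd h hz'
        have two' : ∀ a ∈ Rs, a • y₁ = y₁ → a • y₃ = y₃ → a = 1 := fun a ha e1 e3 =>
          hsingle a ha y₂ hy₂ fun z hz hz' => by
            rcases hy z hz with h | h | h
            · exact hker y₁ a hy₁ ha e1 z h
            · exact absurd h hz'
            · exact hker y₃ a hy₃ ha e3 z h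
        have g2 : g • y₂ ≠ y₂ := fun h => hg1 (two g hg hgy h)
        refine ⟨y₁, y₂, y₃, hy₁, hy₂, hy₃, h21, h31, h32, hy, g, hg, g2, fun h => hg1 (two' g hg hgy h),
          fun n hn hn1 => ?_⟩
        have hb := hNconj n hn g hg
        have hny : n • y₁ ∉ Φ := fun h => hy₁ ((hNΦ n hn y₁).1 h)
        have hb1 : (n * g * n⁻¹) • y₁ = y₁ := by
          refine hker (n • y₁) _ hny hb ?_ y₁ (by rw [hOeq hn1]; exact hOself y₁)
          rw [mul_smul, mul_smul, inv_smul_smul, hgy]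
        obtain ⟨i, hi⟩ := hgen g hg y₂ g2 _ (hOmem.2 ⟨_, hb, rfl⟩)
        refine ⟨i, (inv_mul_eq_one.1 (two ((g ^ i)⁻¹ * (n * g * n⁻¹))
          (mul_mem (inv_mem (pow_mem hg i)) hb) ?_ ?_)).symm⟩
        · rw [mul_smul, hb1, inv_smul_eq_iff]
          exact (MulAction.mem_stabilizer_iff.1
            (pow_mem (show g ∈ MulAction.stabilizer G y₁ from hgy) i)).symm
        · rw [mul_smul, ← hi, inv_smul_smul]
      · push Not at hE
        have hg2 : g₁ • x₂ ≠ x₂ := hE g₁ hg₁R hg₁1 x₂ hx₂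
        refine ⟨x₁, x₂, x₃, hx₁, hx₂, hx₃, hx₂₁, hx₃₁, hx₃₂, hm3, g₁, hg₁R, hg2, hE g₁ hg₁R hg₁1 x₃ hx₃,
          fun n hn _ => ?_⟩
        have hb := hNconj n hn g₁ hg₁R
        obtain ⟨i, hi⟩ := hgen g₁ hg₁R x₂ hg2 _ (hOmem.2 ⟨_, hb, rfl⟩)
        refine ⟨i, (inv_mul_eq_one.1 (by_contra fun hne1 =>
          hE ((g₁ ^ i)⁻¹ * (n * g₁ * n⁻¹)) (mul_mem (inv_mem (pow_mem hg₁R i)) hb) hne1 x₂ hx₂ ?_)).symm⟩
        rw [mul_smul, ← hi, inv_smul_smul]
    -- two elements fixing the first orbit and not commuting on the fixed points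
    obtain ⟨e⟩ : Nonempty (Fin 4 ≃ {z : α // z ∈ Φ}) :=
      ⟨Fintype.equivOfCardEq (by rw [Fintype.card_fin, Fintype.card_coe, hΦ4])⟩
    have hlift : ∀ π : Equiv.Perm (Fin 4), ∃ n ∈ N, ∀ l, n • ((e l : {z : α // z ∈ Φ}) : α) = (e (π l) : α) := by
      intro π
      obtain ⟨n, hn, h⟩ := hW 4 (by norm_num) (e.toEmbedding.trans (Function.Embedding.subtype _))
        ((π.toEmbedding.trans e.toEmbedding).trans (Function.Embedding.subtype _)) (fun l => (e l).2)
        (fun l => (e (π l)).2)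
      exact ⟨n, hn, h⟩
    choose L hLN hL using hlift
    let lab : Equiv.Perm (Fin 4) → Fin 3 := fun π =>
      if L π • y₁ ∈ O y₁ then 0 else if L π • y₁ ∈ O y₂ then 1 else 2
    let ys : Fin 3 → α := ![y₁, y₂, y₃]
    have hlab : ∀ π, L π • y₁ ∈ O (ys (lab π)) := by
      intro π
      simp only [lab]
      split_ifs with h1 h2
      · exact h1
      · exact h2
      · exact ((hy _ fun h => hy₁ ((hNΦ _ (hLN π) y₁).1 h)).resolve_left h1).resolve_left h2
    obtain ⟨q, hq⟩ := Fintype.exists_le_card_fiber_of_mul_le_card lab (n := 8) (by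
      rw [Fintype.card_fin, Fintype.card_perm, Fintype.card_fin]; decide)
    obtain ⟨π₀, hπ₀⟩ := Finset.card_pos.1 (lt_of_lt_of_le (by norm_num) hq)
    let W := (Finset.univ.filter fun π => lab π = q).image fun π => π₀⁻¹ * π
    have hWc : 8 ≤ W.card := by
      rw [Finset.card_image_of_injective _ (mul_right_injective _)]; exact hq
    obtain ⟨a, ha, b, hb, hab⟩ : ∃ a ∈ W, ∃ b ∈ W, a * b ≠ b * a := by
      by_contra h
      push Not at h
      have hsub : W ⊆ Finset.univ.filter fun x : Equiv.Perm (Fin 4) =>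
          8 ≤ (Finset.univ.filter fun y => x * y = y * x).card := fun x hx => by
        simp only [Finset.mem_filter, Finset.mem_univ, true_and]
        exact hWc.trans (Finset.card_le_card fun y hy => by simp [h x hx y hy])
      have := hWc.trans (Finset.card_le_card hsub)
      rw [few_large_centralisers] at this
      omega
    have hWlift : ∀ w ∈ W, ∃ n ∈ N, n • y₁ ∈ O y₁ ∧
        ∀ l, n • ((e l : {z : α // z ∈ Φ}) : α) = (e (w l) : α) := by
      intro w hw
      obtain ⟨π, hπ, rfl⟩ := Finset.mem_image.1 hw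
      have h1 := hlab π
      have h0 := hlab π₀
      rw [(Finset.mem_filter.1 hπ).2] at h1
      rw [(Finset.mem_filter.1 hπ₀).2] at h0
      rw [← hOeq h0] at h1
      refine ⟨(L π₀)⁻¹ * L π, mul_mem (inv_mem (hLN π₀)) (hLN π), ?_, fun l => ?_⟩
      · have := hNO (L π₀)⁻¹ (inv_mem (hLN π₀)) _ _ h1
        rw [inv_smul_smul] at this
        rwa [mul_smul]
      · rw [mul_smul, hL, inv_smul_eq_iff, hL]
        simp
    obtain ⟨u, hu, hu1, hua⟩ := hWlift a ha
    obtain ⟨v, hv, hv1, hvb⟩ := hWlift b hb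
    have hNc : (v * u)⁻¹ * (u * v) ∈ N := mul_mem (inv_mem (mul_mem hv hu)) (mul_mem hu hv)
    set c := (v * u)⁻¹ * (u * v) with hcdef
    have hcomm : c * g = g * c := hcentr u v g hg (hgn u hu hu1) (hgn v hv hv1)
    have h23 : y₂ ∉ O y₃ := fun h => hy32 (by rw [hOeq h]; exact hOself y₃)
    have hps : ∀ z, (z = y₂ ∨ z = y₃) → c • z ∈ O z := by
      refine hpairswap y₂ y₃ h23 u v hu hv fun n hn z hz => ?_
      have hnN : n ∈ N := hn.elim (fun e => e ▸ hu) (fun e => e ▸ hv)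
      have hn1 : n • y₁ ∈ O y₁ := hn.elim (fun e => e ▸ hu1) (fun e => e ▸ hv1)
      have hzΦ : z ∉ Φ := by rcases hz with rfl | rfl <;> assumption
      refine (hy _ fun h => hzΦ ((hNΦ n hnN z).1 h)).resolve_left fun h => ?_
      rw [← hOeq hn1] at h
      have := hNO' n hnN _ _ h
      rcases hz with rfl | rfl
      · exact hy21 this
      · exact hy31 this
    -- on the first orbit
    obtain ⟨h, hh, hhy⟩ : ∃ h ∈ Rs, h • y₁ ≠ y₁ := by
      by_contra h
      push Not at h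
      exact hy₁ (hΦmem.2 h)
    have hinv : ∀ n ∈ N, n • y₁ ∈ O y₁ → ∀ z ∈ O y₁, n • z ∈ O y₁ := fun n hn hn1 z hz => by
      rw [← hOeq hn1]; exact hNO n hn _ _ hz
    have hpowin : ∀ t ∈ Rs, ∀ z ∈ O y₁, t • z ∈ O y₁ := fun t ht z hz => by
      obtain ⟨a', ha', rfl⟩ := hOmem.1 hz
      exact hOmem.2 ⟨t * a', mul_mem ht ha', mul_smul _ _ _⟩
    have hexp : ∀ n ∈ N, n • y₁ ∈ O y₁ → ∃ i : ℕ, ∀ z ∈ O y₁, (n * h * n⁻¹) • z = h ^ i • z := by
      intro n hn hn1
      have hb' := hNconj n hn h hh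
      obtain ⟨i, hi⟩ := hgen h hh y₁ hhy _ (hOmem.2 ⟨_, hb', rfl⟩)
      refine ⟨i, fun z hz => ?_⟩
      have := hker y₁ ((h ^ i)⁻¹ * (n * h * n⁻¹)) hy₁ (mul_mem (inv_mem (pow_mem hh i)) hb')
        (by rw [mul_smul, ← hi, inv_smul_smul]) z hz
      rwa [mul_smul, inv_smul_eq_iff] at this
    have hpowagree : ∀ s t : G, s ∈ Rs → t ∈ Rs → (∀ z ∈ O y₁, s • z = t • z) → ∀ j : ℕ,
        ∀ z ∈ O y₁, s ^ j • z = t ^ j • z := by
      intro s t hs ht hst j
      induction j with
      | zero => intro z _; simp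
      | succ j ih =>
        intro z hz
        rw [pow_succ, pow_succ, mul_smul, mul_smul, hst z hz, ih _ (hpowin t ht z hz)]
    have hcompose : ∀ s t : G, s ∈ N → s • y₁ ∈ O y₁ → t ∈ N → t • y₁ ∈ O y₁ → ∀ i j : ℕ,
        (∀ z ∈ O y₁, (s * h * s⁻¹) • z = h ^ i • z) → (∀ z ∈ O y₁, (t * h * t⁻¹) • z = h ^ j • z) →
        ∀ z ∈ O y₁, ((s * t) * h * (s * t)⁻¹) • z = h ^ (i * j) • z := by
      intro s t hs hs1 _ _ i j hi hj z hz
      have hs1' : s⁻¹ • y₁ ∈ O y₁ := by
        have := hNO s⁻¹ (inv_mem hs) _ _ hs1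
        rw [inv_smul_smul] at this
        rw [hOeq this]; exact hOself _
      have hsz := hinv s⁻¹ (inv_mem hs) hs1' z hz
      calc ((s * t) * h * (s * t)⁻¹) • z = s • (t * h * t⁻¹) • s⁻¹ • z := by
            rw [← mul_smul, ← mul_smul]; congr 1; group
        _ = s • h ^ j • s⁻¹ • z := by rw [hj _ hsz]
        _ = (s * h * s⁻¹) ^ j • z := by rw [conj_pow, mul_smul, mul_smul]
        _ = (h ^ i) ^ j • z := hpowagree _ _ (hNconj s hs h hh) (pow_mem hh i) hi j z hz
        _ = h ^ (i * j) • z := by rw [pow_mul]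
    obtain ⟨i, hi⟩ := hexp u hu hu1
    obtain ⟨j, hj⟩ := hexp v hv hv1
    have hvu1 : (v * u) • y₁ ∈ O y₁ := by rw [mul_smul]; exact hinv v hv hv1 _ hu1
    have huv1 : (u * v) • y₁ ∈ O y₁ := by rw [mul_smul]; exact hinv u hu hu1 _ hv1
    have hcO : ∀ z ∈ O y₁, c • h • z = h • c • z := by
      intro z hz
      have hz' : (u * v) • z ∈ O y₁ := hinv _ (mul_mem hu hv) huv1 z hz
      calc c • h • z = (v * u)⁻¹ • ((u * v) * h * (u * v)⁻¹) • (u * v) • z := by
            rw [hcdef, ← mul_smul, ← mul_smul, ← mul_smul]; congr 1; group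
        _ = (v * u)⁻¹ • ((v * u) * h * (v * u)⁻¹) • (u * v) • z := by
            rw [hcompose u v hu hu1 hv hv1 i j hi hj _ hz', hcompose v u hv hv1 hu hu1 j i hj hi _ hz',
              mul_comm i j]
        _ = h • c • z := by rw [hcdef, ← mul_smul, ← mul_smul, ← mul_smul]; congr 1; group
    have hc1 : c • y₁ ∈ O y₁ := by
      rw [hcdef, mul_smul]
      have := hNO (v * u)⁻¹ (inv_mem (mul_mem hv hu)) _ _ hvu1
      rw [inv_smul_smul] at this
      refine hinv _ (inv_mem (mul_mem hv hu)) ?_ _ huv1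
      rw [hOeq this]; exact hOself _
    have hfix : ∀ z, z ∉ Φ → (c ^ r) • z = z := by
      intro z hz
      rcases hy z hz with h' | h' | h'
      · exact htrans_pow c y₁ h hh hhy hc1 hcO z h'
      · exact htrans_pow c y₂ g hg hg2 (hps y₂ (Or.inl rfl))
          (fun w _ => by rw [← mul_smul, hcomm, mul_smul]) z h'
      · exact htrans_pow c y₃ g hg hg3 (hps y₃ (Or.inr rfl))
          (fun w _ => by rw [← mul_smul, hcomm, mul_smul]) z h'
    have hce : ∀ l, c • ((e l : {z : α // z ∈ Φ}) : α) = (e (((b * a)⁻¹ * (a * b)) l) : α) := by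
      intro l
      rw [hcdef, mul_smul, mul_smul, inv_smul_eq_iff, mul_smul, hvb, hua, hua, hvb]
      simp
    have hcpow : ∀ (m : ℕ) l, (c ^ m) • ((e l : {z : α // z ∈ Φ}) : α) =
        (e ((((b * a)⁻¹ * (a * b)) ^ m) l) : α) := by
      intro m
      induction m with
      | zero => simp
      | succ m ih =>
        intro l
        rw [pow_succ', mul_smul, ih, hce, pow_succ', Equiv.Perm.mul_apply]
        all_goals simp [Equiv.Perm.mul_apply]
    refine hnot (jordan_set hp Φ (by omega) (by omega) (fun s hs t ht s' hs' t' ht' h1 h2 => ?_) (c ^ r) hfix ?_)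
    · obtain ⟨n, hn, e1, e2⟩ := hX s hs t ht s' hs' t' ht' h1 h2
      exact ⟨n, hNΦ n hn, e1, e2⟩
    · intro hone
      apply hab
      set q' := (b * a)⁻¹ * (a * b) with hq'
      have hq1 : q' ^ r = 1 := by
        refine Equiv.ext fun l => e.injective (Subtype.ext ?_)
        rw [← hcpow, hone, one_smul]
        rfl
      have hq24 : q' ^ 24 = 1 := by
        have := pow_card_eq_one (x := q')
        rwa [Fintype.card_perm, Fintype.card_fin, show Nat.factorial 4 = 24 by decide] at this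
      have hcop : Nat.gcd r 24 = 1 := (Nat.Prime.coprime_iff_not_dvd hr).2 fun hd => by
        rcases (Nat.Prime.dvd_mul hr).1 (show r ∣ 2 ^ 3 * 3 by simpa using hd) with h' | h'
        · have := Nat.le_of_dvd (by norm_num) (hr.dvd_of_dvd_pow h'); omega
        · have := Nat.le_of_dvd (by norm_num) h'; omega
      have : q' = 1 := by
        have := pow_gcd_eq_one.2 ⟨hq1, hq24⟩
        rwa [hcop, pow_one] at this
      exact (inv_mul_eq_one.1 this).symm

end CfsgLib.TwinAlt
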