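/-
Transitive groups of prime degree p = q + 2 (q prime) with half Sylow normaliser are 5-transitive.
-/
import Cfsg.Agent.Lib.Perm.HalfBlocks
import Mathlib.GroupTheory.GroupAction.Primitive

set_option autoImplicit false

open scoped commutatorElement

namespace CfsgLib.TwinPrime

/-- A soluble transitive group of prime degree `q` has order `q * d` with `d ∣ q - 1`. -/
theorem card_of_solvable {H β : Type*} [Group H] [Finite H] [MulAction H β] [FaithfulSMul H β]
    [MulAction.IsPretransitive H β] {q : ℕ} (hq : q.Prime) (hβ : Nat.card β = q) [Group.IsSolvable H] :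
    ∃ d, d ∣ q - 1 ∧ Nat.card H = q * d := by
  classical
  haveI := Fact.mk hq
  haveI : Finite β := Nat.finite_of_card_ne_zero (hβ ▸ hq.ne_zero)
  obtain ⟨b₀⟩ : Nonempty β := (Nat.card_pos_iff.1 (hβ ▸ hq.pos)).1
  haveI : Nontrivial β := (Finite.one_lt_card_iff_nontrivial).1 (hβ ▸ hq.one_lt)
  obtain ⟨n, hn⟩ := (Group.isSolvable_def H).1 inferInstance
  have hex : ∃ k, derivedSeries H k = ⊥ := ⟨n, hn⟩
  obtain ⟨k, hk⟩ : ∃ k, Nat.find hex = k + 1 := by
    refine Nat.exists_eq_succ_of_ne_zero fun h0 => ?_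
    have h := Nat.find_spec hex
    rw [h0, derivedSeries_zero] at h
    obtain ⟨b, hb⟩ := exists_ne b₀
    obtain ⟨g, hg⟩ := MulAction.exists_smul_eq H b₀ b
    exact hb (by rw [← hg, show g = 1 from (Subgroup.mem_bot).1 (h ▸ Subgroup.mem_top g), one_smul])
  set A := derivedSeries H k with hA
  haveI : A.Normal := derivedSeries_normal H k
  have hAne : A ≠ ⊥ := Nat.find_min hex (by omega)
  have hAc : ∀ a ∈ A, ∀ b ∈ A, a * b = b * a := by
    intro a ha b hb
    have h := Nat.find_spec hex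
    rw [hk, derivedSeries_succ] at h
    have h' : ⁅a, b⁆ ∈ (⊥ : Subgroup H) := h ▸ Subgroup.commutator_mem_commutator ha hb
    exact commutatorElement_eq_one_iff_mul_comm.1 (Subgroup.mem_bot.1 h')
  haveI := MulAction.IsPreprimitive.of_prime_card (G := H) (X := β) (hβ ▸ hq)
  have htrA : ∀ x y : β, ∃ a ∈ A, a • x = y := by
    intro x y
    rcases MulAction.IsPreprimitive.isTrivialBlock_of_isBlock
      (MulAction.IsBlock.orbit_of_normal (G := H) (N := A) x) with h | h
    · exfalso
      apply hAne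
      refine (Subgroup.eq_bot_iff_forall _).2 fun a ha => ?_
      refine eq_of_smul_eq_smul (α := β) fun z => ?_
      obtain ⟨g, rfl⟩ := MulAction.exists_smul_eq H x z
      have h1 : (g⁻¹ * a * g) • x = x :=
        h ⟨⟨g⁻¹ * a * g, by simpa using Subgroup.Normal.conj_mem inferInstance a ha g⁻¹⟩, rfl⟩
          (MulAction.mem_orbit_self x)
      rw [one_smul, ← mul_smul]
      calc (a * g) • x = g • (g⁻¹ * a * g) • x := by rw [← mul_smul]; congr 1; group
        _ = g • x := by rw [h1]
    · obtain ⟨⟨a, ha⟩, e⟩ := (h.ge (Set.mem_univ y) : y ∈ MulAction.orbit A x)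
      exact ⟨a, ha, e⟩
  have hfree : ∀ a ∈ A, ∀ x : β, a • x = x → a = 1 := fun a ha x hx => eq_of_smul_eq_smul (α := β) fun z => by
    obtain ⟨b, hb, rfl⟩ := htrA x z
    rw [one_smul, ← mul_smul, hAc a ha b hb, mul_smul, hx]
  have hcA : Nat.card A = q := by
    rw [← hβ]
    refine Nat.card_congr (Equiv.ofBijective (fun a : A => (a : H) • b₀) ⟨fun a b h => ?_, fun y => ?_⟩)
    · have h1 : ((b : H)⁻¹ * a) • b₀ = b₀ := by
        rw [mul_smul]; exact inv_smul_eq_iff.2 h
      exact Subtype.ext (inv_mul_eq_one.1 (hfree _ (mul_mem (inv_mem b.2) a.2) _ h1)).symm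
    · obtain ⟨a, ha, e⟩ := htrA b₀ y
      exact ⟨⟨a, ha⟩, e⟩
  haveI : IsCyclic A := isCyclic_of_prime_card hcA
  set S := MulAction.stabilizer H b₀
  let ψ : S →* MulAut A := (MulAut.conjNormal (H := A)).comp S.subtype
  have hψ : Function.Injective ψ := by
    rw [injective_iff_map_eq_one]
    intro s hs
    refine Subtype.ext (eq_of_smul_eq_smul (α := β) fun z => ?_)
    obtain ⟨a, ha, rfl⟩ := htrA b₀ z
    have h1 : (s : H) * a * (s : H)⁻¹ = a :=
      congrArg Subtype.val (DFunLike.congr_fun hs (⟨a, ha⟩ : A))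
    rw [Subgroup.coe_one, one_smul, ← mul_smul, show (s : H) * a = a * s from mul_inv_eq_iff_eq_mul.1 h1,
      mul_smul, MulAction.mem_stabilizer_iff.1 s.2]
  refine ⟨Nat.card S, ?_, ?_⟩
  · have h := Subgroup.card_dvd_of_injective ψ hψ
    rwa [IsCyclic.card_mulAut, hcA, Nat.totient_prime hq] at h
  · rw [← S.card_mul_index, MulAction.index_stabilizer_of_transitive, hβ, mul_comm]

variable {G α : Type*} [Group G] [Finite G] [MulAction G α] [FaithfulSMul G α] {p : ℕ} [Fact p.Prime]
  [MulAction.IsPretransitive G α]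

/-- For `p = q + 2` the group is triply transitive. -/
theorem three {q : ℕ} (hα : Nat.card α = p) (hins : ¬ Group.IsSolvable G) (P : Sylow p G)
    (hN : 2 * Nat.card ↥(Subgroup.normalizer ((P : Subgroup G) : Set G)) = p * (p - 1))
    (hq : q.Prime) (hq5 : 5 < q) (hpq : p = q + 2) : MulAction.IsMultiplyPretransitive G α 3 := by
  classical
  have hp : p.Prime := Fact.out
  have hp4 : p % 4 = 1 ∨ p % 4 = 3 := by
    rcases hp.eq_two_or_odd with h | h <;> omega
  rcases hp4 with h | hp4
  · exact CfsgLib.HalfBlocks.three_of_mod_one hα h hins P hN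
  haveI : Finite α := Nat.finite_of_card_ne_zero (hα ▸ hp.ne_zero)
  haveI := Fintype.ofFinite α
  haveI := Fintype.ofFinite G
  have hα' : Fintype.card α = p := by rw [← Nat.card_eq_fintype_card, hα]
  have h2t : MulAction.IsMultiplyPretransitive G α 2 := by
    by_contra h
    obtain ⟨e', he'⟩ := CfsgLib.PrimeDegree.affine_coordinates hα h
    exact hins (CfsgLib.PrimeDegree.isSolvable_of_affine e' he')
  have h2' : ∀ {x y z u : α} (_ : x ≠ y) (_ : z ≠ u), ∃ g : G, g • x = z ∧ g • y = u :=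
    MulAction.is_two_pretransitive_iff.1 h2t
  obtain ⟨x₀, y₀, hxy⟩ : ∃ x y : α, x ≠ y := Fintype.exists_pair_of_one_lt_card (by omega)
  let Rel : α → α → Prop := fun u v => ∃ g : G, g • x₀ = x₀ ∧ g • y₀ = y₀ ∧ g • u = v
  have hsymm : ∀ u v, Rel u v → Rel v u := fun u v ⟨g, h1, h2, h3⟩ =>
    ⟨g⁻¹, by rw [inv_smul_eq_iff, h1], by rw [inv_smul_eq_iff, h2], by rw [inv_smul_eq_iff, h3]⟩
  have htrans : ∀ u v w, Rel u v → Rel v w → Rel u w := fun u v w ⟨g, a1, a2, a3⟩ ⟨h, b1, b2, b3⟩ =>
    ⟨h * g, by rw [mul_smul, a1, b1], by rw [mul_smul, a2, b2], by rw [mul_smul, a3, b3]⟩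
  by_contra hn3
  obtain ⟨a, o, ha, ho, hao⟩ : ∃ a o : α, (a ≠ x₀ ∧ a ≠ y₀) ∧ (o ≠ x₀ ∧ o ≠ y₀) ∧ ¬ Rel a o := by
    by_contra hcon
    push Not at hcon
    refine hn3 ⟨fun i j => ?_⟩
    have hi : ∀ k l : Fin 3, k ≠ l → i k ≠ i l := fun k l h e => h (i.injective e)
    have hj : ∀ k l : Fin 3, k ≠ l → j k ≠ j l := fun k l h e => h (j.injective e)
    obtain ⟨g, g0, g1⟩ := h2' (hi 0 1 (by decide)) hxy
    obtain ⟨h, h0, h1⟩ := h2' (hj 0 1 (by decide)) hxy
    obtain ⟨k, k0, k1, k2⟩ := hcon (g • i 2) (h • j 2)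
      ⟨fun e => hi 2 0 (by decide) (smul_left_cancel g (e.trans g0.symm)),
        fun e => hi 2 1 (by decide) (smul_left_cancel g (e.trans g1.symm))⟩
      ⟨fun e => hj 2 0 (by decide) (smul_left_cancel h (e.trans h0.symm)),
        fun e => hj 2 1 (by decide) (smul_left_cancel h (e.trans h1.symm))⟩
    refine ⟨h⁻¹ * k * g, ?_⟩
    ext l
    fin_cases l
    · show (h⁻¹ * k * g) • i 0 = j 0
      rw [mul_smul, mul_smul, g0, k0, inv_smul_eq_iff, h0]
    · show (h⁻¹ * k * g) • i 1 = j 1
      rw [mul_smul, mul_smul, g1, k1, inv_smul_eq_iff, h1]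
    · show (h⁻¹ * k * g) • i 2 = j 2
      rw [mul_smul, mul_smul, k2, inv_smul_smul]
  have hdich : ∀ u, u ≠ x₀ → u ≠ y₀ → Rel a u ∨ Rel o u := by
    intro u hux huy
    obtain ⟨i, j, hij, g, g0, g1, g2⟩ := CfsgLib.HalfNormalizer.orbits_le_two hα hp4 hins P hN x₀ y₀ hxy
      ![a, o, u] (by intro i; fin_cases i <;> simp [ha, ho, hux, huy])
    have h : Rel (![a, o, u] i) (![a, o, u] j) := ⟨g, g0, g1, g2⟩
    have h' := hsymm _ _ h
    fin_cases i <;> fin_cases j <;> simp at h h' hij
    all_goals first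
      | exact Or.inl h
      | exact Or.inl h'
      | exact Or.inr h
      | exact Or.inr h'
      | exact absurd h hao
      | exact absurd h' hao
  let Orb : α → Finset α := fun c => Finset.univ.filter fun u => Rel c u
  have hne : ∀ c u, c ≠ x₀ → c ≠ y₀ → Rel c u → u ≠ x₀ ∧ u ≠ y₀ := by
    rintro c u h1 h2 ⟨g, g1, g2, g3⟩
    exact ⟨fun e => h1 (smul_left_cancel g ((g3.trans e).trans g1.symm)),
      fun e => h2 (smul_left_cancel g ((g3.trans e).trans g2.symm))⟩
  have hdis : Disjoint (Orb a) (Orb o) := Finset.disjoint_left.2 fun u hu hu' =>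
    hao (htrans _ _ _ (Finset.mem_filter.1 hu).2 (hsymm _ _ (Finset.mem_filter.1 hu').2))
  have hsum : (Orb a).card + (Orb o).card = q := by
    have hun : Orb a ∪ Orb o = ({x₀, y₀} : Finset α)ᶜ := by
      ext u
      simp only [Finset.mem_union, Finset.mem_compl, Finset.mem_insert, Finset.mem_singleton, not_or, Orb,
        Finset.mem_filter, Finset.mem_univ, true_and]
      exact ⟨fun h => h.elim (hne a u ha.1 ha.2) (hne o u ho.1 ho.2), fun h => hdich u h.1 h.2⟩
    have hc := congrArg Finset.card hun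
    rw [Finset.card_union_of_disjoint hdis, Finset.card_compl, Finset.card_pair hxy, hα'] at hc
    omega
  -- each orbit is at most as large as the other
  have key : ∀ a o : α, (a ≠ x₀ ∧ a ≠ y₀) → (o ≠ x₀ ∧ o ≠ y₀) → ¬ Rel a o →
      (∀ u, u ≠ x₀ → u ≠ y₀ → Rel a u ∨ Rel o u) → (Orb a).card + (Orb o).card = q →
      (Orb o).card ≤ (Orb a).card := by
    intro a o ha ho hao hdich hsum
    let Γ : α → α → Prop := fun u v => ∃ g : G, g • x₀ = x₀ ∧ g • y₀ = u ∧ g • a = v
    have hΓ : ∀ g : G, g • x₀ = x₀ → ∀ u v, Γ (g • u) (g • v) ↔ Γ u v := by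
      intro g hg u v
      constructor
      · rintro ⟨h, e1, e2, e3⟩
        exact ⟨g⁻¹ * h, by rw [mul_smul, e1, inv_smul_eq_iff, hg], by rw [mul_smul, e2, inv_smul_smul],
          by rw [mul_smul, e3, inv_smul_smul]⟩
      · rintro ⟨h, e1, e2, e3⟩
        exact ⟨g * h, by rw [mul_smul, e1, hg], by rw [mul_smul, e2], by rw [mul_smul, e3]⟩
    have hΓy : ∀ v, Γ y₀ v ↔ Rel a v := fun v => Iff.rfl
    -- out-degree
    have hdeg : ∀ u, u ≠ x₀ → (Finset.univ.filter fun v => Γ u v).card = (Orb a).card := by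
      intro u hu
      obtain ⟨g, g0, g1⟩ := h2' hxy (Ne.symm hu)
      refine (Finset.card_equiv (MulAction.toPerm g) fun v => ?_).symm
      simp only [Orb, Finset.mem_filter, Finset.mem_univ, true_and, MulAction.toPerm_apply]
      rw [← hΓy, ← hΓ g g0, g1]
    let s := ((Orb o).filter fun v => Γ a v).card
    have hs : ∀ u ∈ Orb a, ((Orb o).filter fun v => Γ u v).card = s := by
      intro u hu
      obtain ⟨g, g0, g1, g2⟩ := (Finset.mem_filter.1 hu).2
      refine (Finset.card_equiv (MulAction.toPerm g) fun v => ?_).symm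
      simp only [Orb, Finset.mem_filter, Finset.mem_univ, true_and, MulAction.toPerm_apply]
      rw [← g2, hΓ g g0]
      refine and_congr_left' ⟨fun h => htrans _ _ _ h ⟨g, g0, g1, rfl⟩, fun h => ?_⟩
      exact htrans _ _ _ h (hsymm _ _ ⟨g, g0, g1, rfl⟩)
    let t := ((Orb a).filter fun u => Γ u o).card
    have ht : ∀ v ∈ Orb o, ((Orb a).filter fun u => Γ u v).card = t := by
      intro v hv
      obtain ⟨g, g0, g1, g2⟩ := (Finset.mem_filter.1 hv).2
      refine (Finset.card_equiv (MulAction.toPerm g) fun u => ?_).symm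
      simp only [Orb, Finset.mem_filter, Finset.mem_univ, true_and, MulAction.toPerm_apply]
      rw [← g2, hΓ g g0]
      refine and_congr_left' ⟨fun h => htrans _ _ _ h ⟨g, g0, g1, rfl⟩, fun h => ?_⟩
      exact htrans _ _ _ h (hsymm _ _ ⟨g, g0, g1, rfl⟩)
    have hcount : (Orb a).card * s = (Orb o).card * t := by
      have h := Finset.sum_card_bipartiteAbove_eq_sum_card_bipartiteBelow (s := Orb a) (t := Orb o) (r := Γ)
      simp only [Finset.bipartiteAbove, Finset.bipartiteBelow] at h
      rw [Finset.sum_congr rfl hs, Finset.sum_congr rfl ht, Finset.sum_const, Finset.sum_const, smul_eq_mul,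
        smul_eq_mul] at h
      exact h
    have hka : 0 < (Orb a).card := Finset.card_pos.2 ⟨a, Finset.mem_filter.2 ⟨Finset.mem_univ _, 1, one_smul _ _, one_smul _ _, one_smul _ _⟩⟩
    have hko : 0 < (Orb o).card := Finset.card_pos.2 ⟨o, Finset.mem_filter.2 ⟨Finset.mem_univ _, 1, one_smul _ _, one_smul _ _, one_smul _ _⟩⟩
    have hcop : Nat.Coprime (Orb o).card (Orb a).card := by
      refine Nat.coprime_self_add_left.1 ?_
      rw [hsum]
      exact hq.coprime_iff_not_dvd.2 fun h => by have := Nat.le_of_dvd hka h; omega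
    have hdvd : (Orb o).card ∣ s := hcop.dvd_of_dvd_mul_left ⟨t, hcount⟩
    have hsle : s ≤ (Orb a).card := by
      rw [← hdeg a ha.1]
      exact Finset.card_le_card fun v hv => by simp [(Finset.mem_filter.1 hv).2]
    rcases Nat.eq_zero_or_pos s with h0 | hpos
    · exfalso
      -- otherwise there is a block
      let B : Set α := insert y₀ {v | Rel a v}
      have hout : ∀ u ∈ B, ∀ v, Γ u v → v ∈ B := by
        intro u hu v huv
        rcases hu with rfl | hu
        · exact Or.inr ((hΓy v).1 huv)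
        · obtain ⟨g, g0, g1, g2⟩ := huv
          have hvx : v ≠ x₀ := fun e => ha.1 (smul_left_cancel g ((g2.trans e).trans g0.symm))
          by_cases hvy : v = y₀
          · exact Or.inl hvy
          refine Or.inr ((hdich v hvx hvy).resolve_right fun hov => ?_)
          have := hs u (Finset.mem_filter.2 ⟨Finset.mem_univ _, hu⟩)
          rw [h0, Finset.card_eq_zero, Finset.filter_eq_empty_iff] at this
          exact this (Finset.mem_filter.2 ⟨Finset.mem_univ _, hov⟩) ⟨g, g0, g1, g2⟩
      have hBx : x₀ ∉ B := by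
        rintro (h | h)
        · exact hxy h
        · exact (hne a x₀ ha.1 ha.2 h).1 rfl
      have hstep : ∀ g : G, g • x₀ = x₀ → g • y₀ ∈ B → ∀ z, g • z ∈ B ↔ z ∈ B := by
        intro g g0 gy z
        have hsub : ∀ z ∈ B, g • z ∈ B := by
          rintro z (rfl | hz)
          · exact gy
          · exact hout _ gy _ ((hΓ g g0 y₀ z).2 ((hΓy z).2 hz))
        refine ⟨fun hz => ?_, hsub z⟩
        have himg : (g • ·) '' B = B :=
          Set.eq_of_subset_of_ncard_le (fun w ⟨u, hu, hw⟩ => hw ▸ hsub u hu)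
            (by rw [Set.ncard_image_of_injective _ (MulAction.injective g)]) (Set.toFinite B)
        rw [← himg] at hz
        obtain ⟨u, hu, hu'⟩ := hz
        rwa [← smul_left_cancel g hu']
      refine CfsgLib.HalfBlocks.no_block hα (by omega) hins P hN x₀ B ?_ hBx y₀ a o (Or.inl rfl)
        (Or.inr ⟨1, one_smul _ _, one_smul _ _, one_smul _ _⟩) ha.2 ?_ ho.1
      · intro g g0 x hx hgx y hy
        obtain ⟨k, k0, k1⟩ := h2' hxy (show x₀ ≠ x from fun e => hBx (e ▸ hx))
        have hk := hstep k k0 (k1.symm ▸ hx)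
        have hgk := hstep (g * k) (by rw [mul_smul, k0, g0]) (by rw [mul_smul, k1]; exact hgx)
        have := (hgk (k⁻¹ • y)).2 ((hk _).1 (by rwa [smul_inv_smul]))
        rwa [mul_smul, smul_inv_smul] at this
      · rintro (h | h)
        · exact ho.2 h
        · exact hao h
    · exact (Nat.le_of_dvd hpos hdvd).trans hsle
  have k1 := key a o ha ho hao hdich hsum
  have k2 := key o a ho ha (fun h => hao (hsymm _ _ h)) (fun u h1 h2 => (hdich u h1 h2).symm) (by omega)
  have : Odd q := hq.odd_of_ne_two (by omega)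
  rw [Nat.odd_iff] at this
  omega

/-- For `p = q + 2` the group is five times transitive. -/
theorem five {q : ℕ} (hα : Nat.card α = p) (hins : ¬ Group.IsSolvable G) (P : Sylow p G)
    (hN : 2 * Nat.card ↥(Subgroup.normalizer ((P : Subgroup G) : Set G)) = p * (p - 1))
    (hq : q.Prime) (hq5 : 5 < q) (hpq : p = q + 2) : MulAction.IsMultiplyPretransitive G α 5 := by
  classical
  have hp : p.Prime := Fact.out
  haveI := Fact.mk hq
  haveI : Finite α := Nat.finite_of_card_ne_zero (hα ▸ hp.ne_zero)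
  haveI := Fintype.ofFinite α
  haveI := Fintype.ofFinite G
  have hα' : Fintype.card α = p := by rw [← Nat.card_eq_fintype_card, hα]
  have h3 := three hα hins P hN hq hq5 hpq
  haveI h2t : MulAction.IsMultiplyPretransitive G α 2 :=
    MulAction.isMultiplyPretransitive_of_le (n := 3) (by norm_num) (by
      rw [hα]; omega)
  have h2' : ∀ {x y z u : α} (_ : x ≠ y) (_ : z ≠ u), ∃ g : G, g • x = z ∧ g • y = u :=
    MulAction.is_two_pretransitive_iff.1 h2t
  have h3' : ∀ {x y z x' y' z' : α}, x ≠ y → x ≠ z → y ≠ z → x' ≠ y' → x' ≠ z' → y' ≠ z' →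
      ∃ g : G, g • x = x' ∧ g • y = y' ∧ g • z = z' := by
    intro x y z x' y' z' a b c a' b' c'
    let i : Fin 3 ↪ α := ⟨![x, y, z], fun k l => by
      fin_cases k <;> fin_cases l <;> simp [a, b, c, a.symm, b.symm, c.symm]⟩
    let j : Fin 3 ↪ α := ⟨![x', y', z'], fun k l => by
      fin_cases k <;> fin_cases l <;> simp [a', b', c', a'.symm, b'.symm, c'.symm]⟩
    obtain ⟨g, hg⟩ := h3.exists_smul_eq i j
    exact ⟨g, congrArg (fun f : Fin 3 ↪ α => f 0) hg, congrArg (fun f : Fin 3 ↪ α => f 1) hg,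
      congrArg (fun f : Fin 3 ↪ α => f 2) hg⟩
  obtain ⟨x₀, y₀, hxy⟩ : ∃ x y : α, x ≠ y := Fintype.exists_pair_of_one_lt_card (by omega)
  -- the setwise stabiliser of the pair
  let K : Subgroup G :=
    { carrier := {g | ∀ u, (g • u = x₀ ∨ g • u = y₀) ↔ (u = x₀ ∨ u = y₀)}
      one_mem' := fun u => by rw [one_smul]
      mul_mem' := fun {g h} hg hh u => by rw [mul_smul, hg, hh]
      inv_mem' := fun {g} hg u => by
        have h := hg (g⁻¹ • u)
        rw [smul_inv_smul] at h
        exact h.symm }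
  let Δ := {u : α // ¬ (u = x₀ ∨ u = y₀)}
  let φ : K →* Equiv.Perm Δ :=
    { toFun := fun g => Equiv.Perm.subtypePerm (MulAction.toPerm (g : G)) fun u => not_congr (g.2 u)
      map_one' := Equiv.ext fun u => Subtype.ext (one_smul G (u : α))
      map_mul' := fun g h => Equiv.ext fun u => Subtype.ext (mul_smul (g : G) (h : G) (u : α)) }
  have hφ : ∀ (g : K) (u : Δ), ((φ g u : Δ) : α) = (g : G) • (u : α) := fun g u => rfl
  let H : Subgroup G := MulAction.stabilizer G x₀ ⊓ MulAction.stabilizer G y₀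
  have hHK : H ≤ K := by
    rintro g ⟨h1, h2⟩ u
    have h1' : g • x₀ = x₀ := h1
    have h2' : g • y₀ = y₀ := h2
    refine or_congr ⟨fun h => smul_left_cancel g (h.trans h1'.symm), fun h => h ▸ h1'⟩
      ⟨fun h => smul_left_cancel g (h.trans h2'.symm), fun h => h ▸ h2'⟩
  have hKcases : ∀ g ∈ K, (g • x₀ = x₀ ∧ g • y₀ = y₀) ∨ (g • x₀ = y₀ ∧ g • y₀ = x₀) := by
    intro g hg
    rcases (hg x₀).2 (Or.inl rfl) with a | a <;> rcases (hg y₀).2 (Or.inr rfl) with b | b
    · exact absurd (smul_left_cancel g (a.trans b.symm)) hxy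
    · exact Or.inl ⟨a, b⟩
    · exact Or.inr ⟨a, b⟩
    · exact absurd (smul_left_cancel g (a.trans b.symm)) hxy
  -- no transposition
  have hinj : Function.Injective φ := by
    rw [injective_iff_map_eq_one]
    intro g hg
    have hfix : ∀ u, u ≠ x₀ → u ≠ y₀ → (g : G) • u = u := fun u h1 h2 =>
      congrArg Subtype.val (DFunLike.congr_fun hg (⟨u, not_or.2 ⟨h1, h2⟩⟩ : Δ))
    rcases hKcases g g.2 with ⟨a, b⟩ | ⟨a, b⟩
    · refine Subtype.ext (eq_of_smul_eq_smul (α := α) fun u => ?_)
      rw [Subgroup.coe_one, one_smul]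
      by_cases h1 : u = x₀
      · rw [h1, a]
      by_cases h2 : u = y₀
      · rw [h2, b]
      exact hfix u h1 h2
    · exfalso
      let f := MulAction.toPermHom G α
      have hswap : f (g : G) = Equiv.swap x₀ y₀ := by
        refine Equiv.ext fun u => ?_
        show (g : G) • u = _
        by_cases h1 : u = x₀
        · rw [h1, a, Equiv.swap_apply_left]
        by_cases h2 : u = y₀
        · rw [h2, b, Equiv.swap_apply_right]
        rw [hfix u h1 h2, Equiv.swap_apply_of_ne_of_ne h1 h2]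
      have hall : f.range = ⊤ := by
        rw [eq_top_iff, ← Equiv.Perm.closure_isSwap, Subgroup.closure_le]
        rintro σ ⟨u, v, huv, rfl⟩
        obtain ⟨h, h1, h2⟩ := h2' hxy huv
        refine ⟨h * g * h⁻¹, ?_⟩
        rw [map_mul, map_mul, hswap, map_inv]
        rw [← h1, ← h2]
        exact (Equiv.swap_apply_apply (f h) x₀ y₀).symm
      have hcard : Nat.card G = p.factorial := by
        rw [← hα, ← Nat.card_perm, ← Subgroup.card_top (G := Equiv.Perm α), ← hall]
        exact Nat.card_congr (MonoidHom.ofInjective (f := f) MulAction.toPerm_injective).toEquiv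
      set N := Subgroup.normalizer ((P : Subgroup G) : Set G)
      have hn := Sylow.card_eq_index_normalizer P
      have hmod : Nat.card (Sylow p G) ≡ 1 [MOD p] := card_sylow_modEq_one p G
      rw [hn] at hmod
      replace hmod : N.index ≡ 1 [MOD p] := hmod
      have hci := N.card_mul_index
      rw [hcard] at hci
      have hfac : p.factorial = p * (p - 1) * (p - 2).factorial := by
        have e1 := Nat.mul_factorial_pred hp.ne_zero
        have e2 := Nat.mul_factorial_pred (show p - 1 ≠ 0 by omega)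
        rw [← e1, ← e2, show p - 1 - 1 = p - 2 by omega]
        ring
      have hidx : N.index = 2 * (p - 2).factorial := by
        refine Nat.eq_of_mul_eq_mul_left (Nat.mul_pos hp.pos (show 0 < p - 1 by omega)) ?_
        calc p * (p - 1) * N.index = 2 * Nat.card N * N.index := by rw [hN]
          _ = 2 * p.factorial := by rw [mul_assoc, hci]
          _ = p * (p - 1) * (2 * (p - 2).factorial) := by rw [hfac]; ring
      rw [hidx, ← ZMod.natCast_eq_natCast_iff] at hmod
      have hw := ZMod.wilsons_lemma p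
      have e3 := Nat.mul_factorial_pred (show p - 1 ≠ 0 by omega)
      rw [show p - 1 - 1 = p - 2 by omega] at e3
      rw [← e3, Nat.cast_mul, Nat.cast_sub hp.one_le, ZMod.natCast_self] at hw
      push_cast at hmod hw
      have : (1 : ZMod p) = 0 := by linear_combination hmod + 2 * hw
      exact one_ne_zero this
  -- the image on the other `q` points
  have hΔ : Fintype.card Δ = q := by
    rw [Fintype.card_subtype_compl, hα']
    have : Fintype.card {u : α // u = x₀ ∨ u = y₀} = 2 := by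
      rw [Fintype.card_subtype, ← Finset.card_pair hxy]
      congr 1; ext u; simp
    omega
  let R : Subgroup (Equiv.Perm Δ) := φ.range
  haveI : MulAction.IsPretransitive R Δ := ⟨fun u v => by
    obtain ⟨hu1, hu2⟩ := not_or.1 u.2
    obtain ⟨hv1, hv2⟩ := not_or.1 v.2
    obtain ⟨g, a, b, c⟩ := h3' hxy (Ne.symm hu1) (Ne.symm hu2) hxy (Ne.symm hv1) (Ne.symm hv2)
    exact ⟨⟨φ ⟨g, hHK ⟨a, b⟩⟩, _, rfl⟩, Subtype.ext c⟩⟩
  -- the pointwise stabiliser
  let H₀ : Subgroup R := (H.subgroupOf K).map φ.rangeRestrict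
  have hmemH₀ : ∀ g : K, φ.rangeRestrict g ∈ H₀ ↔ ((g : G) • x₀ = x₀ ∧ (g : G) • y₀ = y₀) := by
    intro g
    constructor
    · rintro ⟨h, hh, e⟩
      obtain rfl := hinj (congrArg Subtype.val e)
      exact hh
    · exact fun hh => ⟨g, hh, rfl⟩
  obtain ⟨t, ht⟩ : ∃ t : K, (t : G) • x₀ = y₀ ∧ (t : G) • y₀ = x₀ := by
    obtain ⟨t, a, b⟩ := h2' hxy hxy.symm
    refine ⟨⟨t, fun u => ?_⟩, a, b⟩
    constructor
    · rintro (h | h)
      · exact Or.inr (smul_left_cancel t (h.trans b.symm))
      · exact Or.inl (smul_left_cancel t (h.trans a.symm))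
    · rintro (rfl | rfl)
      · exact Or.inr a
      · exact Or.inl b
  have hidx2 : H₀.index = 2 := by
    rw [Subgroup.index_eq_two_iff]
    refine ⟨φ.rangeRestrict t, fun b => ?_⟩
    obtain ⟨g, rfl⟩ := φ.rangeRestrict_surjective b
    rw [← map_mul, hmemH₀, hmemH₀]
    rcases hKcases g g.2 with h | h
    · refine Or.inr ⟨h, ?_⟩
      rintro ⟨e, -⟩
      rw [Subgroup.coe_mul, mul_smul, ht.1, h.2] at e
      exact hxy e.symm
    · refine Or.inl ⟨⟨?_, ?_⟩, ?_⟩
      · rw [Subgroup.coe_mul, mul_smul, ht.1, h.2]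
      · rw [Subgroup.coe_mul, mul_smul, ht.2, h.1]
      · rintro ⟨e, -⟩
        exact hxy (e.symm.trans h.1)
  haveI hH₀n : H₀.Normal := Subgroup.normal_of_index_eq_two hidx2
  haveI : MulAction.IsPretransitive H₀ Δ := ⟨fun u v => by
    obtain ⟨hu1, hu2⟩ := not_or.1 u.2
    obtain ⟨hv1, hv2⟩ := not_or.1 v.2
    obtain ⟨g, a, b, c⟩ := h3' hxy (Ne.symm hu1) (Ne.symm hu2) hxy (Ne.symm hv1) (Ne.symm hv2)
    exact ⟨⟨φ.rangeRestrict ⟨g, hHK ⟨a, b⟩⟩, (hmemH₀ _).2 ⟨a, b⟩⟩, Subtype.ext c⟩⟩
  have hcH : Nat.card H₀ = Nat.card H := by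
    rw [Subgroup.card_map_of_injective (fun u v h => hinj (congrArg Subtype.val h)),
      Nat.card_congr (Subgroup.subgroupOfEquivOfLe hHK).toEquiv]
  have hins₀ : ¬ Group.IsSolvable H₀ := by
    intro hsol
    obtain ⟨d, hd, hcd⟩ := card_of_solvable (H := H₀) (β := Δ) hq (by rw [Nat.card_eq_fintype_card, hΔ])
    have hG : Nat.card G = p * (p - 1) * (q * d) := by
      haveI : MulAction.IsPretransitive ↥(MulAction.stabilizer G x₀) ↥(SubMulAction.ofStabilizer G x₀) :=
        ⟨fun u v => by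
          obtain ⟨g, g0, g1⟩ := h2' (Ne.symm u.2 : x₀ ≠ (u : α)) (Ne.symm v.2 : x₀ ≠ (v : α))
          exact ⟨⟨g, g0⟩, Subtype.ext g1⟩⟩
      have e1 := (MulAction.stabilizer G x₀).card_mul_index
      rw [MulAction.index_stabilizer_of_transitive, hα] at e1
      let y' : SubMulAction.ofStabilizer G x₀ := ⟨y₀, hxy.symm⟩
      have e2 := (MulAction.stabilizer (MulAction.stabilizer G x₀) y').card_mul_index
      rw [MulAction.index_stabilizer_of_transitive] at e2
      have e3 : Nat.card ↥(SubMulAction.ofStabilizer G x₀) = p - 1 := by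
        rw [SubMulAction.nat_card_ofStabilizer_eq, hα]
      have e4 : Nat.card (MulAction.stabilizer (MulAction.stabilizer G x₀) y') = Nat.card H :=
        Nat.card_congr
          { toFun := fun g => ⟨((g : MulAction.stabilizer G x₀) : G), (g : MulAction.stabilizer G x₀).2,
              congrArg Subtype.val g.2⟩
            invFun := fun g => ⟨⟨(g : G), g.2.1⟩, Subtype.ext g.2.2⟩
            left_inv := fun g => rfl
            right_inv := fun g => rfl }
      rw [← e1, ← e2, e3, e4, ← hcH, hcd]; ring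
    have hn := Sylow.card_eq_index_normalizer P
    have hmod : Nat.card (Sylow p G) ≡ 1 [MOD p] := card_sylow_modEq_one p G
    rw [hn] at hmod
    replace hmod : (Subgroup.normalizer ((P : Subgroup G) : Set G)).index ≡ 1 [MOD p] := hmod
    have hci := (Subgroup.normalizer ((P : Subgroup G) : Set G)).card_mul_index
    rw [hG] at hci
    have hidx : (Subgroup.normalizer ((P : Subgroup G) : Set G)).index = 2 * (q * d) := by
      refine Nat.eq_of_mul_eq_mul_left (Nat.mul_pos hp.pos (show 0 < p - 1 by omega)) ?_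
      calc p * (p - 1) * _ = 2 * Nat.card ↥(Subgroup.normalizer ((P : Subgroup G) : Set G)) *
            (Subgroup.normalizer ((P : Subgroup G) : Set G)).index := by rw [hN]
        _ = 2 * (p * (p - 1) * (q * d)) := by rw [mul_assoc, hci]
        _ = p * (p - 1) * (2 * (q * d)) := by ring
    rw [hidx, ← ZMod.natCast_eq_natCast_iff] at hmod
    have hqp : (q : ZMod p) = -2 := by
      have : ((q + 2 : ℕ) : ZMod p) = 0 := by rw [← hpq, ZMod.natCast_self]
      push_cast at this
      linear_combination this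
    push_cast at hmod
    rw [hqp] at hmod
    have hdvd : p ∣ 4 * d + 1 := by
      rw [← ZMod.natCast_eq_zero_iff]
      push_cast
      linear_combination -hmod
    obtain ⟨c, hc⟩ := hdvd
    have hdle := Nat.le_of_dvd (by omega) hd
    have hd0 : 0 < d := Nat.pos_of_ne_zero fun h => by
      rw [h, mul_zero] at hcd; exact Nat.card_pos.ne' hcd
    have hc4 : c < 4 := by
      by_contra hh
      push Not at hh
      have : p * 4 ≤ p * c := Nat.mul_le_mul_left p hh
      omega
    obtain ⟨m, hm⟩ := hd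
    interval_cases c
    · omega
    · -- `4 * d = q + 1`
      have hm8 : m < 4 := by
        by_contra hh
        push Not at hh
        have : d * 4 ≤ d * m := Nat.mul_le_mul_left d hh
        omega
      interval_cases m
      all_goals first
        | omega
        | (obtain rfl : p = 9 := by omega
           norm_num at hp)
    · omega
    · -- `4 * d = 3 * q + 5`
      have hm8 : m < 2 := by
        by_contra hh
        push Not at hh
        have : d * 2 ≤ d * m := Nat.mul_le_mul_left d hh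
        omega
      interval_cases m
      all_goals first
        | omega
        | (obtain rfl : q = 9 := by omega
           norm_num at hq)
  have hinsR : ¬ Group.IsSolvable R := fun h => hins₀ (by
    haveI := h
    exact Group.isSolvable_of_isSolvable_injective (f := H₀.subtype) H₀.subtype_injective)
  -- Frattini: the normaliser of a Sylow `q`-subgroup has even order
  let Q : Sylow q R := default
  have hQle : (Q : Subgroup R) ≤ H₀ := by
    intro g hg
    obtain ⟨j, hj⟩ := IsPGroup.iff_orderOf.1 Q.2 ⟨g, hg⟩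
    rw [Subgroup.orderOf_mk] at hj
    obtain ⟨n, hn⟩ : ∃ n, orderOf g = 2 * n + 1 :=
      ⟨orderOf g / 2, by have := (hq.odd_of_ne_two (by omega)).pow (n := j); rw [← hj, Nat.odd_iff] at this; omega⟩
    have h1 : g ^ (2 * n + 1) = 1 := by rw [← hn, pow_orderOf_eq_one]
    rw [pow_succ, mul_eq_one_iff_inv_eq] at h1
    rw [← h1]
    exact inv_mem (by rw [two_mul, pow_add]; exact Subgroup.mul_self_mem_of_index_two hidx2 _)
  have hev : Even (Nat.card (Subgroup.normalizer ((Q : Subgroup R) : Set R))) := by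
    have hsup := Sylow.normalizer_sup_eq_top' Q hQle
    obtain ⟨g, hg, hgH⟩ : ∃ g ∈ Subgroup.normalizer ((Q : Subgroup R) : Set R), g ∉ H₀ := by
      by_contra h
      push Not at h
      have : H₀ = ⊤ := by rw [← hsup]; exact (sup_eq_right.2 h).symm
      rw [this, Subgroup.index_top] at hidx2
      exact absurd hidx2 (by norm_num)
    rw [even_iff_two_dvd]
    by_contra hodd
    obtain ⟨n, hn⟩ : ∃ n, orderOf g = 2 * n + 1 := by
      refine ⟨orderOf g / 2, ?_⟩
      have h1 : ¬ 2 ∣ orderOf g := fun h => hodd (h.trans (Subgroup.orderOf_dvd_natCard _ hg))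
      omega
    have h1 : g ^ (2 * n + 1) = 1 := by rw [← hn, pow_orderOf_eq_one]
    rw [pow_succ, mul_eq_one_iff_inv_eq] at h1
    apply hgH
    rw [← h1]
    exact inv_mem (by rw [two_mul, pow_add]; exact Subgroup.mul_self_mem_of_index_two hidx2 _)
  have hR3 := Cfsg.Agent.S0676.result hΔ R hinsR Q hev
  have hH2 : MulAction.IsMultiplyPretransitive H₀ Δ 2 := by
    by_contra h
    obtain ⟨e', he'⟩ := CfsgLib.PrimeDegree.affine_coordinates (p := q) (by rw [Nat.card_eq_fintype_card, hΔ]) h
    exact hins₀ (CfsgLib.PrimeDegree.isSolvable_of_affine e' he')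
  -- the pointwise stabiliser is triply transitive on them
  have hH3 : MulAction.IsMultiplyPretransitive H₀ Δ 3 := by
    refine ⟨fun i j => ?_⟩
    obtain ⟨g, g0, g1⟩ := MulAction.is_two_pretransitive_iff.1 hH2
      (show i 0 ≠ i 1 from fun e => absurd (i.injective e) (by decide))
      (show j 0 ≠ j 1 from fun e => absurd (j.injective e) (by decide))
    set a := j 0
    set b := j 1
    have hab : a ≠ b := fun e => absurd (j.injective e) (by decide)
    set u := g • i 2
    have hua : u ≠ a := fun e => absurd (i.injective (smul_left_cancel g (e.trans g0.symm))) (by decide)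
    have hub : u ≠ b := fun e => absurd (i.injective (smul_left_cancel g (e.trans g1.symm))) (by decide)
    have hR3' : ∀ {v w}, v ≠ a → v ≠ b → w ≠ a → w ≠ b → ∃ r : R, r • a = a ∧ r • b = b ∧ r • v = w := by
      intro v w v1 v2 w1 w2
      let i' : Fin 3 ↪ Δ := ⟨![a, b, v], fun k l => by
        fin_cases k <;> fin_cases l <;> simp [hab, hab.symm, v1, v2, v1.symm, v2.symm]⟩
      let j' : Fin 3 ↪ Δ := ⟨![a, b, w], fun k l => by
        fin_cases k <;> fin_cases l <;> simp [hab, hab.symm, w1, w2, w1.symm, w2.symm]⟩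
      obtain ⟨r, hr⟩ := hR3.exists_smul_eq i' j'
      exact ⟨r, congrArg (fun f : Fin 3 ↪ Δ => f 0) hr, congrArg (fun f : Fin 3 ↪ Δ => f 1) hr,
        congrArg (fun f : Fin 3 ↪ Δ => f 2) hr⟩
    let A := Finset.univ.filter fun v => ∃ r : R, r ∈ H₀ ∧ r • a = a ∧ r • b = b ∧ r • u = v
    have hA : ∀ v, v ≠ a → v ≠ b → v ∈ A := by
      by_contra h
      push Not at h
      obtain ⟨v₁, v1, v2, hv₁⟩ := h
      obtain ⟨s, s0, s1, s2⟩ := hR3' hua hub v1 v2
      have hs : s ∉ H₀ := fun h => hv₁ (Finset.mem_filter.2 ⟨Finset.mem_univ _, s, h, s0, s1, s2⟩)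
      have hAne : ∀ v ∈ A, v ≠ a ∧ v ≠ b := by
        intro v hv
        obtain ⟨r, -, r0, r1, r2⟩ := (Finset.mem_filter.1 hv).2
        exact ⟨fun e => hua (smul_left_cancel r ((r2.trans e).trans r0.symm)),
          fun e => hub (smul_left_cancel r ((r2.trans e).trans r1.symm))⟩
      let f : Δ ↪ Δ := ⟨fun v => s • v, MulAction.injective s⟩
      have hdis : Disjoint A (A.map f) := by
        rw [Finset.disjoint_left]
        intro v hv hv'
        obtain ⟨w, hw, rfl⟩ := Finset.mem_map.1 hv'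
        obtain ⟨r, hr, r0, r1, r2⟩ := (Finset.mem_filter.1 hv).2
        obtain ⟨r', hr', r0', r1', r2'⟩ := (Finset.mem_filter.1 hw).2
        refine hv₁ (Finset.mem_filter.2 ⟨Finset.mem_univ _, s * r'⁻¹ * s⁻¹ * r, ?_, ?_, ?_, ?_⟩)
        · exact mul_mem (Subgroup.Normal.conj_mem hH₀n _ (inv_mem hr') s) hr
        · rw [mul_smul, r0, mul_smul, inv_smul_eq_iff.2 s0.symm, mul_smul, inv_smul_eq_iff.2 r0'.symm, s0]
        · rw [mul_smul, r1, mul_smul, inv_smul_eq_iff.2 s1.symm, mul_smul, inv_smul_eq_iff.2 r1'.symm, s1]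
        · rw [mul_smul, r2, show f w = s • w from rfl, mul_smul, inv_smul_smul, mul_smul,
            inv_smul_eq_iff.2 r2'.symm, s2]
      have hun : A ∪ A.map f = ({a, b} : Finset Δ)ᶜ := by
        ext v
        simp only [Finset.mem_union, Finset.mem_compl, Finset.mem_insert, Finset.mem_singleton, not_or]
        refine ⟨?_, fun hv => ?_⟩
        · rintro (hv | hv)
          · exact hAne v hv
          · obtain ⟨w, hw, rfl⟩ := Finset.mem_map.1 hv
            exact ⟨fun e => (hAne w hw).1 (smul_left_cancel s (e.trans s0.symm)),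
              fun e => (hAne w hw).2 (smul_left_cancel s (e.trans s1.symm))⟩
        · obtain ⟨r, r0, r1, r2⟩ := hR3' hua hub hv.1 hv.2
          by_cases hr : r ∈ H₀
          · exact Or.inl (Finset.mem_filter.2 ⟨Finset.mem_univ _, r, hr, r0, r1, r2⟩)
          · refine Or.inr (Finset.mem_map.2 ⟨(s⁻¹ * r) • u, Finset.mem_filter.2 ⟨Finset.mem_univ _, s⁻¹ * r,
              (Subgroup.mul_mem_iff_of_index_two hidx2).2 (iff_of_false (fun h => hs (inv_mem_iff.1 h)) hr),
              ?_, ?_, rfl⟩, ?_⟩)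
            · rw [mul_smul, r0, inv_smul_eq_iff, s0]
            · rw [mul_smul, r1, inv_smul_eq_iff, s1]
            · show s • (s⁻¹ * r) • u = v
              rw [← mul_smul, mul_inv_cancel_left, r2]
      have hc := congrArg Finset.card hun
      rw [Finset.card_union_of_disjoint hdis, Finset.card_map, Finset.card_compl, Finset.card_pair hab, hΔ] at hc
      have := hq.odd_of_ne_two (by omega)
      rw [Nat.odd_iff] at this
      omega
    have hj2 : j 2 ≠ a ∧ j 2 ≠ b := ⟨fun e => absurd (j.injective e) (by decide),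
      fun e => absurd (j.injective e) (by decide)⟩
    obtain ⟨r, hr, r0, r1, r2⟩ := (Finset.mem_filter.1 (hA _ hj2.1 hj2.2)).2
    refine ⟨⟨r, hr⟩ * g, ?_⟩
    ext l
    fin_cases l
    · show ((((⟨r, hr⟩ : H₀) * g) • i 0 : Δ) : α) = ((j 0 : Δ) : α)
      rw [mul_smul, g0]; exact congrArg Subtype.val r0
    · show ((((⟨r, hr⟩ : H₀) * g) • i 1 : Δ) : α) = ((j 1 : Δ) : α)
      rw [mul_smul, g1]; exact congrArg Subtype.val r1
    · show ((((⟨r, hr⟩ : H₀) * g) • i 2 : Δ) : α) = ((j 2 : Δ) : α)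
      rw [mul_smul]; exact congrArg Subtype.val r2
  refine ⟨fun i j => ?_⟩
  have hi : ∀ k l : Fin 5, k ≠ l → i k ≠ i l := fun k l h e => h (i.injective e)
  have hj : ∀ k l : Fin 5, k ≠ l → j k ≠ j l := fun k l h e => h (j.injective e)
  obtain ⟨g, g0, g1⟩ := h2' (hi 0 1 (by decide)) hxy
  obtain ⟨h, h0, h1⟩ := h2' (hj 0 1 (by decide)) hxy
  have mk : ∀ (g : G) (i : Fin 5 ↪ α), g • i 0 = x₀ → g • i 1 = y₀ →
      ∃ i' : Fin 3 ↪ Δ, ∀ k : Fin 3, ((i' k : Δ) : α) = g • i ⟨k.val + 2, by omega⟩ := by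
    intro g i g0 g1
    refine ⟨⟨fun k => ⟨g • i ⟨k.val + 2, by omega⟩, ?_⟩, ?_⟩, fun k => rfl⟩
    · rintro (e | e)
      · have := congrArg Fin.val (i.injective (smul_left_cancel g (e.trans g0.symm))); simp at this
      · have := congrArg Fin.val (i.injective (smul_left_cancel g (e.trans g1.symm))); simp at this
    · intro k l e
      have := congrArg Fin.val (i.injective (smul_left_cancel g (congrArg Subtype.val e)))
      simp at this
      exact Fin.ext this
  obtain ⟨i', hi'⟩ := mk g i g0 g1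
  obtain ⟨j', hj'⟩ := mk h j h0 h1
  obtain ⟨r, hr⟩ := hH3.exists_smul_eq i' j'
  obtain ⟨k, hk⟩ := φ.rangeRestrict_surjective (r : R)
  have hk' : (k : G) • x₀ = x₀ ∧ (k : G) • y₀ = y₀ := (hmemH₀ k).1 (hk.symm ▸ r.2)
  have hkv : ∀ l : Fin 3, (k : G) • ((i' l : Δ) : α) = ((j' l : Δ) : α) := by
    intro l
    rw [← congrArg (fun f : Fin 3 ↪ Δ => f l) hr, ← hφ]
    show _ = (((r : R) • (i' l) : Δ) : α)
    rw [← hk]
    rfl
  refine ⟨h⁻¹ * k * g, ?_⟩
  ext l
  show (h⁻¹ * (k : G) * g) • i l = j l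
  rw [mul_smul, mul_smul, inv_smul_eq_iff]
  fin_cases l
  · simpa [g0, h0] using hk'.1
  · simpa [g1, h1] using hk'.2
  · simpa [hi', hj'] using hkv 0
  · simpa [hi', hj'] using hkv 1
  · simpa [hi', hj'] using hkv 2

end CfsgLib.TwinPrime
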