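/-
Invariant matrices of a transitive group of degree `2p` containing an element with two `p`-cycles.
-/
import Mathlib

set_option autoImplicit false
set_option linter.style.haveILetI false

namespace CfsgLib.WielandtBlocks

open Matrix

universe u v

section Rigid

variable {p : ℕ} [Fact p.Prime]

theorem char_pow (ψ : AddChar (ZMod p) ℂ) (j : ZMod p) : ψ j = ψ 1 ^ j.val := by
  rw [← AddChar.map_nsmul_eq_pow, nsmul_eq_mul, mul_one, ZMod.natCast_zmod_val]

theorem char_primitive (ψ : AddChar (ZMod p) ℂ) (hψ : ψ ≠ 1) : IsPrimitiveRoot (ψ 1) p := by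
  have h1 : ψ 1 ≠ 1 := fun h => hψ (DFunLike.ext _ _ fun j => by rw [char_pow, h, one_pow, AddChar.one_apply])
  have hp : ψ 1 ^ p = 1 := by rw [← AddChar.map_nsmul_eq_pow, nsmul_eq_mul, mul_one, ZMod.natCast_self, AddChar.map_zero_eq_one]
  exact IsPrimitiveRoot.iff_orderOf.2 (orderOf_eq_prime hp h1)

/-- Rational coefficients at a nontrivial character are constant off zero. -/
theorem rigid (ψ : AddChar (ZMod p) ℂ) (hψ : ψ ≠ 1) (f : ZMod p → ℚ) (T : ℚ)
    (h : ∑ j, (f j : ℂ) * ψ j = (T : ℂ)) : (∀ j, j ≠ 0 → f j = f (-1)) ∧ f 0 = f (-1) + T := by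
  classical
  have hp : p.Prime := Fact.out
  have hprim := char_primitive ψ hψ
  let q : Polynomial ℚ := ∑ j : ZMod p, Polynomial.C (f j - f (-1) - if j = 0 then T else 0) * Polynomial.X ^ j.val
  have hval : ∀ j : ZMod p, j ≠ -1 → j.val < p - 1 := by
    intro j hj
    rcases Nat.lt_or_ge j.val (p - 1) with h | h
    · exact h
    · exfalso
      apply hj
      have h1 : j.val + 1 = p := by have := ZMod.val_lt j; omega
      have h2 := congrArg (fun n : ℕ => (n : ZMod p)) h1
      simp only [Nat.cast_add, Nat.cast_one, ZMod.natCast_self, ZMod.natCast_zmod_val] at h2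
      exact eq_neg_of_add_eq_zero_left h2
  have hcoef : ∀ j : ZMod p, q.coeff j.val = f j - f (-1) - if j = 0 then T else 0 := by
    intro j
    rw [Polynomial.finsetSum_coeff, Finset.sum_eq_single j (fun i _ hij => ?_) (fun h => absurd (Finset.mem_univ _) h)]
    · rw [Polynomial.coeff_C_mul_X_pow, if_pos rfl]
    · rw [Polynomial.coeff_C_mul_X_pow, if_neg]
      exact fun e => hij (ZMod.val_injective p e).symm
  have hm1 : (-1 : ZMod p) ≠ 0 := neg_ne_zero.2 one_ne_zero
  have hdeg : ∀ i, p - 1 ≤ i → q.coeff i = 0 := by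
    intro i hi
    rw [Polynomial.finsetSum_coeff]
    refine Finset.sum_eq_zero fun j _ => ?_
    rw [Polynomial.coeff_C_mul_X_pow]
    by_cases e : i = j.val
    · rw [if_pos e]
      by_cases hj : j = -1
      · rw [hj, sub_self, if_neg hm1, sub_zero]
      · exact absurd (hval j hj) (by omega)
    · rw [if_neg e]
  have hev : Polynomial.aeval (ψ 1) q = 0 := by
    simp only [q, map_sum, map_mul, Polynomial.aeval_C, map_pow, Polynomial.aeval_X, ← char_pow]
    have hsum : ∑ j, ψ j = 0 := by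
      exact AddChar.sum_eq_zero_of_ne_one hψ
    have : ∀ j : ZMod p, algebraMap ℚ ℂ (f j - f (-1) - if j = 0 then T else 0) * ψ j =
        (f j : ℂ) * ψ j - (f (-1) : ℂ) * ψ j - if j = 0 then (T : ℂ) else 0 := by
      intro j
      by_cases hj : j = 0
      · subst hj; simp
      · simp [hj, sub_mul]
    simp only [this, Finset.sum_sub_distrib, ← Finset.mul_sum, hsum, mul_zero, sub_zero, Finset.sum_ite_eq',
      Finset.mem_univ, if_true, h, sub_self]
  have hq : q = 0 := by
    by_contra hne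
    have h1 := Polynomial.natDegree_le_natDegree (minpoly.degree_le_of_ne_zero ℚ (ψ 1) hne hev)
    rw [← Polynomial.cyclotomic_eq_minpoly_rat hprim hp.pos, Polynomial.natDegree_cyclotomic,
      Nat.totient_prime hp] at h1
    exact Polynomial.leadingCoeff_ne_zero.2 hne (hdeg _ h1)
  refine ⟨fun j hj => ?_, ?_⟩
  · have := hcoef j
    rw [hq, Polynomial.coeff_zero, if_neg hj, sub_zero] at this
    exact sub_eq_zero.1 this.symm
  · have := hcoef 0
    rw [hq, Polynomial.coeff_zero, if_pos rfl] at this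
    linarith

/-- A rational function orthogonal to a nontrivial character with zero sum is zero. -/
theorem rigid_zero (ψ : AddChar (ZMod p) ℂ) (hψ : ψ ≠ 1) (f : ZMod p → ℚ)
    (h : ∑ j, (f j : ℂ) * ψ j = 0) (hs : ∑ j, f j = 0) : ∀ j, f j = 0 := by
  obtain ⟨h1, h2⟩ := rigid ψ hψ f 0 (by rw [h, Rat.cast_zero])
  rw [add_zero] at h2
  have hall : ∀ j, f j = f (-1) := fun j => by
    by_cases hj : j = 0
    · rw [hj, h2]
    · exact h1 j hj
  rw [Finset.sum_congr rfl fun j _ => hall j, Finset.sum_const, Finset.card_univ, ZMod.card, nsmul_eq_mul] at hs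
  intro j
  rw [hall j]
  exact (mul_eq_zero.1 hs).resolve_left (Nat.cast_ne_zero.2 (Fact.out : p.Prime).ne_zero)

theorem exists_char : ∃ ψ : AddChar (ZMod p) ℂ, ψ ≠ 1 := by
  refine ⟨ZMod.stdAddChar, fun h => ?_⟩
  exact ZMod.isPrimitive_stdAddChar p one_ne_zero (by rw [AddChar.mulShift_one]; exact h)

end Rigid

/-- A rank one idempotent of order two compresses to the trace. -/
theorem compress {F : Matrix (Fin 2) (Fin 2) ℂ} (htr : F.trace = 1) (hF : F * F = F) (A : Matrix (Fin 2) (Fin 2) ℂ) :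
    F * A * F = (A * F).trace • F := by
  have h00 := congrFun (congrFun hF 0) 0
  have h01 := congrFun (congrFun hF 0) 1
  have h10 := congrFun (congrFun hF 1) 0
  have h11 := congrFun (congrFun hF 1) 1
  simp only [Matrix.mul_apply, Fin.sum_univ_two] at h00 h01 h10 h11
  simp only [Matrix.trace, Matrix.diag_apply, Fin.sum_univ_two] at htr
  have hdet : F 0 0 * F 1 1 = F 0 1 * F 1 0 := by linear_combination (F 0 0) * htr - h00
  ext i j
  fin_cases i <;> fin_cases j <;>
    simp only [Matrix.mul_apply, Matrix.trace, Matrix.diag_apply, Fin.sum_univ_two, Matrix.smul_apply, smul_eq_mul,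
      Fin.mk_zero, Fin.mk_one, Fin.zero_eta, Fin.isValue]
  · linear_combination -A 1 1 * hdet
  · linear_combination A 0 1 * hdet
  · linear_combination A 1 0 * hdet
  · linear_combination -A 0 0 * hdet

/-- The trace of an idempotent of order two. -/
theorem trace_idem {E : Matrix (Fin 2) (Fin 2) ℂ} (hE : E * E = E) : E = 0 ∨ E = 1 ∨ E.trace = 1 := by
  by_cases hu : IsUnit E.det
  · right; left
    have h := congrArg (fun X => E⁻¹ * X) hE
    simp only [← Matrix.mul_assoc, Matrix.nonsing_inv_mul _ hu, one_mul] at h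
    exact h
  have hdet : E.det = 0 := by
    by_contra h
    exact hu (isUnit_iff_ne_zero.2 h)
  rw [Matrix.det_fin_two] at hdet
  have key : ∀ i j, (E.trace - 1) * E i j = 0 := by
    intro i j
    have h := congrFun (congrFun hE i) j
    simp only [Matrix.mul_apply, Fin.sum_univ_two] at h
    simp only [Matrix.trace, Matrix.diag_apply, Fin.sum_univ_two]
    fin_cases i <;> fin_cases j <;> simp only [Fin.mk_zero, Fin.mk_one, Fin.zero_eta, Fin.isValue] at h ⊢
    · linear_combination h + hdet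
    · linear_combination h
    · linear_combination h
    · linear_combination h + hdet
  by_cases ht : E.trace = 1
  · exact Or.inr (Or.inr ht)
  · exact Or.inl (Matrix.ext fun i j => (mul_eq_zero.1 (key i j)).resolve_left (sub_ne_zero.2 ht))

variable {G : Type u} [Group G] {Ω : Type v} [Fintype Ω] [DecidableEq Ω] [MulAction G Ω]
variable {p : ℕ} [Fact p.Prime]

/-- Matrices invariant under the group. -/
def Inv (G : Type u) [Group G] {Ω : Type v} [MulAction G Ω] (M : Matrix Ω Ω ℚ) : Prop :=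
  ∀ (g : G) (u v : Ω), M (g • u) (g • v) = M u v

theorem inv_one : Inv G (1 : Matrix Ω Ω ℚ) := fun g u v => by
  by_cases h : u = v
  · subst h; simp
  · rw [Matrix.one_apply_ne h, Matrix.one_apply_ne fun e => h (MulAction.injective g e)]

theorem inv_mul {M N : Matrix Ω Ω ℚ} (hM : Inv G M) (hN : Inv G N) : Inv G (M * N) := fun g u v => by
  simp only [Matrix.mul_apply]
  rw [← Equiv.sum_comp (MulAction.toPerm g)]
  simp only [MulAction.toPerm_apply, hM g, hN g]

theorem inv_transpose {M : Matrix Ω Ω ℚ} (hM : Inv G M) : Inv G Mᵀ := fun g u v => hM g v u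

theorem inv_sub {M N : Matrix Ω Ω ℚ} (hM : Inv G M) (hN : Inv G N) : Inv G (M - N) := fun g u v => by
  simp only [Matrix.sub_apply, hM g, hN g]

variable (e : Fin 2 × ZMod p ≃ Ω)

/-- The circulant blocks. -/
def blk (M : Matrix Ω Ω ℚ) (i i' : Fin 2) (j : ZMod p) : ℚ := M (e (i, 0)) (e (i', j))

/-- The sum of the diagonal blocks. -/
def diagB (M : Matrix Ω Ω ℚ) (j : ZMod p) : ℚ := blk e M 0 0 j + blk e M 1 1 j

/-- Row sum inside an orbit. -/
def alpha (M : Matrix Ω Ω ℚ) : ℚ := ∑ j, blk e M 0 0 j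

/-- Row sum across the orbits. -/
def beta (M : Matrix Ω Ω ℚ) : ℚ := ∑ j, blk e M 0 1 j

/-- The eigenvalue on the difference of the orbits. -/
def lam (M : Matrix Ω Ω ℚ) : ℚ := alpha e M - beta e M

/-- Evaluation at a character. -/
noncomputable def hat (ψ : AddChar (ZMod p) ℂ) (M : Matrix Ω Ω ℚ) : Matrix (Fin 2) (Fin 2) ℂ :=
  fun i i' => ∑ j, (blk e M i i' j : ℂ) * ψ j

/-- The difference of the orbits. -/
def v0 (u : Ω) : ℚ := if (e.symm u).1 = 0 then 1 else -1

theorem sum_eq (f : Ω → ℚ) : ∑ u, f u = ∑ j, f (e (0, j)) + ∑ j, f (e (1, j)) := by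
  rw [← e.sum_comp, Fintype.sum_prod_type, Fin.sum_univ_two]

theorem trace_hat (ψ : AddChar (ZMod p) ℂ) (M : Matrix Ω Ω ℚ) :
    (hat e ψ M).trace = ∑ j, (diagB e M j : ℂ) * ψ j := by
  simp only [Matrix.trace, Matrix.diag_apply, Fin.sum_univ_two, hat, diagB, Rat.cast_add, add_mul,
    Finset.sum_add_distrib]

theorem hat_one (ψ : AddChar (ZMod p) ℂ) : hat e ψ (1 : Matrix Ω Ω ℚ) = 1 := by
  ext i i'
  simp only [hat, blk]
  rw [Finset.sum_eq_single (0 : ZMod p) (fun j _ hj => ?_) (fun h => absurd (Finset.mem_univ _) h)]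
  · by_cases h : i = i'
    · subst h; simp
    · rw [Matrix.one_apply_ne h, Matrix.one_apply_ne fun e' => h (congrArg Prod.fst (e.injective e'))]; simp
  · rw [Matrix.one_apply_ne fun e' => hj (congrArg Prod.snd (e.injective e')).symm]; simp

theorem hat_sub (ψ : AddChar (ZMod p) ℂ) (M N : Matrix Ω Ω ℚ) : hat e ψ (M - N) = hat e ψ M - hat e ψ N := by
  ext i i'
  simp [hat, blk, sub_mul, Finset.sum_sub_distrib]

theorem hat_smul (ψ : AddChar (ZMod p) ℂ) (r : ℚ) (M : Matrix Ω Ω ℚ) : hat e ψ (r • M) = (r : ℂ) • hat e ψ M := by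
  ext i i'
  simp [hat, blk, Finset.mul_sum, mul_assoc]

variable {x : G} (hx : ∀ i j, x • e (i, j) = e (i, j + 1))
include hx

theorem apply_blk {M : Matrix Ω Ω ℚ} (hM : Inv G M) (i i' : Fin 2) (j j' : ZMod p) :
    M (e (i, j)) (e (i', j')) = blk e M i i' (j' - j) := by
  have key : ∀ n : ℕ, M (e (i, (n : ZMod p))) (e (i', j')) = blk e M i i' (j' - n) := by
    intro n
    induction n generalizing j' with
    | zero => simp [blk]
    | succ n ih =>
      rw [Nat.cast_succ, ← hx, show e (i', j') = x • e (i', j' - 1) by rw [hx, sub_add_cancel], hM x, ih]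
      congr 1
      ring
  have := key j.val
  rwa [ZMod.natCast_zmod_val] at this

theorem blk_mul {M N : Matrix Ω Ω ℚ} (hN : Inv G N) (i i'' : Fin 2) (j : ZMod p) :
    blk e (M * N) i i'' j = ∑ i' : Fin 2, ∑ l, blk e M i i' l * blk e N i' i'' (j - l) := by
  show (M * N) _ _ = _
  rw [Matrix.mul_apply, ← e.sum_comp, Fintype.sum_prod_type]
  refine Finset.sum_congr rfl fun i' _ => Finset.sum_congr rfl fun l _ => ?_
  rw [apply_blk e hx hN]
  rfl

theorem hat_mul (ψ : AddChar (ZMod p) ℂ) {M N : Matrix Ω Ω ℚ} (hN : Inv G N) :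
    hat e ψ (M * N) = hat e ψ M * hat e ψ N := by
  ext i i''
  simp only [Matrix.mul_apply, hat, blk_mul e hx hN, Rat.cast_sum, Rat.cast_mul, Finset.sum_mul]
  rw [Finset.sum_comm]
  refine Finset.sum_congr rfl fun i' _ => ?_
  rw [Finset.sum_comm]
  refine Finset.sum_congr rfl fun l _ => ?_
  rw [Finset.mul_sum]
  refine (Fintype.sum_equiv (Equiv.addLeft l) _ _ fun j => ?_).symm
  simp only [Equiv.coe_addLeft, add_sub_cancel_left, AddChar.map_add_eq_mul]
  ring

theorem blk_transpose {M : Matrix Ω Ω ℚ} (hM : Inv G M) (i i' : Fin 2) (j : ZMod p) :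
    blk e Mᵀ i i' j = blk e M i' i (-j) := by
  show M (e (i', j)) (e (i, 0)) = _
  rw [apply_blk e hx hM, zero_sub]

theorem diagB_transpose {M : Matrix Ω Ω ℚ} (hM : Inv G M) (j : ZMod p) : diagB e Mᵀ j = diagB e M (-j) := by
  simp only [diagB, blk_transpose e hx hM]

omit hx in
theorem sum_row (htr : ∀ u v : Ω, ∃ g : G, g • u = v) {M : Matrix Ω Ω ℚ} (hM : Inv G M) (u v : Ω) :
    ∑ w, M u w = ∑ w, M v w := by
  obtain ⟨g, rfl⟩ := htr u v
  rw [← Equiv.sum_comp (MulAction.toPerm g) (fun w => M (g • u) w)]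
  simp only [MulAction.toPerm_apply, hM g]

/-- The four block sums. -/
theorem block_sums (htr : ∀ u v : Ω, ∃ g : G, g • u = v) {M : Matrix Ω Ω ℚ} (hM : Inv G M) :
    ∑ j, blk e M 1 0 j = beta e M ∧ ∑ j, blk e M 1 1 j = alpha e M := by
  have h1 := sum_row htr hM (e (0, 0)) (e (1, 0))
  rw [sum_eq e, sum_eq e] at h1
  have h2 := sum_row htr (inv_transpose hM) (e (0, 0)) (e (1, 0))
  rw [sum_eq e, sum_eq e] at h2
  have hneg : ∀ f : ZMod p → ℚ, ∑ j, f (-j) = ∑ j, f j := fun f => Equiv.sum_comp (Equiv.neg (ZMod p)) f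
  have h3 : ∀ i i', ∑ j, Mᵀ (e (i, 0)) (e (i', j)) = ∑ j, blk e M i' i j := fun i i' => by
    rw [← hneg]
    exact Finset.sum_congr rfl fun j _ => (blk_transpose e hx hM i i' (-j)).trans (by rw [neg_neg])
  rw [h3, h3, h3, h3] at h2
  simp only [alpha, beta, blk] at *
  constructor <;> linarith

theorem lam_transpose (htr : ∀ u v : Ω, ∃ g : G, g • u = v) {M : Matrix Ω Ω ℚ} (hM : Inv G M) :
    lam e Mᵀ = lam e M ∧ alpha e Mᵀ = alpha e M := by
  have hneg : ∀ f : ZMod p → ℚ, ∑ j, f (-j) = ∑ j, f j := fun f => Equiv.sum_comp (Equiv.neg (ZMod p)) f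
  have ha : alpha e Mᵀ = alpha e M := by
    simp only [alpha, blk_transpose e hx hM]; exact hneg _
  refine ⟨?_, ha⟩
  rw [lam, lam, ha]
  congr 1
  simp only [beta, blk_transpose e hx hM]
  rw [hneg]
  exact (block_sums e hx htr hM).1

theorem alpha_mul (htr : ∀ u v : Ω, ∃ g : G, g • u = v) {M N : Matrix Ω Ω ℚ} (hN : Inv G N) :
    alpha e (M * N) = alpha e M * alpha e N + beta e M * beta e N ∧
    beta e (M * N) = alpha e M * beta e N + beta e M * alpha e N := by
  have key : ∀ i i'', ∑ j, blk e (M * N) i i'' j =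
      (∑ l, blk e M i 0 l) * (∑ j, blk e N 0 i'' j) + (∑ l, blk e M i 1 l) * ∑ j, blk e N 1 i'' j := by
    intro i i''
    simp only [blk_mul e hx hN, Fin.sum_univ_two, Finset.sum_add_distrib]
    congr 1 <;>
    · rw [Finset.sum_comm, Finset.sum_mul]
      refine Finset.sum_congr rfl fun l _ => ?_
      rw [Finset.mul_sum]
      exact Fintype.sum_equiv (Equiv.subRight l) _ _ fun j => rfl
  obtain ⟨h10, h11⟩ := block_sums e hx htr hN
  simp only [alpha, beta] at h10 h11 ⊢
  rw [key 0 0, key 0 1, h10, h11]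
  exact ⟨rfl, rfl⟩

theorem lam_mul (htr : ∀ u v : Ω, ∃ g : G, g • u = v) {M N : Matrix Ω Ω ℚ} (hN : Inv G N) :
    lam e (M * N) = lam e M * lam e N := by
  obtain ⟨h1, h2⟩ := alpha_mul (x := x) e hx htr (M := M) hN
  simp only [lam, h1, h2]; ring

theorem mulVec_v0 (htr : ∀ u v : Ω, ∃ g : G, g • u = v) {M : Matrix Ω Ω ℚ} (hM : Inv G M) (u : Ω) :
    ∑ w, M u w * v0 e w = lam e M * v0 e u := by
  obtain ⟨⟨i, j⟩, rfl⟩ := e.surjective u
  obtain ⟨h10, h11⟩ := block_sums e hx htr hM
  rw [sum_eq e]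
  simp only [v0, Equiv.symm_apply_apply, apply_blk e hx hM, if_true, one_ne_zero, if_false, mul_one, mul_neg,
    Finset.sum_neg_distrib]
  have hs : ∀ i', ∑ l, blk e M i i' (l - j) = ∑ l, blk e M i i' l := fun i' =>
    Fintype.sum_equiv (Equiv.subRight j) _ _ fun l => rfl
  rw [hs, hs, lam]
  fin_cases i <;> simp [alpha, beta] at h10 h11 ⊢
  · ring
  · rw [h10, h11]; ring

omit hx in
theorem v0_sq (u : Ω) : v0 e u * v0 e u = 1 := by
  unfold v0; split_ifs <;> norm_num

omit hx in
theorem sum_v0 : ∑ u, v0 e u = 0 := by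
  rw [sum_eq e]; simp [v0]

/-- The idempotent of the submodule generated by the difference of the orbits. -/
theorem exists_idem [Fintype G] (htr : ∀ u v : Ω, ∃ g : G, g • u = v) :
    ∃ E : Matrix Ω Ω ℚ, Inv G E ∧ Eᵀ = E ∧ lam e E = 1 ∧ E * E = E ∧ (∀ u, ∑ w, E u w = 0) ∧
      ∀ M, Inv G M → M * E = lam e M • E ∧ E * M = lam e M • E := by
  set E0 : Matrix Ω Ω ℚ := Matrix.of fun u v => ∑ g : G, v0 e (g • u) * v0 e (g • v) with hE0
  have hinv : Inv G E0 := fun g u v => by
    simp only [hE0, Matrix.of_apply]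
    refine Fintype.sum_equiv (Equiv.mulRight g) _ _ fun h => ?_
    simp [mul_smul]
  have hsymm : E0ᵀ = E0 := by
    ext u v
    simp only [hE0, Matrix.transpose_apply, Matrix.of_apply, mul_comm]
  have hrow : ∀ u, ∑ w, E0 u w = 0 := by
    intro u
    simp only [hE0, Matrix.of_apply]
    rw [Finset.sum_comm]
    refine Finset.sum_eq_zero fun g _ => ?_
    rw [← Finset.mul_sum, show ∑ w, v0 e (g • w) = ∑ w, v0 e w from Equiv.sum_comp (MulAction.toPerm g) _,
      sum_v0, mul_zero]
  have hmul : ∀ M, Inv G M → M * E0 = lam e M • E0 := by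
    intro M hM
    ext u v
    simp only [hE0, Matrix.mul_apply, Matrix.of_apply, Matrix.smul_apply, smul_eq_mul, Finset.mul_sum]
    rw [Finset.sum_comm]
    refine Finset.sum_congr rfl fun g _ => ?_
    simp only [← mul_assoc, ← Finset.sum_mul]
    congr 1
    rw [← mulVec_v0 e hx htr hM (g • u), ← Equiv.sum_comp (MulAction.toPerm g) (fun w => M (g • u) w * v0 e w)]
    simp only [MulAction.toPerm_apply, hM g]
  have hmul' : ∀ M, Inv G M → E0 * M = lam e M • E0 := by
    intro M hM
    have h := congrArg Matrix.transpose (hmul Mᵀ (inv_transpose hM))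
    rwa [Matrix.transpose_mul, Matrix.transpose_transpose, hsymm, Matrix.transpose_smul, hsymm,
      (lam_transpose e hx htr hM).1] at h
  have hpos : 0 < lam e E0 := by
    have h1 : ∑ u, v0 e u * ∑ w, E0 u w * v0 e w = ∑ g : G, (∑ u, v0 e u * v0 e (g • u)) ^ 2 := by
      simp only [hE0, Matrix.of_apply, Finset.mul_sum, Finset.sum_mul, sq]
      rw [Finset.sum_comm]
      simp only [Finset.sum_comm (γ := G)]
      refine Finset.sum_congr rfl fun g _ => Finset.sum_congr rfl fun w _ => Finset.sum_congr rfl fun u _ => ?_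
      ring
    have h2 : (0 : ℚ) < ∑ g : G, (∑ u, v0 e u * v0 e (g • u)) ^ 2 := by
      refine Finset.sum_pos' (fun g _ => sq_nonneg _) ⟨1, Finset.mem_univ _, ?_⟩
      simp only [one_smul, v0_sq, Finset.sum_const, Finset.card_univ, nsmul_eq_mul, mul_one]
      have : 0 < Fintype.card Ω := Fintype.card_pos_iff.2 ⟨e (0, 0)⟩
      positivity
    rw [← h1] at h2
    simp only [mulVec_v0 e hx htr hinv] at h2
    have h3 : ∑ u, v0 e u * (lam e E0 * v0 e u) = lam e E0 * (Fintype.card Ω : ℚ) := by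
      rw [Finset.sum_congr rfl (g := fun _ => lam e E0) fun u _ => ?_, Finset.sum_const, Finset.card_univ, nsmul_eq_mul,
        mul_comm]
      rw [mul_left_comm, v0_sq, mul_one]
    rw [h3] at h2
    exact pos_of_mul_pos_left h2 (Nat.cast_nonneg _)
  refine ⟨(lam e E0)⁻¹ • E0, fun g u v => by simp only [Matrix.smul_apply, hinv g], by rw [Matrix.transpose_smul, hsymm],
    ?_, ?_, fun u => by simp only [Matrix.smul_apply, ← Finset.smul_sum, hrow, smul_zero], fun M hM => ⟨?_, ?_⟩⟩
  · simp only [lam, alpha, beta, blk, Matrix.smul_apply, smul_eq_mul, ← Finset.mul_sum, ← mul_sub]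
    exact inv_mul_cancel₀ hpos.ne'
  · rw [Matrix.smul_mul, Matrix.mul_smul, hmul _ hinv, smul_smul, smul_smul, inv_mul_cancel_right₀ hpos.ne']
  · rw [Matrix.mul_smul, hmul M hM, smul_comm]
  · rw [Matrix.smul_mul, hmul' M hM, smul_comm]

/-- The key identity for the diagonal blocks of a product, when the idempotent has rank one at the character. -/
theorem key_identity (htr : ∀ u v : Ω, ∃ g : G, g • u = v) {ψ : AddChar (ZMod p) ℂ} (hψ : ψ ≠ 1)
    {E : Matrix Ω Ω ℚ} (hE : Inv G E) (hEE : E * E = E) (hT : (hat e ψ E).trace = 1)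
    (hEM : ∀ M, Inv G M → M * E = lam e M • E ∧ E * M = lam e M • E)
    {M N : Matrix Ω Ω ℚ} (hM : Inv G M) (hN : Inv G N) (j : ZMod p) :
    diagB e (M * N) j = ∑ l, diagB e M l * diagB e N (j - l) - lam e M * diagB e N j - lam e N * diagB e M j +
      if j = 0 then 2 * lam e M * lam e N else 0 := by
  classical
  have hF : ∀ M, Inv G M → ∀ N, Inv G N → (hat e ψ (M * N)).trace =
      lam e M * lam e N + ((hat e ψ M).trace - lam e M) * ((hat e ψ N).trace - lam e N) := by
    intro M hM N hN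
    set F := (1 : Matrix (Fin 2) (Fin 2) ℂ) - hat e ψ E with hFdef
    have hEh : hat e ψ E * hat e ψ E = hat e ψ E := by rw [← hat_mul e hx ψ hE, hEE]
    have hFF : F * F = F := by rw [hFdef, mul_sub, sub_mul, sub_mul, one_mul, one_mul, mul_one, hEh]; simp
    have hFt : F.trace = 1 := by rw [hFdef, Matrix.trace_sub, Matrix.trace_one, hT]; simp; norm_num
    have h1 : ∀ M, Inv G M → hat e ψ M * hat e ψ E = (lam e M : ℂ) • hat e ψ E ∧
        hat e ψ E * hat e ψ M = (lam e M : ℂ) • hat e ψ E := fun M hM =>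
      ⟨by rw [← hat_mul e hx ψ hE, (hEM M hM).1, hat_smul], by rw [← hat_mul e hx ψ hM, (hEM M hM).2, hat_smul]⟩
    have h2 : ∀ M, Inv G M → hat e ψ M * F = F * hat e ψ M ∧
        (hat e ψ M * F).trace = (hat e ψ M).trace - lam e M := fun M hM => by
      constructor
      · rw [hFdef, mul_sub, sub_mul, mul_one, one_mul, (h1 M hM).1, (h1 M hM).2]
      · rw [hFdef, mul_sub, mul_one, (h1 M hM).1, Matrix.trace_sub, Matrix.trace_smul, hT, smul_eq_mul, mul_one]
    have h3 : hat e ψ (M * N) * F = (((hat e ψ M).trace - lam e M) * ((hat e ψ N).trace - lam e N)) • F := by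
      have e1 : ∀ M, Inv G M → hat e ψ M * F = ((hat e ψ M).trace - lam e M) • F := fun M hM => by
        rw [← (h2 M hM).2, ← compress hFt hFF (hat e ψ M), ← (h2 M hM).1, Matrix.mul_assoc, hFF]
      rw [hat_mul e hx ψ hN, Matrix.mul_assoc, e1 N hN, Matrix.mul_smul, e1 M hM, smul_smul, mul_comm]
    have h4 : hat e ψ (M * N) = hat e ψ (M * N) * hat e ψ E + hat e ψ (M * N) * F := by
      rw [← mul_add, hFdef, add_sub_cancel, mul_one]
    rw [h4, (h1 _ (inv_mul hM hN)).1, h3, Matrix.trace_add, Matrix.trace_smul, Matrix.trace_smul, hT, hFt,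
      lam_mul e hx htr hN]
    simp
  set f : ZMod p → ℚ := fun j => diagB e (M * N) j - (∑ l, diagB e M l * diagB e N (j - l) - lam e M * diagB e N j -
    lam e N * diagB e M j + if j = 0 then 2 * lam e M * lam e N else 0) with hf
  have hconv : ∀ χ : ZMod p → ℂ, (∀ a b, χ (a + b) = χ a * χ b) →
      ∑ j, (∑ l, (diagB e M l : ℂ) * diagB e N (j - l)) * χ j =
      (∑ j, (diagB e M j : ℂ) * χ j) * ∑ j, (diagB e N j : ℂ) * χ j := by
    intro χ hχ
    simp only [Finset.sum_mul]
    rw [Finset.sum_comm]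
    refine Finset.sum_congr rfl fun l _ => ?_
    rw [Finset.mul_sum]
    refine (Fintype.sum_equiv (Equiv.addLeft l) _ _ fun j => ?_).symm
    simp only [Equiv.coe_addLeft, add_sub_cancel_left, hχ]
    ring
  have h1 : ∑ j, (f j : ℂ) * ψ j = 0 := by
    have h := hF M hM N hN
    rw [trace_hat, trace_hat, trace_hat] at h
    have hite : ∀ j : ZMod p, (((if j = 0 then 2 * lam e M * lam e N else 0 : ℚ)) : ℂ) * ψ j =
        if j = 0 then 2 * (lam e M : ℂ) * lam e N else 0 := by
      intro j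
      by_cases hj : j = 0
      · subst hj; simp
      · simp [hj]
    simp only [hf, Rat.cast_sub, Rat.cast_add, sub_mul, add_mul, hite]
    simp only [Rat.cast_sum, Rat.cast_mul, Finset.sum_sub_distrib, Finset.sum_add_distrib, hconv ψ (fun a b => AddChar.map_add_eq_mul ψ a b), mul_assoc,
      ← Finset.mul_sum, Finset.sum_ite_eq', Finset.mem_univ, if_true, h]
    ring
  have h2 : ∑ j, f j = 0 := by
    have hd : ∀ M, Inv G M → ∑ j, diagB e M j = 2 * alpha e M := fun M hM => by
      simp only [diagB, Finset.sum_add_distrib, (block_sums e hx htr hM).2]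
      rw [two_mul]; rfl
    have hc : ∑ j, ∑ l, diagB e M l * diagB e N (j - l) = (∑ j, diagB e M j) * ∑ j, diagB e N j := by
      rw [Finset.sum_comm, Finset.sum_mul]
      refine Finset.sum_congr rfl fun l _ => ?_
      rw [Finset.mul_sum]
      exact Fintype.sum_equiv (Equiv.subRight l) _ _ fun j => rfl
    simp only [hf, Finset.sum_sub_distrib, Finset.sum_add_distrib, ← Finset.mul_sum, Finset.sum_ite_eq',
      Finset.mem_univ, if_true, hc, hd M hM, hd N hN, hd _ (inv_mul hM hN), (alpha_mul (x := x) e hx htr (M := M) hN).1,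
      lam]
    ring
  have h := rigid_zero ψ hψ f h1 h2 j
  simp only [hf, sub_eq_zero] at h
  exact h

end CfsgLib.WielandtBlocks
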