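/-
The rank of a primitive group of degree `2p` with an element of two `p`-cycles (Wielandt).
-/
import Mathlib
import Cfsg.Agent.Lib.Perm.WielandtBlocks

set_option autoImplicit false
set_option linter.style.haveILetI false

namespace CfsgLib.WielandtRank

open CfsgLib.WielandtBlocks MulAction Matrix
open scoped Pointwise

universe u v

variable {G : Type u} [Group G] {Ω : Type v} [Fintype Ω] [DecidableEq Ω] [MulAction G Ω]

/-- The class of an ordered pair relative to a base point. -/
noncomputable def cls [IsPretransitive G Ω] (u0 : Ω) (u w : Ω) : MulAction.orbitRel.Quotient (stabilizer G u0) Ω :=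
  Quotient.mk'' ((MulAction.exists_smul_eq G u u0).choose • w)

omit [Fintype Ω] [DecidableEq Ω] in
theorem cls_eq [IsPretransitive G Ω] (u0 : Ω) {u w : Ω} {g : G} (hg : g • u = u0) :
    cls (G := G) u0 u w = Quotient.mk'' (g • w) := by
  set h := (MulAction.exists_smul_eq G u u0).choose
  have hh : h • u = u0 := (MulAction.exists_smul_eq G u u0).choose_spec
  refine Quotient.sound' ⟨⟨h * g⁻¹, mem_stabilizer_iff.2 (by rw [mul_smul, inv_smul_eq_iff.2 hg.symm, hh])⟩, ?_⟩
  show (h * g⁻¹) • g • w = h • w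
  rw [mul_smul, inv_smul_smul]

omit [Fintype Ω] [DecidableEq Ω] in
theorem cls_base [IsPretransitive G Ω] (u0 w : Ω) : cls (G := G) u0 u0 w = Quotient.mk'' w := by
  rw [cls_eq u0 (one_smul G u0), one_smul]

omit [Fintype Ω] [DecidableEq Ω] in
theorem cls_smul [IsPretransitive G Ω] (u0 : Ω) (k : G) (u w : Ω) :
    cls (G := G) u0 (k • u) (k • w) = cls u0 u w := by
  obtain ⟨g, hg⟩ := MulAction.exists_smul_eq G u u0
  rw [cls_eq u0 hg, cls_eq u0 (g := g * k⁻¹) (by rw [mul_smul, inv_smul_smul, hg]), mul_smul, inv_smul_smul]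

omit [Fintype Ω] [DecidableEq Ω] in
theorem cls_eq_diag [IsPretransitive G Ω] (u0 u w : Ω) :
    cls (G := G) u0 u w = Quotient.mk'' u0 ↔ w = u := by
  obtain ⟨g, hg⟩ := MulAction.exists_smul_eq G u u0
  rw [cls_eq u0 hg]
  constructor
  · intro h
    obtain ⟨⟨k, hk⟩, hk'⟩ := Quotient.exact' h
    have hk'' : k • u0 = g • w := hk'
    rw [mem_stabilizer_iff.1 hk] at hk''
    exact MulAction.injective g (hk''.symm.trans hg.symm)
  · rintro rfl; rw [hg]

omit [Fintype Ω] [DecidableEq Ω] in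
theorem transfer [IsPretransitive G Ω] (u0 : Ω) {M : Matrix Ω Ω ℚ} (hM : Inv G M) (u w : Ω) :
    M u w = M u0 (cls (G := G) u0 u w).out := by
  obtain ⟨g, hg⟩ := MulAction.exists_smul_eq G u u0
  rw [cls_eq u0 hg]
  obtain ⟨⟨k, hk⟩, hk'⟩ := Quotient.exact' (Quotient.out_eq' (Quotient.mk'' (g • w) : MulAction.orbitRel.Quotient (stabilizer G u0) Ω))
  have hk'' : k • g • w = (Quotient.mk'' (g • w) : MulAction.orbitRel.Quotient (stabilizer G u0) Ω).out := hk'
  rw [← hk'', show M u0 (k • g • w) = M (k • u0) (k • g • w) by rw [mem_stabilizer_iff.1 hk], hM k, ← hg, hM g]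

variable {p : ℕ} [Fact p.Prime]

set_option maxHeartbeats 4000000 in
/-- Wielandt: either two classes of pairs, or three with the special parameters. -/
theorem classification [Fintype G] [hprim : IsPreprimitive G Ω] (e : Fin 2 × ZMod p ≃ Ω) (x : G)
    (hx : ∀ i j, x • e (i, j) = e (i, j + 1)) :
    IsMultiplyPretransitive G Ω 2 ∨
      (Nat.card (MulAction.orbitRel.Quotient (stabilizer G (e (0, 0))) Ω) = 3 ∧
        ∃ a : ℕ, 0 < a ∧ p = 2 * a ^ 2 + 2 * a + 1 ∧ ∀ b : Ω, b ≠ e (0, 0) →
          Nat.card (MulAction.orbit (stabilizer G (e (0, 0))) b) = a * (2 * a + 1) ∨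
          Nat.card (MulAction.orbit (stabilizer G (e (0, 0))) b) = (a + 1) * (2 * a + 1)) := by
  classical
  have hp : p.Prime := Fact.out
  have htr : ∀ u v : Ω, ∃ g : G, g • u = v := MulAction.exists_smul_eq G
  set u0 := e (0, 0) with hu0
  haveI : Fintype (MulAction.orbitRel.Quotient (stabilizer G u0) Ω) := Fintype.ofFinite _
  let O := MulAction.orbitRel.Quotient (stabilizer G u0) Ω
  set o0 : O := Quotient.mk'' u0 with ho0
  -- the indicator matrices
  let A : O → Matrix Ω Ω ℚ := fun C => Matrix.of fun u w => if cls (G := G) u0 u w = C then 1 else 0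
  have hAapp : ∀ C u w, A C u w = if cls (G := G) u0 u w = C then 1 else 0 := fun C u w => rfl
  have hA : ∀ C, Inv G (A C) := fun C g u w => by simp only [hAapp, cls_smul]
  have hexp : ∀ (M : Matrix Ω Ω ℚ), Inv G M → ∀ u w, M u w = ∑ C : O, M u0 C.out * A C u w := by
    intro M hM u w
    rw [Finset.sum_eq_single (cls (G := G) u0 u w) (fun C _ hC => by rw [hAapp, if_neg hC.symm, mul_zero])
      (fun h => absurd (Finset.mem_univ _) h), hAapp, if_pos rfl, mul_one]
    exact transfer u0 hM u w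
  have hblk : ∀ (M : Matrix Ω Ω ℚ), Inv G M → ∀ i i' j, blk e M i i' j = ∑ C : O, M u0 C.out * blk e (A C) i i' j :=
    fun M hM i i' j => hexp M hM _ _
  have hdiagexp : ∀ (M : Matrix Ω Ω ℚ), Inv G M → ∀ j, diagB e M j = ∑ C : O, M u0 C.out * diagB e (A C) j := by
    intro M hM j
    simp only [diagB, hblk M hM, ← Finset.sum_add_distrib, mul_add]
  have hlamexp : ∀ (M : Matrix Ω Ω ℚ), Inv G M → lam e M = ∑ C : O, M u0 C.out * lam e (A C) := by
    intro M hM
    simp only [lam, alpha, beta, hblk M hM, mul_sub, Finset.mul_sum, Finset.sum_sub_distrib]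
    congr 1 <;> rw [Finset.sum_comm]
  -- the idempotent
  obtain ⟨E, hE, hEsymm, hEl, hEE, hErow, hEM⟩ := exists_idem e hx htr
  obtain ⟨ψ0, hψ0⟩ := exists_char (p := p)
  have hlam1 : lam e (1 : Matrix Ω Ω ℚ) = 1 := by
    have h := lam_mul (x := x) e hx htr (M := (1 : Matrix Ω Ω ℚ)) hE
    rw [one_mul, hEl, mul_one] at h
    exact h.symm
  have hEk : alpha e E + beta e E = 0 := by
    have h := hErow (e (0, 0))
    rw [sum_eq e] at h
    exact h
  have hEα : alpha e E = 1 / 2 := by
    have h : alpha e E - beta e E = 1 := hEl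
    linarith
  have hEsum : ∑ j, diagB e E j = 1 := by
    simp only [diagB, Finset.sum_add_distrib, (block_sums e hx htr hE).2]
    rw [show ∑ j, blk e E 0 0 j = alpha e E from rfl, hEα]; norm_num
  have hEd : diagB e E 0 = 2 * E u0 u0 := by
    obtain ⟨g, hg⟩ := htr u0 (e (1, 0))
    have h : E (e (1, 0)) (e (1, 0)) = E u0 u0 := by rw [← hg]; exact hE g u0 u0
    show E (e (0, 0)) (e (0, 0)) + E (e (1, 0)) (e (1, 0)) = _
    rw [h, two_mul]
  have hidem : hat e ψ0 E * hat e ψ0 E = hat e ψ0 E := by rw [← hat_mul e hx ψ0 hE, hEE]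
  -- entries of a matrix with vanishing evaluation
  have hconst : ∀ M : Matrix Ω Ω ℚ, hat e ψ0 M = 0 → ∀ i i' j, blk e M i i' j = blk e M i i' (-1) := by
    intro M hM i i' j
    obtain ⟨h1, h2⟩ := rigid ψ0 hψ0 (fun j => blk e M i i' j) 0 (by rw [Rat.cast_zero]; exact congrFun (congrFun hM i) i')
    by_cases hj : j = 0
    · rw [hj, h2, add_zero]
    · exact h1 j hj
  have hpq : (p : ℚ) ≠ 0 := Nat.cast_ne_zero.2 hp.ne_zero
  rcases trace_idem hidem with h0 | h1 | hT
  · -- the two orbits would be blocks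
    exfalso
    have hc := hconst E h0
    have hval : ∀ i i' j, blk e E i i' j = (if i = i' then 1 else -1) / (2 * p) := by
      intro i i' j
      obtain ⟨h10, h11⟩ := block_sums e hx htr hE
      have hs : ∀ i i', ∑ j, blk e E i i' j = p * blk e E i i' (-1) := fun i i' => by
        rw [Finset.sum_congr rfl fun j _ => hc i i' j, Finset.sum_const, Finset.card_univ, ZMod.card, nsmul_eq_mul]
      have ha : alpha e E = p * blk e E 0 0 (-1) := hs 0 0
      have hb : beta e E = p * blk e E 0 1 (-1) := hs 0 1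
      rw [hs] at h10 h11
      rw [hc i i' j, eq_div_iff (mul_ne_zero two_ne_zero hpq)]
      fin_cases i <;> fin_cases i' <;> simp <;> linarith
    have hEv : ∀ u w, E u w = v0 e u * v0 e w / (2 * p) := by
      intro u w
      obtain ⟨⟨i, j⟩, rfl⟩ := e.surjective u
      obtain ⟨⟨i', j'⟩, rfl⟩ := e.surjective w
      rw [apply_blk e hx hE, hval]
      congr 1
      fin_cases i <;> fin_cases i' <;> simp [v0]
    let B : Set Ω := {u | v0 e u = 1}
    have hB : IsBlock G B := by
      rw [MulAction.isBlock_iff_smul_eq_or_disjoint]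
      intro g
      have hpres : ∀ u w, v0 e (g • u) * v0 e (g • w) = v0 e u * v0 e w := fun u w => by
        have h := hE g u w
        rw [hEv, hEv, div_left_inj' (mul_ne_zero two_ne_zero hpq)] at h
        exact h
      have hv : ∀ u, v0 e (g • u) = v0 e (g • u0) * v0 e u := fun u => by
        have h := hpres u0 u
        rw [show v0 e u0 = 1 by simp [v0, hu0], one_mul] at h
        rw [← h, ← mul_assoc, v0_sq, one_mul]
      by_cases hg : v0 e (g • u0) = 1
      · left
        ext w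
        rw [Set.mem_smul_set_iff_inv_smul_mem]
        have := hv (g⁻¹ • w)
        rw [smul_inv_smul, hg, one_mul] at this
        show v0 e _ = 1 ↔ v0 e w = 1
        rw [this]
      · right
        rw [Set.disjoint_left]
        intro w hw hw'
        rw [Set.mem_smul_set_iff_inv_smul_mem] at hw
        have := hv (g⁻¹ • w)
        rw [smul_inv_smul, show v0 e w = 1 from hw', show v0 e (g⁻¹ • w) = 1 from hw, mul_one] at this
        exact hg this.symm
    rcases IsPreprimitive.isTrivialBlock_of_isBlock hB with hs | hs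
    · exact zero_ne_one (congrArg Prod.snd (e.injective (hs (show e (0, 0) ∈ B by simp [B, v0])
        (show e (0, 1) ∈ B by simp [B, v0]))))
    · have : e (1, 0) ∈ B := hs ▸ Set.mem_univ _
      simp [B, v0] at this
      norm_num at this
  · -- two-transitive
    left
    have hc := hconst ((1 : Matrix Ω Ω ℚ) - E) (by rw [hat_sub, hat_one, h1, sub_self])
    have hF := inv_sub (G := G) (inv_one) hE
    have hEone : ∀ u w, u ≠ w → E u w = -(1 / (2 * p)) := by
      obtain ⟨h10, h11⟩ := block_sums e hx htr hF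
      have hs : ∀ i i', ∑ j, blk e ((1 : Matrix Ω Ω ℚ) - E) i i' j = p * blk e (1 - E) i i' (-1) := fun i i' => by
        rw [Finset.sum_congr rfl fun j _ => hc i i' j, Finset.sum_const, Finset.card_univ, ZMod.card, nsmul_eq_mul]
      have ha : alpha e ((1 : Matrix Ω Ω ℚ) - E) = p * blk e (1 - E) 0 0 (-1) := hs 0 0
      have hb : beta e ((1 : Matrix Ω Ω ℚ) - E) = p * blk e (1 - E) 0 1 (-1) := hs 0 1
      have hl : lam e ((1 : Matrix Ω Ω ℚ) - E) = 0 := by
        have : lam e ((1 : Matrix Ω Ω ℚ) - E) = lam e (1 : Matrix Ω Ω ℚ) - lam e E := by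
          simp only [lam, alpha, beta, blk, Matrix.sub_apply, Finset.sum_sub_distrib]; ring
        rw [this, hlam1, hEl, sub_self]
      have hk : alpha e ((1 : Matrix Ω Ω ℚ) - E) + beta e (1 - E) = 1 := by
        have h : ∑ w, ((1 : Matrix Ω Ω ℚ) - E) (e (0, 0)) w = 1 := by
          simp only [Matrix.sub_apply, Finset.sum_sub_distrib, hErow, sub_zero]
          simp [Matrix.one_apply]
        rw [sum_eq e] at h
        exact h
      rw [hs] at h10 h11
      intro u w huw
      obtain ⟨⟨i, j⟩, rfl⟩ := e.surjective u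
      obtain ⟨⟨i', j'⟩, rfl⟩ := e.surjective w
      have h : ((1 : Matrix Ω Ω ℚ) - E) (e (i, j)) (e (i', j')) = 1 / (2 * p) := by
        rw [apply_blk e hx hF, hc i i' _, eq_div_iff (mul_ne_zero two_ne_zero hpq)]
        unfold lam at hl
        fin_cases i <;> fin_cases i' <;> simp <;> linarith
      rw [Matrix.sub_apply, Matrix.one_apply_ne huw] at h
      linarith
    have hone : ∀ C : O, C ≠ o0 → ∀ w, w ≠ u0 → cls (G := G) u0 u0 w = C := by
      intro C hC w hw
      have hCout : C.out ≠ u0 := fun h => hC (by rw [← Quotient.out_eq' C, h])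
      have hcol : ∀ w, w ≠ u0 → A C u0 w = (∑ z, A C u0 z - lam e (A C)) / (2 * p) := by
        intro w hw
        have h := congrFun (congrFun (hEM (A C) (hA C)).1 u0) w
        rw [Matrix.mul_apply, Matrix.smul_apply, smul_eq_mul, hEone u0 w (Ne.symm hw)] at h
        have h2 : ∑ z, A C u0 z * E z w = A C u0 w * E w w + ∑ z ∈ Finset.univ.erase w, A C u0 z * (-(1 / (2 * p))) := by
          rw [← Finset.add_sum_erase _ _ (Finset.mem_univ w)]
          congr 1
          exact Finset.sum_congr rfl fun z hz => by rw [hEone z w (Finset.mem_erase.1 hz).1]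
        have h4 : E w w = 1 - 1 / (2 * p) := by
          have hr := hErow w
          rw [← Finset.add_sum_erase _ _ (Finset.mem_univ w),
            Finset.sum_congr rfl fun z hz => hEone w z (Finset.mem_erase.1 hz).1.symm, Finset.sum_const,
            Finset.card_erase_of_mem (Finset.mem_univ w), Finset.card_univ, ← Fintype.card_congr e, Fintype.card_prod,
            Fintype.card_fin, ZMod.card, nsmul_eq_mul, Nat.cast_sub (by have := hp.two_le; omega), Nat.cast_mul] at hr
          field_simp at hr ⊢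
          push_cast at hr
          linarith
        rw [h2, ← Finset.sum_mul, Finset.sum_erase_eq_sub (Finset.mem_univ w), h4] at h
        field_simp at h ⊢
        linarith
      have hA1 : A C u0 C.out = 1 := by
        rw [hAapp, cls_base, Quotient.out_eq', if_pos rfl]
      have := (hcol w hw).trans ((hcol _ hCout).symm.trans hA1)
      rw [hAapp] at this
      by_contra hne
      rw [if_neg hne] at this
      exact zero_ne_one this
    rw [MulAction.is_two_pretransitive_iff]
    intro a b c d hab hcd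
    obtain ⟨g, hg⟩ := htr a u0
    obtain ⟨g', hg'⟩ := htr c u0
    have hb : g • b ≠ u0 := fun h => hab (MulAction.injective g (hg.trans h.symm))
    have hd : g' • d ≠ u0 := fun h => hcd (MulAction.injective g' (hg'.trans h.symm))
    have hne : cls (G := G) u0 u0 (g • b) ≠ o0 := fun h => hb ((cls_eq_diag u0 u0 _).1 h)
    have h2 : cls (G := G) u0 u0 (g' • d) = cls u0 u0 (g • b) := hone _ hne _ hd
    rw [cls_base, cls_base] at h2
    obtain ⟨⟨k, hk⟩, hk'⟩ := Quotient.exact' h2
    have hk'' : k • g • b = g' • d := hk'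
    refine ⟨g'⁻¹ * k * g, ?_, ?_⟩
    · rw [mul_smul, mul_smul, hg, mem_stabilizer_iff.1 hk, ← hg', inv_smul_smul]
    · rw [mul_smul, mul_smul, hk'', inv_smul_smul]
  right
  -- the diagonal of the idempotent
  obtain ⟨hsrig, hs0⟩ := rigid ψ0 hψ0 (diagB e E) 1 (by rw [← trace_hat, hT, Rat.cast_one])
  have hsm : diagB e E (-1) = 0 := by
    have h := hEsum
    rw [← Finset.add_sum_erase _ _ (Finset.mem_univ (0 : ZMod p)),
      Finset.sum_congr rfl fun j hj => hsrig j (Finset.mem_erase.1 hj).1, Finset.sum_const,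
      Finset.card_erase_of_mem (Finset.mem_univ _), Finset.card_univ, ZMod.card, nsmul_eq_mul,
      Nat.cast_sub hp.one_le, hs0] at h
    have h2 : (p : ℚ) * diagB e E (-1) = 0 := by push_cast at h; linarith
    exact (mul_eq_zero.1 h2).resolve_left hpq
  have hsz : ∀ j, j ≠ 0 → diagB e E j = 0 := fun j hj => (hsrig j hj).trans hsm
  have hd : E u0 u0 = 1 / 2 := by rw [hs0, hsm, zero_add] at hEd; linarith
  have hTall : ∀ ψ : AddChar (ZMod p) ℂ, ψ ≠ 1 → (hat e ψ E).trace = 1 := by
    intro ψ _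
    rw [trace_hat, Finset.sum_eq_single 0 (fun j _ hj => by rw [hsz j hj]; simp)
      (fun h => absurd (Finset.mem_univ _) h), AddChar.map_zero_eq_one, mul_one, hs0, hsm, zero_add, Rat.cast_one]
  have hKey := fun {M N : Matrix Ω Ω ℚ} (hM : Inv G M) (hN : Inv G N) j =>
    key_identity e hx htr hψ0 hE hEE hT hEM hM hN j
  -- the natural invariants
  let k : O → ℕ := fun C => Nat.card {w : Ω // cls (G := G) u0 u0 w = C}
  have hkpos : ∀ C, 0 < k C := fun C => Nat.card_pos_iff.2
    ⟨⟨⟨C.out, by rw [cls_base, Quotient.out_eq']⟩⟩, inferInstance⟩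
  have hrowA : ∀ C, ∑ w, A C u0 w = (k C : ℚ) := by
    intro C
    simp only [hAapp, Finset.sum_boole, k, Nat.card_eq_fintype_card, Fintype.card_subtype]
  have hk : ∀ C, alpha e (A C) + beta e (A C) = (k C : ℚ) := by
    intro C
    rw [← hrowA, sum_eq e]; rfl
  have hlz : ∀ C, ∃ z : ℤ, lam e (A C) = (z : ℚ) := by
    intro C
    refine ⟨((Finset.univ.filter fun j : ZMod p => cls (G := G) u0 (e (0, 0)) (e (0, j)) = C).card : ℤ) -
      (Finset.univ.filter fun j : ZMod p => cls (G := G) u0 (e (0, 0)) (e (1, j)) = C).card, ?_⟩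
    simp only [lam, alpha, beta, blk, hAapp, Finset.sum_boole]
    push_cast; ring
  set lm : O → ℚ := fun C => lam e (A C) with hlm
  set c : O → ZMod p → ℚ := fun C j => diagB e (A C) j with hc
  have hcnn : ∀ C j, 0 ≤ c C j := fun C j => by
    simp only [hc, diagB, blk, hAapp]; split_ifs <;> norm_num
  have hA0 : A o0 = 1 := by
    ext u w
    by_cases h : u = w
    · subst h; rw [hAapp, if_pos ((cls_eq_diag u0 u u).2 rfl), Matrix.one_apply_eq]
    · rw [hAapp, if_neg fun h' => h ((cls_eq_diag u0 u w).1 h').symm, Matrix.one_apply_ne h]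
  have hlo0 : lm o0 = 1 := by rw [hlm]; simp only [hA0, hlam1]
  have hc0 : ∀ C, C ≠ o0 → c C 0 = 0 := by
    intro C hC
    simp only [hc, diagB, blk, hAapp]
    rw [(cls_eq_diag u0 _ _).2 rfl, (cls_eq_diag u0 _ _).2 rfl, if_neg (Ne.symm hC), add_zero]
  have hJ : Inv G (Matrix.of fun _ _ => (1 : ℚ) : Matrix Ω Ω ℚ) := fun g u w => rfl
  have hlJ : lam e (Matrix.of fun _ _ => (1 : ℚ) : Matrix Ω Ω ℚ) = 0 := by
    simp [lam, alpha, beta, blk]
  have hlsum : ∑ C, lm C = 0 := by
    rw [← hlJ, hlamexp _ hJ]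
    exact Finset.sum_congr rfl fun C _ => by simp [hlm]
  have hη : ∀ C, E u0 C.out = lm C / (2 * k C) := by
    intro C
    have h := congrFun (congrFun (hEM (A C) (hA C)).1 u0) u0
    rw [Matrix.mul_apply, Matrix.smul_apply, smul_eq_mul, hd] at h
    have h2 : ∀ w, A C u0 w * E w u0 = A C u0 w * E u0 C.out := by
      intro w
      by_cases hw : cls (G := G) u0 u0 w = C
      · rw [show E w u0 = E u0 w from congrFun (congrFun hEsymm u0) w, transfer u0 hE u0 w, hw]
      · rw [hAapp, if_neg hw, zero_mul, zero_mul]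
    rw [Finset.sum_congr rfl fun w _ => h2 w, ← Finset.sum_mul, hrowA] at h
    rw [eq_div_iff (mul_ne_zero two_ne_zero (Nat.cast_ne_zero.2 (hkpos C).ne'))]
    simp only [hlm]
    linarith
  -- orthogonality
  have horth : ∀ C C', C ≠ o0 → C' ≠ o0 → (∑ j, c C j * c C' j) + 2 * lm C * lm C' = if C = C' then 2 * (k C : ℚ) else 0 := by
    intro C C' hC hC'
    have h := hKey (hA C) (inv_transpose (hA C')) 0
    rw [if_pos rfl, (lam_transpose e hx htr (hA C')).1] at h
    simp only [zero_sub, diagB_transpose e hx (hA C'), neg_neg] at h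
    have hC0 : diagB e (A C) 0 = 0 := hc0 C hC
    rw [hC0] at h
    have hprod : diagB e (A C * (A C')ᵀ) 0 = if C = C' then 2 * (k C : ℚ) else 0 := by
      have hu : ∀ u : Ω, (A C * (A C')ᵀ) u u = if C = C' then (k C : ℚ) else 0 := by
        intro u
        obtain ⟨g, rfl⟩ := htr u0 u
        rw [inv_mul (hA C) (inv_transpose (hA C')) g u0 u0, Matrix.mul_apply]
        by_cases hCC : C = C'
        · subst hCC
          rw [if_pos rfl, ← hrowA]
          refine Finset.sum_congr rfl fun w _ => ?_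
          rw [Matrix.transpose_apply, hAapp]; split_ifs <;> norm_num
        · rw [if_neg hCC]
          refine Finset.sum_eq_zero fun w _ => ?_
          rw [Matrix.transpose_apply, hAapp, hAapp]
          split_ifs with h1 h2
          · exact absurd (h1.symm.trans h2) hCC
          all_goals norm_num
      show (A C * (A C')ᵀ) _ _ + (A C * (A C')ᵀ) _ _ = _
      rw [hu, hu]
      split_ifs <;> ring
    rw [hprod] at h
    have hC'0 : diagB e (A C') 0 = 0 := hc0 C' hC'
    rw [show (-(0 : ZMod p)) = 0 from neg_zero, hC'0] at h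
    simp only [hc, hlm] at *
    linarith
  -- signs
  have hlsum' : ∑ C ∈ Finset.univ.erase o0, lm C = -1 := by
    rw [Finset.sum_erase_eq_sub (Finset.mem_univ _), hlsum, hlo0]; norm_num
  have hsign : ∀ C C', C ≠ o0 → C' ≠ o0 → C ≠ C' → lm C * lm C' ≤ 0 := fun C C' hC hC' hCC => by
    have h := horth C C' hC hC'
    rw [if_neg hCC] at h
    have : 0 ≤ ∑ j, c C j * c C' j := Finset.sum_nonneg fun j _ => mul_nonneg (hcnn C j) (hcnn C' j)
    linarith
  obtain ⟨N, hN0, hNneg⟩ : ∃ N, N ≠ o0 ∧ lm N < 0 := by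
    by_contra h
    push Not at h
    have : 0 ≤ ∑ C ∈ Finset.univ.erase o0, lm C := Finset.sum_nonneg fun C hC => h C (Finset.mem_erase.1 hC).1
    linarith
  have hNuniq : ∀ C, C ≠ o0 → lm C < 0 → C = N := fun C hC hl => by
    by_contra hne
    nlinarith [hsign C N hC hN0 hne]
  -- pairs on each offset
  have hpair : ∀ j : ZMod p, j ≠ 0 → ∀ C0 C1, cls (G := G) u0 (e (0, 0)) (e (0, j)) = C0 →
      cls (G := G) u0 (e (1, 0)) (e (1, j)) = C1 → lm C0 / (2 * k C0) + lm C1 / (2 * k C1) = 0 := by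
    intro j hj C0 C1 h0 h1
    have h := hsz j hj
    simp only [diagB, blk] at h
    rw [transfer u0 hE, h0, transfer u0 hE (e (1, 0)), h1, hη, hη] at h
    exact h
  have hne0 : ∀ (i : Fin 2) (j : ZMod p), j ≠ 0 → cls (G := G) u0 (e (i, 0)) (e (i, j)) ≠ o0 := fun i j hj h =>
    hj (congrArg Prod.snd (e.injective ((cls_eq_diag u0 _ _).1 h)))
  obtain ⟨P, hP0, hPpos⟩ : ∃ P, P ≠ o0 ∧ 0 < lm P := by
    by_contra h
    push Not at h
    have hz : ∀ C, C ≠ o0 → C ≠ N → lm C = 0 := fun C hC hCN => by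
      rcases lt_trichotomy (lm C) 0 with hl | hl | hl
      · exact absurd (hNuniq C hC hl) hCN
      · exact hl
      · exact absurd hl (not_lt.2 (h C hC))
    have hlN : lm N = -1 := by
      rw [← hlsum', Finset.sum_eq_single_of_mem N (Finset.mem_erase.2 ⟨hN0, Finset.mem_univ _⟩)]
      exact fun C hC hCN => hz C (Finset.mem_erase.1 hC).1 hCN
    have hcN : ∀ j, c N j = 0 := by
      intro j
      by_cases hj : j = 0
      · rw [hj, hc0 N hN0]
      · have key : ∀ C, C ≠ o0 → lm C / (2 * k C) ≤ 0 := fun C hC =>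
          div_nonpos_of_nonpos_of_nonneg (h C hC) (by positivity)
        have hs := hpair j hj _ _ rfl rfl
        have h0 := key _ (hne0 0 j hj)
        have h1 := key _ (hne0 1 j hj)
        have hN' : lm N / (2 * k N) ≠ 0 := div_ne_zero hNneg.ne (mul_ne_zero two_ne_zero (Nat.cast_ne_zero.2 (hkpos N).ne'))
        simp only [hc, diagB, blk, hAapp]
        rw [if_neg fun h' => hN' (by rw [← h']; linarith), if_neg fun h' => hN' (by rw [← h']; linarith), add_zero]
    have hkN : k N = 1 := by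
      have h1 : alpha e (A N) = 0 := by
        refine Finset.sum_eq_zero fun j _ => ?_
        have := hcN j
        simp only [hc, diagB] at this
        have hnn : ∀ i, 0 ≤ blk e (A N) i i j := fun i => by simp only [blk, hAapp]; split_ifs <;> norm_num
        linarith [hnn 0, hnn 1]
      have h2 := hk N
      have h3 : alpha e (A N) - beta e (A N) = -1 := hlN
      have : (k N : ℚ) = 1 := by linarith
      exact_mod_cast this
    -- a block of size two
    set w := N.out with hw
    have hwN : cls (G := G) u0 u0 w = N := by rw [cls_base, Quotient.out_eq']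
    have hwne : w ≠ u0 := fun h => hN0 (by rw [← hwN, h]; exact (cls_eq_diag u0 u0 u0).2 rfl)
    have huniq : ∀ u z z', cls (G := G) u0 u z = N → cls (G := G) u0 u z' = N → z = z' := by
      intro u z z' hz hz'
      obtain ⟨g, hg⟩ := htr u u0
      have hsub : Subsingleton {w : Ω // cls (G := G) u0 u0 w = N} := (Nat.card_eq_one_iff_unique.1 hkN).1
      have hh : ∀ z, cls (G := G) u0 u z = N → cls (G := G) u0 u0 (g • z) = N := fun z hz => by
        have h := cls_smul (G := G) u0 g u z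
        rw [hg] at h
        exact h.trans hz
      have e1 := hsub.elim ⟨g • z, hh z hz⟩ ⟨g • z', hh z' hz'⟩
      exact MulAction.injective g (congrArg Subtype.val e1)
    have hsym : ∀ u z, cls (G := G) u0 u z = N → cls (G := G) u0 z u = N := by
      intro u z hz
      have hne : cls (G := G) u0 z u ≠ o0 := fun h' => hN0 (by rw [← hz, (cls_eq_diag u0 z u).1 h']; exact (cls_eq_diag u0 z z).2 rfl)
      refine hNuniq _ hne ?_
      set C := cls (G := G) u0 z u
      have hAT : A C = (A N)ᵀ := by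
        ext a b
        have key : ∀ a b, cls (G := G) u0 a b = C ↔ cls (G := G) u0 b a = N := by
          intro a b
          constructor
          · intro hab
            obtain ⟨g, hg⟩ := htr a u0
            obtain ⟨g', hg'⟩ := htr z u0
            rw [cls_eq u0 hg, show C = Quotient.mk'' (g' • u) from cls_eq u0 hg'] at hab
            obtain ⟨⟨q, hq⟩, hq'⟩ := Quotient.exact' hab
            have hq'' : q • g' • u = g • b := hq'
            have ha : (g⁻¹ * q * g') • z = a := by rw [mul_smul, mul_smul, hg', mem_stabilizer_iff.1 hq, ← hg, inv_smul_smul]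
            have hb : (g⁻¹ * q * g') • u = b := by rw [mul_smul, mul_smul, hq'', inv_smul_smul]
            rw [← ha, ← hb, cls_smul, hz]
          · intro hab
            obtain ⟨g, hg⟩ := htr b u0
            obtain ⟨g', hg'⟩ := htr u u0
            rw [cls_eq u0 hg, ← hz, cls_eq u0 hg'] at hab
            obtain ⟨⟨q, hq⟩, hq'⟩ := Quotient.exact' hab
            have hq'' : q • g' • z = g • a := hq'
            have ha : (g⁻¹ * q * g') • z = a := by rw [mul_smul, mul_smul, hq'', inv_smul_smul]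
            have hb : (g⁻¹ * q * g') • u = b := by rw [mul_smul, mul_smul, hg', mem_stabilizer_iff.1 hq, ← hg, inv_smul_smul]
            rw [← ha, ← hb, cls_smul]
        rw [Matrix.transpose_apply, hAapp, hAapp]
        simp only [key]
      show lam e (A C) < 0
      rw [hAT, (lam_transpose e hx htr (hA N)).1]
      exact hNneg
    let B : Set Ω := {u0, w}
    have hB : IsBlock G B := by
      rw [MulAction.isBlock_iff_smul_eq_or_disjoint]
      intro g
      by_cases hd : Disjoint (g • B) B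
      · exact Or.inr hd
      left
      have hgw : cls (G := G) u0 (g • u0) (g • w) = N := by rw [cls_smul, hwN]
      have hwu : cls (G := G) u0 w u0 = N := hsym _ _ hwN
      have hgB : g • B = {g • u0, g • w} := by simp [B, Set.smul_set_insert]
      rw [Set.not_disjoint_iff] at hd
      obtain ⟨z, hz1, hz2⟩ := hd
      rw [hgB] at hz1 ⊢
      simp only [B, Set.mem_insert_iff, Set.mem_singleton_iff] at hz1 hz2
      rcases hz1 with h1 | h1 <;> rcases hz2 with h2 | h2
      · have e1 : g • u0 = u0 := h1.symm.trans h2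
        have e2 : g • w = w := huniq u0 _ _ (by rw [e1] at hgw; exact hgw) hwN
        rw [e1, e2]
      · have e1 : g • u0 = w := h1.symm.trans h2
        have e2 : g • w = u0 := huniq w _ _ (by rw [e1] at hgw; exact hgw) hwu
        rw [e1, e2, Set.pair_comm]
      · have e2 : g • w = u0 := h1.symm.trans h2
        have e1 : g • u0 = w := huniq u0 _ _ (by have h := hsym _ _ hgw; rw [e2] at h; exact h) hwN
        rw [e1, e2, Set.pair_comm]
      · have e2 : g • w = w := h1.symm.trans h2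
        have e1 : g • u0 = u0 := huniq w _ _ (by have h := hsym _ _ hgw; rw [e2] at h; exact h) hwu
        rw [e1, e2]
    rcases IsPreprimitive.isTrivialBlock_of_isBlock hB with hs | hs
    · exact hwne (hs (Set.mem_insert_of_mem _ rfl) (Set.mem_insert _ _))
    · have h2 : Nat.card Ω ≤ 2 := by
        rw [← Set.ncard_univ, ← hs]
        exact (Set.ncard_insert_le _ _).trans (by rw [Set.ncard_singleton])
      rw [← Nat.card_congr e, Nat.card_prod, Nat.card_eq_fintype_card, Nat.card_eq_fintype_card, Fintype.card_fin, ZMod.card] at h2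
      have := hp.two_le
      omega
  have hPN : P ≠ N := fun h => by rw [h] at hPpos; linarith
  have hPuniq : ∀ C, C ≠ o0 → 0 < lm C → C = P := fun C hC hl => by
    by_contra hne
    nlinarith [hsign C P hC hP0 hne]
  have hzero : ∀ C, C ≠ o0 → C ≠ P → C ≠ N → lm C = 0 := fun C hC hCP hCN => by
    rcases lt_trichotomy (lm C) 0 with hl | hl | hl
    · exact absurd (hNuniq C hC hl) hCN
    · exact hl
    · exact absurd (hPuniq C hC hl) hCP
  obtain ⟨za, hza⟩ := hlz P
  obtain ⟨a, rfl⟩ : ∃ a : ℕ, za = a := ⟨za.toNat, by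
    have : (0 : ℚ) < za := hza ▸ hPpos
    have : (0 : ℤ) < za := by exact_mod_cast this
    omega⟩
  have hlP : lm P = a := by rw [hlm]; simp only [hza]; norm_num
  have ha0 : 0 < a := by
    have : (0 : ℚ) < a := hlP ▸ hPpos
    exact_mod_cast this
  have hlN : lm N = -((a : ℚ) + 1) := by
    have h := hlsum'
    rw [← Finset.add_sum_erase _ _ (Finset.mem_erase.2 ⟨hP0, Finset.mem_univ _⟩),
      Finset.sum_eq_single_of_mem N (Finset.mem_erase.2 ⟨hPN.symm, Finset.mem_erase.2 ⟨hN0, Finset.mem_univ _⟩⟩)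
        fun C hC hCN => hzero C (Finset.mem_erase.1 (Finset.mem_erase.1 hC).2).1 (Finset.mem_erase.1 hC).1 hCN,
      hlP] at h
    linarith
  -- structure of the offsets
  have hstruct : ∀ j : ZMod p, j ≠ 0 →
      ((c P j = 1 ∧ c N j = 1 ∧ ∀ C, C ≠ P → C ≠ N → c C j = 0) ∨
        ∃ Z, Z ≠ o0 ∧ Z ≠ P ∧ Z ≠ N ∧ c Z j = 2 ∧ ∀ C, C ≠ Z → c C j = 0) := by
    intro j hj
    obtain ⟨C0, hC0⟩ : ∃ C, cls (G := G) u0 (e (0, 0)) (e (0, j)) = C := ⟨_, rfl⟩
    obtain ⟨C1, hC1⟩ : ∃ C, cls (G := G) u0 (e (1, 0)) (e (1, j)) = C := ⟨_, rfl⟩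
    have h0 : C0 ≠ o0 := hC0 ▸ hne0 0 j hj
    have h1 : C1 ≠ o0 := hC1 ▸ hne0 1 j hj
    have hcval : ∀ C, c C j = (if C0 = C then 1 else 0) + if C1 = C then 1 else 0 := fun C => by
      simp only [hc, diagB, blk, hAapp, hC0, hC1]
    have hs := hpair j hj C0 C1 hC0 hC1
    have hsgn : ∀ C, C ≠ o0 → (C = P ∧ 0 < lm C / (2 * k C)) ∨ (C = N ∧ lm C / (2 * k C) < 0) ∨
        (C ≠ P ∧ C ≠ N ∧ lm C / (2 * k C) = 0) := by
      intro C hC
      have hk2 : (0 : ℚ) < 2 * k C := mul_pos two_pos (Nat.cast_pos.2 (hkpos C))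
      by_cases hCP : C = P
      · exact Or.inl ⟨hCP, div_pos (hCP ▸ hPpos) hk2⟩
      by_cases hCN : C = N
      · exact Or.inr (Or.inl ⟨hCN, div_neg_of_neg_of_pos (hCN ▸ hNneg) hk2⟩)
      · exact Or.inr (Or.inr ⟨hCP, hCN, by rw [hzero C hC hCP hCN, zero_div]⟩)
    rcases hsgn C0 h0 with ⟨e0, s0⟩ | ⟨e0, s0⟩ | ⟨e0P, e0N, s0⟩ <;>
      rcases hsgn C1 h1 with ⟨e1, s1⟩ | ⟨e1, s1⟩ | ⟨e1P, e1N, s1⟩
    all_goals first
      | linarith
      | (left
         exact ⟨by rw [hcval, e0, e1]; simp [hPN, hPN.symm], by rw [hcval, e0, e1]; simp [hPN, hPN.symm],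
           fun C hCP hCN => by rw [hcval, e0, e1]; simp [Ne.symm hCP, Ne.symm hCN]⟩)
      | (right
         have e01 : C0 = C1 := by
           by_contra hne
           have h := horth C0 C1 h0 h1
           rw [if_neg hne, hzero C0 h0 e0P e0N, mul_zero, zero_mul, add_zero,
             Finset.sum_eq_zero_iff_of_nonneg fun j _ => mul_nonneg (hcnn C0 j) (hcnn C1 j)] at h
           have h' := h j (Finset.mem_univ _)
           rw [hcval, hcval, if_pos rfl, if_pos rfl, if_neg (Ne.symm hne), if_neg hne] at h'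
           norm_num at h'
         refine ⟨C0, h0, e0P, e0N, by rw [hcval, if_pos rfl, if_pos e01.symm]; norm_num, fun C hC => ?_⟩
         rw [hcval, if_neg (Ne.symm hC), if_neg (by rw [← e01]; exact Ne.symm hC), add_zero])
  set R : Finset (ZMod p) := Finset.univ.filter fun j => c P j = 1 with hR
  have hcP : ∀ j, c P j = if j ∈ R then 1 else 0 := by
    intro j
    by_cases hj : c P j = 1
    · rw [if_pos (show j ∈ R from Finset.mem_filter.2 ⟨Finset.mem_univ _, hj⟩), hj]
    · rw [if_neg fun h : j ∈ R => hj (Finset.mem_filter.1 h).2]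
      by_cases h0 : j = 0
      · rw [h0, hc0 P hP0]
      · rcases hstruct j h0 with ⟨h1, -, -⟩ | ⟨Z, -, hZP, -, -, hZ⟩
        · exact absurd h1 hj
        · exact hZ P hZP.symm
  have hcN : ∀ j, c N j = c P j := by
    intro j
    by_cases h0 : j = 0
    · rw [h0, hc0 N hN0, hc0 P hP0]
    · rcases hstruct j h0 with ⟨h1, h2, -⟩ | ⟨Z, -, hZP, hZN, -, hZ⟩
      · rw [h1, h2]
      · rw [hZ N hZN.symm, hZ P hZP.symm]
  have hRcard : (R.card : ℚ) = 2 * a * (a + 1) := by
    have h := horth P N hP0 hN0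
    rw [if_neg hPN, hlP, hlN] at h
    have : ∑ j, c P j * c N j = (R.card : ℚ) := by
      simp only [hcN, hcP]
      rw [Finset.sum_congr rfl (g := fun j => if j ∈ R then (1 : ℚ) else 0) fun j _ => by split_ifs <;> norm_num,
        Finset.sum_boole, Finset.filter_mem_eq_inter, Finset.univ_inter]
    rw [this] at h
    linarith
  have hRnat : R.card = 2 * a * (a + 1) := by exact_mod_cast hRcard
  have hkPN : k P = a * (2 * a + 1) ∧ k N = (a + 1) * (2 * a + 1) := by
    have hsq : ∑ j, c P j * c P j = (R.card : ℚ) := by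
      simp only [hcP]
      rw [Finset.sum_congr rfl (g := fun j => if j ∈ R then (1 : ℚ) else 0) fun j _ => by split_ifs <;> norm_num,
        Finset.sum_boole, Finset.filter_mem_eq_inter, Finset.univ_inter]
    have hP' := horth P P hP0 hP0
    have hN' := horth N N hN0 hN0
    rw [if_pos rfl] at hP' hN'
    rw [show ∑ j, c N j * c N j = ∑ j, c P j * c P j by simp only [hcN]] at hN'
    rw [hsq, hlP, hRcard] at hP'
    rw [hsq, hlN, hRcard] at hN'
    constructor
    · have : (k P : ℚ) = ((a * (2 * a + 1) : ℕ) : ℚ) := by push_cast; linarith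
      exact_mod_cast this
    · have : (k N : ℚ) = (((a + 1) * (2 * a + 1) : ℕ) : ℚ) := by push_cast; linarith
      exact_mod_cast this
  by_cases h3 : ∀ C : O, C = o0 ∨ C = P ∨ C = N
  · -- three classes
    have hRall : R = Finset.univ.erase 0 := by
      ext j
      rw [Finset.mem_erase]
      constructor
      · intro hj
        refine ⟨fun h0 => ?_, Finset.mem_univ _⟩
        have := (Finset.mem_filter.1 hj).2
        rw [h0, hc0 P hP0] at this
        exact zero_ne_one this
      · rintro ⟨hj, -⟩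
        rcases hstruct j hj with ⟨h1, -, -⟩ | ⟨Z, hZ0, hZP, hZN, -, -⟩
        · exact Finset.mem_filter.2 ⟨Finset.mem_univ _, h1⟩
        · rcases h3 Z with h | h | h
          exacts [absurd h hZ0, absurd h hZP, absurd h hZN]
    refine ⟨?_, a, ha0, ?_, fun b hb => ?_⟩
    · rw [Nat.card_eq_fintype_card, ← Finset.card_univ,
        show (Finset.univ : Finset O) = {o0, P, N} from (Finset.eq_univ_iff_forall.2 fun C => by
          rcases h3 C with h | h | h <;> simp [h]).symm]
      exact Finset.card_eq_three.2 ⟨o0, P, N, hP0.symm, hN0.symm, hPN, rfl⟩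
    · rw [hRall, Finset.card_erase_of_mem (Finset.mem_univ _), Finset.card_univ, ZMod.card] at hRnat
      have := hp.two_le
      rw [sq]; nlinarith [Nat.sub_add_cancel hp.one_le]
    · have horb : Nat.card (MulAction.orbit (stabilizer G u0) b) = k (Quotient.mk'' b) := by
        refine Nat.card_congr (Equiv.subtypeEquivRight fun w => ?_)
        rw [cls_base]
        exact ⟨fun h => Quotient.sound' h, fun h => Quotient.exact' h⟩
      rw [horb]
      rcases h3 (Quotient.mk'' b) with h | h | h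
      · exact absurd ((cls_eq_diag (G := G) u0 u0 b).1 (by rw [cls_base]; exact h)) hb
      · exact Or.inl (by rw [h]; exact hkPN.1)
      · exact Or.inr (by rw [h]; exact hkPN.2)
  exfalso
  push Not at h3
  obtain ⟨Z₁, hZ₁0, hZ₁P, hZ₁N⟩ := h3
  have hcZ : ∀ Z, Z ≠ o0 → Z ≠ P → Z ≠ N → ∀ j, c Z j = 0 ∨ c Z j = 2 := by
    intro Z hZ0 hZP hZN j
    by_cases h0 : j = 0
    · exact Or.inl (by rw [h0, hc0 Z hZ0])
    · rcases hstruct j h0 with ⟨-, -, h⟩ | ⟨Z', -, -, -, h2, h⟩
      · exact Or.inl (h Z hZP hZN)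
      · by_cases hZZ : Z = Z'
        · exact Or.inr (hZZ ▸ h2)
        · exact Or.inl (h Z hZZ)
  let S : O → Finset (ZMod p) := fun Z => Finset.univ.filter fun j => c Z j = 2
  have hcS : ∀ Z, Z ≠ o0 → Z ≠ P → Z ≠ N → ∀ j, c Z j = if j ∈ S Z then 2 else 0 := by
    intro Z hZ0 hZP hZN j
    rcases hcZ Z hZ0 hZP hZN j with h | h
    · rw [h, if_neg fun hm => by have := (Finset.mem_filter.1 hm).2; rw [h] at this; norm_num at this]
    · rw [h, if_pos (show j ∈ S Z from Finset.mem_filter.2 ⟨Finset.mem_univ _, h⟩)]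
  have hkZ : ∀ Z, Z ≠ o0 → Z ≠ P → Z ≠ N → (k Z : ℚ) = 2 * (S Z).card := by
    intro Z hZ0 hZP hZN
    have h := horth Z Z hZ0 hZ0
    rw [if_pos rfl, hzero Z hZ0 hZP hZN] at h
    have : ∑ j, c Z j * c Z j = 4 * ((S Z).card : ℚ) := by
      rw [Finset.sum_congr rfl fun j _ => by rw [hcS Z hZ0 hZP hZN j],
        Finset.sum_congr rfl (g := fun j => 4 * if j ∈ S Z then (1 : ℚ) else 0) fun j _ => by split_ifs <;> norm_num,
        ← Finset.mul_sum, Finset.sum_boole, Finset.filter_mem_eq_inter, Finset.univ_inter]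
    rw [this] at h
    linarith
  -- the multiplier group
  let D : Subgroup (ZMod p)ˣ :=
    { carrier := {m | ∀ C j, c C ((m : ZMod p) * j) = c C j}
      one_mem' := fun C j => by rw [Units.val_one, one_mul]
      mul_mem' := fun {m n} hm hn C j => by rw [Units.val_mul, mul_assoc, hm, hn]
      inv_mem' := fun {m} hm C j => by
        have := hm C ((m⁻¹ : (ZMod p)ˣ) * j)
        rwa [← mul_assoc, Units.mul_inv, one_mul, eq_comm] at this }
  haveI : Fintype ((ZMod p)ˣ ⧸ D) := Fintype.ofFinite _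
  -- at most as many cosets as nonzero eigenvalue systems
  have hcount : Fintype.card ((ZMod p)ˣ ⧸ D) + 2 ≤ Fintype.card O := by
    let 𝒜 : Submonoid (Matrix Ω Ω ℚ) :=
      { carrier := {M | Inv G M}
        one_mem' := inv_one
        mul_mem' := fun hM hN => inv_mul hM hN }
    let μ : (ZMod p)ˣ → Matrix Ω Ω ℚ → ℂ := fun m M =>
      ∑ j, (diagB e M j : ℂ) * ψ0 ((m : ZMod p) * j) - lam e M
    have hψm : ∀ m : (ZMod p)ˣ, ψ0.mulShift (m : ZMod p) ≠ 1 := by
      intro m h
      refine hψ0 (DFunLike.ext _ _ fun j => ?_)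
      have := DFunLike.congr_fun h ((m⁻¹ : (ZMod p)ˣ) * j)
      rwa [AddChar.mulShift_apply, ← mul_assoc, Units.mul_inv, one_mul, AddChar.one_apply] at this
    have hμhom : ∀ (m : (ZMod p)ˣ) M N, Inv G M → Inv G N → μ m (M * N) = μ m M * μ m N := by
      intro m M N hM hN
      have h := fun j => hKey hM hN j
      simp only [μ, lam_mul e hx htr hN, Rat.cast_mul]
      have hsum : ∑ j, (diagB e (M * N) j : ℂ) * ψ0 ((m : ZMod p) * j) =
          (∑ j, (diagB e M j : ℂ) * ψ0 ((m : ZMod p) * j)) * (∑ j, (diagB e N j : ℂ) * ψ0 ((m : ZMod p) * j)) -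
          lam e M * (∑ j, (diagB e N j : ℂ) * ψ0 ((m : ZMod p) * j)) -
          lam e N * (∑ j, (diagB e M j : ℂ) * ψ0 ((m : ZMod p) * j)) + 2 * lam e M * lam e N := by
        have hconv : ∑ j, (∑ l, (diagB e M l : ℂ) * diagB e N (j - l)) * ψ0 ((m : ZMod p) * j) =
            (∑ j, (diagB e M j : ℂ) * ψ0 ((m : ZMod p) * j)) * ∑ j, (diagB e N j : ℂ) * ψ0 ((m : ZMod p) * j) := by
          simp only [Finset.sum_mul]
          rw [Finset.sum_comm]
          refine Finset.sum_congr rfl fun l _ => ?_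
          rw [Finset.mul_sum]
          refine (Fintype.sum_equiv (Equiv.addLeft l) _ _ fun j => ?_).symm
          simp only [Equiv.coe_addLeft, add_sub_cancel_left, mul_add, AddChar.map_add_eq_mul]
          ring
        have hite : ∀ j : ZMod p, ((if j = 0 then 2 * lam e M * lam e N else 0 : ℚ) : ℂ) * ψ0 ((m : ZMod p) * j) =
            if j = 0 then 2 * (lam e M : ℂ) * lam e N else 0 := by
          intro j
          by_cases hj : j = 0
          · subst hj; simp
          · simp [hj]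
        simp only [h, Rat.cast_add, Rat.cast_sub, sub_mul, add_mul, hite]
        simp only [Rat.cast_sum, Rat.cast_mul, Finset.sum_sub_distrib, Finset.sum_add_distrib, hconv, mul_assoc,
          ← Finset.mul_sum, Finset.sum_ite_eq', Finset.mem_univ, if_true]
      rw [hsum]; ring
    have hμone : ∀ m : (ZMod p)ˣ, μ m 1 = 1 := by
      intro m
      simp only [μ, hlam1, Rat.cast_one]
      rw [Finset.sum_eq_single 0 (fun j _ hj => ?_) (fun h => absurd (Finset.mem_univ _) h)]
      · simp only [diagB, blk, Matrix.one_apply_eq, mul_zero, AddChar.map_zero_eq_one]; norm_num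
      · simp only [diagB, blk]
        rw [Matrix.one_apply_ne fun h => hj (congrArg Prod.snd (e.injective h)).symm,
          Matrix.one_apply_ne fun h => hj (congrArg Prod.snd (e.injective h)).symm]
        simp
    have hμexp : ∀ m M, Inv G M → μ m M = ∑ C : O, (M u0 C.out : ℂ) * μ m (A C) := by
      intro m M hM
      simp only [μ, hlamexp M hM, hdiagexp M hM, Rat.cast_sum, Rat.cast_mul, Finset.sum_mul, mul_sub,
        Finset.sum_sub_distrib, Finset.mul_sum]
      rw [Finset.sum_comm]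
      congr 1
      exact Finset.sum_congr rfl fun C _ => Finset.sum_congr rfl fun j _ => by ring
    let hq : ((ZMod p)ˣ ⧸ D) → (𝒜 →* ℂ) := fun q =>
      { toFun := fun M => μ q.out M.1
        map_one' := hμone _
        map_mul' := fun M N => hμhom _ _ _ M.2 N.2 }
    have hqinj : Function.Injective hq := by
      intro q q' heq
      rw [← Quotient.out_eq q, ← Quotient.out_eq q']
      refine QuotientGroup.eq.2 fun C j => ?_
      have h1 : μ q.out (A C) = μ q'.out (A C) := DFunLike.congr_fun heq (⟨A C, hA C⟩ : 𝒜)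
      simp only [μ, sub_left_inj] at h1
      have hre : ∀ m : (ZMod p)ˣ, ∑ j, (c C j : ℂ) * ψ0 ((m : ZMod p) * j) =
          ∑ i, (c C (((m⁻¹ : (ZMod p)ˣ) : ZMod p) * i) : ℂ) * ψ0 i := fun m =>
        Fintype.sum_equiv (Units.mulLeft m) _ _ fun j => by
          simp only [Units.mulLeft_apply, ← mul_assoc, Units.inv_mul, one_mul]
      have hz := rigid_zero ψ0 hψ0
        (fun i => c C (((q.out⁻¹ : (ZMod p)ˣ) : ZMod p) * i) - c C (((q'.out⁻¹ : (ZMod p)ˣ) : ZMod p) * i))
        (by simp only [Rat.cast_sub, sub_mul, Finset.sum_sub_distrib, ← hre]; exact sub_eq_zero.2 h1)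
        (by
          have e1 : ∀ m : (ZMod p)ˣ, ∑ i, c C ((m : ZMod p) * i) = ∑ i, c C i := fun m =>
            Fintype.sum_equiv (Units.mulLeft m) _ _ fun i => rfl
          simp only [Finset.sum_sub_distrib, e1, sub_self])
      have := hz ((q'.out : ZMod p) * j)
      simp only [← mul_assoc, Units.inv_mul, one_mul, sub_eq_zero] at this
      rw [Units.val_mul]
      exact this
    have hli : LinearIndependent ℂ fun q => fun C : O => μ (Quotient.out (q : (ZMod p)ˣ ⧸ D)) (A C) := by
      rw [Fintype.linearIndependent_iff]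
      intro g hg
      have h := ((linearIndependent_monoidHom 𝒜 ℂ).comp hq hqinj)
      rw [Fintype.linearIndependent_iff] at h
      refine h g (funext fun M => ?_)
      simp only [Finset.sum_apply, Pi.smul_apply, Function.comp_apply, smul_eq_mul, Pi.zero_apply]
      show ∑ q, g q * μ q.out M.1 = 0
      simp only [hμexp _ _ M.2, Finset.mul_sum]
      rw [Finset.sum_comm]
      refine Finset.sum_eq_zero fun C _ => ?_
      have hC := congrFun hg C
      simp only [Finset.sum_apply, Pi.smul_apply, smul_eq_mul, Pi.zero_apply] at hC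
      rw [Finset.sum_congr rfl fun q _ => mul_left_comm (g q) _ _, ← Finset.mul_sum, hC, mul_zero]
    let Lk : (O → ℂ) →ₗ[ℂ] ℂ × ℂ :=
      { toFun := fun v => (∑ C, v C, ∑ C : O, (E u0 C.out : ℂ) * v C)
        map_add' := fun v v' => by simp [Finset.sum_add_distrib, mul_add]
        map_smul' := fun r v => by simp [Finset.mul_sum, mul_left_comm] }
    have hker : ∀ q : (ZMod p)ˣ ⧸ D, (fun C : O => μ q.out (A C)) ∈ LinearMap.ker Lk := by
      intro q
      rw [LinearMap.mem_ker]
      refine Prod.ext ?_ ?_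
      · show ∑ C : O, μ q.out (A C) = 0
        have h := hμexp q.out _ hJ
        simp only [Matrix.of_apply, Rat.cast_one, one_mul] at h
        rw [← h]
        simp only [μ, hlJ, Rat.cast_zero, sub_zero, diagB, blk, Matrix.of_apply, ← Finset.mul_sum]
        have hs : ∑ j, ψ0 ((q.out : ZMod p) * j) = 0 := by
          simpa only [AddChar.mulShift_apply] using AddChar.sum_eq_zero_of_ne_one (hψm q.out)
        rw [hs, mul_zero]
      · show ∑ C : O, (E u0 C.out : ℂ) * μ q.out (A C) = 0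
        rw [← hμexp q.out E hE]
        simp only [μ, hEl, Rat.cast_one]
        have h := hTall _ (hψm q.out)
        rw [trace_hat] at h
        simp only [AddChar.mulShift_apply] at h
        rw [h, sub_self]
    have hLs : LinearMap.range Lk = ⊤ := by
      rw [LinearMap.range_eq_top]
      rintro ⟨r, t⟩
      refine ⟨fun C => if C = o0 then 2 * t else if C = Z₁ then r - 2 * t else 0, ?_⟩
      have hd0 : E u0 o0.out = 1 / 2 := by rw [← hd, transfer u0 hE u0 u0, cls_base]
      have hdZ : E u0 Z₁.out = 0 := by rw [hη, hzero Z₁ hZ₁0 hZ₁P hZ₁N, zero_div]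
      have hsplit : ∀ f : O → ℂ, (∀ C, C ≠ o0 → C ≠ Z₁ → f C = 0) → ∑ C, f C = f o0 + f Z₁ := fun f hf =>
        Finset.sum_eq_add o0 Z₁ hZ₁0.symm (fun C _ h => hf C h.1 h.2) (by simp) (by simp)
      refine Prod.ext ?_ ?_
      · show ∑ C : O, _ = r
        rw [hsplit _ fun C h1 h2 => by simp [h1, h2]]
        simp [hZ₁0]
      · show ∑ C : O, (E u0 C.out : ℂ) * _ = t
        rw [hsplit _ fun C h1 h2 => by simp [h1, h2], hd0, hdZ]
        simp [hZ₁0]
    have hli' : LinearIndependent ℂ fun q => (⟨_, hker q⟩ : LinearMap.ker Lk) :=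
      LinearIndependent.of_comp (LinearMap.ker Lk).subtype hli
    have h1 := hli'.fintype_card_le_finrank
    have h2 := LinearMap.finrank_range_add_finrank_ker Lk
    rw [hLs, finrank_top, Module.finrank_prod, Module.finrank_self, Module.finrank_fintype_fun_eq_card] at h2
    omega
  -- each class carries one coset
  let Φ : ((ZMod p)ˣ ⧸ D) → O := fun q =>
    if (q.out : ZMod p) ∈ R then P else cls (G := G) u0 (e (0, 0)) (e (0, (q.out : ZMod p)))
  have hΦR : ∀ m : (ZMod p)ˣ, ((m : ZMod p) ∈ R → Φ (QuotientGroup.mk m) = P) ∧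
      (∀ Z, Z ≠ o0 → Z ≠ P → Z ≠ N → (m : ZMod p) ∈ S Z → Φ (QuotientGroup.mk m) = Z) := by
    intro m
    set q : (ZMod p)ˣ ⧸ D := QuotientGroup.mk m
    have hd' : q.out⁻¹ * m ∈ D := QuotientGroup.eq.1 (Quotient.out_eq q)
    have hinv : ∀ C, c C (m : ZMod p) = c C (q.out : ZMod p) := fun C => by
      have := hd' C (q.out : ZMod p)
      rwa [Units.val_mul, mul_comm ((q.out⁻¹ : (ZMod p)ˣ) : ZMod p), mul_assoc, Units.inv_mul, mul_one] at this
    refine ⟨fun hm => if_pos (Finset.mem_filter.2 ⟨Finset.mem_univ _, by rw [← hinv]; exact (Finset.mem_filter.1 hm).2⟩),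
      fun Z hZ0 hZP hZN hm => ?_⟩
    have h2 : c Z (q.out : ZMod p) = 2 := by rw [← hinv]; exact (Finset.mem_filter.1 hm).2
    have hnR : (q.out : ZMod p) ∉ R := fun hq => by
      rcases hstruct _ (Units.ne_zero q.out) with ⟨-, -, h⟩ | ⟨Z', -, hZ'P, -, -, h⟩
      · rw [h Z hZP hZN] at h2; norm_num at h2
      · have := (Finset.mem_filter.1 hq).2
        rw [h P hZ'P.symm] at this
        exact zero_ne_one this
    show (if _ then P else _) = Z
    rw [if_neg hnR]
    by_contra hne
    simp only [hc, diagB, blk, hAapp] at h2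
    rw [if_neg hne] at h2
    split_ifs at h2 <;> norm_num at h2
  have hΦinj : Function.Injective Φ := by
    have himg : (Finset.univ.erase o0).erase N ⊆ Finset.univ.image Φ := by
      intro C hC
      obtain ⟨hCN, hC0, -⟩ : C ≠ N ∧ C ≠ o0 ∧ C ∈ Finset.univ :=
        ⟨(Finset.mem_erase.1 hC).1, (Finset.mem_erase.1 (Finset.mem_erase.1 hC).2).1, Finset.mem_univ _⟩
      by_cases hCP : C = P
      · obtain ⟨j, hj⟩ := Finset.card_pos.1 (show 0 < R.card by rw [hRnat]; positivity)
        have hj0 : j ≠ 0 := fun h => by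
          have := (Finset.mem_filter.1 hj).2
          rw [h, hc0 P hP0] at this
          exact zero_ne_one this
        exact Finset.mem_image.2 ⟨_, Finset.mem_univ _, ((hΦR (Units.mk0 j hj0)).1 hj).trans hCP.symm⟩
      · obtain ⟨j, hj⟩ : (S C).Nonempty := Finset.card_pos.1 (by
          have := hkpos C
          have h := hkZ C hC0 hCP hCN
          have : (0 : ℚ) < (S C).card := by
            have : (0 : ℚ) < k C := Nat.cast_pos.2 this
            linarith
          exact_mod_cast this)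
        have hj0 : j ≠ 0 := fun h => by
          have := (Finset.mem_filter.1 hj).2
          rw [h, hc0 C hC0] at this
          norm_num at this
        exact Finset.mem_image.2 ⟨_, Finset.mem_univ _, (hΦR (Units.mk0 j hj0)).2 C hC0 hCP hCN hj⟩
    have h1 := Finset.card_le_card himg
    rw [Finset.card_erase_of_mem (Finset.mem_erase.2 ⟨hN0, Finset.mem_univ _⟩),
      Finset.card_erase_of_mem (Finset.mem_univ _), Finset.card_univ] at h1
    have h2 : (Finset.univ : Finset ((ZMod p)ˣ ⧸ D)).card ≤ (Finset.univ.image Φ).card := by rw [Finset.card_univ]; omega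
    have h3 := Finset.card_image_iff.1 (le_antisymm Finset.card_image_le h2)
    exact fun x y hxy => h3 (Finset.mem_coe.2 (Finset.mem_univ x)) (Finset.mem_coe.2 (Finset.mem_univ y)) hxy
  -- the support is a coset
  obtain ⟨r, hr⟩ := Finset.card_pos.1 (show 0 < R.card by rw [hRnat]; positivity)
  have hr0 : r ≠ 0 := fun h => by
    have := (Finset.mem_filter.1 hr).2
    rw [h, hc0 P hP0] at this
    exact zero_ne_one this
  set r' : (ZMod p)ˣ := Units.mk0 r hr0
  have hcoset : ∀ (F : Finset (ZMod p)) (C : O) (m : (ZMod p)ˣ), (m : ZMod p) ∈ F →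
      (∀ n : (ZMod p)ˣ, (n : ZMod p) ∈ F → Φ (QuotientGroup.mk n) = C) →
      (∀ d ∈ D, ∀ j, j ∈ F → ((d : (ZMod p)ˣ) : ZMod p) * j ∈ F) → (0 : ZMod p) ∉ F →
      ∀ j, j ∈ F ↔ ∃ d ∈ D, j = (d : (ZMod p)ˣ) * (m : ZMod p) := by
    intro F C m hm hΦF hD h0 j
    constructor
    · intro hj
      have hj0 : j ≠ 0 := fun h => h0 (h ▸ hj)
      have h := hΦinj ((hΦF m hm).trans (hΦF (Units.mk0 j hj0) hj).symm)
      exact ⟨_, QuotientGroup.eq.1 h, by rw [Units.val_mul, mul_comm, ← mul_assoc, Units.mul_inv, one_mul]; rfl⟩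
    · rintro ⟨d, hd, rfl⟩
      exact hD d hd _ hm
  have hinvc : ∀ (C : O) (v : ℚ) (d : (ZMod p)ˣ), d ∈ D → ∀ j, j ∈ (Finset.univ.filter fun j => c C j = v) →
      (d : ZMod p) * j ∈ (Finset.univ.filter fun j => c C j = v) := fun C v d hd j hj =>
    Finset.mem_filter.2 ⟨Finset.mem_univ _, (hd C j).trans (Finset.mem_filter.1 hj).2⟩
  have hRD : ∀ j, j ∈ R ↔ ∃ d ∈ D, j = (d : (ZMod p)ˣ) * r :=
    hcoset R P r' hr (fun n hn => (hΦR n).1 hn) (fun d hd => hinvc P 1 d hd)
      (fun h => by have := (Finset.mem_filter.1 h).2; rw [hc0 P hP0] at this; exact zero_ne_one this)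
  have hcardF : ∀ (F : Finset (ZMod p)) (m : ZMod p), m ≠ 0 → (∀ j, j ∈ F ↔ ∃ d ∈ D, j = (d : (ZMod p)ˣ) * m) →
      F.card = Nat.card D := by
    intro F m hm hF
    rw [← Fintype.card_coe, ← Nat.card_eq_fintype_card]
    refine (Nat.card_congr (Equiv.ofBijective
      (fun d : D => (⟨((d : (ZMod p)ˣ) : ZMod p) * m, (hF _).2 ⟨d, d.2, rfl⟩⟩ : {j // j ∈ F})) ⟨?_, ?_⟩)).symm
    · intro d d' h
      exact Subtype.ext (Units.ext (mul_right_cancel₀ hm (congrArg Subtype.val h)))
    · rintro ⟨j, hj⟩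
      obtain ⟨d, hd, rfl⟩ := (hF j).1 hj
      exact ⟨⟨d, hd⟩, rfl⟩
  have hDcard : Nat.card D = 2 * a * (a + 1) := (hcardF R r hr0 hRD).symm.trans hRnat
  have hneg : ∀ d ∈ D, -(d : (ZMod p)ˣ) ∈ D := by
    obtain ⟨z, hz⟩ := exists_prime_orderOf_dvd_card' (G := D) 2 ⟨a * (a + 1), by rw [hDcard]; ring⟩
    have hz2 : ((z : (ZMod p)ˣ) : ZMod p) * (z : (ZMod p)ˣ) = 1 := by
      have h := congrArg (fun x : D => (((x : (ZMod p)ˣ)) : ZMod p)) (pow_orderOf_eq_one z)
      simpa [hz, pow_two] using h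
    rcases mul_self_eq_one_iff.1 hz2 with h | h
    · exfalso
      rw [show z = 1 from Subtype.ext (Units.ext h), orderOf_one] at hz
      omega
    · intro d hd
      have : -d = (z : (ZMod p)ˣ) * d := Units.ext (by rw [Units.val_neg, Units.val_mul, h, neg_one_mul])
      rw [this]; exact mul_mem z.2 hd
  -- the two relations
  obtain ⟨s, hs⟩ : (S Z₁).Nonempty := Finset.card_pos.1 (by
    have h := hkZ Z₁ hZ₁0 hZ₁P hZ₁N
    have h' : (0 : ℚ) < k Z₁ := Nat.cast_pos.2 (hkpos Z₁)
    have : (0 : ℚ) < (S Z₁).card := by linarith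
    exact_mod_cast this)
  have hs0' : s ≠ 0 := fun h => by
    have := (Finset.mem_filter.1 hs).2
    rw [h, hc0 Z₁ hZ₁0] at this
    norm_num at this
  have hSD : ∀ j, j ∈ S Z₁ ↔ ∃ d ∈ D, j = (d : (ZMod p)ˣ) * s :=
    hcoset (S Z₁) Z₁ (Units.mk0 s hs0') hs (fun n hn => (hΦR n).2 Z₁ hZ₁0 hZ₁P hZ₁N hn)
      (fun d hd => hinvc Z₁ 2 d hd)
      (fun h => by have := (Finset.mem_filter.1 h).2; rw [hc0 Z₁ hZ₁0] at this; norm_num at this)
  set w := r * r / s with hw
  have hw0 : w ≠ 0 := div_ne_zero (mul_ne_zero hr0 hr0) hs0'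
  obtain ⟨W, hW0, hWP, hWN, hW2, -⟩ : ∃ W, W ≠ o0 ∧ W ≠ P ∧ W ≠ N ∧ c W w = 2 ∧ ∀ C, C ≠ W → c C w = 0 := by
    rcases hstruct w hw0 with ⟨h1, -, -⟩ | h
    · exfalso
      obtain ⟨d, hd, hdw⟩ := (hRD w).1 (Finset.mem_filter.2 ⟨Finset.mem_univ _, h1⟩)
      have hsR : s ∈ R := (hRD s).2 ⟨d⁻¹, inv_mem hd, by
        rw [hw, div_eq_iff hs0'] at hdw
        rw [mul_assoc] at hdw
        have h2 : r * r = r * ((d : ZMod p) * s) := by rw [hdw]; ring
        rw [mul_left_cancel₀ hr0 h2, ← mul_assoc, Units.inv_mul, one_mul]⟩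
      rcases hstruct s hs0' with ⟨-, -, h⟩ | ⟨Z', -, hZ'P, -, -, h⟩
      · have := (Finset.mem_filter.1 hs).2
        rw [h Z₁ hZ₁P hZ₁N] at this
        norm_num at this
      · have := (Finset.mem_filter.1 hsR).2
        rw [h P hZ'P.symm] at this
        exact zero_ne_one this
    · exact h
  have hwS : w ∈ S W := Finset.mem_filter.2 ⟨Finset.mem_univ _, hW2⟩
  have hWD : ∀ j, j ∈ S W ↔ ∃ d ∈ D, j = (d : (ZMod p)ˣ) * w :=
    hcoset (S W) W (Units.mk0 w hw0) hwS (fun n hn => (hΦR n).2 W hW0 hWP hWN hn)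
      (fun d hd => hinvc W 2 d hd)
      (fun h => by have := (Finset.mem_filter.1 h).2; rw [hc0 W hW0] at this; norm_num at this)
  -- coefficients of products
  have hentry : ∀ C C' u z, ∃ n : ℕ, (A C * A C') u z = (n : ℚ) := by
    intro C C' u z
    refine ⟨(Finset.univ.filter fun y => cls (G := G) u0 u y = C ∧ cls (G := G) u0 y z = C').card, ?_⟩
    rw [Matrix.mul_apply, ← Finset.sum_boole]
    refine Finset.sum_congr rfl fun y _ => ?_
    rw [hAapp, hAapp, ite_zero_mul_ite_zero, one_mul]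
  have hrel : ∀ C C', C ≠ o0 → C' ≠ o0 → C' ≠ P → C' ≠ N → ∃ gP gN g0 : ℕ,
      lm C * lm C' = g0 + a * gP - (a + 1) * gN ∧
      (A C * A C') u0 u0 = (g0 : ℚ) ∧
      (gP : ℚ) + gN = (∑ l, c C l * c C' (r - l)) - lm C * c C' r - lm C' * c C r := by
    intro C C' hC hC' hC'P hC'N
    have hAB : Inv G (A C * A C') := inv_mul (hA C) (hA C')
    obtain ⟨gP, hgP⟩ := hentry C C' u0 P.out
    obtain ⟨gN, hgN⟩ := hentry C C' u0 N.out
    obtain ⟨g0, hg0⟩ := hentry C C' u0 o0.out
    refine ⟨gP, gN, g0, ?_, ?_, ?_⟩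
    · have h1 := hlamexp _ hAB
      rw [lam_mul e hx htr (hA C')] at h1
      rw [← Finset.add_sum_erase _ _ (Finset.mem_univ o0),
        ← Finset.add_sum_erase _ _ (Finset.mem_erase.2 ⟨hP0, Finset.mem_univ _⟩),
        Finset.sum_eq_single_of_mem N (Finset.mem_erase.2 ⟨hPN.symm, Finset.mem_erase.2 ⟨hN0, Finset.mem_univ _⟩⟩)
          fun C'' hC'' hne => by
            have := hzero C'' (Finset.mem_erase.1 (Finset.mem_erase.1 hC'').2).1 (Finset.mem_erase.1 hC'').1 hne
            simp only [hlm] at this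
            rw [this, mul_zero]] at h1
      simp only [hlm] at hlo0 hlP hlN ⊢
      rw [h1, hlo0, hlP, hlN, hgP, hgN, hg0]
      ring
    · rw [transfer u0 hAB u0 u0, cls_base]; exact hg0
    · have h1 := hKey (hA C) (hA C') r
      rw [if_neg hr0, add_zero] at h1
      have h2 := hdiagexp _ hAB r
      rw [h1, ← Finset.add_sum_erase _ _ (Finset.mem_univ P),
        Finset.sum_eq_single_of_mem N (Finset.mem_erase.2 ⟨hPN.symm, Finset.mem_univ _⟩) fun C'' hC'' hne => by
          have : c C'' r = 0 := by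
            rcases hstruct r hr0 with ⟨-, -, h⟩ | ⟨Z', -, hZ'P, -, -, h⟩
            · exact h C'' (Finset.mem_erase.1 hC'').1 hne
            · have := (Finset.mem_filter.1 hr).2
              rw [h P hZ'P.symm] at this
              exact absurd this zero_ne_one
          simp only [hc] at this
          rw [this, mul_zero]] at h2
      have hP1 : diagB e (A P) r = 1 := (Finset.mem_filter.1 hr).2
      have hN1 : diagB e (A N) r = 1 := (hcN r).trans hP1
      rw [hP1, hN1, hgP, hgN] at h2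
      simp only [hc, hlm]
      linarith
  -- the bijection between the two counts
  set NS := (Finset.univ.filter fun l => l ∈ S Z₁ ∧ r - l ∈ S Z₁).card with hNS
  set MW := (Finset.univ.filter fun l => l ∈ R ∧ r - l ∈ S W).card with hMW
  have hbij : NS = MW := by
    refine Finset.card_bij' (fun l _ => r - r * r / l) (fun l _ => r * r / (r - l)) ?_ ?_ ?_ ?_
    · intro l hl
      obtain ⟨-, hl1, hl2⟩ := Finset.mem_filter.1 hl
      obtain ⟨d, hd, hdl⟩ := (hSD l).1 hl1
      obtain ⟨d', hd', hdl'⟩ := (hSD _).1 hl2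
      have hl0 : l ≠ 0 := by rw [hdl]; exact mul_ne_zero (Units.ne_zero d) hs0'
      refine Finset.mem_filter.2 ⟨Finset.mem_univ _, (hRD _).2 ⟨-(d' * d⁻¹), hneg _ (mul_mem hd' (inv_mem hd)), ?_⟩,
        (hWD _).2 ⟨d⁻¹, inv_mem hd, ?_⟩⟩
      · rw [Units.val_neg, Units.val_mul]
        have e2 : ((d⁻¹ : (ZMod p)ˣ) : ZMod p) = s / l := by
          rw [Units.val_inv_eq_inv_val, eq_div_iff hl0, hdl, inv_mul_cancel_left₀ (Units.ne_zero d)]
        rw [e2, show (d' : ZMod p) = (r - l) / s by rw [hdl', mul_div_assoc, div_self hs0', mul_one]]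
        field_simp
        ring
      · have e2 : ((d⁻¹ : (ZMod p)ˣ) : ZMod p) = s / l := by
          rw [Units.val_inv_eq_inv_val, eq_div_iff hl0, hdl, inv_mul_cancel_left₀ (Units.ne_zero d)]
        rw [e2, hw]
        field_simp
        ring
    · intro l hl
      obtain ⟨-, hl1, hl2⟩ := Finset.mem_filter.1 hl
      obtain ⟨d, hd, hdl⟩ := (hRD l).1 hl1
      obtain ⟨d', hd', hdl'⟩ := (hWD _).1 hl2
      have hl0 : r - l ≠ 0 := by rw [hdl']; exact mul_ne_zero (Units.ne_zero d') hw0
      have e2 : ((d'⁻¹ : (ZMod p)ˣ) : ZMod p) = w / (r - l) := by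
        rw [Units.val_inv_eq_inv_val, eq_div_iff hl0, hdl', inv_mul_cancel_left₀ (Units.ne_zero d')]
      refine Finset.mem_filter.2 ⟨Finset.mem_univ _, (hSD _).2 ⟨d'⁻¹, inv_mem hd', ?_⟩,
        (hSD _).2 ⟨-(d * d'⁻¹), hneg _ (mul_mem hd (inv_mem hd')), ?_⟩⟩
      · rw [e2, hw]
        field_simp
      · rw [Units.val_neg, Units.val_mul, e2, show (d : ZMod p) = l / r by rw [hdl, mul_div_assoc, div_self hr0, mul_one], hw]
        field_simp
        ring
    · intro l hl
      obtain ⟨-, hl1, -⟩ := Finset.mem_filter.1 hl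
      obtain ⟨d, -, hdl⟩ := (hSD l).1 hl1
      have hl0 : l ≠ 0 := by rw [hdl]; exact mul_ne_zero (Units.ne_zero d) hs0'
      rw [sub_sub_cancel]
      field_simp
    · intro l hl
      obtain ⟨-, -, hl2⟩ := Finset.mem_filter.1 hl
      obtain ⟨d', -, hdl'⟩ := (hWD _).1 hl2
      have hl0 : r - l ≠ 0 := by rw [hdl']; exact mul_ne_zero (Units.ne_zero d') hw0
      field_simp
      ring
  -- the products
  have hZr : ∀ Z, Z ≠ o0 → Z ≠ P → Z ≠ N → c Z r = 0 := by
    intro Z hZ0 hZP hZN
    rcases hstruct r hr0 with ⟨-, -, h⟩ | ⟨Z', -, hZ'P, -, -, h⟩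
    · exact h Z hZP hZN
    · have := (Finset.mem_filter.1 hr).2
      rw [h P hZ'P.symm] at this
      exact absurd this zero_ne_one
  have hclsneg : ∀ Z, Z ≠ o0 → Z ≠ P → Z ≠ N → (∀ d, d ∈ D → -(d : (ZMod p)ˣ) ∈ D) → ∀ j, c Z (-j) = c Z j := by
    intro Z _ _ _ hn j
    have h1 : -(1 : (ZMod p)ˣ) ∈ D := hn 1 (one_mem _)
    have := h1 Z j
    rwa [Units.val_neg, Units.val_one, neg_one_mul] at this
  obtain ⟨hP', hN', h0', hrel1, h0eq, hrel2⟩ := hrel P W hP0 hW0 hWP hWN
  obtain ⟨gP, gN, g0, hsq1, hsq0, hsq2⟩ := hrel Z₁ Z₁ hZ₁0 hZ₁0 hZ₁P hZ₁N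
  -- the diagonal of the square
  have hg0 : (g0 : ℚ) = k Z₁ := by
    have hh := hKey (hA Z₁) (hA Z₁) 0
    rw [if_pos rfl] at hh
    have h1 : diagB e (A Z₁ * A Z₁) 0 = 2 * (g0 : ℚ) := by
      obtain ⟨g, hg⟩ := htr u0 (e (1, 0))
      show (A Z₁ * A Z₁) (e (0, 0)) (e (0, 0)) + (A Z₁ * A Z₁) (e (1, 0)) (e (1, 0)) = _
      rw [← hg, inv_mul (hA Z₁) (hA Z₁) g u0 u0, ← hu0, hsq0, two_mul]
    have hl0 : lam e (A Z₁) = 0 := hzero Z₁ hZ₁0 hZ₁P hZ₁N
    have hd0 : diagB e (A Z₁) 0 = 0 := hc0 Z₁ hZ₁0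
    rw [h1, hl0, hd0] at hh
    simp only [zero_sub, mul_zero, zero_mul, sub_zero, add_zero] at hh
    have h2 : ∑ l, diagB e (A Z₁) l * diagB e (A Z₁) (-l) = ∑ l, c Z₁ l * c Z₁ l :=
      Finset.sum_congr rfl fun l _ => by
        show c Z₁ l * c Z₁ (-l) = _
        rw [hclsneg Z₁ hZ₁0 hZ₁P hZ₁N hneg]
    have h3 := horth Z₁ Z₁ hZ₁0 hZ₁0
    rw [if_pos rfl, hzero Z₁ hZ₁0 hZ₁P hZ₁N, mul_zero, add_zero, ← h2, ← hh] at h3
    linarith
  have hsumS : ∑ l, c Z₁ l * c Z₁ (r - l) = 4 * (NS : ℚ) := by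
    simp only [hcS Z₁ hZ₁0 hZ₁P hZ₁N, hNS, ← Finset.sum_boole, Finset.mul_sum]
    refine Finset.sum_congr rfl fun l _ => ?_
    rw [ite_zero_mul_ite_zero, mul_ite, mul_one, mul_zero]; norm_num
  have hsumW : ∑ l, c P l * c W (r - l) = 2 * (MW : ℚ) := by
    simp only [hcS W hW0 hWP hWN, hcP, hMW, ← Finset.sum_boole, Finset.mul_sum]
    refine Finset.sum_congr rfl fun l _ => ?_
    rw [ite_zero_mul_ite_zero, mul_ite, mul_one, mul_zero, one_mul]
  rw [hsumS, hzero Z₁ hZ₁0 hZ₁P hZ₁N, zero_mul, sub_zero, sub_zero] at hsq2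
  rw [hzero Z₁ hZ₁0 hZ₁P hZ₁N, zero_mul, hg0, hkZ Z₁ hZ₁0 hZ₁P hZ₁N,
    hcardF (S Z₁) s hs0' hSD, hDcard] at hsq1
  rw [hsumW, hlP, hZr W hW0 hWP hWN, hzero W hW0 hWP hWN, mul_zero, zero_mul, sub_zero, sub_zero, ← hbij] at hrel2
  rw [hlP, hzero W hW0 hWP hWN, mul_zero] at hrel1
  -- the unit coefficient of the mixed product vanishes
  have hh0 : (h0' : ℚ) = 0 := by
    have hh := hKey (hA P) (hA W) 0
    rw [if_pos rfl] at hh
    have hzero' : ∑ l, diagB e (A P) l * diagB e (A W) (0 - l) = 0 := by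
      refine Finset.sum_eq_zero fun l _ => ?_
      show c P l * c W (0 - l) = 0
      rw [zero_sub, hclsneg W hW0 hWP hWN hneg]
      by_cases hl : l = 0
      · rw [hl, hc0 P hP0, zero_mul]
      · rcases hstruct l hl with ⟨-, -, h⟩ | ⟨Z', -, hZ'P, -, -, h⟩
        · rw [h W hWP hWN, mul_zero]
        · rw [h P hZ'P.symm, zero_mul]
    have hl0 : lam e (A W) = 0 := hzero W hW0 hWP hWN
    have hd0 : diagB e (A W) 0 = 0 := hc0 W hW0
    have hd1 : diagB e (A P) 0 = 0 := hc0 P hP0
    rw [hzero', hl0, hd0, hd1] at hh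
    have h1 : diagB e (A P * A W) 0 = 2 * (A P * A W) u0 u0 := by
      obtain ⟨g', hg'⟩ := htr u0 (e (1, 0))
      show (A P * A W) (e (0, 0)) (e (0, 0)) + (A P * A W) (e (1, 0)) (e (1, 0)) = _
      rw [← hg', inv_mul (hA P) (hA W) g' u0 u0, ← hu0, two_mul]
    rw [h1] at hh
    have h3 := hlamexp _ (inv_mul (hA P) (hA W))
    simp only [mul_zero, sub_zero, add_zero, zero_mul, mul_eq_zero, OfNat.ofNat_ne_zero, false_or] at hh
    clear h3
    exact h0eq.symm.trans hh
  rw [hh0] at hrel1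
  -- arithmetic
  have e1 : (a : ℤ) * hP' = (a + 1) * hN' := by
    have h1 : (a : ℚ) * hP' = (a + 1) * hN' := by linarith
    exact_mod_cast h1
  have e2 : (hP' : ℤ) + hN' = 2 * NS := by exact_mod_cast hrel2
  have e3 : ((a : ℤ) + 1) * gN = 4 * a * (a + 1) + a * gP := by
    have h1 : ((a : ℚ) + 1) * gN = 4 * a * (a + 1) + a * gP := by push_cast at hsq1; linarith
    exact_mod_cast h1
  have e4 : (gP : ℤ) + gN = 4 * NS := by exact_mod_cast hsq2
  have hdiv : (2 * (a : ℤ) + 1) ∣ 1 := by
    refine ⟨2 * (a : ℤ) + 1 - 2 * hP' + gP, ?_⟩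
    linear_combination 2 * e1 + (2 * ((a : ℤ) + 1)) * e2 + e3 - ((a : ℤ) + 1) * e4
  have := Int.le_of_dvd one_pos hdiv
  omega

end CfsgLib.WielandtRank
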