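/-
Primitive permutation groups of degree `2p` (Wielandt).
-/
import Mathlib
import Cfsg.Agent.Lib.Perm.WielandtRank

set_option autoImplicit false
set_option linter.style.haveILetI false

namespace CfsgLib.WielandtTwoP

open MulAction Equiv.Perm

universe u

variable {α : Type u} [Fintype α] [DecidableEq α]

/-- A primitive group containing a cycle of half the degree is two-transitive. -/
theorem two_transitive_of_cycle (G : Subgroup (Equiv.Perm α)) (hG : IsPreprimitive G α) {p : ℕ} (hp : 2 ≤ p)
    (hα : Fintype.card α = 2 * p) {g : Equiv.Perm α} (hg : g ∈ G) (hc : g.IsCycle) (hsupp : g.support.card = p) :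
    IsMultiplyPretransitive G α 2 := by
  have hn : ((g.support : Set α)ᶜ).ncard = (p - 1) + 1 := by
    rw [Set.ncard_compl, Set.ncard_coe_finset, Nat.card_eq_fintype_card, hα, hsupp]
    omega
  refine hG.is_two_pretransitive hn ?_ (isPretransitive_of_isCycle_mem hc hg)
  rw [Nat.card_eq_fintype_card, hα]
  omega

/-- Coordinates from a fixed-point-free element of order `p`. -/
theorem exists_coords {p : ℕ} [Fact p.Prime] (hα : Fintype.card α = 2 * p) {σ : Equiv.Perm α}
    (hσ : orderOf σ = p) (hfree : ∀ a, σ a ≠ a) (a₀ : α) :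
    ∃ e : Fin 2 × ZMod p ≃ α, e (0, 0) = a₀ ∧ ∀ i j, σ (e (i, j)) = e (i, j + 1) := by
  classical
  have hp : p.Prime := Fact.out
  have hper : ∀ (a : α) (m n : ℕ), (σ ^ m) a = (σ ^ n) a → (m : ZMod p) = (n : ZMod p) := by
    intro a m n h
    by_contra hne
    wlog hle : m ≤ n generalizing m n
    · exact this n m h.symm (Ne.symm hne) (le_of_not_ge hle)
    obtain ⟨d, rfl⟩ := Nat.exists_eq_add_of_le hle
    rw [pow_add, Equiv.Perm.mul_apply] at h
    have hd : (σ ^ d) a = a := ((σ ^ m).injective h).symm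
    have hnd : ¬ p ∣ d := fun hd' => hne (by
      rw [Nat.cast_add, (CharP.cast_eq_zero_iff (ZMod p) p _).2 hd', add_zero])
    obtain ⟨i, hi⟩ : ∃ i : ℕ, (σ ^ d) ^ i = σ := by
      obtain ⟨i, hi⟩ := exists_pow_eq_self_of_coprime (x := σ) (n := d)
        (by rw [hσ]; exact (hp.coprime_iff_not_dvd.2 hnd).symm)
      exact ⟨i, hi⟩
    refine hfree a ?_
    rw [← hi, Equiv.Perm.pow_apply_eq_self_of_apply_eq_self hd]
  obtain ⟨b₀, hb₀⟩ : ∃ b₀ : α, ∀ n : ℕ, (σ ^ n) a₀ ≠ b₀ := by
    by_contra hcon
    push Not at hcon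
    have hsurj : Function.Surjective fun j : ZMod p => (σ ^ j.val) a₀ := fun b => by
      obtain ⟨n, hn⟩ := hcon b
      refine ⟨(n : ZMod p), ?_⟩
      show (σ ^ (n : ZMod p).val) a₀ = b
      rw [ZMod.val_natCast, ← hσ, pow_mod_orderOf, hn]
    have := Fintype.card_le_of_surjective _ hsurj
    rw [hα, ZMod.card] at this
    have := hp.two_le
    omega
  let f : Fin 2 × ZMod p → α := fun q => (σ ^ q.2.val) (if q.1 = 0 then a₀ else b₀)
  have hinj : Function.Injective f := by
    rintro ⟨i, j⟩ ⟨i', j'⟩ h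
    have hii : i = i' := by
      by_contra hne
      have key : ∀ m n : ℕ, (σ ^ m) a₀ ≠ (σ ^ n) b₀ := fun m n h => by
        refine hb₀ (m + (p - 1) * n) ?_
        rw [add_comm, pow_add, Equiv.Perm.mul_apply, h, ← Equiv.Perm.mul_apply, ← pow_add]
        have : (p - 1) * n + n = p * n := by
          rw [← Nat.succ_mul]; congr 1; have := hp.two_le; omega
        rw [this, pow_mul, show σ ^ p = 1 by rw [← hσ]; exact pow_orderOf_eq_one σ, one_pow]
        rfl
      fin_cases i <;> fin_cases i' <;> simp_all [f]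
      · exact key _ _ h.symm
    subst hii
    have := hper _ _ _ h
    rw [ZMod.natCast_zmod_val, ZMod.natCast_zmod_val] at this
    exact Prod.ext rfl this
  have hbij : Function.Bijective f := (Fintype.bijective_iff_injective_and_card f).2 ⟨hinj, by
    rw [Fintype.card_prod, Fintype.card_fin, ZMod.card, hα]⟩
  refine ⟨Equiv.ofBijective f hbij, by simp [f], fun i j => ?_⟩
  show σ (f (i, j)) = f (i, j + 1)
  show σ ((σ ^ j.val) _) = (σ ^ (j + 1).val) _
  rw [← Equiv.Perm.mul_apply, ← pow_succ']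
  have hmod : (j + 1).val = (j.val + 1) % p := by
    rw [← ZMod.val_natCast, Nat.cast_add, Nat.cast_one, ZMod.natCast_zmod_val]
  have hpm := pow_mod_orderOf σ (j.val + 1)
  rw [hσ] at hpm
  rw [hmod, hpm]

/-- Wielandt's theorem on primitive groups of degree `2p`. -/
theorem main {p : ℕ} (hp : p.Prime) (hα : Fintype.card α = 2 * p) (G : Subgroup (Equiv.Perm α))
    (hG : IsPreprimitive G α) (a₀ : α) :
    IsMultiplyPretransitive G α 2 ∨ (Nat.card (orbitRel.Quotient (stabilizer G a₀) α) = 3 ∧
      ∃ a : ℕ, 0 < a ∧ p = 2 * a ^ 2 + 2 * a + 1 ∧ ∀ b : α, b ≠ a₀ →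
        Nat.card (orbit (stabilizer G a₀) b) = a * (2 * a + 1) ∨
        Nat.card (orbit (stabilizer G a₀) b) = (a + 1) * (2 * a + 1)) := by
  classical
  haveI := Fact.mk hp
  haveI := hG
  haveI : Fintype G := Fintype.ofFinite G
  have hdvd : p ∣ Nat.card G := by
    refine dvd_trans ?_ (Subgroup.index_dvd_card (stabilizer G a₀))
    rw [index_stabilizer_of_transitive, Nat.card_eq_fintype_card, hα]
    exact dvd_mul_left p 2
  obtain ⟨x, hx⟩ := exists_prime_orderOf_dvd_card' (G := G) p hdvd
  set σ : Equiv.Perm α := (x : Equiv.Perm α) with hσdef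
  have hσ : orderOf σ = p := by rw [hσdef, Subgroup.orderOf_coe, hx]
  obtain ⟨n, hn⟩ := Equiv.Perm.cycleType_prime_order (σ := σ) (hσ.symm ▸ hp)
  rw [hσ] at hn
  have hsupp : σ.support.card = (n + 1) * p := by
    rw [← Equiv.Perm.sum_cycleType, hn, Multiset.sum_replicate, smul_eq_mul]
  have hle : (n + 1) * p ≤ 2 * p := by rw [← hsupp, ← hα]; exact Finset.card_le_univ _
  have hn1 : n ≤ 1 := by
    have := Nat.le_of_mul_le_mul_right hle hp.pos
    omega
  interval_cases n
  · refine Or.inl (two_transitive_of_cycle G hG hp.two_le hα x.2 ?_ (by rw [← hσdef]; simpa using hsupp))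
    rw [← Equiv.Perm.card_cycleType_eq_one, ← hσdef, hn]; simp
  · have hfree : ∀ a, σ a ≠ a := fun a ha => by
      have hu : σ.support = Finset.univ := Finset.eq_univ_of_card _ (by rw [hsupp, hα])
      have := Finset.mem_univ a
      rw [← hu, Equiv.Perm.mem_support] at this
      exact this ha
    obtain ⟨e, he0, hes⟩ := exists_coords hα hσ hfree a₀
    have h := CfsgLib.WielandtRank.classification (G := G) e x fun i j => hes i j
    rw [he0] at h
    exact h

end CfsgLib.WielandtTwoP
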